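import Mathlib
import Cfsg.Agent.Lib.NumberTheory.Zsigmondy

/-!
Solvable linear groups over the field with two elements that are transitive on the nonzero vectors
are semilinear: they contain a multiplication by an element of order `(2 ^ n - 1) / d` with `d ∣ n`.
-/

set_option autoImplicit false
set_option linter.style.haveILetI false

open Subgroup
open scoped commutatorElement

namespace CfsgLib.TransitiveSolvable

universe u v

/-- A finite abelian group with a nondegenerate alternating pairing into the units of a field has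
square order. -/
theorem isSquare_card_of_pairing {F : Type v} [Field F] [Finite F] :
    ∀ (N : ℕ) (W : Type u) [CommGroup W] [Finite W], Nat.card W ≤ N → ∀ (χ : W →* W →* Fˣ),
      (∀ w, χ w w = 1) → (∀ w, (∀ x, χ w x = 1) → w = 1) → IsSquare (Nat.card W) := by
  intro N
  induction N with
  | zero => intro W _ _ h; have := Nat.card_pos (α := W); omega
  | succ N ih =>
    intro W _ _ hN χ halt hnd
    rcases eq_or_ne (Nat.card W) 1 with h1 | h1
    · rw [h1]; exact IsSquare.one
    obtain ⟨a, ha⟩ := Monoid.exists_orderOf_eq_exponent (G := W) Monoid.ExponentExists.of_finite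
    have hanti : ∀ u w, χ w u = (χ u w)⁻¹ := fun u w => by
      have := halt (u * w)
      simp only [map_mul, MonoidHom.mul_apply, halt, one_mul, mul_one] at this
      exact eq_inv_of_mul_eq_one_left (by rw [mul_comm] at this; simpa [mul_comm] using this)
    haveI : IsCyclic (χ a).range := inferInstance
    obtain ⟨⟨ζ, hζ⟩, hgen⟩ := IsCyclic.exists_generator (α := (χ a).range)
    obtain ⟨b, hb⟩ := id hζ
    have hrange : ∀ w, ∃ i : ℤ, χ a w = ζ ^ i := fun w => by
      obtain ⟨i, hi⟩ := hgen ⟨χ a w, w, rfl⟩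
      exact ⟨i, (congrArg Subtype.val hi).symm⟩
    have hζo : orderOf ζ = Monoid.exponent W := by
      refine Nat.dvd_antisymm ?_ ?_
      · rw [← hb, orderOf_dvd_iff_pow_eq_one, ← map_pow, Monoid.pow_exponent_eq_one, map_one]
      · rw [← ha]
        refine orderOf_dvd_of_pow_eq_one (hnd _ fun w => ?_)
        obtain ⟨i, hi⟩ := hrange w
        rw [map_pow, MonoidHom.pow_apply, hi, ← zpow_natCast, ← zpow_mul, mul_comm, zpow_mul,
          zpow_natCast, pow_orderOf_eq_one, one_zpow]
    have hmem : ∀ u w, χ u w ∈ zpowers ζ := by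
      intro u w
      obtain ⟨z, hz⟩ := IsCyclic.exists_generator (α := Fˣ)
      -- both lie among the roots of unity of order the exponent
      have h2 : (χ u w) ^ orderOf ζ = 1 := by
        rw [hζo, ← map_pow, Monoid.pow_exponent_eq_one, map_one]
      haveI : NeZero (orderOf ζ) := ⟨(orderOf_pos ζ).ne'⟩
      obtain ⟨i, -, hi⟩ := (IsPrimitiveRoot.coe_units_iff.mpr (IsPrimitiveRoot.orderOf ζ)).eq_pow_of_pow_eq_one
        (ξ := ((χ u w : Fˣ) : F)) (by rw [← Units.val_pow_eq_pow_val, h2, Units.val_one])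
      exact ⟨i, by
        show ζ ^ (i : ℤ) = χ u w
        rw [zpow_natCast]; exact Units.ext (by rw [Units.val_pow_eq_pow_val, hi])⟩
    let Φ : W →* zpowers ζ × zpowers ζ :=
      { toFun := fun w => (⟨χ a w, hmem a w⟩, ⟨χ b w, hmem b w⟩)
        map_one' := by simp
        map_mul' := fun u w => by simp }
    have hΦa : ∀ w (i : ℤ), w = a ^ i → Φ w = (1, ⟨(ζ⁻¹) ^ i, zpow_mem (inv_mem (mem_zpowers ζ)) i⟩) := by
      rintro w i rfl
      refine Prod.ext (Subtype.ext ?_) (Subtype.ext ?_)
      · show χ a (a ^ i) = 1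
        rw [map_zpow, halt, one_zpow]
      · show χ b (a ^ i) = ζ⁻¹ ^ i
        rw [map_zpow, hanti a b, hb]
    have hΦb : ∀ w (i : ℤ), w = b ^ i → Φ w = (⟨ζ ^ i, zpow_mem (mem_zpowers ζ) i⟩, 1) := by
      rintro w i rfl
      refine Prod.ext (Subtype.ext ?_) (Subtype.ext ?_)
      · show χ a (b ^ i) = ζ ^ i
        rw [map_zpow, hb]
      · show χ b (b ^ i) = 1
        rw [map_zpow, halt, one_zpow]
    have hsurj : Function.Surjective Φ := by
      rintro ⟨⟨x, hx⟩, ⟨y, hy⟩⟩
      obtain ⟨i, rfl⟩ := mem_zpowers_iff.mp hx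
      obtain ⟨j, rfl⟩ := mem_zpowers_iff.mp hy
      refine ⟨b ^ i * a ^ (-j), ?_⟩
      rw [map_mul, hΦb _ i rfl, hΦa _ (-j) rfl, Prod.mk_mul_mk, one_mul, mul_one]
      refine Prod.ext rfl (Subtype.ext ?_)
      show ζ⁻¹ ^ (-j) = ζ ^ j
      rw [zpow_neg, inv_zpow, inv_inv]
    have hcard : Nat.card W = Nat.card Φ.ker * (orderOf ζ * orderOf ζ) := by
      rw [← Φ.ker.card_mul_index, index_ker, MonoidHom.range_eq_top.mpr hsurj, card_top, Nat.card_prod,
        Nat.card_zpowers]
    have hn1 : 1 < orderOf ζ := by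
      rw [hζo]
      by_contra hle
      have h0 := Monoid.exponent_ne_zero_of_finite (G := W)
      have : Subsingleton W := Monoid.exp_eq_one_iff.mp (by omega)
      exact h1 Nat.card_unique
    let χ' : Φ.ker →* Φ.ker →* Fˣ :=
      { toFun := fun u => (χ u).comp Φ.ker.subtype
        map_one' := by ext; simp
        map_mul' := fun u w => by ext; simp }
    obtain ⟨c, hc⟩ := ih Φ.ker (by
      have h2 : 0 < Nat.card Φ.ker := Nat.card_pos
      have h3 : 1 < orderOf ζ * orderOf ζ := by nlinarith
      nlinarith) χ' (fun u => halt u) (fun u hu => Subtype.ext (hnd u fun x => by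
        obtain ⟨x1, hx1, hx2⟩ : ∃ x1 ∈ zpowers b ⊔ zpowers a, Φ x1 = Φ x := by
          obtain ⟨⟨y, hy⟩, ⟨z, hz⟩⟩ := Φ x
          obtain ⟨i, rfl⟩ := mem_zpowers_iff.mp hy
          obtain ⟨j, rfl⟩ := mem_zpowers_iff.mp hz
          refine ⟨b ^ i * a ^ (-j), mul_mem (mem_sup_left (zpow_mem (mem_zpowers b) i))
            (mem_sup_right (zpow_mem (mem_zpowers a) _)), ?_⟩
          rw [map_mul, hΦb _ i rfl, hΦa _ (-j) rfl, Prod.mk_mul_mk, one_mul, mul_one]
          refine Prod.ext rfl (Subtype.ext ?_)
          show ζ⁻¹ ^ (-j) = ζ ^ j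
          rw [zpow_neg, inv_zpow, inv_inv]
        have hk : x * x1⁻¹ ∈ Φ.ker := by rw [MonoidHom.mem_ker, map_mul, map_inv, hx2, mul_inv_cancel]
        have hu1 : x1 ∈ (χ (u : W)).ker := by
          refine (sup_le (zpowers_le.mpr ?_) (zpowers_le.mpr ?_) :
            zpowers b ⊔ zpowers a ≤ (χ (u : W)).ker) hx1
          · rw [MonoidHom.mem_ker, hanti b u]
            have := congrArg (fun p : zpowers ζ × zpowers ζ => (p.2 : Fˣ)) u.2
            rw [show χ b u = 1 from this, inv_one]
          · rw [MonoidHom.mem_ker, hanti a u]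
            have := congrArg (fun p : zpowers ζ × zpowers ζ => (p.1 : Fˣ)) u.2
            rw [show χ a u = 1 from this, inv_one]
        have h4 : χ (u : W) (x * x1⁻¹) = 1 := hu ⟨_, hk⟩
        rwa [map_mul, map_inv, MonoidHom.mem_ker.mp hu1, inv_one, mul_one] at h4))
    exact ⟨c * orderOf ζ, by rw [hcard, hc]; ring⟩

/-- In a commutative ring of endomorphisms normalized by a group transitive on the nonzero
elements, the nonzero endomorphisms are injective. -/
theorem injective_of_ne_zero {V : Type u} [AddCommGroup V] [Finite V] {S : Type v} [Group S]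
    [DistribMulAction S V] (htr : ∀ v w : V, v ≠ 0 → w ≠ 0 → ∃ s : S, s • v = w)
    (F : Subring (AddMonoid.End V)) (hcomm : ∀ φ ∈ F, ∀ ψ ∈ F, φ * ψ = ψ * φ)
    (hconj : ∀ (s : S), ∀ φ ∈ F, ∃ ψ ∈ F, ∀ v, ψ v = s • φ (s⁻¹ • v)) {φ : AddMonoid.End V}
    (hφ : φ ∈ F) (hne : φ ≠ 0) : Function.Injective φ := by
  classical
  let Ann : V → Set (AddMonoid.End V) := fun v => {ψ | ψ ∈ F ∧ ψ v = 0}
  haveI : Finite (AddMonoid.End V) :=
    Finite.of_injective (fun f : AddMonoid.End V => (f : V → V)) DFunLike.coe_injective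
  have hle : ∀ {v w : V}, v ≠ 0 → w ≠ 0 → (Ann v).ncard ≤ (Ann w).ncard := by
    intro v w hv hw
    obtain ⟨s, rfl⟩ := htr v w hv hw
    choose! g hgF hg using hconj s
    refine Set.ncard_le_ncard_of_injOn g (fun ψ hψ => ⟨hgF ψ hψ.1, ?_⟩) (fun ψ hψ ψ' hψ' e => ?_)
      (Set.toFinite _)
    · rw [hg ψ hψ.1, inv_smul_smul, hψ.2, smul_zero]
    · refine AddMonoidHom.ext fun x => ?_
      have := DFunLike.congr_fun e (s • x)
      rw [hg ψ hψ.1, hg ψ' hψ'.1, inv_smul_smul] at this
      exact MulAction.injective s this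
  have heq : ∀ {v w : V}, v ≠ 0 → w ≠ 0 → Ann v ⊆ Ann w → Ann v = Ann w := fun hv hw hsub =>
    Set.eq_of_subset_of_ncard_le hsub (hle hw hv) (Set.toFinite _)
  rw [injective_iff_map_eq_zero]
  intro v hv
  by_contra hv0
  obtain ⟨w, hw⟩ : ∃ w, φ w ≠ 0 := by
    by_contra hall
    push Not at hall
    exact hne (AddMonoidHom.ext hall)
  have hw0 : w ≠ 0 := fun e => hw (by rw [e, map_zero])
  have h1 : Ann w = Ann (φ w) := heq hw0 hw fun ψ hψ => ⟨hψ.1, by
    show (ψ * φ) w = 0
    rw [hcomm ψ hψ.1 φ hφ]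
    show φ (ψ w) = 0
    rw [hψ.2, map_zero]⟩
  have hvw : v + w ≠ 0 := fun e => hw (by
    have := congrArg φ e
    rwa [map_add, hv, zero_add, map_zero] at this)
  have hsub : Ann (v + w) ⊆ Ann w := by
    rintro ψ ⟨hψ, h0⟩
    refine ⟨hψ, ?_⟩
    have h2 : ψ ∈ Ann (φ w) := ⟨hψ, by
      show (ψ * φ) w = 0
      rw [hcomm ψ hψ φ hφ]
      show φ (ψ w) = 0
      have h3 := congrArg φ h0
      rw [map_add, map_add, map_zero, show φ (ψ v) = (φ * ψ) v from rfl, hcomm φ hφ ψ hψ] at h3
      show φ (ψ w) = 0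
      rwa [show (ψ * φ) v = ψ (φ v) from rfl, hv, map_zero, zero_add] at h3⟩
    exact (h1 ▸ h2 : ψ ∈ Ann w).2
  have h4 := heq hvw hw0 hsub
  have h5 : Ann (v + w) ⊆ Ann v := fun ψ hψ => ⟨hψ.1, by
    have hwz : ψ w = 0 := (h4 ▸ hψ : ψ ∈ Ann w).2
    have := hψ.2
    rwa [map_add, hwz, add_zero] at this⟩
  have h6 := heq hvw hv0 h5
  exact hw (by
    have : φ ∈ Ann w := by rw [← h4, h6]; exact ⟨hφ, hv⟩
    exact this.2)

/-- A prime dividing `q ^ k - 1` and no smaller `q ^ j - 1`, larger than `m` and `k + 1`. -/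
theorem exists_good_prime {m k : ℕ} (hm : 2 ≤ m) (hk : 2 ≤ k) (h32 : ¬ (m = 3 ∧ k = 2)) :
    ∃ r : ℕ, r.Prime ∧ r ∣ 2 ^ (m * k) - 1 ∧ (∀ j, 0 < j → j < k → ¬ r ∣ 2 ^ (m * j) - 1) ∧
      m < r ∧ k + 1 < r := by
  have h4 : 4 ≤ m * k := by nlinarith
  by_cases h6 : m * k = 6
  · have : m = 2 ∧ k = 3 := by
      have hm' : m ∣ 6 := ⟨k, h6.symm⟩
      have := Nat.le_of_dvd (by norm_num) hm'
      interval_cases m <;> first | omega | norm_num at hm'
    obtain ⟨rfl, rfl⟩ := this
    exact ⟨7, by norm_num, by norm_num, fun j h1 h2 => by interval_cases j <;> norm_num, by norm_num,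
      by norm_num⟩
  obtain ⟨r, hr⟩ := CfsgLib.NumberTheory.exists_isPPD_of_two_lt (a := 2) (n := m * k) one_lt_two
    (by omega) (fun h => h6 h.2)
  have hr1 := hr.dvd_sub_one (by norm_num) (by omega)
  have hrp := hr.prime
  have h2 := hrp.two_le
  have hge : m * k ≤ r - 1 := Nat.le_of_dvd (by omega) hr1
  refine ⟨r, hrp, ?_, fun j hj hjk hd => ?_, by nlinarith [Nat.sub_add_cancel (show 1 ≤ r by omega)],
    by nlinarith [Nat.sub_add_cancel (show 1 ≤ r by omega)]⟩
  · exact (hr.dvd_pow_sub_one_iff (by norm_num) (by omega) _).mpr dvd_rfl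
  · have h3 := (hr.dvd_pow_sub_one_iff (by norm_num) (by omega) (m * j)).mp hd
    have h5 : m * j < m * k := Nat.mul_lt_mul_of_pos_left hjk (by omega)
    have h7 : 0 < m * j := Nat.mul_pos (by omega) hj
    exact absurd (Nat.le_of_dvd h7 h3) (by omega)

section Dim

variable {F : Type u} [Field F] [Finite F] {V : Type u} [AddCommGroup V] [Module F V] [Finite V]
  {S : Type v} [Group S] [Finite S] [DistribMulAction S V] [FaithfulSMul S V]

/-- The commutator scalar and the rest of the argument: the dimension over `F` is one. -/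
theorem finrank_le_one {m : ℕ} (hF : Nat.card F = 2 ^ m) (hS : Group.IsSolvable S)
    (htr : ∀ v w : V, v ≠ 0 → w ≠ 0 → ∃ s : S, s • v = w) (A H : Subgroup S) [A.Normal] [H.Normal]
    (hlin : ∀ h ∈ H, ∀ (c : F) (v : V), h • c • v = c • h • v) (hH : H.index ∣ m)
    (hscal : ∀ s : S, ∀ c : F, ∃ c' : F, ∀ v : V, s • c • v = c' • s • v)
    (hAH : A ≤ H) (hA : ∀ a ∈ A, ∃ c : F, ∀ v : V, a • v = c • v)
    (hAmax : ∀ B : Subgroup S, B.Normal → A ≤ B → (∀ x ∈ B, ∀ y ∈ B, x * y = y * x) → B = A) :
    Module.finrank F V ≤ 1 := by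
  classical
  by_contra hk
  set k := Module.finrank F V with hkdef
  have hk2 : 2 ≤ k := by omega
  haveI : Module.Finite F V := Module.Finite.of_finite
  haveI : Fintype F := Fintype.ofFinite F
  have hV : Nat.card V = 2 ^ (m * k) := by
    rw [Module.natCard_eq_pow_finrank (K := F) (V := V), hF, ← pow_mul]
  have hm0 : m ≠ 0 := by
    rintro rfl
    rw [pow_zero] at hF
    haveI : Subsingleton F := (Nat.card_eq_one_iff_unique.mp hF).1
    exact zero_ne_one (Subsingleton.elim (0 : F) 1)
  obtain ⟨v0, hv0⟩ : ∃ v : V, v ≠ 0 := by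
    by_contra hall
    push Not at hall
    haveI : Subsingleton V := ⟨fun a b => by rw [hall a, hall b]⟩
    have : k = 0 := Module.finrank_zero_of_subsingleton
    omega
  have hScard : 2 ^ (m * k) - 1 ∣ Nat.card S := by
    refine ⟨Nat.card (MulAction.stabilizer S v0), ?_⟩
    have horb : MulAction.orbit S v0 = {v : V | v ≠ 0} := by
      ext v
      refine ⟨?_, fun hv => htr v0 v hv0 hv⟩
      rintro ⟨s, rfl⟩ e
      exact hv0 ((smul_eq_zero_iff_eq s).mp e)
    have h1 := (MulAction.stabilizer S v0).card_mul_index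
    rw [MulAction.index_stabilizer, horb] at h1
    have h2 : ({v : V | v ≠ 0} : Set V).ncard = 2 ^ (m * k) - 1 := by
      rw [show {v : V | v ≠ 0} = ({0} : Set V)ᶜ from rfl, Set.ncard_compl, Set.ncard_singleton, hV]
    rw [h2] at h1
    rw [← h1, mul_comm]
  have hfaith : ∀ x y : S, (∀ v : V, x • v = y • v) → x = y := fun x y h => eq_of_smul_eq_smul h
  have hAunit : ∀ a ∈ A, ∀ c : F, (∀ v : V, a • v = c • v) → c ≠ 0 := by
    intro a _ c hc e
    have := hc v0
    rw [e, zero_smul, smul_eq_zero_iff_eq] at this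
    exact hv0 this
  have hAcomm : ∀ a ∈ A, ∀ h ∈ H, h * a = a * h := by
    intro a ha h hh
    obtain ⟨c, hc⟩ := hA a ha
    exact hfaith _ _ fun v => by rw [mul_smul, mul_smul, hc, hlin h hh, hc]
  -- `B / A` abelian, maximal in `H`
  obtain ⟨B, -, ⟨hBn, hAB, hBH, hBA⟩, hBmax⟩ := Finite.exists_le_maximal
    (p := fun B : Subgroup S => B.Normal ∧ A ≤ B ∧ B ≤ H ∧ ∀ x ∈ B, ∀ y ∈ B, ⁅x, y⁆ ∈ A) (a := A)
    ⟨inferInstance, le_rfl, hAH, fun x hx y hy =>
      mul_mem (mul_mem (mul_mem hx hy) (inv_mem hx)) (inv_mem hy)⟩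
  haveI := hBn
  have hcent : ∀ x ∈ B, (∀ y ∈ B, x * y = y * x) → x ∈ A := by
    intro x hx hxy
    let Z := B ⊓ centralizer (B : Set S)
    have hle : A ≤ Z := fun a ha => ⟨hAB ha, mem_centralizer_iff.mpr fun y hy => hAcomm a ha y (hBH hy)⟩
    have hZn : Z.Normal := inferInstance
    rw [← hAmax Z hZn hle fun a ha b hb => (mem_centralizer_iff.mp hb.2 a ha.1)]
    exact ⟨hx, mem_centralizer_iff.mpr fun y hy => (hxy y hy).symm⟩
  have hCH : H ⊓ centralizer (B : Set S) ≤ A := by
    set C := H ⊓ centralizer (B : Set S) with hC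
    by_contra hCA
    haveI : C.Normal := inferInstance
    let D : ℕ → Subgroup S := fun i => Nat.rec (motive := fun _ => Subgroup S) C (fun _ T => ⁅T, T⁆) i
    have hDn : ∀ i, (D i).Normal := fun i => by
      induction i with
      | zero => exact ‹C.Normal›
      | succ i ih => exact Subgroup.commutator_normal (D i) (D i)
    have hDle : ∀ i, D i ≤ derivedSeries S i := fun i => by
      induction i with
      | zero => rw [derivedSeries_zero]; exact le_top
      | succ i ih => rw [derivedSeries_succ]; exact commutator_mono ih ih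
    have hDC : ∀ i, D i ≤ C := fun i => by
      induction i with
      | zero => exact le_rfl
      | succ i ih =>
        haveI := hDn i
        exact (commutator_le_left (D i) (D i)).trans ih
    obtain ⟨N, hN⟩ := (Group.isSolvable_def (G := S)).mp hS
    have hstep : ∀ j, D j ≤ A → ∃ i, ¬ D i ≤ A ∧ D (i + 1) ≤ A := by
      intro j
      induction j with
      | zero => exact fun h => absurd h hCA
      | succ j ih => exact fun h => (Classical.em (D j ≤ A)).elim ih fun hj => ⟨j, hj, h⟩
    obtain ⟨i, hiA, hi1'⟩ := hstep N ((hDle N).trans (hN.le.trans bot_le))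
    have hi1 : ⁅D i, D i⁆ ≤ A := hi1'
    haveI := hDn i
    have hB'n : (B ⊔ D i).Normal := inferInstance
    have hB' : B ⊔ D i ≤ B := by
      refine hBmax ⟨hB'n, hAB.trans le_sup_left, sup_le hBH ((hDC i).trans inf_le_left), ?_⟩ le_sup_left
      have hkey : ⁅B ⊔ D i, B ⊔ D i⁆ ≤ A := by
        conv_rhs => rw [← QuotientGroup.ker_mk' A]
        rw [← Subgroup.map_eq_bot_iff]
        rw [Subgroup.map_commutator, Subgroup.map_sup, commutator_eq_bot_iff_le_centralizer]
        have hBB : B.map (QuotientGroup.mk' A) ≤ centralizer (B.map (QuotientGroup.mk' A) : Set (S ⧸ A)) := by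
          rw [← commutator_eq_bot_iff_le_centralizer, ← Subgroup.map_commutator, Subgroup.map_eq_bot_iff, QuotientGroup.ker_mk']
          exact commutator_le.mpr hBA
        have hBD : B.map (QuotientGroup.mk' A) ≤ centralizer ((D i).map (QuotientGroup.mk' A) : Set (S ⧸ A)) := by
          rw [← commutator_eq_bot_iff_le_centralizer, ← Subgroup.map_commutator, Subgroup.map_eq_bot_iff, QuotientGroup.ker_mk']
          refine commutator_le.mpr fun x hx y hy => ?_
          rw [commutatorElement_eq_one_iff_mul_comm.mpr ((mem_centralizer_iff.mp (hDC i hy).2 x hx))]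
          exact one_mem A
        have hDD : (D i).map (QuotientGroup.mk' A) ≤ centralizer ((D i).map (QuotientGroup.mk' A) : Set (S ⧸ A)) := by
          rw [← commutator_eq_bot_iff_le_centralizer, ← Subgroup.map_commutator, Subgroup.map_eq_bot_iff, QuotientGroup.ker_mk']
          exact hi1
        refine sup_le ?_ ?_ <;> rw [le_centralizer_iff] <;> refine sup_le ?_ ?_
        · exact hBB
        · exact le_centralizer_iff.mp hBD
        · exact hBD
        · exact hDD
      exact fun x hx y hy => hkey (commutator_mem_commutator hx hy)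
    refine hiA fun x hx => hcent x (hB' (mem_sup_right hx)) fun y hy => ?_
    exact (mem_centralizer_iff.mp (hDC i hx).2 y hy).symm
  have hBne : ¬ B ≤ A := by
    intro hle
    have hHA : H ≤ A := fun h hh => hCH ⟨hh, mem_centralizer_iff.mpr fun b hb =>
      ((hAcomm b (hle hb) h hh)).symm⟩
    have hAc : Nat.card A ∣ 2 ^ m - 1 := by
      choose c hc using fun a : A => hA a a.2
      let f : A →* Fˣ :=
        { toFun := fun a => Units.mk0 (c a) (hAunit a a.2 _ (hc a))
          map_one' := Units.ext (smul_left_injective F hv0 (by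
            show c 1 • v0 = (1 : F) • v0
            rw [← hc 1, Subgroup.coe_one, one_smul, one_smul]))
          map_mul' := fun a b => Units.ext (smul_left_injective F hv0 (by
            show c (a * b) • v0 = (c a * c b) • v0
            rw [← hc, Subgroup.coe_mul, mul_smul, hc b, mul_smul, hlin a (hAH a.2), hc a, smul_comm])) }
      have hf : Function.Injective f := fun a b e => Subtype.ext (hfaith _ _ fun v => by
        rw [hc a, hc b, show c a = c b from congrArg Units.val e])
      have := Subgroup.card_dvd_of_injective f hf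
      rwa [Nat.card_units, hF] at this
    have h1 : Nat.card S ∣ (2 ^ m - 1) * m := by
      rw [← H.card_mul_index]
      exact Nat.mul_dvd_mul ((card_dvd_of_le hHA).trans hAc) hH
    have h2 : 1 ≤ 2 ^ m := Nat.one_le_two_pow
    have h3 : 2 ≤ 2 ^ m := le_trans (by norm_num) (Nat.pow_le_pow_right two_pos (show 1 ≤ m by omega))
    have h4 := Nat.le_of_dvd (Nat.mul_pos (by omega) (by omega)) (hScard.trans h1)
    have h5 : 2 ^ (m * 2) ≤ 2 ^ (m * k) := Nat.pow_le_pow_right two_pos (Nat.mul_le_mul_left m hk2)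
    have h6 : (2 ^ m - 1) * (2 ^ m + 1) = 2 ^ (m * 2) - 1 := by
      rw [pow_mul, pow_two]
      zify [h2, show 1 ≤ 2 ^ m * 2 ^ m by nlinarith]
      ring
    have h7 : m < 2 ^ m := Nat.lt_two_pow_self
    have h8 : (2 ^ m - 1) * m < (2 ^ m - 1) * (2 ^ m + 1) :=
      Nat.mul_lt_mul_of_pos_left (by omega) (by omega)
    omega
  -- the pairing on `W = B / A`
  let AB : Subgroup B := A.subgroupOf B
  haveI : AB.Normal := inferInstance
  letI : CommGroup (B ⧸ AB) :=
    { (inferInstance : Group (B ⧸ AB)) with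
      mul_comm := fun a b => by
        obtain ⟨x, rfl⟩ := QuotientGroup.mk_surjective a
        obtain ⟨y, rfl⟩ := QuotientGroup.mk_surjective b
        rw [← QuotientGroup.mk_mul, ← QuotientGroup.mk_mul, QuotientGroup.eq_iff_div_mem]
        show ((x * y / (y * x) : B) : S) ∈ A
        have : ((x * y / (y * x) : B) : S) = ⁅(x : S), (y : S)⁆ := by
          simp [div_eq_mul_inv, commutatorElement_def, mul_assoc]
        rw [this]
        exact hBA x x.2 y y.2 }
  choose c hc using fun (x y : B) => hA _ (hBA x x.2 y y.2)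
  have hcne : ∀ x y, c x y ≠ 0 := fun x y => hAunit _ (hBA x x.2 y y.2) _ (hc x y)
  have hcu : ∀ (x y : B) (d : F), (∀ v : V, ⁅(x : S), (y : S)⁆ • v = d • v) → c x y = d := fun x y d hd =>
    smul_left_injective F hv0 ((hc x y v0).symm.trans (hd v0))
  have hcr : ∀ (x y z : B), c x (y * z) = c x y * c x z := by
    intro x y z
    refine hcu _ _ _ fun v => ?_
    rw [show ⁅(x : S), ((y * z : B) : S)⁆ = ⁅(x : S), (y : S)⁆ * ⁅(x : S), (z : S)⁆ by
      rw [Subgroup.coe_mul]
      have h0 := hAcomm _ (hBA x x.2 z z.2) y (hBH y.2)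
      calc ⁅(x : S), (y : S) * z⁆ = ⁅(x : S), (y : S)⁆ * ((y : S) * ⁅(x : S), (z : S)⁆ * (y : S)⁻¹) := by
            simp only [commutatorElement_def]; group
        _ = _ := by rw [h0, mul_inv_cancel_right], mul_smul, hc, hc, mul_smul]
  have hswap : ∀ x y : B, c x y * c y x = 1 := by
    intro x y
    refine smul_left_injective F hv0 (?_ : (c x y * c y x) • v0 = (1 : F) • v0)
    rw [mul_smul, ← hc y x, ← hc x y, ← mul_smul, ← commutatorElement_inv (y : S) (x : S),
      inv_mul_cancel, one_smul, one_smul]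
  have hcl : ∀ (x x' y : B), c (x * x') y = c x y * c x' y := by
    intro x x' y
    have h1 := hswap (x * x') y
    rw [hcr] at h1
    calc c (x * x') y = c (x * x') y * ((c x y * c y x) * (c x' y * c y x')) := by
          rw [hswap, hswap, mul_one, mul_one]
      _ = (c (x * x') y * (c y x * c y x')) * (c x y * c x' y) := by ring
      _ = _ := by rw [h1, one_mul]
  have hcA : ∀ (x y : B), (y : S) ∈ A → c x y = 1 := fun x y hy => hcu _ _ _ fun v => by
    rw [commutatorElement_eq_one_iff_mul_comm.mpr (hAcomm _ hy _ (hBH x.2)), one_smul, one_smul]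
  have hcA' : ∀ (x y : B), (x : S) ∈ A → c x y = 1 := fun x y hx => hcu _ _ _ fun v => by
    rw [commutatorElement_eq_one_iff_mul_comm.mpr (hAcomm _ hx _ (hBH y.2)).symm, one_smul, one_smul]
  let χ0 : B → (B ⧸ AB) →* Fˣ := fun x => QuotientGroup.lift AB
    { toFun := fun y => Units.mk0 (c x y) (hcne x y)
      map_one' := Units.ext (hcA x 1 (one_mem A))
      map_mul' := fun y z => Units.ext (hcr x y z) }
    (fun y hy => Units.ext (hcA x y hy))
  let χ : (B ⧸ AB) →* (B ⧸ AB) →* Fˣ := QuotientGroup.lift AB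
    { toFun := χ0
      map_one' := MonoidHom.ext fun w => by
        obtain ⟨y, rfl⟩ := QuotientGroup.mk_surjective w
        exact Units.ext (hcA' 1 y (one_mem A))
      map_mul' := fun x x' => MonoidHom.ext fun w => by
        obtain ⟨y, rfl⟩ := QuotientGroup.mk_surjective w
        exact Units.ext (hcl x x' y) }
    (fun x hx => MonoidHom.ext fun w => by
      obtain ⟨y, rfl⟩ := QuotientGroup.mk_surjective w
      exact Units.ext (hcA' x y hx))
  have hχval : ∀ x y : B, ((χ (x : B ⧸ AB) (y : B ⧸ AB) : Fˣ) : F) = c x y := fun x y => rfl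
  have hnd : ∀ w, (∀ x, χ w x = 1) → w = 1 := by
    intro w hw
    obtain ⟨x, rfl⟩ := QuotientGroup.mk_surjective w
    refine (QuotientGroup.eq_one_iff x).mpr (mem_subgroupOf.mpr (hcent x x.2 fun y hy => ?_))
    have h1 : c x ⟨y, hy⟩ = 1 := by rw [← hχval, hw]; rfl
    refine commutatorElement_eq_one_iff_mul_comm.mp (hfaith _ _ fun v => ?_)
    rw [hc x ⟨y, hy⟩, h1, one_smul, one_smul]
  have halt : ∀ w, χ w w = 1 := fun w => by
    obtain ⟨x, rfl⟩ := QuotientGroup.mk_surjective w
    exact Units.ext ((hχval x x).trans (hcu _ _ _ fun v => by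
      rw [commutatorElement_self, one_smul, Units.val_one, one_smul]))
  set R := Nat.card (B ⧸ AB) with hR
  obtain ⟨Q, hQ⟩ := isSquare_card_of_pairing R (B ⧸ AB) le_rfl χ halt hnd
  rw [← hR] at hQ
  -- independence of coset representatives
  choose sec hsec using QuotientGroup.mk_surjective (s := AB)
  let op : B → (V →ₗ[F] V) := fun x =>
    { toFun := fun v => (x : S) • v
      map_add' := fun a b => smul_add _ a b
      map_smul' := fun a v => hlin x (hBH x.2) a v }
  haveI : Fintype (B ⧸ AB) := Fintype.ofFinite _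
  have hindep : LinearIndependent F (fun w => op (sec w)) := by
    rw [Fintype.linearIndependent_iff]
    intro g hg w0
    let e : (B ⧸ AB) → (B →* F) := fun w =>
      { toFun := fun b => c b (sec w)
        map_one' := hcA' 1 _ (one_mem A)
        map_mul' := fun b b' => hcl b b' _ }
    have he : Function.Injective e := by
      intro w w' hww
      rw [← mul_inv_eq_one]
      refine hnd _ fun x => ?_
      obtain ⟨y, rfl⟩ := QuotientGroup.mk_surjective x
      have h1 : χ (w : B ⧸ AB) y = χ w' y := by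
        refine Units.ext ?_
        rw [← hsec w, ← hsec w', hχval, hχval]
        have h2 : c y (sec w) = c y (sec w') := DFunLike.congr_fun hww y
        have h3 := hswap y (sec w)
        have h4 := hswap y (sec w')
        rw [h2] at h3
        exact mul_left_cancel₀ (hcne y (sec w')) (h3.trans h4.symm)
      rw [map_mul, map_inv, MonoidHom.mul_apply, MonoidHom.inv_apply, h1, mul_inv_cancel]
    by_contra hg0
    apply hv0
    have hv : ((sec w0 : S)) • v0 = 0 := by
      by_contra hne
      obtain ⟨f, hf⟩ := Module.Projective.exists_dual_ne_zero F hne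
      have hli := (linearIndependent_monoidHom B F).comp e he
      have hz : ∀ w, g w * f ((sec w : S) • v0) = 0 := by
        refine Fintype.linearIndependent_iff.1 hli (fun w => g w * f ((sec w : S) • v0)) (funext fun b => ?_)
        simp only [Finset.sum_apply, Pi.smul_apply, smul_eq_mul, Pi.zero_apply, Function.comp_apply]
        have h1 := LinearMap.congr_fun hg ((b : S)⁻¹ • v0)
        have h2 := congrArg (fun u => f ((b : S) • u)) h1
        simp only [LinearMap.zero_apply, smul_zero, map_zero, LinearMap.sum_apply, LinearMap.smul_apply,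
          Finset.smul_sum, map_sum] at h2
        rw [← h2]
        refine Finset.sum_congr rfl fun w _ => ?_
        show g w * f ((sec w : S) • v0) * c b (sec w) = f ((b : S) • g w • (sec w : S) • (b : S)⁻¹ • v0)
        have h3 : (b : S) • (sec w : S) • (b : S)⁻¹ • v0 = c b (sec w) • (sec w : S) • v0 := by
          rw [← hc b (sec w), ← mul_smul, ← mul_smul, ← mul_smul]
          congr 1
          rw [commutatorElement_def]
          group
        rw [hlin b (hBH b.2), LinearMap.map_smul, h3, LinearMap.map_smul, smul_eq_mul, smul_eq_mul]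
        ring
      exact hf ((mul_eq_zero.mp (hz w0)).resolve_left hg0)
    exact (smul_eq_zero_iff_eq _).mp hv
  have hRk : Q * Q ≤ k * k := by
    have h := hindep.fintype_card_le_finrank
    rw [Module.finrank_linearMap, ← Nat.card_eq_fintype_card, ← hR, hQ] at h
    exact h
  -- orders in the pairing divide `2 ^ m - 1`
  have hexp : ∀ w : B ⧸ AB, w ^ (2 ^ m - 1) = 1 := fun w => hnd _ fun x => by
    rw [map_pow, MonoidHom.pow_apply]
    have := pow_card_eq_one' (x := χ w x)
    rwa [Nat.card_units, hF] at this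
  have hRdvd : ∀ p : ℕ, p.Prime → p ∣ R → p ∣ 2 ^ m - 1 := by
    intro p hp hpR
    haveI := Fact.mk hp
    obtain ⟨w, hw⟩ := exists_prime_orderOf_dvd_card' p hpR
    rw [← hw]
    exact orderOf_dvd_of_pow_eq_one (hexp w)
  have hR1 : R ≠ 1 := by
    intro h1
    apply hBne
    intro x hx
    have h2 : ((⟨x, hx⟩ : B) : B ⧸ AB) = 1 := by
      haveI := (Nat.card_eq_one_iff_unique.mp h1).1
      exact Subsingleton.elim _ _
    exact mem_subgroupOf.mp ((QuotientGroup.eq_one_iff (⟨x, hx⟩ : B)).mp h2)
  have hQ3 : 3 ≤ Q := by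
    by_contra hQ2
    interval_cases Q
    · exact (Nat.card_pos (α := B ⧸ AB)).ne' hQ
    · exact hR1 hQ
    · have h2 := hRdvd 2 Nat.prime_two ⟨2, hQ⟩
      have : 2 ∣ 2 ^ m := dvd_pow_self 2 hm0
      have := Nat.one_le_two_pow (n := m)
      omega
  have hm2 : 2 ≤ m := by
    by_contra hm1
    obtain ⟨p, hp, hpd⟩ := Nat.exists_prime_and_dvd hR1
    have h2 := hRdvd p hp hpd
    rw [show m = 1 by omega] at h2
    exact hp.ne_one (Nat.dvd_one.mp h2)
  have hQk : Q ≤ k := Nat.mul_self_le_mul_self_iff.mp hRk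
  obtain ⟨r, hr, hrd, hrj, hrm, hrk⟩ := exists_good_prime hm2 hk2 (fun h => by omega)
  haveI := Fact.mk hr
  have hrq : ¬ r ∣ 2 ^ m - 1 := by simpa using hrj 1 one_pos (by omega)
  obtain ⟨x, hx⟩ := exists_prime_orderOf_dvd_card' r (hrd.trans hScard)
  have hxH : x ∈ H := by
    rw [← QuotientGroup.eq_one_iff, ← orderOf_eq_one_iff]
    have h1 : orderOf (x : S ⧸ H) ∣ r := hx ▸ orderOf_map_dvd (QuotientGroup.mk' H) x
    have h2 : orderOf (x : S ⧸ H) ∣ m := (_root_.orderOf_dvd_natCard _).trans hH
    rcases (Nat.dvd_prime hr).mp h1 with h | h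
    · exact h
    · exact absurd (Nat.le_of_dvd (by omega) (h ▸ h2)) (by omega)
  have hxr : x ^ r = 1 := hx ▸ pow_orderOf_eq_one x
  let X : V →ₗ[F] V :=
    { toFun := fun v => x • v
      map_add' := fun a b => smul_add _ a b
      map_smul' := fun a v => hlin x hxH a v }
  have hXpow : ∀ (i : ℕ) (v : V), (X ^ i) v = x ^ i • v := fun i => by
    induction i with
    | zero => intro v; simp
    | succ i ih =>
      intro v
      rw [pow_succ', Module.End.mul_apply, ih, pow_succ' x, mul_smul]
      rfl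
  have hIP : IsPGroup r (zpowers x) := IsPGroup.of_card (n := 1) (by rw [Nat.card_zpowers, hx, pow_one])
  -- an `x`-invariant subspace is trivial
  have hinv : ∀ U : Submodule F V, (∀ u ∈ U, x • u ∈ U) → U = ⊥ ∨ U = ⊤ := by
    intro U hU
    have hUz : ∀ g : zpowers x, ∀ u ∈ U, (g : S) • u ∈ U := by
      rintro ⟨g, hg⟩ u hu
      obtain ⟨i, rfl⟩ := (mem_powers_iff_mem_zpowers).mpr hg
      show x ^ i • u ∈ U
      clear hg
      induction i generalizing u with
      | zero => simpa using hu
      | succ i ih =>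
        rw [pow_succ', mul_smul]
        exact hU _ (ih u hu)
    -- the fixed space is trivial
    let Fix : Submodule F V := LinearMap.ker (X - LinearMap.id)
    have hFix : ∀ v, v ∈ Fix ↔ x • v = v := fun v => by
      rw [LinearMap.mem_ker, LinearMap.sub_apply, LinearMap.id_apply, sub_eq_zero]
      rfl
    have hsmul : ∀ (g : zpowers x) (v : V), x • v = v → (g : S) • v = v := by
      rintro ⟨g, hg⟩ v hv
      obtain ⟨i, rfl⟩ := (mem_powers_iff_mem_zpowers).mpr hg
      show x ^ i • v = v
      clear hg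
      induction i with
      | zero => rw [pow_zero, one_smul]
      | succ i ih => rw [pow_succ, mul_smul, hv, ih]
    have hfix0 : Fix = ⊥ := by
      by_contra hne
      have hmod := hIP.card_modEq_card_fixedPoints (α := V)
      have hfp : MulAction.fixedPoints (zpowers x) V = (Fix : Set V) := by
        ext v
        rw [MulAction.mem_fixedPoints, SetLike.mem_coe, hFix]
        exact ⟨fun h => h ⟨x, mem_zpowers x⟩, fun h g => hsmul g v h⟩
      rw [hfp, hV, show Nat.card ((Fix : Set V)) = Nat.card Fix from rfl,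
        Module.natCard_eq_pow_finrank (K := F) (V := Fix), hF, ← pow_mul] at hmod
      have hd0 : Module.finrank F Fix ≠ 0 := fun h => hne (Submodule.finrank_eq_zero.mp h)
      have hdk : Module.finrank F Fix < k := by
        refine lt_of_le_of_ne (Submodule.finrank_le Fix) fun h => ?_
        have htop : Fix = ⊤ := Submodule.eq_top_of_finrank_eq h
        have hx1 : x = 1 := hfaith _ _ fun v => by
          rw [one_smul]; exact (hFix v).mp (htop ▸ Submodule.mem_top)
        rw [hx1, orderOf_one] at hx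
        exact hr.ne_one hx.symm
      set d := Module.finrank F Fix
      have h1 := (Nat.modEq_iff_dvd' (Nat.pow_le_pow_right two_pos (Nat.mul_le_mul_left m hdk.le))).mp hmod.symm
      rw [show m * k = m * d + m * (k - d) by rw [← Nat.mul_add]; congr 1; omega, pow_add,
        show 2 ^ (m * d) * 2 ^ (m * (k - d)) - 2 ^ (m * d) = 2 ^ (m * d) * (2 ^ (m * (k - d)) - 1) by
          rw [Nat.mul_sub_one]] at h1
      rcases (Nat.Prime.dvd_mul hr).mp h1 with h2 | h2
      · have h3 := Nat.le_of_dvd two_pos (hr.dvd_of_dvd_pow h2)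
        omega
      · exact hrj (k - d) (by omega) (by omega) h2
    by_cases hUbot : U = ⊥
    · exact Or.inl hUbot
    right
    by_contra hUtop
    letI : MulAction (zpowers x) U :=
      { smul := fun g u => ⟨(g : S) • (u : V), hUz g u u.2⟩
        one_smul := fun u => Subtype.ext (one_smul S (u : V))
        mul_smul := fun g h u => Subtype.ext (mul_smul (g : S) h (u : V)) }
    have hmod := hIP.card_modEq_card_fixedPoints (α := U)
    have hfp : MulAction.fixedPoints (zpowers x) U = {0} := by
      ext u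
      rw [MulAction.mem_fixedPoints, Set.mem_singleton_iff]
      refine ⟨fun h => Subtype.ext ?_, fun h g => Subtype.ext ?_⟩
      · have h1 : x • (u : V) = u := congrArg Subtype.val (h ⟨x, mem_zpowers x⟩)
        have := (hFix _).mpr h1
        rwa [hfix0, Submodule.mem_bot] at this
      · show (g : S) • (u : V) = u
        rw [h, ZeroMemClass.coe_zero, smul_zero]
    rw [hfp, Nat.card_coe_set_eq, Set.ncard_singleton, Module.natCard_eq_pow_finrank (K := F) (V := U), hF,
      ← pow_mul] at hmod
    exact hrj (Module.finrank F U) (Nat.pos_of_ne_zero fun h => hUbot (Submodule.finrank_eq_zero.mp h))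
      (lt_of_le_of_ne (Submodule.finrank_le U) fun h => hUtop (Submodule.eq_top_of_finrank_eq h))
      ((Nat.modEq_iff_dvd' Nat.one_le_two_pow).mp hmod.symm)
  -- operators commuting with `x` commute
  have hcommutant : ∀ b b' : B, x * b = b * x → x * b' = b' * x → (b : S) * b' = b' * b := by
    intro b b' hb hb'
    have hXb : ∀ {d : B}, x * d = d * x → ∀ v, op d (X v) = X (op d v) := fun {d} hd v => by
      show (d : S) • x • v = x • (d : S) • v
      rw [← mul_smul, ← mul_smul, hd]
    refine hfaith _ _ fun v => ?_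
    rcases eq_or_ne v 0 with rfl | hv
    · simp
    let U : Submodule F V := Submodule.span F (Set.range fun i : ℕ => x ^ i • v)
    have hUx : ∀ u ∈ U, x • u ∈ U := by
      intro u hu
      induction hu using Submodule.span_induction with
      | mem y hy =>
        obtain ⟨i, rfl⟩ := hy
        exact Submodule.subset_span ⟨i + 1, by show x ^ (i + 1) • v = _; rw [pow_succ', mul_smul]⟩
      | zero => rw [smul_zero]; exact U.zero_mem
      | add a b _ _ iha ihb => rw [smul_add]; exact U.add_mem iha ihb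
      | smul a y _ ih => rw [hlin x hxH]; exact U.smul_mem a ih
    have hvU : v ∈ U := Submodule.subset_span ⟨0, by show x ^ 0 • v = v; rw [pow_zero, one_smul]⟩
    have hUtop : U = ⊤ := (hinv U hUx).resolve_left fun h => hv (by rwa [h, Submodule.mem_bot] at hvU)
    have hpow : ∀ (d : B), x * d = d * x → ∀ (i : ℕ) (y : V), (d : S) • x ^ i • y = x ^ i • (d : S) • y :=
      fun d hd i y => by
        rw [← mul_smul, ← mul_smul, ((show Commute x d from hd).pow_left i).eq]
    -- write `b' v` as a polynomial in `x` applied to `v`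
    suffices hs : ∀ u ∈ U, ∀ (P : V →ₗ[F] V), (∀ i y, P (x ^ i • y) = x ^ i • P y) → P v = 0 → P u = 0 by
      let P : V →ₗ[F] V := op b * op b' - op b' * op b
      have hP : ∀ i y, P (x ^ i • y) = x ^ i • P y := fun i y => by
        show (b : S) • (b' : S) • x ^ i • y - (b' : S) • (b : S) • x ^ i • y = x ^ i • (_ - _)
        rw [hpow b' hb', hpow b hb, hpow b hb, hpow b' hb', smul_sub]
        rfl
      obtain ⟨u, hu, hbv⟩ : ∃ u ∈ U, u = (b' : S) • v := ⟨_, hUtop ▸ Submodule.mem_top, rfl⟩
      rw [mul_smul, mul_smul, ← hbv]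
      -- both sides are linear in `u`, and agree on the generators
      clear hs hP P
      obtain ⟨l, hl⟩ := (Finsupp.mem_span_range_iff_exists_finsupp).mp hu
      obtain ⟨u', hu', hbv'⟩ : ∃ u' ∈ U, u' = (b : S) • v := ⟨_, hUtop ▸ Submodule.mem_top, rfl⟩
      rw [← hbv', ← hl, Finsupp.smul_sum, hbv', show (b' : S) • (b : S) • v =
        (b' : S) • (b : S) • v from rfl]
      calc (l.sum fun i a => (b : S) • a • x ^ i • v) = l.sum fun i a => a • x ^ i • (b : S) • v := by
            refine Finsupp.sum_congr fun i _ => ?_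
            rw [hlin b (hBH b.2), hpow b hb]
        _ = (b' : S) • (b : S) • v := by
            obtain ⟨l', hl'⟩ := (Finsupp.mem_span_range_iff_exists_finsupp).mp hu'
            rw [hbv'] at hl'
            have hcom2 : ∀ (y : V) (L : ℕ →₀ F), (b' : S) • (L.sum fun i a => a • x ^ i • y) =
                L.sum fun i a => a • x ^ i • (b' : S) • y := fun y L => by
              rw [Finsupp.smul_sum]
              refine Finsupp.sum_congr fun i _ => ?_
              rw [hlin b' (hBH b'.2), hpow b' hb']
            rw [← hl', hcom2, ← hbv, ← hl]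
            simp only [Finsupp.sum, Finset.smul_sum, hlin _ (pow_mem hxH _),
              ← mul_smul, ← pow_add]
            rw [Finset.sum_comm]
            refine Finset.sum_congr rfl fun i _ => Finset.sum_congr rfl fun j _ => ?_
            rw [mul_comm, add_comm]
    intro u hu P hP hPv
    induction hu using Submodule.span_induction with
    | mem y hy => obtain ⟨i, rfl⟩ := hy; rw [hP, hPv, smul_zero]
    | zero => rw [map_zero]
    | add a b _ _ iha ihb => rw [map_add, iha, ihb, add_zero]
    | smul a y _ ih => rw [map_smul, ih, smul_zero]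
  -- `x` is fixed-point-free on `W`
  have hxB : ∀ y : B, x * (y : S) * x⁻¹ ∈ B := fun y => hBn.conj_mem y y.2 x
  let θ : B →* B :=
    { toFun := fun y => ⟨x * y * x⁻¹, hxB y⟩
      map_one' := Subtype.ext (by simp)
      map_mul' := fun y z => Subtype.ext (by simp [mul_assoc]) }
  have hθA : AB ≤ AB.comap θ := fun y hy => by
    show x * (y : S) * x⁻¹ ∈ A
    exact (inferInstance : A.Normal).conj_mem _ hy x
  let Θ : (B ⧸ AB) →* (B ⧸ AB) := QuotientGroup.map AB AB θ hθA
  have hθpow : ∀ (i : ℕ) (y : B), (((θ^[i]) y : B) : S) = x ^ i * y * (x ^ i)⁻¹ := by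
    intro i
    induction i with
    | zero => intro y; simp
    | succ i ih =>
      intro y
      rw [Function.iterate_succ_apply']
      show x * ((θ^[i] y : B) : S) * x⁻¹ = _
      rw [ih, pow_succ']
      group
  have hΘpow : ∀ (i : ℕ) (y : B), (Θ^[i]) (y : B ⧸ AB) = ((θ^[i]) y : B) := by
    intro i
    induction i with
    | zero => intro y; rfl
    | succ i ih => intro y; rw [Function.iterate_succ_apply', Function.iterate_succ_apply', ih]; rfl
  have hθc : ∀ y z : B, c (θ y) (θ z) = c y z := fun y z => hcu _ _ _ fun v => by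
    show ⁅x * (y : S) * x⁻¹, x * (z : S) * x⁻¹⁆ • v = _
    rw [show ⁅x * (y : S) * x⁻¹, x * (z : S) * x⁻¹⁆ = x * ⁅(y : S), (z : S)⁆ * x⁻¹ by
      simp only [commutatorElement_def]; group, hAcomm _ (hBA y y.2 z z.2) x hxH, mul_inv_cancel_right, hc]
  have hΘfix : ∀ w, Θ w = w → w = 1 := by
    intro w hw
    obtain ⟨y, rfl⟩ := QuotientGroup.mk_surjective w
    -- a fixed coset consists of elements commuting with `x`
    have hcomx : ∀ z : B, Θ (z : B ⧸ AB) = z → x * (z : S) = z * x := by
      intro z hz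
      have h1 : (θ z)⁻¹ * z ∈ AB := QuotientGroup.eq.mp hz
      obtain ⟨d, hd⟩ := hA _ (show (x * (z : S) * x⁻¹)⁻¹ * z ∈ A from h1)
      have h2 : ∀ v : V, (z : S) • v = d • (x * (z : S) * x⁻¹) • v := fun v => by
        rw [← hlin _ (hBH (hxB z)), ← hd, ← mul_smul, mul_inv_cancel_left]
      have h3 : ∀ (i : ℕ) (v : V), (z : S) • v = d ^ i • (x ^ i * (z : S) * (x ^ i)⁻¹) • v := by
        intro i
        induction i with
        | zero => intro v; simp
        | succ i ih =>
          intro v
          rw [h2 v, mul_smul, mul_smul, ih, hlin x hxH, ← mul_smul d, ← pow_succ', ← mul_smul x,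
            ← mul_smul (x * _)]
          congr 2
          rw [pow_succ']
          group
      have h4 := h3 r v0
      rw [hxr, one_mul, inv_one, mul_one] at h4
      have hne : (z : S) • v0 ≠ 0 := fun h => hv0 ((smul_eq_zero_iff_eq _).mp h)
      have hd1 : d ^ r = 1 := smul_left_injective F hne (h4.symm.trans (one_smul F _).symm)
      have hd0 : d ≠ 0 := fun h => by rw [h, zero_pow hr.ne_zero] at hd1; exact zero_ne_one hd1
      have hord : orderOf (Units.mk0 d hd0) ∣ r := orderOf_dvd_of_pow_eq_one (Units.ext hd1)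
      rcases (Nat.dvd_prime hr).mp hord with h | h
      · have hd' : d = 1 := congrArg Units.val (orderOf_eq_one_iff.mp h)
        refine (mul_inv_eq_iff_eq_mul.mp (hfaith (x * (z : S) * x⁻¹) z fun v => ?_))
        rw [h2 v, hd', one_smul]
      · refine absurd ?_ hrq
        rw [← h, ← hF, ← Nat.card_units F]
        exact orderOf_dvd_natCard _
    refine hnd _ fun u => ?_
    obtain ⟨z, rfl⟩ := QuotientGroup.mk_surjective u
    have hprod : Θ (∏ i ∈ Finset.range r, (Θ^[i]) (z : B ⧸ AB)) =
        ∏ i ∈ Finset.range r, (Θ^[i]) (z : B ⧸ AB) := by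
      rw [map_prod]
      have h1 := Finset.prod_range_succ' (fun i => (Θ^[i]) (z : B ⧸ AB)) r
      have h2 := Finset.prod_range_succ (fun i => (Θ^[i]) (z : B ⧸ AB)) r
      have h3 : (Θ^[r]) (z : B ⧸ AB) = z := by
        rw [hΘpow]
        congr 1
        exact Subtype.ext (by rw [hθpow, hxr]; simp)
      rw [h1, h3] at h2
      simp only [Function.iterate_zero, id, Function.iterate_succ_apply'] at h2
      exact mul_right_cancel h2
    obtain ⟨p, hp⟩ := QuotientGroup.mk_surjective (∏ i ∈ Finset.range r, (Θ^[i]) (z : B ⧸ AB))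
    have h5 : χ (y : B ⧸ AB) (∏ i ∈ Finset.range r, (Θ^[i]) (z : B ⧸ AB)) = 1 := by
      rw [← hp]
      refine Units.ext ((hχval y p).trans (hcu _ _ _ fun v => ?_))
      rw [commutatorElement_eq_one_iff_mul_comm.mpr (hcommutant y p (hcomx y hw)
        (hcomx p (by rw [hp]; exact hprod))), one_smul, Units.val_one, one_smul]
    have h6 : ∀ i, χ (y : B ⧸ AB) ((Θ^[i]) (z : B ⧸ AB)) = χ (y : B ⧸ AB) z := by
      intro i
      induction i with
      | zero => rfl
      | succ i ih =>
        rw [Function.iterate_succ_apply', ← ih]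
        obtain ⟨w', hw'⟩ := QuotientGroup.mk_surjective ((Θ^[i]) (z : B ⧸ AB))
        rw [← hw']
        conv_lhs => rw [← hw]
        exact Units.ext (hθc y w')
    rw [map_prod, Finset.prod_congr rfl (fun i _ => h6 i), Finset.prod_const, Finset.card_range] at h5
    have hord : orderOf (χ (y : B ⧸ AB) z) ∣ r := orderOf_dvd_of_pow_eq_one h5
    rcases (Nat.dvd_prime hr).mp hord with h | h
    · exact orderOf_eq_one_iff.mp h
    · refine absurd ?_ hrq
      rw [← h, ← hF, ← Nat.card_units F]
      exact orderOf_dvd_natCard _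
  letI : MulAction (zpowers x) (B ⧸ AB) :=
    { smul := fun g w => QuotientGroup.map AB AB
        { toFun := fun y => ⟨(g : S) * y * (g : S)⁻¹, hBn.conj_mem y y.2 g⟩
          map_one' := Subtype.ext (by simp)
          map_mul' := fun y z => Subtype.ext (by simp [mul_assoc]) }
        (fun y hy => (inferInstance : A.Normal).conj_mem _ hy (g : S)) w
      one_smul := fun w => by
        obtain ⟨y, rfl⟩ := QuotientGroup.mk_surjective w
        exact congrArg _ (Subtype.ext (by simp))
      mul_smul := fun g h w => by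
        obtain ⟨y, rfl⟩ := QuotientGroup.mk_surjective w
        exact congrArg _ (Subtype.ext (by simp [mul_assoc])) }
  have hmod := hIP.card_modEq_card_fixedPoints (α := B ⧸ AB)
  have hfp : MulAction.fixedPoints (zpowers x) (B ⧸ AB) = {1} := by
    ext w
    rw [MulAction.mem_fixedPoints, Set.mem_singleton_iff]
    refine ⟨fun h => hΘfix w ?_, fun h g => by rw [h]; exact map_one _⟩
    have := h ⟨x, mem_zpowers x⟩
    obtain ⟨y, rfl⟩ := QuotientGroup.mk_surjective w
    exact this
  rw [hfp, Nat.card_coe_set_eq, Set.ncard_singleton, ← hR, hQ] at hmod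
  have h1 : r ∣ (Q + 1) * (Q - 1) := by
    rw [← Nat.mul_self_sub_mul_self_eq, mul_one]
    exact (Nat.modEq_iff_dvd' (by nlinarith)).mp hmod.symm
  rcases (Nat.Prime.dvd_mul hr).mp h1 with h | h
  · exact absurd (Nat.le_of_dvd (by omega) h) (by omega)
  · exact absurd (Nat.le_of_dvd (by omega) h) (by omega)

end Dim

/-- **Huppert's theorem in characteristic two**, in the weak form needed for Higman's theorem. -/
theorem exists_singer_part {V : Type u} [AddCommGroup V] [Finite V] [Nontrivial V]
    (h2 : ∀ v : V, v + v = 0) {S : Type v} [Group S] [Finite S] [DistribMulAction S V]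
    [FaithfulSMul S V] (hS : Group.IsSolvable S)
    (htr : ∀ v w : V, v ≠ 0 → w ≠ 0 → ∃ s : S, s • v = w) :
    ∃ (L : Type u) (_ : Field L) (_ : Finite L) (e : L ≃+ V) (s : S) (t : L) (n d : ℕ),
      (∀ l, s • e l = e (t * l)) ∧ (∀ l : L, l + l = 0) ∧ Nat.card L = 2 ^ n ∧
      orderOf t * d = 2 ^ n - 1 ∧ d ∣ n := by
  classical
  obtain ⟨A, -, ⟨hAn, hAc⟩, hAmax⟩ := Finite.exists_le_maximal
    (p := fun A : Subgroup S => A.Normal ∧ ∀ x ∈ A, ∀ y ∈ A, x * y = y * x) (a := (⊥ : Subgroup S))
    ⟨inferInstance, fun x hx y hy => by rw [mem_bot.mp hx, mem_bot.mp hy]⟩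
  haveI := hAn
  let ι : S →* AddMonoid.End V := DistribMulAction.toAddMonoidEnd S V
  let R0 : Subring (AddMonoid.End V) := Subring.closure (ι '' (A : Set S))
  have hcomm : ∀ φ ∈ R0, ∀ ψ ∈ R0, φ * ψ = ψ * φ := by
    have hle : R0 ≤ Subring.centralizer (ι '' (A : Set S)) := Subring.closure_le.mpr (by
      rintro _ ⟨a, ha, rfl⟩
      rw [SetLike.mem_coe, Subring.mem_centralizer_iff]
      rintro _ ⟨b, hb, rfl⟩
      rw [← map_mul, ← map_mul, hAc b hb a ha])
    intro φ hφ ψ hψ
    have h1 : R0 ≤ Subring.centralizer (R0 : Set (AddMonoid.End V)) := Subring.closure_le.mpr (by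
      rintro _ ⟨a, ha, rfl⟩
      rw [SetLike.mem_coe, Subring.mem_centralizer_iff]
      intro ψ' hψ'
      exact ((Subring.mem_centralizer_iff.mp (hle hψ')) _ ⟨a, ha, rfl⟩).symm)
    exact ((Subring.mem_centralizer_iff.mp (h1 hψ)) φ hφ)
  have hconj : ∀ (s : S), ∀ φ ∈ R0, ∃ ψ ∈ R0, ∀ v, ψ v = s • φ (s⁻¹ • v) := by
    intro s φ hφ
    let u : (AddMonoid.End V) →+* (AddMonoid.End V) :=
      { toFun := fun φ => ι s * φ * ι s⁻¹
        map_one' := by rw [mul_one, ← map_mul, mul_inv_cancel, map_one]
        map_mul' := fun a b => by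
          calc ι s * (a * b) * ι s⁻¹ = ι s * a * (1 : AddMonoid.End V) * b * ι s⁻¹ := by
                simp [mul_assoc]
            _ = _ := by
                rw [show (1 : AddMonoid.End V) = ι s⁻¹ * ι s by rw [← map_mul, inv_mul_cancel, map_one]]
                simp [mul_assoc]
        map_zero' := by simp
        map_add' := fun a b => by simp [mul_add, add_mul] }
    refine ⟨u φ, ?_, fun v => rfl⟩
    have hle : R0 ≤ R0.comap u := Subring.closure_le.mpr (by
      rintro _ ⟨a, ha, rfl⟩
      show ι s * ι a * ι s⁻¹ ∈ R0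
      rw [← map_mul, ← map_mul]
      exact Subring.subset_closure ⟨_, hAn.conj_mem a ha s, rfl⟩)
    exact hle hφ
  haveI : Finite (AddMonoid.End V) :=
    Finite.of_injective (fun f : AddMonoid.End V => (f : V → V)) DFunLike.coe_injective
  obtain ⟨v0, hv0⟩ := exists_ne (0 : V)
  letI : CommRing R0 := { (inferInstance : Ring R0) with
    mul_comm := fun a b => Subtype.ext (hcomm a a.2 b b.2) }
  haveI : Nontrivial R0 := ⟨⟨0, 1, fun h => hv0
    (DFunLike.congr_fun (congrArg Subtype.val h) v0).symm⟩⟩
  haveI : NoZeroDivisors R0 := ⟨fun {a b} hab => by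
    by_contra hne
    push Not at hne
    have ha := injective_of_ne_zero htr R0 hcomm hconj a.2 (fun h => hne.1 (Subtype.ext h))
    refine hne.2 (Subtype.ext (DFunLike.ext _ _ fun v => ha ?_))
    have h := DFunLike.congr_fun (congrArg Subtype.val hab) v
    show (a : AddMonoid.End V) ((b : AddMonoid.End V) v) = (a : AddMonoid.End V) 0
    rw [map_zero]
    exact h⟩
  haveI : IsDomain R0 := NoZeroDivisors.to_isDomain R0
  letI : Field R0 := (Finite.isDomain_to_isField R0).toField
  haveI : Fintype R0 := Fintype.ofFinite R0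
  have hR2 : ∀ l : R0, l + l = 0 := fun l => Subtype.ext (DFunLike.ext _ _ fun v => h2 _)
  haveI : Fact (Nat.Prime 2) := ⟨Nat.prime_two⟩
  haveI : CharP R0 2 := CharTwo.of_one_ne_zero_of_two_eq_zero one_ne_zero (by
    rw [← one_add_one_eq_two, hR2])
  letI : Algebra (ZMod 2) R0 := ZMod.algebra R0 2
  haveI : FiniteDimensional (ZMod 2) R0 := Module.Finite.of_finite
  set m := Module.finrank (ZMod 2) R0 with hmdef
  have hcardR : Nat.card R0 = 2 ^ m := by
    rw [Module.natCard_eq_pow_finrank (K := ZMod 2) (V := R0), Nat.card_zmod]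
  have hgal : Nat.card (R0 ≃+* R0) = m := by
    rw [hmdef, ← IsGalois.card_aut_eq_finrank (ZMod 2) R0]
    refine Nat.card_congr ⟨fun σ => AlgEquiv.ofRingEquiv (f := σ) (fun z => ?_), fun σ => σ.toRingEquiv,
      fun σ => rfl, fun σ => rfl⟩
    exact RingHom.congr_fun (RingHom.ext_zmod ((σ : R0 →+* R0).comp (algebraMap (ZMod 2) R0))
      (algebraMap (ZMod 2) R0)) z
  -- the action on the field
  choose τ hτ hτv using hconj
  let act : S → R0 → R0 := fun s l => ⟨τ s l l.2, hτ s l l.2⟩
  have hactv : ∀ s l v, (act s l : AddMonoid.End V) v = s • (l : AddMonoid.End V) (s⁻¹ • v) :=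
    fun s l v => hτv s l l.2 v
  have hact_one : ∀ l, act 1 l = l := fun l => Subtype.ext (DFunLike.ext _ _ fun v => by
    rw [hactv, inv_one, one_smul, one_smul])
  have hact_mul : ∀ s s' l, act (s * s') l = act s (act s' l) := fun s s' l =>
    Subtype.ext (DFunLike.ext _ _ fun v => by
      rw [hactv, hactv, hactv, mul_inv_rev, mul_smul, mul_smul])
  let ρ : S →* (R0 ≃+* R0) :=
    { toFun := fun s =>
        { toFun := act s
          invFun := act s⁻¹
          left_inv := fun l => by rw [← hact_mul, inv_mul_cancel, hact_one]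
          right_inv := fun l => by rw [← hact_mul, mul_inv_cancel, hact_one]
          map_mul' := fun a b => Subtype.ext (DFunLike.ext _ _ fun v => by
            show (act s (a * b) : AddMonoid.End V) v = (act s a : AddMonoid.End V) ((act s b : AddMonoid.End V) v)
            rw [hactv, hactv, hactv, inv_smul_smul]
            rfl)
          map_add' := fun a b => Subtype.ext (DFunLike.ext _ _ fun v => by
            show (act s (a + b) : AddMonoid.End V) v = (act s a : AddMonoid.End V) v + (act s b : AddMonoid.End V) v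
            rw [hactv, hactv, hactv, ← smul_add]
            rfl) }
      map_one' := RingEquiv.ext hact_one
      map_mul' := fun s s' => RingEquiv.ext (hact_mul s s') }
  haveI : Finite (R0 ≃+* R0) := Finite.of_injective (fun σ : R0 ≃+* R0 => (σ : R0 → R0)) DFunLike.coe_injective
  letI : Module R0 V := Module.compHom V R0.subtype
  have hsmulR : ∀ (l : R0) (v : V), l • v = (l : AddMonoid.End V) v := fun _ _ => rfl
  haveI : Module.Finite R0 V := Module.Finite.of_finite
  have hlin : ∀ h ∈ ρ.ker, ∀ (l : R0) (v : V), h • l • v = l • h • v := by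
    intro h hh l v
    have e : act h l = l := RingEquiv.congr_fun (MonoidHom.mem_ker.mp hh) l
    rw [hsmulR, hsmulR]
    conv_rhs => rw [← e, hactv, inv_smul_smul]
  have hindex : ρ.ker.index ∣ m := by
    rw [index_ker, ← hgal]
    exact card_subgroup_dvd_card _
  have hAker : A ≤ ρ.ker := fun a ha => MonoidHom.mem_ker.mpr (RingEquiv.ext fun l =>
    Subtype.ext (DFunLike.ext _ _ fun v => by
      show (act a l : AddMonoid.End V) v = (l : AddMonoid.End V) v
      rw [hactv]
      have h := DFunLike.congr_fun (hcomm (ι a) (Subring.subset_closure ⟨a, ha, rfl⟩) l l.2) (a⁻¹ • v)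
      show (ι a) ((l : AddMonoid.End V) (a⁻¹ • v)) = _
      rw [show (ι a) ((l : AddMonoid.End V) (a⁻¹ • v)) = ((l : AddMonoid.End V)) (a • a⁻¹ • v) from h,
        smul_inv_smul]))
  have hk1 : Module.finrank R0 V ≤ 1 := by
    refine finrank_le_one hcardR hS htr A ρ.ker hlin hindex (fun s c => ⟨act s c, fun v => ?_⟩) hAker
      (fun a ha => ⟨⟨ι a, Subring.subset_closure ⟨a, ha, rfl⟩⟩, fun v => rfl⟩)
      (fun B hB hAB hBc => le_antisymm (hAmax ⟨hB, hBc⟩ hAB) hAB)
    rw [hsmulR, hsmulR, hactv, inv_smul_smul]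
  have hk : Module.finrank R0 V = 1 := by
    have := Module.finrank_pos (R := R0) (M := V)
    omega
  have hspan : ∀ v : V, ∃ l : R0, l • v0 = v := (finrank_eq_one_iff_of_nonzero' v0 hv0).mp hk
  let e : R0 ≃+ V := AddEquiv.ofBijective
    (AddMonoidHom.mk' (fun l => l • v0) (fun a b => add_smul a b v0))
    ⟨fun a b h => smul_left_injective R0 hv0 h, hspan⟩
  choose f hf using fun h : ρ.ker => hspan ((h : S) • v0)
  have hfmul : ∀ (h : ρ.ker) (v : V), (h : S) • v = f h • v := by
    intro h v
    obtain ⟨l, rfl⟩ := hspan v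
    rw [hlin h h.2, ← hf h, smul_comm]
  have hfne : ∀ h, f h ≠ 0 := fun h e0 => by
    have := hf h
    have h3 : f h • v0 = 0 := by rw [e0]; rfl
    rw [h3, eq_comm, smul_eq_zero_iff_eq] at this
    exact hv0 this
  let fu : ρ.ker →* R0ˣ :=
    { toFun := fun h => Units.mk0 (f h) (hfne h)
      map_one' := Units.ext (smul_left_injective R0 hv0 (by
        show f 1 • v0 = (1 : R0) • v0
        rw [hf, Subgroup.coe_one, one_smul, one_smul]))
      map_mul' := fun a b => Units.ext (smul_left_injective R0 hv0 (by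
        show f (a * b) • v0 = (f a * f b) • v0
        rw [hf, Subgroup.coe_mul, mul_smul, mul_smul, hfmul b, hlin a a.2, ← hf a, smul_comm])) }
  have hfu : Function.Injective fu := fun a b hab => Subtype.ext (eq_of_smul_eq_smul fun v : V => by
    rw [hfmul a, hfmul b, show f a = f b from congrArg Units.val hab])
  haveI : IsCyclic ρ.ker := isCyclic_of_injective fu hfu
  obtain ⟨g, hg⟩ := IsCyclic.exists_ofOrder_eq_natCard (α := ρ.ker)
  have hord : orderOf (f g) = Nat.card ρ.ker := by
    rw [← hg, ← orderOf_injective fu hfu g, ← orderOf_units]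
    rfl
  have hsdvd : 2 ^ m - 1 ∣ Nat.card S := by
    refine ⟨Nat.card (MulAction.stabilizer S v0), ?_⟩
    have horb : MulAction.orbit S v0 = {v : V | v ≠ 0} := by
      ext v
      refine ⟨?_, fun hv => htr v0 v hv0 hv⟩
      rintro ⟨s, rfl⟩ h0
      exact hv0 ((smul_eq_zero_iff_eq s).mp h0)
    have h1 := (MulAction.stabilizer S v0).card_mul_index
    rw [MulAction.index_stabilizer, horb] at h1
    have h3 : ({v : V | v ≠ 0} : Set V).ncard = 2 ^ m - 1 := by
      rw [show {v : V | v ≠ 0} = ({0} : Set V)ᶜ from rfl, Set.ncard_compl, Set.ncard_singleton,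
        ← hcardR, Nat.card_congr e.toEquiv]
    rw [h3] at h1
    rw [← h1, mul_comm]
  obtain ⟨d, hd⟩ : Nat.card ρ.ker ∣ 2 ^ m - 1 := by
    have := Subgroup.card_dvd_of_injective fu hfu
    rwa [Nat.card_units, hcardR] at this
  refine ⟨R0, inferInstance, inferInstance, e, g, f g, m, d, fun l => ?_, hR2, hcardR,
    by rw [hord, ← hd], ?_⟩
  · show (g : S) • l • v0 = (f g * l) • v0
    rw [hfmul g, mul_smul]
  · have hh : Nat.card ρ.ker * d ∣ Nat.card ρ.ker * ρ.ker.index := by
      rw [← hd, card_mul_index]; exact hsdvd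
    exact ((Nat.mul_dvd_mul_iff_left Nat.card_pos).mp hh).trans hindex

end CfsgLib.TransitiveSolvable
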