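import Mathlib.GroupTheory.IsSubnormal
import Mathlib.GroupTheory.Nilpotent
import Mathlib.GroupTheory.Sylow
import Mathlib.GroupTheory.Solvable
import Mathlib.GroupTheory.Index

/-!
Subnormal subgroups: elementary API, and the generic fact that a subnormal subgroup with a
property closed under joins of mutually normalizing subgroups lies in the normal radical of
that property (nilpotent, solvable, π-number order).
-/

set_option autoImplicit false

open Subgroup

namespace CfsgLib.Structure

variable {G : Type*} [Group G]

theorem le_normalizer_sup_of_le {M H K : Subgroup G} (hH : M ≤ normalizer (H : Set G))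
    (hK : M ≤ normalizer (K : Set G)) : M ≤ normalizer ((H ⊔ K : Subgroup G) : Set G) := by
  intro g hg
  rw [mem_normalizer_iff_map_conj_eq, Subgroup.map_sup]
  rw [mem_normalizer_iff_map_conj_eq.mp (hH hg), mem_normalizer_iff_map_conj_eq.mp (hK hg)]

theorem le_normalizer_sSup {M : Subgroup G} {S : Set (Subgroup G)}
    (h : ∀ g ∈ M, ∀ H ∈ S, H.map (MulAut.conj g).toMonoidHom ∈ S) :
    M ≤ normalizer ((sSup S : Subgroup G) : Set G) := by
  rw [le_normalizer_iff]
  intro g hg k hk
  have : sSup S ≤ (sSup S).comap (MulAut.conj g).toMonoidHom := by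
    refine sSup_le fun H hH => ?_
    rw [← map_le_iff_le_comap]
    exact le_sSup (h g hg H hH)
  exact this hk

/-- A join of two mutually normalizing subgroups: both are normal in the join. -/
theorem normal_subgroupOf_sup {N M : Subgroup G} (h₂ : M ≤ normalizer (N : Set G)) :
    (N.subgroupOf (N ⊔ M)).Normal := by
  rw [normal_subgroupOf_iff_le_normalizer le_sup_left]
  exact sup_le le_normalizer h₂

theorem subgroupOf_sup_subgroupOf {N M : Subgroup G} :
    N.subgroupOf (N ⊔ M) ⊔ M.subgroupOf (N ⊔ M) = ⊤ := by
  apply map_injective (subtype_injective (N ⊔ M))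
  rw [Subgroup.map_sup, map_subgroupOf_eq_of_le le_sup_left, map_subgroupOf_eq_of_le le_sup_right,
    ← MonoidHom.range_eq_map, range_subtype]

/-- Generic radical lemma. `P` is closed under joins of mutually normalizing subgroups and under
conjugation. A subnormal subgroup with `P` lies in the join of all normal subgroups with `P`. -/
theorem le_sSup_normal_of_isSubnormal [Finite G] (P : Subgroup G → Prop) (hbot : P ⊥)
    (hconj : ∀ (g : G) (N : Subgroup G), P N → P (N.map (MulAut.conj g).toMonoidHom))
    (hsup : ∀ N M : Subgroup G, P N → P M → N ≤ normalizer (M : Set G) →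
      M ≤ normalizer (N : Set G) → P (N ⊔ M))
    {A : Subgroup G} (hA : A.IsSubnormal) (hP : P A) :
    A ≤ sSup {N : Subgroup G | N.Normal ∧ P N} := by
  suffices ∀ H : Subgroup G, H.IsSubnormal → ∀ N : Subgroup G, N ≤ H →
      H ≤ normalizer (N : Set G) → P N → N ≤ sSup {N : Subgroup G | N.Normal ∧ P N} from
    this A hA A le_rfl le_normalizer hP
  intro H hH
  induction hH with
  | top =>
    intro N _ hN hPN
    exact le_sSup ⟨normalizer_eq_top_iff.mp (top_le_iff.mp hN), hPN⟩
  | step H K hle _ hN ih =>
    intro N hNH hHN hPN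
    set F : Set (Subgroup G) := {L | L ≤ H ∧ H ≤ normalizer (L : Set G) ∧ P L} with hF
    have hmem : N ∈ F := ⟨hNH, hHN, hPN⟩
    refine le_trans (le_sSup hmem) (ih (sSup F) ?_ ?_ ?_)
    · exact sSup_le fun L hL => hL.1.trans hle
    · refine le_normalizer_sSup fun g hg L hL => ?_
      have hgH : H.map (MulAut.conj g).toMonoidHom = H :=
        mem_normalizer_iff_map_conj_eq.mp ((le_normalizer_of_normal_subgroupOf hle) hg)
      refine ⟨?_, ?_, hconj g L hL.2.2⟩
      · exact (map_mono hL.1).trans hgH.le
      · calc H = H.map (MulAut.conj g).toMonoidHom := hgH.symm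
          _ ≤ (normalizer (L : Set G)).map (MulAut.conj g).toMonoidHom := map_mono hL.2.1
          _ ≤ _ := le_normalizer_map _
    · have key : ∀ T : Set (Subgroup G), T.Finite → T ⊆ F → sSup T ∈ F := by
        intro T hT
        refine Set.Finite.induction_on T hT ?_ ?_
        · intro _
          refine ⟨by simp, ?_, by simpa using hbot⟩
          rw [sSup_empty]
          exact le_normalizer_of_normal
        · intro L T _ _ ihT hsub
          obtain ⟨hL1, hL2, hL3⟩ : L ∈ F := hsub (Set.mem_insert _ _)
          obtain ⟨hT1, hT2, hT3⟩ : sSup T ∈ F := ihT ((Set.subset_insert _ _).trans hsub)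
          rw [sSup_insert]
          exact ⟨sup_le hL1 hT1, le_normalizer_sup_of_le hL2 hT2,
            hsup _ _ hL3 hT3 (hL1.trans hT2) (hT1.trans hL2)⟩
      exact (key F (Set.toFinite F) le_rfl).2.2

theorem card_map_conj (g : G) (N : Subgroup G) :
    Nat.card (N.map (MulAut.conj g).toMonoidHom) = Nat.card N :=
  Nat.card_congr (N.equivMapOfInjective _ (MulAut.conj g).injective).toEquiv.symm

theorem card_top_dvd_of_sup_eq_top {N M : Subgroup G} [N.Normal] (h : N ⊔ M = ⊤) :
    Nat.card G ∣ Nat.card N * Nat.card M := by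
  rw [Subgroup.card_eq_card_quotient_mul_card_subgroup N, mul_comm]
  apply mul_dvd_mul_left
  have hm : M.map (QuotientGroup.mk' N) = ⊤ := by
    have := congrArg (Subgroup.map (QuotientGroup.mk' N)) h
    rw [Subgroup.map_sup, map_top_of_surjective _ (QuotientGroup.mk'_surjective N),
      QuotientGroup.map_mk'_self, bot_sup_eq] at this
    exact this
  have := Subgroup.card_map_dvd M (QuotientGroup.mk' N)
  rwa [hm, Subgroup.card_top] at this

theorem card_sup_dvd_mul {N M : Subgroup G} (h : M ≤ normalizer (N : Set G)) :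
    Nat.card ↥(N ⊔ M) ∣ Nat.card N * Nat.card M := by
  haveI := normal_subgroupOf_sup h
  have := card_top_dvd_of_sup_eq_top (subgroupOf_sup_subgroupOf (N := N) (M := M))
  rwa [Nat.card_congr (subgroupOfEquivOfLe (le_sup_left : N ≤ N ⊔ M)).toEquiv,
    Nat.card_congr (subgroupOfEquivOfLe (le_sup_right : M ≤ N ⊔ M)).toEquiv] at this

theorem isSolvable_of_sup_eq_top {N M : Subgroup G} [N.Normal] (h : N ⊔ M = ⊤)
    [Group.IsSolvable N] [Group.IsSolvable M] : Group.IsSolvable G := by
  rw [Group.isSolvable_iff_subgroup_quotient N]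
  refine ⟨inferInstance, ?_⟩
  apply Group.isSolvable_of_surjective (f := (QuotientGroup.mk' N).comp M.subtype)
  rw [← MonoidHom.range_eq_top, MonoidHom.range_comp, range_subtype]
  have := congrArg (Subgroup.map (QuotientGroup.mk' N)) h
  rw [Subgroup.map_sup, map_top_of_surjective _ (QuotientGroup.mk'_surjective N),
    QuotientGroup.map_mk'_self, bot_sup_eq] at this
  exact this

theorem isSolvable_sup_of_le_normalizer {N M : Subgroup G} (h : M ≤ normalizer (N : Set G))
    [Group.IsSolvable N] [Group.IsSolvable M] : Group.IsSolvable ↥(N ⊔ M) := by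
  haveI := normal_subgroupOf_sup h
  haveI : Group.IsSolvable ↥(N.subgroupOf (N ⊔ M)) :=
    Group.isSolvable_of_isSolvable_injective (f := (subgroupOfEquivOfLe (le_sup_left : N ≤ N ⊔ M)).toMonoidHom)
      (subgroupOfEquivOfLe _).injective
  haveI : Group.IsSolvable ↥(M.subgroupOf (N ⊔ M)) :=
    Group.isSolvable_of_isSolvable_injective (f := (subgroupOfEquivOfLe (le_sup_right : M ≤ N ⊔ M)).toMonoidHom)
      (subgroupOfEquivOfLe _).injective
  exact isSolvable_of_sup_eq_top subgroupOf_sup_subgroupOf

theorem normalizer_le_normalizer_map_subtype (P : Subgroup G) (K : Subgroup P) [hK : K.Characteristic] :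
    normalizer (P : Set G) ≤ normalizer ((K.map P.subtype : Subgroup G) : Set G) := by
  intro g hg
  rw [mem_normalizer_iff_map_conj_eq]
  let e : P ≃* P := P.normalizerMonoidHom ⟨g, hg⟩
  have he : (MulAut.conj g).toMonoidHom.comp P.subtype = P.subtype.comp e.toMonoidHom := by
    ext x
    simp [e]
  calc (K.map P.subtype).map (MulAut.conj g).toMonoidHom
      = K.map ((MulAut.conj g).toMonoidHom.comp P.subtype) := Subgroup.map_map _ _ _
    _ = K.map (P.subtype.comp e.toMonoidHom) := by rw [he]
    _ = (K.map e.toMonoidHom).map P.subtype := (Subgroup.map_map _ _ _).symm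
    _ = K.map P.subtype := congrArg (map P.subtype) (characteristic_iff_map_eq.mp hK e)

end CfsgLib.Structure
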