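import Mathlib
import Cfsg.Agent.Lib.Structure.Subnormal
import Cfsg.Prelude.Def_Transfer

/-!
Minimal normal subgroups of finite groups, their structure as products of simple groups,
and Wielandt's theorem that minimal normal subgroups normalize subnormal subgroups and that
the join of two subnormal subgroups is subnormal.
-/

set_option autoImplicit false
set_option linter.style.haveILetI false

open Subgroup

namespace CfsgLib.Structure

universe u v

variable {G : Type u} [Group G]

/-- `N` is a minimal normal subgroup. -/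
def IsMinNormal (N : Subgroup G) : Prop :=
  N ≠ ⊥ ∧ N.Normal ∧ ∀ K : Subgroup G, K.Normal → K ≤ N → K = ⊥ ∨ K = N

/-- The subgroup generated by all minimal normal subgroups. -/
def socle (G : Type u) [Group G] : Subgroup G := sSup {N : Subgroup G | IsMinNormal N}

namespace IsMinNormal

variable {N M : Subgroup G}

theorem ne_bot (h : IsMinNormal N) : N ≠ ⊥ := h.1

theorem normal (h : IsMinNormal N) : N.Normal := h.2.1

theorem eq_of_le (h : IsMinNormal N) {K : Subgroup G} (hK : K.Normal) (hKN : K ≤ N)
    (hne : K ≠ ⊥) : K = N :=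
  (h.2.2 K hK hKN).resolve_left hne

theorem inf_eq_bot_or_le (h : IsMinNormal N) {K : Subgroup G} (hK : K.Normal) :
    N ⊓ K = ⊥ ∨ N ≤ K := by
  have := h.normal
  rcases h.2.2 (N ⊓ K) inferInstance inf_le_left with h1 | h1
  · exact Or.inl h1
  · exact Or.inr (h1 ▸ inf_le_right)

theorem inf_eq_bot (h : IsMinNormal N) (h' : IsMinNormal M) (hne : N ≠ M) : N ⊓ M = ⊥ :=
  (h.inf_eq_bot_or_le h'.normal).resolve_right fun hle => hne (h'.eq_of_le h.normal hle h.ne_bot)

theorem commute (h : IsMinNormal N) (h' : IsMinNormal M) (hne : N ≠ M) :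
    ∀ x ∈ N, ∀ y ∈ M, Commute x y := fun x hx y hy =>
  commute_of_normal_of_disjoint N M h.normal h'.normal
    (disjoint_iff.mpr (h.inf_eq_bot h' hne)) x y hx hy

theorem le_centralizer (h : IsMinNormal N) (h' : IsMinNormal M) (hne : N ≠ M) :
    N ≤ centralizer (M : Set G) :=
  fun x hx y hy => ((h.commute h' hne) x hx y hy).symm.eq

theorem le_socle (h : IsMinNormal N) : N ≤ socle G := le_sSup h

theorem map_equiv {G' : Type v} [Group G'] (e : G ≃* G') (h : IsMinNormal N) :
    IsMinNormal (N.map e.toMonoidHom) := by
  refine ⟨fun h0 => h.ne_bot ((map_eq_bot_iff_of_injective N e.injective).mp h0),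
    h.normal.map _ e.surjective, fun K hK hKN => ?_⟩
  have hKK : (K.comap e.toMonoidHom).map e.toMonoidHom = K := map_comap_eq_self_of_surjective e.surjective K
  rcases h.2.2 (K.comap e.toMonoidHom) (hK.comap _) ((comap_mono hKN).trans_eq (comap_map_eq_self_of_injective e.injective N)) with h1 | h1
  · exact Or.inl (by rw [← hKK, h1, Subgroup.map_bot])
  · exact Or.inr (by rw [← hKK, h1])

end IsMinNormal

theorem exists_isMinNormal_le [Finite G] {H : Subgroup G} (hH : H.Normal) (hne : H ≠ ⊥) :
    ∃ N : Subgroup G, IsMinNormal N ∧ N ≤ H := by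
  obtain ⟨N, hNH, hN⟩ :=
    ({K : Subgroup G | K.Normal ∧ K ≠ ⊥}).toFinite.exists_le_minimal (a := H) ⟨hH, hne⟩
  refine ⟨N, ⟨hN.prop.2, hN.prop.1, fun K hK hKN => ?_⟩, hNH⟩
  by_cases h : K = ⊥
  · exact Or.inl h
  · exact Or.inr (le_antisymm hKN (hN.le_of_le ⟨hK, h⟩ hKN))

theorem exists_isMinNormal [Finite G] [Nontrivial G] : ∃ N : Subgroup G, IsMinNormal N :=
  (exists_isMinNormal_le (H := ⊤) inferInstance bot_lt_top.ne').imp fun _ h => h.1

theorem socle_normal : (socle G).Normal := sSup_normal _ fun _ h => h.normal

theorem socle_characteristic : (socle G).Characteristic := by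
  rw [characteristic_iff_map_le]
  intro e
  rw [map_le_iff_le_comap]
  exact sSup_le fun N hN => map_le_iff_le_comap.mp (hN.map_equiv e).le_socle

theorem socle_ne_bot [Finite G] [Nontrivial G] : socle G ≠ ⊥ := by
  obtain ⟨N, hN⟩ := exists_isMinNormal (G := G)
  exact fun h => hN.ne_bot (le_bot_iff.mp (hN.le_socle.trans h.le))

/-- In a group generated by minimal normal subgroups every normal subgroup of a minimal normal
subgroup is normal in the whole group. -/
theorem normal_of_socle_eq_top (h : socle G = ⊤) {S R : Subgroup G} (hS : IsMinNormal S)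
    (hRS : R ≤ S) (hR : S ≤ normalizer (R : Set G)) : R.Normal := by
  rw [← normalizer_eq_top_iff, ← top_le_iff, ← h]
  refine sSup_le fun A hA => ?_
  rcases eq_or_ne A S with rfl | hne
  · exact hR
  · exact (hA.le_centralizer hS hne).trans
      ((centralizer_le (Set.Subset.refl _ |>.trans hRS)).trans (centralizer_le_normalizer _))

theorem isSimpleGroup_of_socle_eq_top (h : socle G = ⊤) {S : Subgroup G} (hS : IsMinNormal S) :
    IsSimpleGroup S := by
  haveI : Nontrivial S := (nontrivial_iff_ne_bot S).mpr hS.ne_bot
  refine ⟨fun K hK => ?_⟩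
  have hn : (K.map S.subtype).Normal := normal_of_socle_eq_top h hS (map_subtype_le K) ?_
  · rcases hS.2.2 _ hn (map_subtype_le K) with h1 | h1
    · exact Or.inl ((map_eq_bot_iff_of_injective K S.subtype_injective).mp h1)
    · refine Or.inr (map_injective S.subtype_injective ?_)
      rw [h1, ← MonoidHom.range_eq_map, range_subtype]
  · rw [← normal_subgroupOf_iff_le_normalizer (map_subtype_le K)]
    rwa [← comap_subtype, comap_map_eq_self_of_injective S.subtype_injective]

section Conj

variable {N : Subgroup G}

/-- Conjugation by `g`, as an automorphism of a normal subgroup. -/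
def conjAut (N : Subgroup G) [N.Normal] (g : G) : N ≃* N := MulAut.conjNormal g

/-- For minimal normal `N` the conjugates of any nontrivial normal subgroup of `N` generate `N`. -/
theorem IsMinNormal.iSup_conj_eq_top (h : IsMinNormal N) [N.Normal] {S : Subgroup N} (hne : S ≠ ⊥) :
    ⨆ g : G, S.map (conjAut N g).toMonoidHom = ⊤ := by
  set T := ⨆ g : G, S.map (conjAut N g).toMonoidHom with hT
  have hST : S ≤ T := by
    refine le_trans ?_ (le_iSup _ 1)
    intro x hx
    exact ⟨x, hx, by simp [conjAut]⟩
  have hnorm : (T.map N.subtype).Normal := by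
    constructor
    rintro _ ⟨x, hx, rfl⟩ g
    have : T ≤ T.comap (conjAut N g).toMonoidHom := by
      refine iSup_le fun g' => ?_
      rw [← map_le_iff_le_comap, Subgroup.map_map]
      refine le_trans (le_of_eq ?_) (le_iSup _ (g * g'))
      congr 1
      ext y
      simp [conjAut]
    refine ⟨conjAut N g x, this hx, ?_⟩
    simp [conjAut]
  apply map_injective N.subtype_injective
  rw [← MonoidHom.range_eq_map, range_subtype]
  refine h.eq_of_le hnorm (map_subtype_le T) fun h0 => hne ?_
  exact le_bot_iff.mp (hST.trans ((map_eq_bot_iff_of_injective T N.subtype_injective).mp h0).le)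

theorem IsMinNormal.socle_eq_top [Finite G] (h : IsMinNormal N) : socle N = ⊤ := by
  haveI := h.normal
  haveI : Nontrivial N := (nontrivial_iff_ne_bot N).mpr h.ne_bot
  obtain ⟨S, hS⟩ := exists_isMinNormal (G := N)
  rw [← top_le_iff, ← h.iSup_conj_eq_top hS.ne_bot]
  exact iSup_le fun g => (hS.map_equiv (conjAut N g)).le_socle

/-- A minimal normal subgroup of a minimal normal subgroup is simple. -/
theorem IsMinNormal.isSimpleGroup_minNormal [Finite G] (h : IsMinNormal N) {S : Subgroup N}
    (hS : IsMinNormal S) : IsSimpleGroup S :=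
  isSimpleGroup_of_socle_eq_top h.socle_eq_top hS

theorem IsMinNormal.eq_center_of_isMulCommutative_sub [Finite G] (h : IsMinNormal N)
    {S : Subgroup N} (hS : IsMinNormal S) (hab : IsMulCommutative S) : IsMulCommutative N := by
  haveI := h.normal
  have hle : ∀ g : G, S.map (conjAut N g).toMonoidHom ≤ center N := by
    intro g
    have hS' := hS.map_equiv (conjAut N g)
    intro x hx
    rw [mem_center_iff]
    intro y
    have hy : y ∈ socle N := h.socle_eq_top.symm ▸ mem_top y
    have hcl : socle N ≤ centralizer ({x} : Set N) := by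
      refine sSup_le fun A hA => ?_
      intro z hz w hw
      rw [Set.mem_singleton_iff] at hw
      subst hw
      rcases eq_or_ne A (S.map (conjAut N g).toMonoidHom) with rfl | hne
      · obtain ⟨a, ha, rfl⟩ := hx
        obtain ⟨b, hb, rfl⟩ := hz
        have := congrArg Subtype.val
          (Std.Commutative.comm (op := ((· * ·) : S → S → S)) ⟨a, ha⟩ ⟨b, hb⟩)
        simpa using congrArg (conjAut N g) this
      · exact (hA.commute hS' hne z hz _ hx).symm.eq
    exact (hcl hy x rfl).symm
  have htop : center N = ⊤ := top_le_iff.mp ((h.iSup_conj_eq_top hS.ne_bot).ge.trans (iSup_le hle))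
  exact ⟨⟨fun a b => (mem_center_iff.mp (htop ▸ mem_top b : b ∈ center N) a)⟩⟩

/-- In a non-abelian minimal normal subgroup the simple direct factors are non-abelian. -/
theorem IsMinNormal.not_isMulCommutative_minNormal [Finite G] (h : IsMinNormal N)
    (hna : ¬ IsMulCommutative N) {S : Subgroup N} (hS : IsMinNormal S) : ¬ IsMulCommutative S :=
  fun hab => hna (h.eq_center_of_isMulCommutative_sub hS hab)

theorem IsMinNormal.center_eq_bot (h : IsMinNormal N) (hna : ¬ IsMulCommutative N) :
    center N = ⊥ := by
  haveI := h.normal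
  rcases h.2.2 ((center N).map N.subtype) inferInstance (map_subtype_le _) with h1 | h1
  · exact (map_eq_bot_iff_of_injective _ N.subtype_injective).mp h1
  · refine absurd ⟨⟨fun a b => ?_⟩⟩ hna
    have hb : (b : G) ∈ (center N).map N.subtype := h1.symm ▸ b.2
    obtain ⟨c, hc, hcb⟩ := hb
    obtain rfl : c = b := Subtype.ext hcb
    exact mem_center_iff.mp hc a

/-- The minimal normal subgroups of a non-abelian minimal normal subgroup are the conjugates of any
one of them. -/
theorem IsMinNormal.exists_conj_eq [Finite G] (h : IsMinNormal N) [N.Normal]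
    (hna : ¬ IsMulCommutative N) {S A : Subgroup N} (hS : IsMinNormal S) (hA : IsMinNormal A) :
    ∃ g : G, S.map (conjAut N g).toMonoidHom = A := by
  by_contra hcon
  push Not at hcon
  refine h.not_isMulCommutative_minNormal hna hA ⟨⟨fun a b => Subtype.ext ?_⟩⟩
  have hc : (⊤ : Subgroup N) ≤ centralizer ({(b : N)} : Set N) := by
    rw [← h.iSup_conj_eq_top hS.ne_bot]
    refine iSup_le fun g z hz w hw => ?_
    rw [Set.mem_singleton_iff] at hw
    subst hw
    exact ((hS.map_equiv (conjAut N g)).commute hA (hcon g) z hz _ b.2).symm.eq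
  exact (hc (mem_top (a : N)) _ rfl).symm

end Conj

/-- Wielandt: a minimal normal subgroup normalizes every subnormal subgroup. -/
theorem IsMinNormal.le_normalizer_of_isSubnormal [Finite G] {N S : Subgroup G}
    (hN : IsMinNormal N) (hS : S.IsSubnormal) : N ≤ normalizer (S : Set G) := by
  suffices ∀ n, ∀ (X : Type u) [Group X] [Finite X], Nat.card X = n → ∀ N S : Subgroup X,
      IsMinNormal N → S.IsSubnormal → N ≤ normalizer (S : Set X) from
    this _ G rfl N S hN hS
  intro n
  induction n using Nat.strong_induction_on with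
  | _ n ih =>
    intro X _ _ hcard N S hN hS
    rcases hS.lt_normal with rfl | ⟨M, hM, hSM, hMlt⟩
    · exact le_normalizer_of_normal
    rcases hN.inf_eq_bot_or_le hM with h0 | hle
    · have : N ≤ centralizer (M : Set X) := fun x hx y hy =>
        (commute_of_normal_of_disjoint N M hN.normal hM (disjoint_iff.mpr h0) x y hx hy).symm.eq
      exact this.trans ((centralizer_le (fun y hy => hSM hy)).trans (centralizer_le_normalizer _))
    · haveI := hN.normal
      have hlt : Nat.card M < n := by
        rw [← hcard]
        refine lt_of_le_of_ne (card_le_card_group M) fun he => hMlt.ne (eq_top_of_card_eq M he)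
      have hne : N.subgroupOf M ≠ ⊥ := by
        rw [Ne, subgroupOf_eq_bot, disjoint_iff, inf_eq_left.mpr hle]
        exact hN.ne_bot
      obtain ⟨N₀, hN₀, hN₀le⟩ := exists_isMinNormal_le (G := M) inferInstance hne
      set L := ⨆ g : X, (N₀.map (MulAut.conjNormal (H := M) g).toMonoidHom).map M.subtype with hL
      have hLN : L ≤ N := by
        refine iSup_le fun g => ?_
        rintro _ ⟨_, ⟨x, hx, rfl⟩, rfl⟩
        simpa using hN.normal.conj_mem _ (hN₀le hx) g
      have hLnorm : L.Normal := by
        constructor
        intro x hx g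
        have : L ≤ L.comap (MulAut.conj g).toMonoidHom := by
          refine iSup_le fun g' => ?_
          rw [← map_le_iff_le_comap, Subgroup.map_map, Subgroup.map_map]
          refine le_trans (le_of_eq ?_) (le_iSup _ (g * g'))
          rw [Subgroup.map_map]
          congr 1
          ext y
          simp [mul_assoc]
        exact this hx
      have hLne : L ≠ ⊥ := fun h0 => hN₀.ne_bot <| by
        have h1 : N₀.map M.subtype ≤ L := by
          refine le_trans (le_of_eq ?_) (le_iSup _ 1)
          rw [Subgroup.map_map]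
          congr 1
          ext y
          simp
        rw [h0, le_bot_iff] at h1
        exact (map_eq_bot_iff_of_injective N₀ M.subtype_injective).mp h1
      rw [← hN.eq_of_le hLnorm hLN hLne]
      refine iSup_le fun g => ?_
      have key := ih _ hlt M rfl _ (S.subgroupOf M) (hN₀.map_equiv (MulAut.conjNormal (H := M) g))
        hS.subgroupOf
      refine (map_mono key).trans ((le_normalizer_map _).trans (le_of_eq ?_))
      rw [map_subgroupOf_eq_of_le hSM]

/-- Wielandt's join theorem for finite groups. -/
theorem isSubnormal_sup [Finite G] {H K : Subgroup G} (hH : H.IsSubnormal) (hK : K.IsSubnormal) :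
    (H ⊔ K).IsSubnormal := by
  suffices ∀ n, ∀ (X : Type u) [Group X] [Finite X], Nat.card X = n → ∀ H K : Subgroup X,
      H.IsSubnormal → K.IsSubnormal → (H ⊔ K).IsSubnormal from
    this _ G rfl H K hH hK
  intro n
  induction n using Nat.strong_induction_on with
  | _ n ih =>
    intro X _ _ hcard H K hH hK
    rcases subsingleton_or_nontrivial X with h1 | h1
    · exact IsSubnormal.of_subsingleton
    obtain ⟨N, hN⟩ := exists_isMinNormal (G := X)
    haveI := hN.normal
    have hlt : Nat.card (X ⧸ N) < n := by
      rw [← hcard, Subgroup.card_eq_card_quotient_mul_card_subgroup N]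
      exact lt_mul_of_one_lt_right Nat.card_pos (N.one_lt_card_iff_ne_bot.mpr hN.ne_bot)
    have hq := (ih _ hlt (X ⧸ N) rfl _ _ (hH.quotient (K := N)) (hK.quotient (K := N))).comap
      (QuotientGroup.mk' N)
    rw [← Subgroup.map_sup, comap_map_eq, QuotientGroup.ker_mk'] at hq
    by_cases htop : H ⊔ K ⊔ N = ⊤
    · refine Normal.isSubnormal (normalizer_eq_top_iff.mp (top_le_iff.mp ?_))
      rw [← htop]
      refine sup_le le_normalizer ?_
      exact le_normalizer_sup_of_le (hN.le_normalizer_of_isSubnormal hH)
        (hN.le_normalizer_of_isSubnormal hK)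
    · have hlt' : Nat.card ↥(H ⊔ K ⊔ N) < n := by
        rw [← hcard]
        exact lt_of_le_of_ne (card_le_card_group _) fun he => htop (eq_top_of_card_eq _ he)
      have := (ih _ hlt' ↥(H ⊔ K ⊔ N) rfl _ _ (hH.subgroupOf (K := H ⊔ K ⊔ N))
        (hK.subgroupOf (K := H ⊔ K ⊔ N))).trans' hq
      rwa [Subgroup.map_sup, map_subgroupOf_eq_of_le (le_sup_left.trans le_sup_left),
        map_subgroupOf_eq_of_le (le_sup_right.trans le_sup_left)] at this

theorem IsMinNormal.exponent_prime [Finite G] {N : Subgroup G} (h : IsMinNormal N)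
    (hab : IsMulCommutative N) : ∃ p : ℕ, p.Prime ∧ Cfsg.IsElementaryAbelian p N := by
  haveI := h.normal
  haveI : Nontrivial N := (nontrivial_iff_ne_bot N).mpr h.ne_bot
  obtain ⟨p, hp, hpd⟩ := Nat.exists_prime_and_dvd (Finite.one_lt_card (α := N)).ne'
  haveI : Fact p.Prime := ⟨hp⟩
  obtain ⟨x, hx⟩ := exists_prime_orderOf_dvd_card' p hpd
  refine ⟨p, hp, hab, ?_⟩
  let W : Subgroup N :=
    { carrier := {a | a ^ p = 1}
      mul_mem' := fun {a b} ha hb => by
        rw [Set.mem_setOf_eq] at ha hb ⊢
        rw [Commute.mul_pow (Std.Commutative.comm (op := ((· * ·) : N → N → N)) a b), ha, hb, one_mul]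
      one_mem' := one_pow p
      inv_mem' := fun {a} ha => by
        rw [Set.mem_setOf_eq] at ha ⊢
        rw [inv_pow, ha, inv_one] }
  haveI : W.Characteristic := by
    rw [characteristic_iff_le_comap]
    intro e a ha
    show (e a) ^ p = 1
    rw [← map_pow, show a ^ p = 1 from ha, map_one]
  rcases h.2.2 (W.map N.subtype) inferInstance (map_subtype_le W) with h1 | h1
  · have hxW : x ∈ W := by
      show x ^ p = 1
      rw [← hx]; exact pow_orderOf_eq_one x
    rw [map_eq_bot_iff_of_injective _ N.subtype_injective] at h1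
    rw [h1, mem_bot] at hxW
    exact absurd (hx.symm.trans (orderOf_eq_one_iff.mpr hxW)) hp.ne_one
  · intro a ha
    rw [← h1] at ha
    obtain ⟨b, hb, rfl⟩ := ha
    rw [← map_pow, show b ^ p = 1 from hb, map_one]

end CfsgLib.Structure
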