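import Cfsg.Agent.Lib.Structure.Radicals
import Cfsg.Agent.Lib.Structure.MinimalNormal
import Cfsg.Prelude.Def_RootSubgroups

/-!
The solvable radical of a finite group.
-/

set_option autoImplicit false
set_option linter.style.haveILetI false

open Subgroup

namespace CfsgLib.Structure

variable {G : Type*} [Group G]

theorem solvableRadical_normal : (Cfsg.solvableRadical G).Normal :=
  sSup_normal _ fun _ h => h.1

theorem le_solvableRadical {N : Subgroup G} (hN : N.Normal) (h : Group.IsSolvable N) :
    N ≤ Cfsg.solvableRadical G :=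
  le_sSup ⟨hN, h⟩

theorem isSolvable_of_le {H K : Subgroup G} (hle : H ≤ K) (h : Group.IsSolvable K) :
    Group.IsSolvable H :=
  Group.isSolvable_of_isSolvable_injective (f := inclusion hle) (inclusion_injective hle)

theorem isSolvable_solvableRadical [Finite G] : Group.IsSolvable (Cfsg.solvableRadical G) := by
  obtain ⟨M, hM⟩ := ({N : Subgroup G | N.Normal ∧ Group.IsSolvable N}).toFinite.exists_maximal
    ⟨⊥, normal_bot, inferInstance⟩
  haveI := hM.prop.1
  haveI := hM.prop.2
  have hmax : Cfsg.solvableRadical G = M := by
    refine le_antisymm (sSup_le fun N hN => ?_) (le_sSup hM.prop)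
    haveI := hN.1
    haveI := hN.2
    have h1 : (M ⊔ N).Normal ∧ Group.IsSolvable ↥(M ⊔ N) :=
      ⟨inferInstance, isSolvable_sup_of_le_normalizer le_normalizer_of_normal⟩
    exact le_sup_right.trans (hM.le_of_ge h1 le_sup_left)
  rw [hmax]
  infer_instance

theorem solvableRadical_characteristic : (Cfsg.solvableRadical G).Characteristic := by
  rw [characteristic_iff_map_le]
  intro e
  rw [map_le_iff_le_comap]
  refine sSup_le fun N hN => map_le_iff_le_comap.mp ?_
  haveI := hN.2
  exact le_solvableRadical (hN.1.map _ e.surjective)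
    (Group.isSolvable_of_surjective (MonoidHom.subgroupMap_surjective e.toMonoidHom N))

theorem le_solvableRadical_of_isSubnormal [Finite G] {A : Subgroup G} (hA : A.IsSubnormal)
    (h : Group.IsSolvable A) : A ≤ Cfsg.solvableRadical G :=
  le_sSup_normal_of_isSubnormal (fun N => Group.IsSolvable N) inferInstance
    (fun g N hN =>
      haveI := hN
      Group.isSolvable_of_surjective (MonoidHom.subgroupMap_surjective (MulAut.conj g).toMonoidHom N))
    (fun _ _ hN hM _ h₂ =>
      haveI := hN
      haveI := hM
      isSolvable_sup_of_le_normalizer h₂) hA h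

theorem fittingSubgroup_le_solvableRadical :
    Cfsg.fittingSubgroup G ≤ Cfsg.solvableRadical G :=
  sSup_le fun _ hN => haveI := hN.2; le_solvableRadical hN.1 inferInstance

theorem solvableRadical_eq_top_iff [Finite G] :
    Cfsg.solvableRadical G = ⊤ ↔ Group.IsSolvable G := by
  refine ⟨fun h => ?_, fun h => top_le_iff.mp (le_solvableRadical inferInstance ?_)⟩
  · have := isSolvable_solvableRadical (G := G)
    rw [h] at this
    exact Group.isSolvable_of_surjective (f := (topEquiv (G := G)).toMonoidHom) topEquiv.surjective
  · infer_instance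

theorem isElementaryAbelian_of_isMinNormal_of_isSolvable [Finite G] {N : Subgroup G}
    (h : IsMinNormal N) (hs : Group.IsSolvable N) : ∃ p : ℕ, p.Prime ∧ Cfsg.IsElementaryAbelian p N := by
  haveI := h.normal
  haveI : Nontrivial N := (nontrivial_iff_ne_bot N).mpr h.ne_bot
  refine h.exponent_prime ?_
  have hlt : commutator N < ⊤ := Group.IsSolvable.commutator_lt_top_of_nontrivial N
  rcases h.2.2 ((commutator N).map N.subtype) inferInstance (map_subtype_le _) with h1 | h1
  · rw [map_eq_bot_iff_of_injective _ N.subtype_injective] at h1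
    refine ⟨⟨fun a b => ?_⟩⟩
    have : a * b * a⁻¹ * b⁻¹ ∈ commutator N := commutator_mem_commutator (mem_top a) (mem_top b)
    rw [h1, mem_bot] at this
    exact mul_inv_eq_iff_eq_mul.mp (mul_inv_eq_one.mp this)
  · refine absurd (map_injective N.subtype_injective ?_) hlt.ne
    rw [h1, ← MonoidHom.range_eq_map, range_subtype]

theorem solvableRadical_eq_bot_iff [Finite G] :
    Cfsg.solvableRadical G = ⊥ ↔ Cfsg.fittingSubgroup G = ⊥ := by
  refine ⟨fun h => le_bot_iff.mp (fittingSubgroup_le_solvableRadical.trans h.le), fun h => ?_⟩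
  by_contra hne
  obtain ⟨N, hN, hle⟩ := exists_isMinNormal_le solvableRadical_normal hne
  obtain ⟨p, hp, hab, -⟩ := isElementaryAbelian_of_isMinNormal_of_isSolvable hN
    (isSolvable_of_le hle isSolvable_solvableRadical)
  have hc : Group.IsNilpotent N := by
    haveI := hab
    let _ : CommGroup N := { (inferInstance : Group N) with
      mul_comm := fun a b => Std.Commutative.comm (op := ((· * ·) : N → N → N)) a b }
    infer_instance
  exact hN.ne_bot (le_bot_iff.mp (((le_sSup ⟨hN.normal, hc⟩ : N ≤ Cfsg.fittingSubgroup G)).trans h.le))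

theorem solvableRadical_quotient [Finite G] [(Cfsg.solvableRadical G).Normal] :
    Cfsg.solvableRadical (G ⧸ Cfsg.solvableRadical G) = ⊥ := by
  set R := Cfsg.solvableRadical G with hR
  set q := QuotientGroup.mk' R
  set T := (Cfsg.solvableRadical (G ⧸ R)).comap q with hT
  haveI : T.Normal := solvableRadical_normal.comap q
  haveI := isSolvable_solvableRadical (G := G ⧸ R)
  haveI : Group.IsSolvable R := hR ▸ isSolvable_solvableRadical
  have hs : Group.IsSolvable T := by
    let f : T →* Cfsg.solvableRadical (G ⧸ R) := q.subgroupComap _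
    refine Group.isSolvable_of_ker_le_range (inclusion (show R ≤ T from ?_)) f ?_
    · intro x hx
      rw [hT, mem_comap]
      simp [q, (QuotientGroup.eq_one_iff x).mpr hx]
    · intro x hx
      have : q (x : G) = 1 := congrArg Subtype.val hx
      exact ⟨⟨x, (QuotientGroup.eq_one_iff _).mp this⟩, Subtype.ext rfl⟩
  have := map_mono (f := q) (le_solvableRadical (N := T) inferInstance hs)
  rw [hT, map_comap_eq_self_of_surjective (QuotientGroup.mk'_surjective R)] at this
  rwa [← hR, QuotientGroup.map_mk'_self, le_bot_iff] at this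

end CfsgLib.Structure
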