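import Mathlib
import Cfsg.Prelude.Def_Solvable

/-!
Subnormal index divisibility, `O_p(G)` is a `p`-group, `F(G)` is nilpotent, and the
characterization of `F(G)` by index powers.
-/

set_option autoImplicit false
set_option linter.style.haveILetI false

namespace CfsgLib.IndexPowers

open Subgroup

variable {G : Type*} [Group G]

/-- For a normal subgroup `N`, `[N : N ∩ A] = [AN : A]`. -/
theorem relIndex_normal_eq [Finite G] (A N : Subgroup G) [N.Normal] :
    A.relIndex N = A.relIndex (A ⊔ N) := by
  have h1 := Subgroup.relIndex_mul_relIndex (A ⊓ N) A (A ⊔ N) inf_le_left le_sup_left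
  have h2 := Subgroup.relIndex_mul_relIndex (A ⊓ N) N (A ⊔ N) inf_le_right le_sup_right
  rw [Subgroup.inf_relIndex_right, Subgroup.relIndex_sup_right] at h2
  rw [Subgroup.inf_relIndex_left] at h1
  have h3 : N.relIndex A ≠ 0 := Subgroup.index_ne_zero_of_finite
  exact mul_left_cancel₀ h3 (by rw [mul_comm] at h2; rw [h2, ← h1])

/-- For a subgroup normal in a larger subgroup. -/
theorem relIndex_dvd_relIndex_of_normal_subgroupOf [Finite G] (K : Subgroup G) {H L : Subgroup G}
    (hHL : H ≤ L) (hN : (H.subgroupOf L).Normal) : K.relIndex H ∣ K.relIndex L := by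
  haveI := hN
  have h := relIndex_normal_eq (K.subgroupOf L) (H.subgroupOf L)
  rw [Subgroup.relIndex_subgroupOf hHL] at h
  rw [h]
  exact Subgroup.relIndex_dvd_index_of_le le_sup_left

theorem relIndex_dvd_index_of_isSubnormal [Finite G] {H : Subgroup G} (hH : H.IsSubnormal)
    (K : Subgroup G) : K.relIndex H ∣ K.index := by
  induction hH with
  | top => rw [Subgroup.relIndex_top_right]
  | step H L hle _ hN ih => exact (relIndex_dvd_relIndex_of_normal_subgroupOf K hle hN).trans ih

theorem isPGroup_pCore [Finite G] (p : ℕ) :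
    IsPGroup p (Cfsg.pCore p G) := by
  classical
  have hfin : {N : Subgroup G | N.Normal ∧ IsPGroup p N}.Finite := Set.toFinite _
  have h : (hfin.toFinset.sup id).Normal ∧ IsPGroup p (hfin.toFinset.sup id : Subgroup G) := by
    refine Finset.sup_induction (p := fun N : Subgroup G => N.Normal ∧ IsPGroup p N)
      ⟨inferInstance, IsPGroup.of_bot⟩ ?_ ?_
    · intro A hA B hB
      haveI := hA.1
      haveI := hB.1
      exact ⟨Subgroup.sup_normal A B, hA.2.to_sup_of_normal_right hB.2⟩
    · intro N hN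
      exact hfin.mem_toFinset.mp hN
  have : Cfsg.pCore p G = hfin.toFinset.sup id := by
    rw [Cfsg.pCore, Finset.sup_id_eq_sSup, hfin.coe_toFinset]
  rw [this]
  exact h.2

theorem normal_pCore (p : ℕ) : (Cfsg.pCore p G).Normal := by
  refine Subgroup.Normal.mk fun n hn g => ?_
  have : Cfsg.pCore p G ≤ (Cfsg.pCore p G).comap (MulAut.conj g).toMonoidHom := by
    refine sSup_le fun N hN x hx => ?_
    exact le_sSup (s := {N : Subgroup G | N.Normal ∧ IsPGroup p N}) hN (hN.1.conj_mem x hx g)
  exact this hn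

theorem sylow_map_le_pCore [Finite G] {p : ℕ} [Fact p.Prime] (N : Subgroup G) [N.Normal]
    (P : Sylow p N) (hP : (P : Subgroup N).Normal) :
    (P : Subgroup N).map N.subtype ≤ Cfsg.pCore p G := by
  haveI : (P : Subgroup N).Characteristic := Sylow.characteristic_of_normal P hP
  exact le_sSup (s := {N : Subgroup G | N.Normal ∧ IsPGroup p N})
    ⟨ConjAct.normal_of_characteristic_of_normal, P.isPGroup'.map N.subtype⟩

theorem exists_nilpotent_ge [Finite G] :
    ∃ R : Subgroup G, Group.IsNilpotent R ∧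
      ∀ N : Subgroup G, N.Normal → Group.IsNilpotent N → N ≤ R := by
  classical
  let ps := (Nat.card G).primeFactors
  have hf : ∀ q : ps, Fact (q : ℕ).Prime := fun q => ⟨Nat.prime_of_mem_primeFactors q.2⟩
  have hcomm : Pairwise fun i j : ps =>
      ∀ x y : G, x ∈ Cfsg.pCore (i : ℕ) G → y ∈ Cfsg.pCore (j : ℕ) G → Commute x y := by
    intro i j hij x y hx hy
    haveI := normal_pCore (G := G) (i : ℕ)
    haveI := normal_pCore (G := G) (j : ℕ)
    haveI := hf i
    haveI := hf j
    exact Subgroup.commute_of_normal_of_disjoint _ _ inferInstance inferInstance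
      (IsPGroup.disjoint_of_ne (i : ℕ) (j : ℕ) (fun h => hij (Subtype.ext h)) _ _
        (isPGroup_pCore (G := G) (i : ℕ)) (isPGroup_pCore (G := G) (j : ℕ))) x y hx hy
  let φ := Subgroup.noncommPiCoprod (H := fun i : ps => Cfsg.pCore (i : ℕ) G) hcomm
  haveI : ∀ i : ps, Group.IsNilpotent (Cfsg.pCore (i : ℕ) G) := fun i => by
    haveI := hf i
    exact (isPGroup_pCore (G := G) (i : ℕ)).isNilpotent
  refine ⟨φ.range, Group.nilpotent_of_surjective φ.rangeRestrict φ.rangeRestrict_surjective, ?_⟩
  intro N hN hnil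
  haveI := hN
  suffices h : φ.range.subgroupOf N = ⊤ from Subgroup.subgroupOf_eq_top.mp h
  apply Subgroup.eq_top_of_card_eq
  apply Nat.eq_of_factorization_eq Nat.card_pos.ne' Nat.card_pos.ne'
  intro q
  by_cases hq : q.Prime
  swap
  · simp [Nat.factorization_eq_zero_of_not_prime _ hq]
  haveI : Fact q.Prime := ⟨hq⟩
  refine le_antisymm ((Nat.factorization_le_iff_dvd Nat.card_pos.ne' Nat.card_pos.ne').mpr
    (Subgroup.card_subgroup_dvd_card _) q) ?_
  by_cases hqN : q ∣ Nat.card N
  swap
  · simp [Nat.factorization_eq_zero_of_not_dvd hqN]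
  have hqG : q ∈ ps := Nat.mem_primeFactors.mpr
    ⟨hq, hqN.trans (Subgroup.card_subgroup_dvd_card N), Nat.card_pos.ne'⟩
  let P : Sylow q N := default
  have hle : (P : Subgroup N) ≤ φ.range.subgroupOf N := by
    intro x hx
    have : (x : G) ∈ Cfsg.pCore q G :=
      sylow_map_le_pCore N P inferInstance (Subgroup.mem_map_of_mem _ hx)
    exact ⟨Pi.mulSingle ⟨q, hqG⟩ ⟨(x : G), this⟩,
      Subgroup.noncommPiCoprod_mulSingle (hcomm := hcomm) ⟨q, hqG⟩ ⟨(x : G), this⟩⟩
  have h2 := Subgroup.card_dvd_of_le hle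
  rw [P.card_eq_multiplicity] at h2
  exact (hq.pow_dvd_iff_le_factorization Nat.card_pos.ne').mp h2

theorem isNilpotent_fitting [Finite G] : Group.IsNilpotent (Cfsg.fittingSubgroup G) := by
  obtain ⟨R, hR, hle⟩ := exists_nilpotent_ge (G := G)
  have h : Cfsg.fittingSubgroup G ≤ R := sSup_le fun N hN => hle N hN.1 hN.2
  exact Group.nilpotent_of_mulEquiv (Subgroup.subgroupOfEquivOfLe h)

theorem normal_fitting : (Cfsg.fittingSubgroup G).Normal := by
  refine Subgroup.Normal.mk fun n hn g => ?_
  have : Cfsg.fittingSubgroup G ≤ (Cfsg.fittingSubgroup G).comap (MulAut.conj g).toMonoidHom := by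
    refine sSup_le fun N hN x hx => ?_
    exact le_sSup (s := {N : Subgroup G | N.Normal ∧ Group.IsNilpotent N}) hN
      (hN.1.conj_mem x hx g)
  exact this hn

theorem pCore_le_fitting [Finite G] (p : ℕ) [Fact p.Prime] :
    Cfsg.pCore p G ≤ Cfsg.fittingSubgroup G :=
  le_sSup (s := {N : Subgroup G | N.Normal ∧ Group.IsNilpotent N})
    ⟨normal_pCore p, (isPGroup_pCore p).isNilpotent⟩

theorem isSubnormal_of_normalizerCondition [Finite G] (hc : NormalizerCondition G)
    (H : Subgroup G) : H.IsSubnormal := by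
  induction H using WellFoundedGT.induction with
  | ind H ih =>
    by_cases h : H = ⊤
    · exact h ▸ Subgroup.IsSubnormal.top
    · have hlt := hc H (lt_top_iff_ne_top.mpr h)
      exact .step _ _ hlt.le (ih _ hlt) Subgroup.normal_in_normalizer

theorem pow_index_mem_of_isSubnormal [Finite G] {H : Subgroup G} (hH : H.IsSubnormal) (x : G) :
    x ^ H.index ∈ H := by
  induction hH with
  | top => trivial
  | step H L hle _ hN ih =>
    haveI := hN
    have h := Subgroup.pow_index_mem (H.subgroupOf L) ⟨_, ih⟩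
    rw [Subgroup.mem_subgroupOf] at h
    have h' : (x ^ L.index) ^ H.relIndex L ∈ H := h
    rw [← pow_mul] at h'
    rwa [← Subgroup.relIndex_mul_index hle, mul_comm]

end CfsgLib.IndexPowers
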