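import Mathlib

/-!
Weight calculus for modules over a cyclic group acting as a large part of a Singer cycle in
characteristic two, by averaging operators: alternating equivariant pairings vanish.
-/

set_option autoImplicit false
set_option linter.unusedSectionVars false

namespace CfsgLib.Weights

open Finset

variable {L : Type*} [Field L]

/-- `t` has order `(2 ^ n - 1) / d` with `d ∣ n`, in a field with `2 ^ n` elements. -/
structure Sing (t : L) (n d : ℕ) : Prop where
  h2 : ∀ l : L, l + l = 0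
  card : Nat.card L = 2 ^ n
  ord : orderOf t * d = 2 ^ n - 1
  dvd : d ∣ n
  two_le : 2 ≤ n

theorem small_pairs_check : ((List.range 13).all fun n => (List.range n).all fun a =>
    (List.range a).all fun b => (List.range (n + 1)).all fun d => b == 0 || n % d != 0 ||
      (2 ^ n - 1) % d != 0 || (2 ^ a + 2 ^ b - 1) % ((2 ^ n - 1) / d) != 0) = true := by
  decide +kernel

theorem small_pairs : ∀ n < 13, ∀ a < n, ∀ b < a, ∀ d < n + 1, 0 < b → d ∣ n → d ∣ 2 ^ n - 1 →
    ¬ (2 ^ n - 1) / d ∣ 2 ^ a + 2 ^ b - 1 := by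
  intro n hn a ha b hb d hd hb0 h1 h2 h3
  have h := small_pairs_check
  simp only [List.all_eq_true, List.mem_range, Bool.or_eq_true, beq_iff_eq, bne_iff_ne] at h
  have := h n hn a ha b hb d hd
  rw [Nat.mod_eq_zero_of_dvd h1, Nat.mod_eq_zero_of_dvd h2, Nat.mod_eq_zero_of_dvd h3] at this
  omega

theorem le_two_pow_half : ∀ n : ℕ, n ≤ 2 ^ ((n + 1) / 2)
  | 0 => by simp
  | 1 => by simp
  | 2 => by simp
  | n + 3 => by
    rw [show (n + 3 + 1) / 2 = (n + 1 + 1) / 2 + 1 by omega, pow_succ]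
    have := le_two_pow_half (n + 1)
    have h2 : 2 ^ 1 ≤ 2 ^ ((n + 1 + 1) / 2) := Nat.pow_le_pow_right two_pos (by omega)
    omega

theorem gap_bound : ∀ n : ℕ, 13 ≤ n → n * 2 ^ (2 * n / 3 + 1) < 2 ^ n - 1 := by
  intro n hn
  have key : ∀ k : ℕ, 4 ≤ k → 3 * k + 1 ≤ 2 ^ k := by
    intro k hk
    induction k, hk using Nat.le_induction with
    | base => norm_num
    | succ k hk ih => rw [pow_succ]; omega
  have h1 : n + 1 ≤ 2 ^ ((n + 2) / 3 - 1) := by
    rcases Nat.lt_or_ge n 16 with h | h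
    · interval_cases n <;> norm_num
    · have := key ((n + 2) / 3 - 1) (by omega)
      rcases Nat.lt_or_ge n 19 with h' | h'
      · interval_cases n <;> norm_num
      · obtain ⟨k, hk⟩ : ∃ k, (n + 2) / 3 - 1 = k + 1 := ⟨(n + 2) / 3 - 2, by omega⟩
        rw [hk, pow_succ]
        have := key k (by omega)
        omega
  have h2 : 2 ^ ((n + 2) / 3 - 1) * 2 ^ (2 * n / 3 + 1) = 2 ^ n := by
    rw [← pow_add]; congr 1; omega
  have h3 : 2 ^ 2 ≤ 2 ^ (2 * n / 3 + 1) := Nat.pow_le_pow_right two_pos (by omega)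
  have h4 := Nat.mul_le_mul_right (2 ^ (2 * n / 3 + 1)) h1
  rw [h2, Nat.add_mul, one_mul] at h4
  omega

theorem sq_lt : ∀ n : ℕ, 5 ≤ n → n * n < 2 ^ n - 1 := by
  intro n hn
  induction n, hn using Nat.le_induction with
  | base => norm_num
  | succ n hn ih =>
    rw [pow_succ]
    have : 5 * n ≤ n * n := Nat.mul_le_mul_right n hn
    have e : (n + 1) * (n + 1) = n * n + 2 * n + 1 := by ring
    omega

namespace Sing

variable {t : L} {n d : ℕ} (h : Sing t n d)
include h

theorem finite : Finite L := Nat.finite_of_card_ne_zero (by rw [h.card]; positivity)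

theorem charP : CharP L 2 :=
  CharTwo.of_one_ne_zero_of_two_eq_zero one_ne_zero (by rw [← one_add_one_eq_two, h.h2])

theorem d_pos : 0 < d := by
  rcases Nat.eq_zero_or_pos d with hd | hd
  · have := h.two_le
    have h2 := Nat.eq_zero_of_zero_dvd (hd ▸ h.dvd)
    omega
  · exact hd

theorem ord_pos : 0 < orderOf t := by
  have h1 := h.ord
  have : 2 ^ 2 ≤ 2 ^ n := Nat.pow_le_pow_right two_pos h.two_le
  rcases Nat.eq_zero_or_pos (orderOf t) with h0 | h0
  · rw [h0, zero_mul] at h1; omega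
  · exact h0

theorem t_ne_zero : t ≠ 0 := by
  intro e
  have := h.ord_pos
  rw [e, orderOf_zero] at this
  omega

theorem ord_dvd : orderOf t ∣ 2 ^ n - 1 := Dvd.intro d h.ord

theorem ord_odd : ¬ 2 ∣ orderOf t := by
  intro h2
  have h3 := h2.trans h.ord_dvd
  have : 2 ∣ 2 ^ n := dvd_pow_self 2 (by have := h.two_le; omega)
  have := Nat.one_le_two_pow (n := n)
  omega

theorem mul_le : 2 ^ n - 1 ≤ n * orderOf t := by
  rw [← h.ord, mul_comm n]
  exact Nat.mul_le_mul_left _ (Nat.le_of_dvd (by have := h.two_le; omega) h.dvd)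

theorem lt_ord : n < orderOf t := by
  have h1 := h.mul_le
  rcases Nat.lt_or_ge n 5 with h5 | h5
  · have h2 := h.two_le
    have hd := h.d_pos
    have hdn := Nat.le_of_dvd (by omega) h.dvd
    have ho := h.ord
    have h3 := h.dvd
    interval_cases n <;> interval_cases d <;> norm_num at h3 <;> norm_num at ho <;> omega
  · have := sq_lt n h5
    by_contra hle
    have := Nat.mul_le_mul_left n (Nat.le_of_not_lt hle)
    omega

theorem pow_two_pow_n {l : L} : l ^ 2 ^ n = l := by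
  haveI := h.finite
  letI : Fintype L := Fintype.ofFinite L
  rw [← h.card, Nat.card_eq_fintype_card]
  exact FiniteField.pow_card l

theorem pow_two_pow_mod {l : L} (i : ℕ) : l ^ 2 ^ i = l ^ 2 ^ (i % n) := by
  conv_lhs => rw [← Nat.mod_add_div i n]
  generalize i / n = q
  induction q with
  | zero => simp
  | succ q ih => rw [mul_add, mul_one, ← add_assoc, pow_add, pow_mul, h.pow_two_pow_n, ih]

theorem eq_of_sq_eq {a b : L} (hab : a ^ 2 = b ^ 2) : a = b := by
  have key : (a + b) * (a + b) = 0 := by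
    calc (a + b) * (a + b) = a ^ 2 + b ^ 2 + (a * b + a * b) := by ring
      _ = 0 := by rw [h.h2, hab, h.h2, add_zero]
  calc a = a + (b + b) := by rw [h.h2, add_zero]
    _ = (a + b) + b := by rw [add_assoc]
    _ = b := by rw [mul_self_eq_zero.mp key, zero_add]

theorem eq_of_pow_two_pow_eq {a b : L} : ∀ i : ℕ, a ^ 2 ^ i = b ^ 2 ^ i → a = b := by
  intro i
  induction i generalizing a b with
  | zero => intro e; simpa using e
  | succ i ih =>
    intro e
    rw [pow_succ', pow_mul, pow_mul] at e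
    exact h.eq_of_sq_eq (ih e)

/-- `2` has order `n` modulo the order of `t`. -/
theorem ord_not_dvd {g : ℕ} (hg : 0 < g) (hgn : g < n) : ¬ orderOf t ∣ 2 ^ g - 1 := by
  intro hd
  have h1 : orderOf t ∣ 2 ^ Nat.gcd g n - 1 := by
    rw [← Nat.pow_sub_one_gcd_pow_sub_one]
    exact Nat.dvd_gcd hd h.ord_dvd
  obtain ⟨c, hc⟩ := Nat.gcd_dvd_right g n
  set e := Nat.gcd g n
  have he : e ≤ n / 2 := by
    have he0 : e ≤ g := Nat.le_of_dvd hg (Nat.gcd_dvd_left g n)
    rcases Nat.lt_or_ge c 2 with hc2 | hc2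
    · interval_cases c <;> omega
    · have : e * 2 ≤ n := by rw [hc]; exact Nat.mul_le_mul_left e hc2
      omega
  have h2 : 2 ^ e - 1 ≠ 0 := by
    have he0 : e ≠ 0 := Nat.gcd_ne_zero_left hg.ne'
    have : 2 ^ 1 ≤ 2 ^ e := Nat.pow_le_pow_right two_pos (by omega)
    omega
  have h3 := Nat.le_of_dvd (Nat.pos_of_ne_zero h2) h1
  have h4 : 2 ^ e ≤ 2 ^ (n / 2) := Nat.pow_le_pow_right two_pos he
  have h5 := h.mul_le
  have h6 : n * orderOf t + n ≤ n * 2 ^ (n / 2) := by
    rw [← Nat.mul_succ]; exact Nat.mul_le_mul_left n (by omega)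
  have h7 : n * 2 ^ (n / 2) ≤ 2 ^ n := by
    calc n * 2 ^ (n / 2) ≤ 2 ^ ((n + 1) / 2) * 2 ^ (n / 2) :=
          Nat.mul_le_mul_right _ (le_two_pow_half n)
      _ = 2 ^ n := by rw [← pow_add]; congr 1; omega
  have := h.two_le
  omega

theorem pow_inj_iff {i j : ℕ} : t ^ 2 ^ i = t ^ 2 ^ j ↔ i % n = j % n := by
  have key : ∀ i j, i < n → j < n → i ≤ j → t ^ 2 ^ i = t ^ 2 ^ j → i = j := by
    intro i j _ hj hij e
    by_contra hne
    refine h.ord_not_dvd (g := j - i) (by omega) (by omega) ?_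
    refine orderOf_dvd_of_pow_eq_one (h.eq_of_pow_two_pow_eq i ?_)
    rw [one_pow, ← pow_mul, Nat.sub_mul, one_mul, ← pow_add, Nat.sub_add_cancel hij,
      pow_sub₀ _ h.t_ne_zero (Nat.pow_le_pow_right two_pos hij), e, mul_inv_cancel₀]
    exact pow_ne_zero _ h.t_ne_zero
  have hn : 0 < n := by have := h.two_le; omega
  constructor
  · intro e
    rw [h.pow_two_pow_mod i, h.pow_two_pow_mod j] at e
    rcases le_total (i % n) (j % n) with h1 | h1
    · exact key _ _ (Nat.mod_lt _ hn) (Nat.mod_lt _ hn) h1 e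
    · exact (key _ _ (Nat.mod_lt _ hn) (Nat.mod_lt _ hn) h1 e.symm).symm
  · intro e
    rw [h.pow_two_pow_mod i, h.pow_two_pow_mod j, e]

/-- No two distinct exponents `2 ^ a`, `2 ^ b` sum to one. -/
theorem pair_false {a b : ℕ} (hb : 0 < b) (hab : b < a) (han : a < n)
    (e : t ^ 2 ^ a * t ^ 2 ^ b = t) : False := by
  have hN : orderOf t ∣ 2 ^ a + 2 ^ b - 1 := by
    refine orderOf_dvd_of_pow_eq_one ?_
    rw [pow_sub₀ _ h.t_ne_zero ((Nat.one_le_two_pow (n := a)).trans (Nat.le_add_right _ (2 ^ b))), pow_add, e, pow_one,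
      mul_inv_cancel₀ h.t_ne_zero]
  rcases Nat.lt_or_ge n 13 with h13 | h13
  · refine small_pairs n h13 a han b hab d ?_ hb h.dvd (Dvd.intro_left _ h.ord) ?_
    · have := Nat.le_of_dvd (by omega) h.dvd
      omega
    · rw [← h.ord, Nat.mul_div_cancel _ h.d_pos]
      exact hN
  -- large `n`: rotate so that the largest gap is at the top
  have hlarge : ∀ X : ℤ, (orderOf t : ℤ) ∣ X → X ≠ 0 → X.natAbs < 2 ^ (2 * n / 3 + 1) → False := by
    intro X hX hX0 hlt
    have h1 : orderOf t ≤ X.natAbs :=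
      Nat.le_of_dvd (Int.natAbs_pos.mpr hX0) (by simpa using Int.natAbs_dvd_natAbs.mpr hX)
    have h2 := h.mul_le
    have h3 := gap_bound n h13
    have h4 : n * orderOf t ≤ n * 2 ^ (2 * n / 3 + 1) := Nat.mul_le_mul_left n (by omega)
    omega
  have hX0 : (orderOf t : ℤ) ∣ (2 : ℤ) ^ a + 2 ^ b - 1 := by
    have h1 := Int.natCast_dvd_natCast.mpr hN
    have h2 : 1 ≤ 2 ^ a + 2 ^ b := (Nat.one_le_two_pow (n := a)).trans (Nat.le_add_right _ _)
    rw [Nat.cast_sub h2] at h1
    push_cast at h1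
    exact h1
  have hn2 : (orderOf t : ℤ) ∣ (2 : ℤ) ^ n - 1 := by
    have h1 := Int.natCast_dvd_natCast.mpr h.ord_dvd
    rw [Nat.cast_sub Nat.one_le_two_pow] at h1
    push_cast at h1
    exact h1
  have hb2 : (2 : ℤ) ≤ 2 ^ b := by
    calc (2 : ℤ) = 2 ^ 1 := by norm_num
      _ ≤ 2 ^ b := pow_le_pow_right₀ (by norm_num) hb
  by_cases h1 : n / 3 ≤ n - a ∧ a + 1 ≤ 2 * n / 3 + 1
  · refine hlarge _ hX0 ?_ ?_
    · have : (0 : ℤ) < 2 ^ a := by positivity
      omega
    · have h3 : 2 ^ b < 2 ^ a := Nat.pow_lt_pow_right one_lt_two hab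
      have h4 : 2 ^ (a + 1) ≤ 2 ^ (2 * n / 3 + 1) := Nat.pow_le_pow_right two_pos h1.2
      have h5 : ((2 : ℤ) ^ a + 2 ^ b - 1) = ((2 ^ a + 2 ^ b - 1 : ℕ) : ℤ) := by
        rw [Nat.cast_sub ((Nat.one_le_two_pow (n := a)).trans (Nat.le_add_right _ (2 ^ b)))]; push_cast; ring
      rw [h5, Int.natAbs_natCast]
      rw [pow_succ] at h4
      have := Nat.one_le_two_pow (n := a)
      have := Nat.one_le_two_pow (n := b)
      omega
  by_cases h2 : n ≤ 3 * b
  · -- the gap above `0` is large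
    have hX : (orderOf t : ℤ) ∣ 2 ^ (a - b) + 1 - 2 ^ (n - b) := by
      have h3 := dvd_sub (hX0.mul_right (2 ^ (n - b))) (hn2.mul_right (2 ^ (a - b) + 1))
      have e1 : ((2 : ℤ) ^ a + 2 ^ b - 1) * 2 ^ (n - b) - (2 ^ n - 1) * (2 ^ (a - b) + 1) =
          2 ^ (a - b) + 1 - 2 ^ (n - b) := by
        have e2 : (2 : ℤ) ^ n = 2 ^ b * 2 ^ (n - b) := by rw [← pow_add]; congr 1; omega
        have e3 : (2 : ℤ) ^ a = 2 ^ b * 2 ^ (a - b) := by rw [← pow_add]; congr 1; omega
        rw [e2, e3]; ring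
      rwa [e1] at h3
    have h4 : 2 * 2 ^ (a - b) ≤ 2 ^ (n - b) := by
      rw [← pow_succ']; exact Nat.pow_le_pow_right two_pos (by omega)
    have h5 : 2 ^ (n - b) ≤ 2 ^ (2 * n / 3 + 1) := Nat.pow_le_pow_right two_pos (by omega)
    have h6 : 2 ^ 1 ≤ 2 ^ (a - b) := Nat.pow_le_pow_right two_pos (by omega)
    have h7 : ((2 : ℤ) ^ (a - b) + 1 - 2 ^ (n - b)) = -(((2 ^ (n - b) - (2 ^ (a - b) + 1) : ℕ)) : ℤ) := by
      rw [Nat.cast_sub (by omega)]; push_cast; ring
    rw [h7] at hX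
    refine hlarge _ hX ?_ ?_
    · omega
    · rw [Int.natAbs_neg, Int.natAbs_natCast]; omega
  · -- the middle gap is large
    have hX : (orderOf t : ℤ) ∣ 1 + 2 ^ (n - a + b) - 2 ^ (n - a) := by
      have h3 := dvd_sub (hX0.mul_right (2 ^ (n - a))) hn2
      have e1 : ((2 : ℤ) ^ a + 2 ^ b - 1) * 2 ^ (n - a) - (2 ^ n - 1) =
          1 + 2 ^ (n - a + b) - 2 ^ (n - a) := by
        have e2 : (2 : ℤ) ^ n = 2 ^ a * 2 ^ (n - a) := by rw [← pow_add]; congr 1; omega
        rw [e2, pow_add]; ring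
      rwa [e1] at h3
    have h4 : 2 * 2 ^ (n - a) ≤ 2 ^ (n - a + b) := by
      rw [← pow_succ']; exact Nat.pow_le_pow_right two_pos (by omega)
    have h5 : 2 ^ (n - a + b) ≤ 2 ^ (2 * n / 3 + 1) := Nat.pow_le_pow_right two_pos (by omega)
    have h6 : 2 ≤ 2 ^ (n - a) := by
      calc 2 = 2 ^ 1 := rfl
        _ ≤ _ := Nat.pow_le_pow_right two_pos (by omega)
    have h7 : ((1 : ℤ) + 2 ^ (n - a + b) - 2 ^ (n - a)) = (((1 + 2 ^ (n - a + b)) - 2 ^ (n - a) : ℕ) : ℤ) := by
      rw [Nat.cast_sub (by omega)]; push_cast; ring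
    rw [h7] at hX
    refine hlarge _ hX ?_ ?_
    · omega
    · rw [Int.natAbs_natCast]; omega

/-- Two of the exponents `2 ^ i` sum to a third only trivially. -/
theorem eq_of_mul_eq {i j k : ℕ} (e : t ^ 2 ^ i * t ^ 2 ^ j = t ^ 2 ^ k) :
    t ^ 2 ^ i = t ^ 2 ^ j := by
  have hn : 0 < n := by have := h.two_le; omega
  obtain ⟨s, hs⟩ : ∃ s, (k + s) % n = 0 := ⟨n - k % n, by
    rw [show k + (n - k % n) = n * (k / n + 1) by
      have := Nat.mod_lt k hn
      have := Nat.mod_add_div k n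
      rw [Nat.mul_add, mul_one]; omega]
    exact Nat.mul_mod_right n _⟩
  have hsh : ∀ i, (t ^ 2 ^ i) ^ 2 ^ s = t ^ 2 ^ ((i + s) % n) := fun i => by
    rw [← pow_mul, ← pow_add, ← h.pow_two_pow_mod]
  have e' := congrArg (fun x : L => x ^ 2 ^ s) e
  simp only [mul_pow, hsh, hs, pow_zero, pow_one] at e'
  refine h.eq_of_pow_two_pow_eq s ?_
  rw [hsh, hsh]
  set a := (i + s) % n
  set b := (j + s) % n
  have ha : a < n := Nat.mod_lt _ hn
  have hb : b < n := Nat.mod_lt _ hn
  by_contra hne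
  have hab : a ≠ b := fun hab => hne (by rw [hab])
  have hnz : ∀ c, t * t ^ 2 ^ c ≠ t := fun c e0 => by
    have h1 : t ^ 2 ^ c = 1 := mul_left_cancel₀ h.t_ne_zero (by rw [mul_one]; exact e0)
    have h2 := orderOf_dvd_of_pow_eq_one h1
    obtain ⟨m, -, hm⟩ := (Nat.dvd_prime_pow Nat.prime_two).mp h2
    have := h.lt_ord
    rcases Nat.eq_zero_or_pos m with rfl | hm0
    · rw [pow_zero] at hm; omega
    · exact h.ord_odd (hm ▸ dvd_pow_self 2 hm0.ne')
  rcases Nat.eq_zero_or_pos a with ha0 | ha0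
  · rw [ha0, pow_zero, pow_one] at e'; exact hnz b e'
  rcases Nat.eq_zero_or_pos b with hb0 | hb0
  · rw [hb0, pow_zero, pow_one, mul_comm] at e'; exact hnz a e'
  rcases lt_or_gt_of_ne hab with hlt | hlt
  · exact h.pair_false ha0 hlt hb (by rw [mul_comm]; exact e')
  · exact h.pair_false hb0 hlt ha e'

/-- No translate of the orbit of a generator under squaring consists of the `t ^ 2 ^ i`. -/
theorem translate_false {ν μ : L} (hν : orderOf ν = orderOf t) (hμ : orderOf μ = orderOf t)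
    (hall : ∀ i, ∃ c, ν ^ 2 ^ i * μ = t ^ 2 ^ c) : False := by
  have hn : 0 < n := by have := h.two_le; omega
  choose c hc using hall
  have hν0 : ν ≠ 0 := fun e => by
    have := h.ord_pos
    rw [← hν, e, orderOf_zero] at this
    omega
  have hμ0 : μ ≠ 0 := fun e => by
    have := h.ord_pos
    rw [← hμ, e, orderOf_zero] at this
    omega
  let σ : Fin n → Fin n := fun i => ⟨c i % n, Nat.mod_lt _ hn⟩
  have hinj : Function.Injective σ := by
    intro i j e
    have e' : c i % n = c j % n := congrArg Fin.val e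
    have h1 : ν ^ 2 ^ (i : ℕ) = ν ^ 2 ^ (j : ℕ) := mul_right_cancel₀ hμ0 (by
      rw [hc, hc, (h.pow_inj_iff).mpr e'])
    have hs : Sing ν n d := ⟨h.h2, h.card, by rw [hν]; exact h.ord, h.dvd, h.two_le⟩
    have h2 := hs.pow_inj_iff.mp h1
    rw [Nat.mod_eq_of_lt i.2, Nat.mod_eq_of_lt j.2] at h2
    exact Fin.ext h2
  have hbij := (Finite.injective_iff_bijective).mp hinj
  have hprod : ∏ i : Fin n, (ν ^ 2 ^ (i : ℕ) * μ) = ∏ i : Fin n, t ^ 2 ^ (i : ℕ) := by
    rw [← hbij.prod_comp (fun i : Fin n => t ^ 2 ^ (i : ℕ))]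
    refine Finset.prod_congr rfl fun i _ => ?_
    show _ = t ^ 2 ^ (c i % n)
    rw [hc, h.pow_two_pow_mod]
  have hsum : ∑ i : Fin n, 2 ^ (i : ℕ) = 2 ^ n - 1 := by
    rw [Fin.sum_univ_eq_sum_range (fun i => 2 ^ i) n]
    exact Nat.geomSum_eq (le_refl 2) n |>.trans (by norm_num)
  rw [Finset.prod_mul_distrib, Finset.prod_pow_eq_pow_sum, Finset.prod_pow_eq_pow_sum, hsum,
    Finset.prod_const, Finset.card_univ, Fintype.card_fin,
    orderOf_dvd_iff_pow_eq_one.mp (hν ▸ h.ord_dvd), orderOf_dvd_iff_pow_eq_one.mp h.ord_dvd, one_mul] at hprod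
  have := Nat.le_of_dvd hn (orderOf_dvd_of_pow_eq_one hprod)
  rw [hμ] at this
  have := h.lt_ord
  omega

theorem root_iff {a : L} : a ^ orderOf t = 1 ↔ ∃ i < orderOf t, t ^ i = a := by
  haveI : NeZero (orderOf t) := ⟨h.ord_pos.ne'⟩
  constructor
  · exact fun ha => (IsPrimitiveRoot.orderOf t).eq_pow_of_pow_eq_one ha
  · rintro ⟨i, -, rfl⟩
    rw [← pow_mul, mul_comm, pow_mul, pow_orderOf_eq_one, one_pow]

theorem ord_cast : (orderOf t : L) = 1 := by
  haveI := h.charP
  obtain ⟨m, hm⟩ : Odd (orderOf t) := Nat.not_even_iff_odd.mp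
    fun he => h.ord_odd (even_iff_two_dvd.mp he)
  rw [hm]
  push_cast
  rw [CharTwo.two_eq_zero, zero_mul, zero_add]

theorem sum_pow_eq (s : Finset ℕ) (f : ℕ → L) (k : ℕ) :
    (∑ i ∈ s, f i) ^ 2 ^ k = ∑ i ∈ s, f i ^ 2 ^ k := by
  haveI := h.charP
  haveI : Fact (Nat.Prime 2) := ⟨Nat.prime_two⟩
  exact sum_pow_char_pow 2 k s f

theorem add_pow_eq (a b : L) (k : ℕ) : (a + b) ^ 2 ^ k = a ^ 2 ^ k + b ^ 2 ^ k := by
  haveI := h.charP
  haveI : Fact (Nat.Prime 2) := ⟨Nat.prime_two⟩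
  exact add_pow_char_pow a b 2 k

theorem root_pow {a : L} (ha : a ^ orderOf t = 1) (k : ℕ) : (a ^ k) ^ orderOf t = 1 := by
  rw [← pow_mul, mul_comm, pow_mul, ha, one_pow]

theorem root_t (k : ℕ) : (t ^ k) ^ orderOf t = 1 := h.root_pow (pow_orderOf_eq_one t) k

/-- Additive maps of the field are linearized polynomials. -/
theorem expansion (φ : L →+ L) : ∃ a : Fin n → L, ∀ x, φ x = ∑ i, a i * x ^ 2 ^ (i : ℕ) := by
  classical
  haveI := h.charP
  haveI := h.finite
  haveI : Fact (Nat.Prime 2) := ⟨Nat.prime_two⟩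
  letI : Algebra (ZMod 2) L := ZMod.algebra L 2
  haveI : FiniteDimensional (ZMod 2) L := Module.Finite.of_finite
  let mo : Fin n → (L →* L) := fun i => powMonoidHom (2 ^ (i : ℕ))
  have hmo : Function.Injective mo := fun i j e => by
    have := h.pow_inj_iff.mp (DFunLike.congr_fun e t)
    rw [Nat.mod_eq_of_lt i.2, Nat.mod_eq_of_lt j.2] at this
    exact Fin.ext this
  let F : (Fin n → L) →+ (L →+ L) :=
    { toFun := fun a => AddMonoidHom.mk' (fun x => ∑ i, a i * x ^ 2 ^ (i : ℕ)) (fun x y => by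
        simp only [h.add_pow_eq, mul_add, Finset.sum_add_distrib])
      map_zero' := by ext; simp
      map_add' := fun a b => by ext; simp [add_mul, Finset.sum_add_distrib] }
  have hF : Function.Injective F := by
    rw [injective_iff_map_eq_zero]
    intro a ha
    funext i
    refine Fintype.linearIndependent_iff.1 ((linearIndependent_monoidHom L L).comp mo hmo) a ?_ i
    funext x
    have hx : ∑ i, a i * x ^ 2 ^ (i : ℕ) = 0 := DFunLike.congr_fun ha x
    simpa [mo] using hx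
  haveI : Finite (L →+ L) := Finite.of_injective (fun f : L →+ L => (f : L → L)) DFunLike.coe_injective
  have hdim : Module.finrank (ZMod 2) L = n := by
    have := h.card
    rw [Module.natCard_eq_pow_finrank (K := ZMod 2) (V := L), Nat.card_zmod] at this
    exact Nat.pow_right_injective le_rfl this
  have hcard : Nat.card (Fin n → L) = Nat.card (L →+ L) := by
    rw [Nat.card_fun, Nat.card_fin, Nat.card_congr (AddMonoidHom.toZModLinearMapEquiv 2 (M := L) (M₁ := L)).toEquiv,
      Module.natCard_eq_pow_finrank (K := ZMod 2) (V := L →ₗ[ZMod 2] L), Module.finrank_linearMap,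
      hdim, Nat.card_zmod, h.card, ← pow_mul]
  obtain ⟨a, ha⟩ := ((Nat.bijective_iff_injective_and_card F).2 ⟨hF, hcard⟩).2 φ
  exact ⟨a, fun x => (DFunLike.congr_fun ha x).symm⟩

end Sing

section Proj

variable {E : Type*} [AddCommGroup E] {t : L} {n d : ℕ} (h : Sing t n d) (g : E →+ E)
  (hg : ∀ y, (g^[orderOf t]) y = y)

/-- The averaging projection on the eigenvalue `a`. -/
noncomputable def P1 (t : L) (g : E →+ E) (f : E → L) (a : L) (y : E) : L :=
  ∑ i ∈ range (orderOf t), a⁻¹ ^ i * f (g^[i] y)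

theorem P1_add {f : E → L} (hf : ∀ x y, f (x + y) = f x + f y) (a : L) (x y : E) :
    P1 t g f a (x + y) = P1 t g f a x + P1 t g f a y := by
  simp only [P1, iterate_map_add, hf, mul_add, Finset.sum_add_distrib]

theorem P1_sum {ι : Type*} (s : Finset ι) (f : ι → E → L) (c : ι → L) (a : L) (y : E) :
    P1 t g (fun y => ∑ p ∈ s, c p * f p y) a y = ∑ p ∈ s, c p * P1 t g (f p) a y := by
  simp only [P1, Finset.mul_sum]
  rw [Finset.sum_comm]
  exact Finset.sum_congr rfl fun p _ => Finset.sum_congr rfl fun i _ => by ring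

/-- The projection on two arguments. -/
noncomputable def P2 (t : L) (g : E →+ E) (F : E → E → L) (a b : L) (y z : E) : L :=
  P1 t g (fun y' => P1 t g (F y') b z) a y

theorem P2_eq (F : E → E → L) (a b : L) (y z : E) :
    P2 t g F a b y z = P1 t g (fun z' => P1 t g (fun y' => F y' z') a y) b z := by
  simp only [P2, P1, Finset.mul_sum]
  rw [Finset.sum_comm]
  exact Finset.sum_congr rfl fun j _ => Finset.sum_congr rfl fun i _ => by ring

theorem P2_swap {F : E → E → L} (hF : ∀ y z, F y z = F z y) (a b : L) (y z : E) :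
    P2 t g F a b y z = P2 t g F b a z y := by
  rw [P2_eq g F a b y z]
  show P1 t g _ b z = P1 t g _ b z
  congr 1
  funext z'
  congr 1
  funext y'
  exact hF y' z'

include h hg

theorem P1_eigen (f : E → L) {a : L} (ha : a ^ orderOf t = 1) (y : E) :
    P1 t g f a (g y) = a * P1 t g f a y := by
  have hN := h.ord_pos
  have ha0 : a ≠ 0 := fun e => by rw [e, zero_pow hN.ne'] at ha; exact zero_ne_one ha
  obtain ⟨m, hm⟩ : ∃ m, orderOf t = m + 1 := ⟨orderOf t - 1, by omega⟩
  have e1 : P1 t g f a y = f y + ∑ i ∈ range m, a⁻¹ ^ (i + 1) * f (g^[i + 1] y) := by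
    rw [P1, hm, Finset.sum_range_succ', pow_zero, one_mul, Function.iterate_zero_apply, add_comm]
  have e2 : P1 t g f a (g y) = (∑ i ∈ range m, a⁻¹ ^ i * f (g^[i + 1] y)) + a⁻¹ ^ m * f y := by
    rw [P1, hm, Finset.sum_range_succ]
    simp only [← Function.iterate_succ_apply]
    rw [show g^[m + 1] y = y by rw [← hm]; exact hg y]
  rw [e1, e2, mul_add, Finset.mul_sum, add_comm (a * f y)]
  congr 1
  · refine Finset.sum_congr rfl fun i _ => ?_
    rw [pow_succ']; field_simp
  · congr 1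
    rw [inv_pow]
    rw [hm, pow_succ] at ha
    exact inv_eq_of_mul_eq_one_left (by rw [mul_comm]; exact ha)

open Classical in
theorem P1_of_eigen {f : E → L} {μ : L} (hμ : μ ^ orderOf t = 1) (hf : ∀ y, f (g y) = μ * f y)
    {a : L} (ha : a ^ orderOf t = 1) (y : E) :
    P1 t g f a y = (a⁻¹ * μ) ^ orderOf t * (if a = μ then 1 else 0) * f y := by
  classical
  have hN := h.ord_pos
  have ha0 : a ≠ 0 := fun e => by rw [e, zero_pow hN.ne'] at ha; exact zero_ne_one ha
  have hit : ∀ i, f (g^[i] y) = μ ^ i * f y := by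
    intro i
    induction i with
    | zero => simp
    | succ i ih => rw [Function.iterate_succ_apply', hf, ih, pow_succ']; ring
  have e1 : P1 t g f a y = (∑ i ∈ range (orderOf t), (a⁻¹ * μ) ^ i) * f y := by
    rw [P1, Finset.sum_mul]
    exact Finset.sum_congr rfl fun i _ => by rw [hit, mul_pow, mul_assoc]
  have hx : (a⁻¹ * μ) ^ orderOf t = 1 := by rw [mul_pow, inv_pow, ha, hμ, inv_one, one_mul]
  rw [e1, hx, one_mul]
  congr 1
  split_ifs with hab
  · subst hab
    simp only [inv_mul_cancel₀ ha0, one_pow, Finset.sum_const, Finset.card_range, nsmul_eq_mul, mul_one]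
    exact h.ord_cast
  · have hne : a⁻¹ * μ - 1 ≠ 0 := sub_ne_zero.mpr fun e => hab (by
      calc a = a * (a⁻¹ * μ) := by rw [e, mul_one]
        _ = μ := by rw [← mul_assoc, mul_inv_cancel₀ ha0, one_mul])
    have := geom_sum_mul (a⁻¹ * μ) (orderOf t)
    rw [hx, sub_self, mul_eq_zero] at this
    exact this.resolve_right hne

theorem P1_of_eigen_eq {f : E → L} {μ : L} (hμ : μ ^ orderOf t = 1) (hf : ∀ y, f (g y) = μ * f y)
    (y : E) : P1 t g f μ y = f y := by
  have hμ0 : μ ≠ 0 := fun e => by rw [e, zero_pow h.ord_pos.ne'] at hμ; exact zero_ne_one hμ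
  rw [P1_of_eigen h g hg hμ hf hμ, if_pos rfl, inv_mul_cancel₀ hμ0, one_pow, one_mul, one_mul]

theorem P1_of_eigen_ne {f : E → L} {μ : L} (hμ : μ ^ orderOf t = 1) (hf : ∀ y, f (g y) = μ * f y)
    {a : L} (ha : a ^ orderOf t = 1) (hne : a ≠ μ) (y : E) : P1 t g f a y = 0 := by
  rw [P1_of_eigen h g hg hμ hf ha, if_neg hne, mul_zero, zero_mul]

/-- Completeness of the projections. -/
theorem sum_P1 (f : E → L) (y : E) :
    ∑ j ∈ range (orderOf t), P1 t g f (t ^ j) y = f y := by
  simp only [P1]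
  rw [Finset.sum_comm]
  have key : ∀ i ∈ range (orderOf t),
      (∑ j ∈ range (orderOf t), (t ^ j)⁻¹ ^ i * f (g^[i] y)) = if i = 0 then f y else 0 := by
    intro i hi
    rw [← Finset.sum_mul]
    split_ifs with hi0
    · subst hi0
      simp only [pow_zero, Finset.sum_const, Finset.card_range, nsmul_eq_mul, mul_one,
        Function.iterate_zero_apply]
      rw [h.ord_cast, one_mul]
    · have e : ∀ j, (t ^ j)⁻¹ ^ i = (t⁻¹ ^ i) ^ j := fun j => by
        rw [← inv_pow, ← pow_mul, ← pow_mul, mul_comm]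
      simp only [e]
      have hne : t⁻¹ ^ i - 1 ≠ 0 := sub_ne_zero.mpr fun e1 => by
        rw [inv_pow, inv_eq_one] at e1
        have := Nat.le_of_dvd (Nat.pos_of_ne_zero hi0) (orderOf_dvd_of_pow_eq_one e1)
        rw [Finset.mem_range] at hi
        omega
      have := geom_sum_mul (t⁻¹ ^ i) (orderOf t)
      rw [← pow_mul, mul_comm i, pow_mul,
        show t⁻¹ ^ orderOf t = 1 by rw [inv_pow, pow_orderOf_eq_one, inv_one], one_pow, sub_self,
        mul_eq_zero] at this
      rw [this.resolve_right hne, zero_mul]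
  rw [Finset.sum_congr rfl key, Finset.sum_ite_eq' (range (orderOf t)) 0 (fun _ => f y),
    if_pos (Finset.mem_range.mpr h.ord_pos)]

theorem sum_P2 (F : E → E → L) (y z : E) :
    ∑ i ∈ range (orderOf t), ∑ j ∈ range (orderOf t), P2 t g F (t ^ i) (t ^ j) y z = F y z := by
  simp only [P2]
  rw [Finset.sum_comm]
  rw [Finset.sum_congr rfl fun j _ => sum_P1 h g hg (fun y' => P1 t g (F y') (t ^ j) z) y]
  exact sum_P1 h g hg (F y) z

theorem P2_eigen_left (F : E → E → L) {a : L} (ha : a ^ orderOf t = 1) (b : L) (y z : E) :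
    P2 t g F a b (g y) z = a * P2 t g F a b y z := P1_eigen h g hg _ ha y

theorem P2_eigen_right (F : E → E → L) {a b : L} (hb : b ^ orderOf t = 1) (y z : E) :
    P2 t g F a b y (g z) = b * P2 t g F a b y z := by
  rw [P2_eq, P2_eq, P1_eigen h g hg _ hb]

theorem P2_equivariant {F : E → E → L} {κ : L} (hF : ∀ y z, F (g y) (g z) = κ * F y z) {a b : L}
    (ha : a ^ orderOf t = 1) (hb : b ^ orderOf t = 1) {y z : E} (hne : P2 t g F a b y z ≠ 0) :
    a * b = κ := by
  have e1 : P2 t g F a b (g y) (g z) = a * b * P2 t g F a b y z := by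
    rw [P2_eigen_left h g hg F ha, P2_eigen_right h g hg F hb]; ring
  have e2 : P2 t g F a b (g y) (g z) = κ * P2 t g F a b y z := by
    simp only [P2, P1, Finset.mul_sum]
    refine Finset.sum_congr rfl fun i _ => Finset.sum_congr rfl fun j _ => ?_
    rw [← Function.iterate_succ_apply, ← Function.iterate_succ_apply, Function.iterate_succ_apply',
      Function.iterate_succ_apply', hF]
    ring
  exact mul_right_cancel₀ hne (e1.symm.trans e2)

theorem P2_pow (F : E → E → L) (a b : L) (k : ℕ) (y z : E) :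
    P2 t g (fun y z => F y z ^ 2 ^ k) (a ^ 2 ^ k) (b ^ 2 ^ k) y z = P2 t g F a b y z ^ 2 ^ k := by
  simp only [P2, P1, h.sum_pow_eq, mul_pow, inv_pow, ← pow_mul, mul_comm (2 ^ k)]

/-- On the diagonal a symmetric biadditive map only sees its diagonal components. -/
theorem sum_diag {T : E → E → L} (hT : ∀ y z, T y z = T z y) (y : E) :
    ∑ i ∈ range (orderOf t), P2 t g T (t ^ i) (t ^ i) y y = T y y := by
  classical
  rw [← sum_P2 h g hg T y y, ← Finset.sum_product',
    ← Finset.sum_filter_add_sum_filter_not (range (orderOf t) ×ˢ range (orderOf t)) (fun p => p.1 = p.2)]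
  have hoff : ∑ p ∈ (range (orderOf t) ×ˢ range (orderOf t)).filter (fun p => ¬ p.1 = p.2),
      P2 t g T (t ^ p.1) (t ^ p.2) y y = 0 := by
    refine Finset.sum_involution (fun p _ => (p.2, p.1)) (fun p hp => ?_) (fun p hp _ => ?_)
      (fun p hp => ?_) (fun p hp => rfl)
    · rw [P2_swap g hT (t ^ p.2), h.h2]
    · intro e
      exact (Finset.mem_filter.mp hp).2 (congrArg Prod.fst e).symm
    · simp only [Finset.mem_filter, Finset.mem_product] at hp ⊢
      exact ⟨⟨hp.1.2, hp.1.1⟩, fun e => hp.2 e.symm⟩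
  rw [hoff, add_zero]
  refine (Finset.sum_bij (fun p _ => p.1) (fun p hp => ?_) (fun p hp q hq e => ?_) (fun i hi => ?_)
    (fun p hp => ?_)).symm
  · exact (Finset.mem_product.mp (Finset.mem_filter.mp hp).1).1
  · exact Prod.ext e (by rw [← (Finset.mem_filter.mp hp).2, ← (Finset.mem_filter.mp hq).2, e])
  · exact ⟨(i, i), Finset.mem_filter.mpr ⟨Finset.mem_product.mpr ⟨hi, hi⟩, rfl⟩, rfl⟩
  · rw [← (Finset.mem_filter.mp hp).2]

/-- The projection of a diagonal is the diagonal component at the square root. -/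
theorem P1_diag {T : E → E → L} (hT : ∀ y z, T y z = T z y) {ρ : L} (hρ : ρ ^ orderOf t = 1) (y : E) :
    P1 t g (fun y => T y y) (ρ ^ 2) y = P2 t g T ρ ρ y y := by
  obtain ⟨i0, hi0, rfl⟩ := h.root_iff.mp hρ
  have e : (fun y => T y y) = fun y =>
      ∑ i ∈ range (orderOf t), (1 : L) * P2 t g T (t ^ i) (t ^ i) y y := by
    funext y
    simp only [one_mul, sum_diag h g hg hT]
  rw [e, P1_sum]
  simp only [one_mul]
  have heig : ∀ i, ∀ y, P2 t g T (t ^ i) (t ^ i) (g y) (g y) = (t ^ i) ^ 2 * P2 t g T (t ^ i) (t ^ i) y y :=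
    fun i y => by
      rw [P2_eigen_left h g hg T (h.root_t i), P2_eigen_right h g hg T (h.root_t i)]; ring
  rw [Finset.sum_eq_single_of_mem i0 (Finset.mem_range.mpr hi0)]
  · exact P1_of_eigen_eq h g hg (h.root_pow hρ 2) (heig i0) y
  · intro i hi hne
    refine P1_of_eigen_ne h g hg (h.root_pow (h.root_t i) 2) (heig i) (h.root_pow hρ 2) (fun e => hne ?_) y
    exact pow_injOn_Iio_orderOf (Finset.mem_range.mp hi) hi0 (h.eq_of_sq_eq e).symm

/-- An alternating biadditive map with only diagonal components at simple eigenvalues is zero. -/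
theorem alt_zero {b : E → E → L} (hbl : ∀ x y z, b (x + y) z = b x z + b y z)
    (hbr : ∀ x y z, b x (y + z) = b x y + b x z) (halt : ∀ y, b y y = 0)
    (hdiag : ∀ a c : L, a ^ orderOf t = 1 → c ^ orderOf t = 1 →
      ∀ y z, P2 t g b a c y z ≠ 0 → a = c)
    (hone : ∀ a : L, a ^ orderOf t = 1 → (∃ y z, P2 t g b a a y z ≠ 0) → ∃ φ : E → L,
      ∀ f : E → L, (∀ x y, f (x + y) = f x + f y) → (∀ y, f (g y) = a * f y) → ∃ κ, ∀ y, f y = κ * φ y) :
    ∀ y z, b y z = 0 := by
  have hsym : ∀ y z, b y z = b z y := fun y z => by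
    have := halt (y + z)
    rw [hbl, hbr, hbr, halt, halt, zero_add, add_zero] at this
    calc b y z = b y z + (b y z + b z y) := by rw [this, add_zero]
      _ = b z y := by rw [← add_assoc, h.h2, zero_add]
  have hzero : ∀ a : L, a ^ orderOf t = 1 → ∀ y z, P2 t g b a a y z = 0 := by
    intro a ha
    by_contra hne
    push Not at hne
    obtain ⟨φ, hφ⟩ := hone a ha hne
    obtain ⟨y0, z0, h0⟩ := hne
    have haddl : ∀ z x y, P2 t g b a a (x + y) z = P2 t g b a a x z + P2 t g b a a y z := fun z x y => by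
      refine P1_add g (fun x y => ?_) a x y
      simp only [P1, hbl, mul_add, Finset.sum_add_distrib]
    have haddr : ∀ y x z, P2 t g b a a y (x + z) = P2 t g b a a y x + P2 t g b a a y z := fun y x z => by
      simp only [P2_eq]
      refine P1_add g (fun x z => ?_) a x z
      simp only [P1, hbr, mul_add, Finset.sum_add_distrib]
    obtain ⟨κ, hκ⟩ : ∃ κ, ∀ y, P2 t g b a a y z0 = κ * φ y :=
      hφ _ (haddl z0) fun y => P2_eigen_left h g hg b ha a y z0
    obtain ⟨κ', hκ'⟩ : ∃ κ, ∀ z, P2 t g b a a y0 z = κ * φ z :=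
      hφ _ (haddr y0) fun z => P2_eigen_right h g hg b ha y0 z
    have hy0 : φ y0 ≠ 0 := fun e => h0 (by rw [hκ, e, mul_zero])
    -- the component is a multiple of `φ y * φ z`
    have hprod : ∀ y z, P2 t g b a a y z = κ' / φ y0 * φ z * φ y := by
      intro y z
      obtain ⟨K, hK⟩ : ∃ κ, ∀ y, P2 t g b a a y z = κ * φ y :=
        hφ _ (haddl z) fun y => P2_eigen_left h g hg b ha a y z
      have hK0 : κ' * φ z = K * φ y0 := (hκ' z).symm.trans (hK y0)
      rw [hK y]
      field_simp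
      linear_combination (-φ y) * hK0
    have hd : P1 t g (fun y => b y y) (a ^ 2) y0 = P2 t g b a a y0 y0 := P1_diag h g hg hsym ha y0
    simp only [halt] at hd
    rw [show P1 t g (fun _ => (0 : L)) (a ^ 2) y0 = 0 by simp [P1], hprod] at hd
    rcases mul_eq_zero.mp hd.symm with hd1 | hd1
    · rcases mul_eq_zero.mp hd1 with hd2 | hd2
      · exact h0 (by rw [hprod, hd2, zero_mul, zero_mul])
      · exact hy0 hd2
    · exact hy0 hd1
  intro y z
  rw [← sum_P2 h g hg b y z]
  refine Finset.sum_eq_zero fun i hi => Finset.sum_eq_zero fun j hj => ?_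
  by_contra hne
  have e := hdiag _ _ (h.root_t i) (h.root_t j) y z hne
  rw [← e] at hne
  exact hne (hzero _ (h.root_t i) y z)

omit hg in
/-- Additive functions on a space with separating coordinates. -/
theorem span_additive {r : ℕ} (α : Fin r → (E →+ L)) (hsep : ∀ y, (∀ k, α k y = 0) → y = 0)
    (f : E → L) (hf : ∀ x y, f (x + y) = f x + f y) :
    ∃ c : Fin r → Fin n → L, ∀ y, f y = ∑ p : Fin r × Fin n, c p.1 p.2 * α p.1 y ^ 2 ^ (p.2 : ℕ) := by
  classical
  haveI := h.charP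
  haveI : Fact (Nat.Prime 2) := ⟨Nat.prime_two⟩
  have hE2 : ∀ y : E, 2 • y = 0 := fun y => hsep _ fun k => by rw [map_nsmul, two_nsmul, h.h2]
  letI : Module (ZMod 2) E := AddCommGroup.zmodModule hE2
  letI : Algebra (ZMod 2) L := ZMod.algebra L 2
  let ι0 : E →+ (Fin r → L) := AddMonoidHom.mk' (fun y k => α k y) fun x y => funext fun k => map_add _ _ _
  let ι : E →ₗ[ZMod 2] (Fin r → L) := ι0.toZModLinearMap 2
  have hι : LinearMap.ker ι = ⊥ := LinearMap.ker_eq_bot'.mpr fun y hy => hsep y fun k => congrFun hy k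
  obtain ⟨π, hπ⟩ := ι.exists_leftInverse_of_injective hι
  let f0 : E →+ L := AddMonoidHom.mk' f hf
  choose c hc using fun k : Fin r =>
    h.expansion ((f0.comp π.toAddMonoidHom).comp (AddMonoidHom.single (fun _ : Fin r => L) k))
  refine ⟨c, fun y => ?_⟩
  rw [Fintype.sum_prod_type]
  have e : f y = f0 (π (ι y)) := by
    show f y = f (π (ι y))
    rw [show π (ι y) = y from LinearMap.congr_fun hπ y]
  rw [e, show ι y = ∑ k, Pi.single k (α k y) from (Finset.univ_sum_single (ι y)).symm, map_sum, map_sum]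
  exact Finset.sum_congr rfl fun k _ => hc k (α k y)

/-- Multiplicity one: additive eigenfunctions at an eigenvalue occurring once in the span. -/
theorem one_dim {ι : Type*} [Fintype ι] (φ : ι → E → L) (μ : ι → L) (hμ : ∀ p, μ p ^ orderOf t = 1)
    (hφ : ∀ p y, φ p (g y) = μ p * φ p y)
    (hspan : ∀ f : E → L, (∀ x y, f (x + y) = f x + f y) → ∃ c : ι → L, ∀ y, f y = ∑ p, c p * φ p y)
    {a : L} (ha : a ^ orderOf t = 1) {f : E → L} (hf : ∀ x y, f (x + y) = f x + f y)
    (hfa : ∀ y, f (g y) = a * f y) :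
    (∀ p q, μ p = a → μ q = a → p = q) →
      (∀ y, f y = 0) ∨ ∃ p, μ p = a ∧ ∃ κ, ∀ y, f y = κ * φ p y := by
  classical
  intro huniq
  obtain ⟨c, hc⟩ := hspan f hf
  have e : ∀ y, f y = ∑ p, c p * (if μ p = a then φ p y else 0) := by
    intro y
    rw [← P1_of_eigen_eq h g hg ha hfa y]
    conv_lhs => rw [show f = fun y => ∑ p, c p * φ p y from funext hc]
    rw [P1_sum]
    refine Finset.sum_congr rfl fun p _ => ?_
    congr 1
    split_ifs with hp
    · rw [← hp, P1_of_eigen_eq h g hg (hμ p) (hφ p)]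
    · rw [P1_of_eigen_ne h g hg (hμ p) (hφ p) ha (Ne.symm hp)]
  by_cases hex : ∃ p, μ p = a
  · obtain ⟨p, hp⟩ := hex
    right
    refine ⟨p, hp, c p, fun y => ?_⟩
    rw [e y, Finset.sum_eq_single_of_mem p (Finset.mem_univ p), if_pos hp]
    intro q _ hq
    rw [if_neg fun hqa => hq (huniq q p hqa hp), mul_zero]
  · left
    intro y
    rw [e y]
    exact Finset.sum_eq_zero fun p _ => by rw [if_neg fun hp => hex ⟨p, hp⟩, mul_zero]

end Proj

/-- An equivariant alternating biadditive pairing on the field vanishes. -/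
theorem pairing_zero {t : L} {n d : ℕ} (h : Sing t n d) {b : L → L → L}
    (hbl : ∀ x y z, b (x + y) z = b x z + b y z) (hbr : ∀ x y z, b x (y + z) = b x y + b x z)
    (halt : ∀ y, b y y = 0) (heq : ∀ y z, b (t * y) (t * z) = t * b y z) : ∀ y z, b y z = 0 := by
  classical
  let g : L →+ L := AddMonoidHom.mulLeft t
  have hit : ∀ (i : ℕ) (y : L), g^[i] y = t ^ i * y := by
    intro i
    induction i with
    | zero => intro y; simp
    | succ i ih => intro y; rw [Function.iterate_succ_apply', ih, pow_succ']; simp [g, mul_assoc]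
  have hg : ∀ y, g^[orderOf t] y = y := fun y => by rw [hit, pow_orderOf_eq_one, one_mul]
  have hone : ∀ {a : L}, a ^ orderOf t = 1 → ∀ {f : L → L}, (∀ x y, f (x + y) = f x + f y) →
      (∀ y, f (g y) = a * f y) →
      (∀ y, f y = 0) ∨ ∃ i : Fin n, t ^ 2 ^ (i : ℕ) = a ∧ ∃ κ, ∀ y, f y = κ * y ^ 2 ^ (i : ℕ) := by
    intro a ha f hf hfa
    refine one_dim h g hg (fun (i : Fin n) (y : L) => y ^ 2 ^ (i : ℕ)) (fun i => t ^ 2 ^ (i : ℕ))
      (fun i => h.root_t _) (fun i y => mul_pow t y _)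
      (fun f hf => (h.expansion (AddMonoidHom.mk' f hf)).imp fun c hc => hc) ha hf hfa ?_
    intro p q hp hq
    have := h.pow_inj_iff.mp (hp.trans hq.symm)
    rw [Nat.mod_eq_of_lt p.2, Nat.mod_eq_of_lt q.2] at this
    exact Fin.ext this
  refine alt_zero h g hg hbl hbr halt (fun a c ha hc y z hne => ?_) fun a ha hex => ?_
  · have haddl : ∀ x y, P2 t g b a c (x + y) z = P2 t g b a c x z + P2 t g b a c y z := fun x y => by
      refine P1_add g (fun x y => ?_) a x y
      simp only [P1, hbl, mul_add, Finset.sum_add_distrib]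
    have haddr : ∀ x z, P2 t g b a c y (x + z) = P2 t g b a c y x + P2 t g b a c y z := fun x z => by
      simp only [P2_eq]
      refine P1_add g (fun x z => ?_) c x z
      simp only [P1, hbr, mul_add, Finset.sum_add_distrib]
    obtain ⟨i, hi, -⟩ := (hone ha haddl fun y => P2_eigen_left h g hg b ha c y z).resolve_left
      fun h0 => hne (h0 y)
    obtain ⟨j, hj, -⟩ := (hone hc haddr fun z => P2_eigen_right h g hg b hc y z).resolve_left
      fun h0 => hne (h0 z)
    have e := P2_equivariant h g hg (κ := t) heq ha hc hne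
    rw [← hi, ← hj] at e ⊢
    exact h.eq_of_mul_eq (k := 0) (by rw [e, pow_zero, pow_one])
  · obtain ⟨y, z, hne⟩ := hex
    have haddl : ∀ x y, P2 t g b a a (x + y) z = P2 t g b a a x z + P2 t g b a a y z := fun x y => by
      refine P1_add g (fun x y => ?_) a x y
      simp only [P1, hbl, mul_add, Finset.sum_add_distrib]
    obtain ⟨i, hi, -⟩ := (hone ha haddl fun y => P2_eigen_left h g hg b ha a y z).resolve_left
      fun h0 => hne (h0 y)
    refine ⟨fun y => y ^ 2 ^ (i : ℕ), fun f hf hfa => ?_⟩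
    rcases hone ha hf hfa with h0 | ⟨j, hj, κ, hκ⟩
    · exact ⟨0, fun y => by rw [h0, zero_mul]⟩
    · refine ⟨κ, fun y => ?_⟩
      have := h.pow_inj_iff.mp (hi.trans hj.symm)
      rw [Nat.mod_eq_of_lt i.2, Nat.mod_eq_of_lt j.2] at this
      rw [hκ y, Fin.ext this]

/-- **Exponent four.** The pairing `b` of a quadratic map `B y y` with the displacement `α`
satisfying `b y z = ε_z (B y y) + ε_y (b y z)` vanishes. -/
theorem exponent_four {E : Type*} [AddCommGroup E] [Finite E] {t : L} {n d : ℕ} (h : Sing t n d)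
    (g : E →+ E) (hg : ∀ y, (g^[orderOf t]) y = y) (α : Fin n → (E →+ L))
    (hsep : ∀ y, (∀ k, α k y = 0) → y = 0)
    (hα : ∀ k y, α k (g y) = t * (t ^ 2 ^ (k : ℕ))⁻¹ * α k y)
    (hfree : ∀ j, ¬ orderOf t ∣ j → ∀ y, g^[j] y = y → y = 0)
    {b B : E → E → L} (hbl : ∀ x y z, b (x + y) z = b x z + b y z)
    (hbr : ∀ x y z, b x (y + z) = b x y + b x z) (halt : ∀ y, b y y = 0)
    (hbg : ∀ y z, b (g y) (g z) = t * b y z)
    (hBl : ∀ x y z, B (x + y) z = B x z + B y z) (hBr : ∀ x y z, B x (y + z) = B x y + B x z)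
    (hBg : ∀ y z, B (g y) (g z) = t * B y z)
    (hkey : ∀ y z, b y z = (∑ k, α k z * B y y ^ 2 ^ (k : ℕ)) + ∑ k, α k y * b y z ^ 2 ^ (k : ℕ)) :
    ∀ y z, b y z = 0 := by
  classical
  have hn : 0 < n := by have := h.two_le; omega
  have hsym : ∀ y z, b y z = b z y := fun y z => by
    have := halt (y + z)
    rw [hbl, hbr, hbr, halt, halt, zero_add, add_zero] at this
    calc b y z = b y z + (b y z + b z y) := by rw [this, add_zero]
      _ = b z y := by rw [← add_assoc, h.h2, zero_add]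
  have haddl : ∀ a c z x y, P2 t g b a c (x + y) z = P2 t g b a c x z + P2 t g b a c y z := fun a c z x y => by
    refine P1_add g (fun x y => ?_) a x y
    simp only [P1, hbl, mul_add, Finset.sum_add_distrib]
  -- the trilinear form
  let T : E → E → E → L := fun z y y' =>
    (∑ k, α k z * B y y' ^ 2 ^ (k : ℕ)) + ∑ k, α k y * b y' z ^ 2 ^ (k : ℕ)
  have hTl : ∀ z x y y', T z (x + y) y' = T z x y' + T z y y' := fun z x y y' => by
    simp only [T, hBl, h.add_pow_eq, map_add, mul_add, add_mul, Finset.sum_add_distrib]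
    ring
  have hTr : ∀ z y x y', T z y (x + y') = T z y x + T z y y' := fun z y x y' => by
    simp only [T, hBr, hbl, h.add_pow_eq, mul_add, Finset.sum_add_distrib]
    ring
  have hTd : ∀ z y, T z y y = b y z := fun z y => (hkey y z).symm
  have hTs : ∀ z y y', T z y y' = T z y' y := fun z y y' => by
    have := hTd z (y + y')
    rw [hTl, hTr, hTr, hTd, hTd, hbl] at this
    have h0 : T z y y' + T z y' y = 0 := by linear_combination this
    calc T z y y' = T z y y' + (T z y y' + T z y' y) := by rw [h0, add_zero]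
      _ = T z y' y := by rw [← add_assoc, h.h2, zero_add]
  -- one step
  have step : ∀ ρ μ : L, ρ ^ orderOf t = 1 → μ ^ orderOf t = 1 → (∃ y z, P2 t g b (ρ ^ 2) μ y z ≠ 0) →
      (∃ c, ρ ^ 2 = t ^ 2 ^ c) ∨ ∃ k : Fin n, ∃ y z, P2 t g (fun y z => b y z ^ 2 ^ (k : ℕ)) ρ μ y z ≠ 0 := by
    rintro ρ μ hρ hμ ⟨y, z, hne⟩
    by_contra hnot
    push Not at hnot
    obtain ⟨hnot1, hnot2⟩ := hnot
    apply hne
    have hz : ∀ z', P1 t g (fun y' => b y' z') (ρ ^ 2) y = P2 t g (T z') ρ ρ y y := fun z' => by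
      rw [← P1_diag h g hg (hTs z') hρ y]
      congr 1
      funext y'
      exact (hTd z' y').symm
    have hsplit : ∀ z', P2 t g (T z') ρ ρ y y =
        (∑ k, α k z' * P2 t g (fun u v => B u v ^ 2 ^ (k : ℕ)) ρ ρ y y) +
          ∑ k, P1 t g (α k) ρ y * P1 t g (fun v => b v z' ^ 2 ^ (k : ℕ)) ρ y := fun z' => by
      simp only [P2, P1, T, mul_add, Finset.sum_add_distrib, Finset.mul_sum, Finset.sum_mul]
      congr 1
      · rw [Finset.sum_comm (s := (Finset.univ : Finset (Fin n)))]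
        refine Finset.sum_congr rfl fun i _ => ?_
        rw [Finset.sum_comm]
        exact Finset.sum_congr rfl fun k _ => Finset.sum_congr rfl fun j _ => by ring
      · rw [Finset.sum_comm (s := (Finset.univ : Finset (Fin n)))]
        rw [Finset.sum_comm]
        refine Finset.sum_congr rfl fun j _ => ?_
        rw [Finset.sum_comm]
        exact Finset.sum_congr rfl fun k _ => Finset.sum_congr rfl fun i _ => by ring
    rw [P2_eq]
    simp only [hz, hsplit]
    have hB0 : ∀ k : Fin n, P2 t g (fun u v => B u v ^ 2 ^ (k : ℕ)) ρ ρ y y = 0 := fun k => by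
      by_contra hk
      refine hnot1 k ?_
      rw [pow_two]
      exact P2_equivariant h g hg (κ := t ^ 2 ^ (k : ℕ)) (fun u v => by rw [hBg, mul_pow]) hρ hρ hk
    simp only [hB0, mul_zero, Finset.sum_const_zero, zero_add]
    rw [P1_sum]
    refine Finset.sum_eq_zero fun k _ => ?_
    have h0 := hnot2 k y z
    rw [P2_eq] at h0
    rw [h0, mul_zero]
  -- nonzero eigenfunctions have eigenvalues of full order
  have hord : ∀ {a : L}, a ^ orderOf t = 1 → ∀ {f : E → L}, (∀ x y, f (x + y) = f x + f y) →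
      (∀ y, f (g y) = a * f y) → ∀ {y}, f y ≠ 0 → orderOf a = orderOf t := by
    intro a ha f hf hfa y hy
    refine Nat.dvd_antisymm (orderOf_dvd_of_pow_eq_one ha) ?_
    by_contra hd
    let D : E →+ E := AddMonoidHom.mk' (fun x => g^[orderOf a] x - x) (fun u v => by
      rw [iterate_map_add]; abel)
    have hD : Function.Injective D := (injective_iff_map_eq_zero D).mpr fun x hx =>
      hfree _ hd x (sub_eq_zero.mp hx)
    obtain ⟨x, hx⟩ := Finite.surjective_of_injective hD y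
    apply hy
    have hit : ∀ i, f (g^[i] x) = a ^ i * f x := by
      intro i
      induction i with
      | zero => simp
      | succ i ih => rw [Function.iterate_succ_apply', hfa, ih, pow_succ']; ring
    let f0 : E →+ L := AddMonoidHom.mk' f hf
    rw [← hx]
    show f0 (g^[orderOf a] x - x) = 0
    rw [map_sub]
    show f (g^[orderOf a] x) - f x = 0
    rw [hit, pow_orderOf_eq_one, one_mul, sub_self]
  have hordl : ∀ {a c : L}, a ^ orderOf t = 1 → ∀ {y z}, P2 t g b a c y z ≠ 0 → orderOf a = orderOf t :=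
    fun {a c} ha {y z} hne => hord ha (haddl a c z) (fun y => P2_eigen_left h g hg b ha c y z) hne
  have hswap : ∀ {a c : L} {y z}, P2 t g b a c y z ≠ 0 → P2 t g b c a z y ≠ 0 := fun {a c y z} hne => by
    rwa [← P2_swap g hsym]
  -- all components lie at the eigenvalues `t ^ 2 ^ c`
  have hweight : ∀ a c : L, a ^ orderOf t = 1 → c ^ orderOf t = 1 →
      ∀ y z, P2 t g b a c y z ≠ 0 → ∃ e, a = t ^ 2 ^ e := by
    intro a c ha hc y z hne
    by_contra hT
    -- the property propagated by taking square roots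
    let Bad : L → L → Prop := fun ν μ => ∃ (k : ℕ) (ν0 μ0 : L), ν0 ^ orderOf t = 1 ∧ μ0 ^ orderOf t = 1 ∧
      ν = ν0 ^ 2 ^ k ∧ μ = μ0 ^ 2 ^ k ∧ ∃ y z, P2 t g b ν0 μ0 y z ≠ 0
    have hBad : ∀ ν μ, Bad ν μ → (∃ e, ν = t ^ 2 ^ e) ∨ ∃ ρ, ρ ^ 2 = ν ∧ Bad ρ μ := by
      rintro ν μ ⟨k, ν0, μ0, hν0, hμ0, rfl, rfl, hex⟩
      have hρ : (ν0 ^ 2 ^ (n - 1)) ^ 2 = ν0 := by
        rw [← pow_mul, ← pow_succ, show n - 1 + 1 = n by omega, h.pow_two_pow_n]
      obtain ⟨e, he⟩ | ⟨j, y', z', hj⟩ := step (ν0 ^ 2 ^ (n - 1)) μ0 (h.root_pow hν0 _) hμ0 (by rw [hρ]; exact hex)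
      · left
        refine ⟨e + k, ?_⟩
        rw [hρ] at he
        rw [he, ← pow_mul, ← pow_add]
      · right
        refine ⟨(ν0 ^ 2 ^ (n - 1)) ^ 2 ^ k, by rw [← pow_mul, mul_comm, pow_mul, hρ], ?_⟩
        -- pull the Frobenius power out of the component
        set ρ := ν0 ^ 2 ^ (n - 1) with hρdef
        have hback : ∀ x : L, (x ^ 2 ^ (n - j)) ^ 2 ^ (j : ℕ) = x := fun x => by
          rw [← pow_mul, ← pow_add, show n - (j : ℕ) + j = n by omega, h.pow_two_pow_n]
        rw [← hback ρ, ← hback μ0, P2_pow h g hg] at hj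
        refine ⟨(j : ℕ) + k, ρ ^ 2 ^ (n - (j : ℕ)), μ0 ^ 2 ^ (n - (j : ℕ)), h.root_pow (h.root_pow hν0 _) _,
          h.root_pow hμ0 _, ?_, ?_, y', z', fun e0 => hj (by rw [e0, zero_pow (pow_ne_zero _ two_ne_zero)])⟩
        · rw [pow_add, pow_mul, hback]
        · rw [pow_add, pow_mul, hback]
    have hiter : ∀ i, i ≤ n → Bad (a ^ 2 ^ (n - i)) c := by
      intro i
      induction i with
      | zero =>
        intro _
        exact ⟨0, a, c, ha, hc, by simp [h.pow_two_pow_n], by simp, y, z, hne⟩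
      | succ i ih =>
        intro hi
        rcases hBad _ _ (ih (by omega)) with ⟨e, he⟩ | ⟨ρ, hρ, hρB⟩
        · exfalso
          refine hT ⟨e + i, ?_⟩
          have := congrArg (fun x : L => x ^ 2 ^ i) he
          simp only [← pow_mul, ← pow_add, show n - i + i = n by omega, h.pow_two_pow_n] at this
          exact this
        · have : ρ = a ^ 2 ^ (n - (i + 1)) := by
            refine h.eq_of_sq_eq ?_
            rw [hρ, ← pow_mul, ← pow_succ, show n - (i + 1) + 1 = n - i by omega]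
          rwa [← this]
    refine h.translate_false (hordl ha hne) (hordl hc (hswap hne)) fun i => ?_
    have hlt : i % n < n := Nat.mod_lt _ hn
    obtain ⟨k, ν0, μ0, hν0, hμ0, e1, e2, y', z', hne'⟩ := hiter (n - i % n) (by omega)
    refine ⟨k, ?_⟩
    rw [h.pow_two_pow_mod i, show i % n = n - (n - i % n) by omega, e1, e2, ← mul_pow,
      P2_equivariant h g hg (κ := t) hbg hν0 hμ0 hne']
  -- eigenfunctions at these eigenvalues are unique
  have hspan : ∀ f : E → L, (∀ x y, f (x + y) = f x + f y) →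
      ∃ c : Fin n × Fin n → L, ∀ y, f y = ∑ p, c p * α p.1 y ^ 2 ^ (p.2 : ℕ) := fun f hf => by
    obtain ⟨c, hc⟩ := span_additive h α hsep f hf
    exact ⟨fun p => c p.1 p.2, hc⟩
  refine alt_zero h g hg hbl hbr halt (fun a c ha hc y z hne => ?_) fun a ha hex => ?_
  · obtain ⟨e1, h1⟩ := hweight a c ha hc y z hne
    obtain ⟨e2, h2⟩ := hweight c a hc ha z y (hswap hne)
    have e := P2_equivariant h g hg (κ := t) hbg ha hc hne
    rw [h1, h2] at e ⊢
    exact h.eq_of_mul_eq (k := 0) (by rw [e, pow_zero, pow_one])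
  · obtain ⟨y, z, hne⟩ := hex
    obtain ⟨e, rfl⟩ := hweight a a ha ha y z hne
    let μ : Fin n × Fin n → L := fun p => (t * (t ^ 2 ^ (p.1 : ℕ))⁻¹) ^ 2 ^ (p.2 : ℕ)
    have hμ : ∀ p, μ p ^ orderOf t = 1 := fun p => h.root_pow (by
      rw [mul_pow, inv_pow, pow_orderOf_eq_one, h.root_t, inv_one, one_mul]) _
    have huniq : ∀ p q, μ p = t ^ 2 ^ e → μ q = t ^ 2 ^ e → p = q := by
      have key : ∀ p : Fin n × Fin n, μ p = t ^ 2 ^ e →
          (p.2 : ℕ) = (e + 1) % n ∧ ((p.1 : ℕ) + p.2) % n = e % n := by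
        rintro ⟨k, c⟩ hp
        have e1 : t ^ 2 ^ e * t ^ 2 ^ ((k : ℕ) + c) = t ^ 2 ^ (c : ℕ) := by
          rw [← hp]
          show (t * (t ^ 2 ^ (k : ℕ))⁻¹) ^ 2 ^ (c : ℕ) * _ = _
          rw [pow_add, pow_mul, ← mul_pow, mul_assoc, inv_mul_cancel₀ (pow_ne_zero _ h.t_ne_zero), mul_one]
        have e2 := h.eq_of_mul_eq e1
        refine ⟨?_, (h.pow_inj_iff.mp e2).symm⟩
        have e3 : t ^ 2 ^ (c : ℕ) = t ^ 2 ^ (e + 1) := by
          rw [← e1, ← e2, ← pow_add]
          ring_nf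
        have := h.pow_inj_iff.mp e3
        rwa [Nat.mod_eq_of_lt c.2] at this
      intro p q hp hq
      obtain ⟨hp2, hp1⟩ := key p hp
      obtain ⟨hq2, hq1⟩ := key q hq
      have h2 : p.2 = q.2 := Fin.ext (hp2.trans hq2.symm)
      refine Prod.ext (Fin.ext ?_) h2
      have h1 : ((p.1 : ℕ) + p.2) % n = ((q.1 : ℕ) + p.2) % n := by
        rw [hp1, ← hq1, h2]
      have := Nat.ModEq.add_right_cancel' (p.2 : ℕ) (show (p.1 : ℕ) + p.2 ≡ q.1 + p.2 [MOD n] from h1)
      rwa [Nat.ModEq, Nat.mod_eq_of_lt p.1.2, Nat.mod_eq_of_lt q.1.2] at this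
    have hone := fun (f : E → L) hf hfa => one_dim h g hg (fun p y => α p.1 y ^ 2 ^ (p.2 : ℕ)) μ hμ
      (fun p y => by show α p.1 (g y) ^ _ = _; rw [hα, mul_pow]) hspan ha (f := f) hf hfa huniq
    obtain ⟨p, hp, -⟩ := (hone _ (haddl _ _ z) fun y => P2_eigen_left h g hg b ha _ y z).resolve_left
      fun h0 => hne (h0 y)
    refine ⟨fun y => α p.1 y ^ 2 ^ (p.2 : ℕ), fun f hf hfa => ?_⟩
    rcases hone f hf hfa with h0 | ⟨q, hq, κ, hκ⟩
    · exact ⟨0, fun y => by rw [h0, zero_mul]⟩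
    · exact ⟨κ, fun y => by rw [hκ y, huniq q p hq hp]⟩

end CfsgLib.Weights
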