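import Cfsg.Agent.Lib.OddOrder41.NormalElementary

/-!
Two-groups of exponent dividing four in which every characteristic abelian subgroup is cyclic:
commutators and squares are central of order at most two.
-/

set_option autoImplicit false

namespace CfsgLib.SymplecticFour

open scoped commutatorElement

variable {T : Type*} [Group T] [Finite T]

/-- A cyclic group has at most one involution. -/
theorem eq_of_sq_eq_one {H : Subgroup T} (hH : IsCyclic H) {a b : T} (ha : a ∈ H) (hb : b ∈ H)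
    (ha2 : a ^ 2 = 1) (hb2 : b ^ 2 = 1) (ha1 : a ≠ 1) (hb1 : b ≠ 1) : a = b := by
  classical
  have := Fintype.ofFinite H
  by_contra hne
  have hle := IsCyclic.card_pow_eq_one_le (α := H) (n := 2) (by norm_num)
  have hsub : ({1, ⟨a, ha⟩, ⟨b, hb⟩} : Finset H) ⊆ Finset.univ.filter fun x : H => x ^ 2 = 1 := by
    intro x hx
    simp only [Finset.mem_insert, Finset.mem_singleton] at hx
    rcases hx with rfl | rfl | rfl
    · simp
    · simp [Subtype.ext_iff, ha2]
    · simp [Subtype.ext_iff, hb2]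
  have h3 : ({1, ⟨a, ha⟩, ⟨b, hb⟩} : Finset H).card = 3 := by
    rw [Finset.card_insert_of_notMem, Finset.card_pair]
    · exact fun e => hne (congrArg Subtype.val e)
    · simp only [Finset.mem_insert, Finset.mem_singleton, Subtype.ext_iff]
      rintro (e | e)
      · exact ha1 e.symm
      · exact hb1 e.symm
  have h4 := Finset.card_le_card hsub
  rw [h3] at h4
  omega

omit [Finite T] in
theorem commutator_sq_left {a b : T} (h : ⁅a, b⁆ ∈ Subgroup.center T) :
    ⁅a ^ 2, b⁆ = ⁅a, b⁆ ^ 2 := by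
  have e : ⁅a ^ 2, b⁆ = a * ⁅a, b⁆ * a⁻¹ * ⁅a, b⁆ := by
    simp only [commutatorElement_def, pow_two]; group
  rw [e, Subgroup.mem_center_iff.mp h a, mul_inv_cancel_right, pow_two]

omit [Finite T] in
/-- In class at most two and exponent dividing four the commutators square to one. -/
theorem commutator_sq_eq_one (h4 : ∀ q : T, q ^ 4 = 1) (hc : commutator T ≤ Subgroup.center T)
    (a b : T) : ⁅a, b⁆ ^ 2 = 1 := by
  have key : ∀ a b : T, ⁅b, a⁆ ^ 2 = 1 := by
    intro a b
    set c := ⁅b, a⁆ with hcdef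
    have hcm : c ∈ Subgroup.center T :=
      hc (Subgroup.commutator_mem_commutator (Subgroup.mem_top _) (Subgroup.mem_top _))
    have hz : ∀ x : T, x * c = c * x := fun x => Subgroup.mem_center_iff.mp hcm x
    have hba : b * a = c * (a * b) := by rw [hcdef, commutatorElement_def]; group
    have h2 : b * (a * a) = c ^ 2 * (a * a * b) := by
      calc b * (a * a) = (b * a) * a := by group
        _ = c * (a * (b * a)) := by conv_lhs => rw [hba]
                                    group
        _ = c * (a * c * (a * b)) := by rw [hba]; group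
        _ = c ^ 2 * (a * a * b) := by rw [hz a, pow_two]; group
    have h3 : (b * b) * (a * a) = (a * a) * (b * b) := by
      calc (b * b) * (a * a) = b * (b * (a * a)) := by group
        _ = b * c ^ 2 * (a * a * b) := by rw [h2]; group
        _ = c ^ 2 * (b * (a * a)) * b := by
            rw [(show Commute b c from hz b).pow_right 2 |>.eq]; group
        _ = c ^ 4 * (a * a) * (b * b) := by rw [h2]; group
        _ = (a * a) * (b * b) := by rw [h4, one_mul]
    have h5 : (a * b) * (a * b) = c * ((a * a) * (b * b)) := by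
      calc (a * b) * (a * b) = a * (b * a) * b := by group
        _ = (a * c) * (a * b * b) := by rw [hba]; group
        _ = c * ((a * a) * (b * b)) := by rw [hz a]; group
    calc c ^ 2 = c ^ 2 * ((a ^ 4) * (b ^ 4)) := by rw [h4, h4, mul_one, mul_one]
      _ = c ^ 2 * ((a * a) * ((a * a) * (b * b)) * (b * b)) := by
          simp only [pow_succ, pow_zero, one_mul, mul_assoc]
      _ = c ^ 2 * ((a * a) * ((b * b) * (a * a)) * (b * b)) := by rw [h3]
      _ = c * (c * ((a * a) * (b * b))) * ((a * a) * (b * b)) := by rw [pow_two]; group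
      _ = c * ((a * b) * (a * b)) * ((a * a) * (b * b)) := by rw [← h5]
      _ = ((a * b) * (a * b)) * (c * ((a * a) * (b * b))) := by rw [← hz ((a * b) * (a * b))]; group
      _ = ((a * b) * (a * b)) * ((a * b) * (a * b)) := by rw [← h5]
      _ = (a * b) ^ 4 := by simp only [pow_succ, pow_zero, one_mul, mul_assoc]
      _ = 1 := h4 _
  exact key b a

omit [Finite T] in
/-- Commutators of a group generated by a subgroup `C` and one further element `q`. -/
theorem commutator_mem_of_cover {C N : Subgroup T} {q : T} (hcov : ∀ t, t ∈ C ∨ t * q⁻¹ ∈ C)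
    (hCC : ∀ c ∈ C, ∀ c' ∈ C, ⁅c, c'⁆ ∈ N) (hq : ∀ c ∈ C, ⁅q, c⁆ ∈ N)
    (hconj : ∀ c ∈ C, ∀ n ∈ N, c * n * c⁻¹ ∈ N) (a b : T) : ⁅a, b⁆ ∈ N := by
  have hcq : ∀ c ∈ C, ⁅c, q⁆ ∈ N := fun c hc => by
    rw [← commutatorElement_inv]; exact inv_mem (hq c hc)
  have h1 : ∀ c ∈ C, ∀ c' ∈ C, ⁅c, c' * q⁆ ∈ N := fun c hc c' hc' => by
    rw [show ⁅c, c' * q⁆ = ⁅c, c'⁆ * (c' * ⁅c, q⁆ * c'⁻¹) by simp only [commutatorElement_def]; group]
    exact mul_mem (hCC c hc c' hc') (hconj c' hc' _ (hcq c hc))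
  have h2 : ∀ c ∈ C, ∀ c' ∈ C, ⁅c * q, c'⁆ ∈ N := fun c hc c' hc' => by
    rw [← commutatorElement_inv]; exact inv_mem (h1 c' hc' c hc)
  rcases hcov a with ha | ha <;> rcases hcov b with hb | hb
  · exact hCC a ha b hb
  · have := h1 a ha _ hb; rwa [inv_mul_cancel_right] at this
  · have := h2 _ ha b hb; rwa [inv_mul_cancel_right] at this
  · have h3 : ⁅a * q⁻¹ * q, b * q⁻¹ * q⁆ = ⁅a * q⁻¹ * q, b * q⁻¹⁆ * (b * q⁻¹ * ⁅a * q⁻¹, q⁆ * (b * q⁻¹)⁻¹) := by
      simp only [commutatorElement_def]; group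
    have := mul_mem (h2 _ ha _ hb) (hconj _ hb _ (hcq _ ha))
    rw [← h3, inv_mul_cancel_right, inv_mul_cancel_right] at this
    exact this

/-- In a finite two-group of exponent dividing four all whose characteristic abelian subgroups are
cyclic, commutators are central of order at most two. -/
theorem commutator_props : ∀ (T : Type*) [Group T] [Finite T], IsPGroup 2 T →
    (∀ A : Subgroup T, A.Characteristic → IsMulCommutative A → IsCyclic A) → (∀ q : T, q ^ 4 = 1) →
    ∀ a b : T, ⁅a, b⁆ ∈ Subgroup.center T ∧ ⁅a, b⁆ ^ 2 = 1 := by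
  intro T _ _ hT hchar h4
  induction' hn : Nat.card T using Nat.strong_induction_on with n ih generalizing T
  suffices hc : commutator T ≤ Subgroup.center T from fun a b =>
    ⟨hc (Subgroup.commutator_mem_commutator (Subgroup.mem_top _) (Subgroup.mem_top _)),
      commutator_sq_eq_one h4 hc a b⟩
  -- data attached to a non-central characteristic abelian subgroup
  have data : ∀ A : Subgroup T, A.Characteristic → IsMulCommutative A → ¬ A ≤ Subgroup.center T →
      ∃ (u q : T) (C : Subgroup T), u ∈ A ∧ A = Subgroup.zpowers u ∧ u ^ 2 ≠ 1 ∧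
        u ^ 2 ∈ Subgroup.center T ∧ C.Normal ∧ (∀ c ∈ C, c * u = u * c) ∧
        (∀ c ∈ C, ∀ c' ∈ C, ⁅c, c'⁆ = 1 ∨ ⁅c, c'⁆ = u ^ 2) ∧
        (∀ c ∈ C, c ^ 2 = 1 ∨ c ^ 2 = u ^ 2) ∧ q * q ∈ C ∧ ∀ t, t ∈ C ∨ t * q⁻¹ ∈ C := by
    intro A hA hAc hAZ
    have := hchar A hA hAc
    obtain ⟨u, hu⟩ := IsCyclic.exists_generator (α := A)
    have hAu : A = Subgroup.zpowers (u : T) := by
      refine le_antisymm (fun x hx => ?_) (Subgroup.zpowers_le.mpr u.2)
      obtain ⟨k, hk⟩ := hu ⟨x, hx⟩
      exact ⟨k, congrArg Subtype.val hk⟩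
    have hAn : A.Normal := inferInstance
    have hpow : ∀ x ∈ A, x = 1 ∨ x = (u : T) ∨ x = (u : T) ^ 2 ∨ x = (u : T) ^ 3 := by
      intro x hx
      rw [hAu] at hx
      obtain ⟨k, rfl⟩ := hx
      have hk := Int.emod_add_mul_ediv k 4
      rw [show (fun i : ℤ => (u : T) ^ i) k = (u : T) ^ (k % 4) by
        show (u : T) ^ k = _
        conv_lhs => rw [← hk, zpow_add, zpow_mul, show ((u : T) ^ (4 : ℤ)) = 1 from by
          rw [show (4 : ℤ) = ((4 : ℕ) : ℤ) from rfl, zpow_natCast, h4], one_zpow, mul_one]]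
      have h0 := Int.emod_nonneg k (show (4 : ℤ) ≠ 0 by norm_num)
      have h1 := Int.emod_lt_of_pos k (show (0 : ℤ) < 4 by norm_num)
      rcases (show k % 4 = 0 ∨ k % 4 = 1 ∨ k % 4 = 2 ∨ k % 4 = 3 by omega) with e | e | e | e <;> rw [e]
      · exact Or.inl (zpow_zero _)
      · exact Or.inr (Or.inl (zpow_one _))
      · exact Or.inr (Or.inr (Or.inl (zpow_natCast _ 2)))
      · exact Or.inr (Or.inr (Or.inr (zpow_natCast _ 3)))
    have hu2 : (u : T) ^ 2 ≠ 1 := by
      intro e
      refine hAZ (fun x hx => ?_)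
      rcases hpow x hx with rfl | rfl | rfl | rfl
      · exact one_mem _
      · rw [Subgroup.mem_center_iff]
        intro g
        have hg := hpow _ (hAn.conj_mem _ u.2 g)
        have hne : g * (u : T) * g⁻¹ ≠ 1 → g * (u : T) * g⁻¹ = u := by
          intro hne
          rcases hg with h | h | h | h
          · exact absurd h hne
          · exact h
          · exact absurd (h.trans e) hne
          · rw [h, show (u : T) ^ 3 = (u : T) ^ 2 * u from pow_succ _ 2, e, one_mul]
        by_cases h1 : g * (u : T) * g⁻¹ = 1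
        · rw [conj_eq_one_iff] at h1; rw [h1, mul_one, one_mul]
        · exact mul_inv_eq_iff_eq_mul.mp (hne h1)
      · rw [e]; exact one_mem _
      · rw [show (u : T) ^ 3 = (u : T) ^ 2 * u from pow_succ _ 2, e, one_mul, Subgroup.mem_center_iff]
        intro g
        rcases hpow _ (hAn.conj_mem _ u.2 g) with h | h | h | h
        · rw [conj_eq_one_iff] at h; rw [h, mul_one, one_mul]
        · exact mul_inv_eq_iff_eq_mul.mp h
        · rw [e, conj_eq_one_iff] at h; rw [h, mul_one, one_mul]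
        · rw [show (u : T) ^ 3 = (u : T) ^ 2 * u from pow_succ _ 2, e, one_mul] at h
          exact mul_inv_eq_iff_eq_mul.mp h
    have hconj : ∀ g : T, g * (u : T) * g⁻¹ = u ∨ g * (u : T) * g⁻¹ = (u : T) ^ 3 := by
      intro g
      have hsq : (g * (u : T) * g⁻¹) ^ 2 ≠ 1 := by rwa [conj_pow, Ne, conj_eq_one_iff]
      rcases hpow _ (hAn.conj_mem _ u.2 g) with h | h | h | h
      · exact absurd (by rw [h, one_pow]) hsq
      · exact Or.inl h
      · exact absurd (by rw [h, ← pow_mul, h4]) hsq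
      · exact Or.inr h
    have hu2c : (u : T) ^ 2 ∈ Subgroup.center T := by
      rw [Subgroup.mem_center_iff]
      intro g
      refine mul_inv_eq_iff_eq_mul.mp ?_
      rw [← conj_pow]
      rcases hconj g with h | h <;> rw [h]
      rw [← pow_mul, show 3 * 2 = 4 + 2 from rfl, pow_add, h4, one_mul]
    set C := Subgroup.centralizer (A : Set T) with hC
    have hCc : C.Characteristic := inferInstance
    have hmemC : ∀ t, t ∈ C ↔ t * (u : T) = u * t := by
      intro t
      rw [hC, Subgroup.mem_centralizer_iff]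
      refine ⟨fun h => (h _ u.2).symm, fun h x hx => ?_⟩
      rw [SetLike.mem_coe, hAu] at hx
      obtain ⟨k, rfl⟩ := hx
      exact (Commute.zpow_left (show Commute (u : T) t from h.symm) k).eq
    obtain ⟨q, hq⟩ : ∃ q, q ∉ C := by
      by_contra hcon
      push Not at hcon
      refine hAZ ?_
      rw [hAu, Subgroup.zpowers_le, Subgroup.mem_center_iff]
      exact fun g => (hmemC g).mp (hcon g)
    have hqu : q * (u : T) * q⁻¹ = (u : T) ^ 3 :=
      (hconj q).resolve_left fun h => hq ((hmemC q).mpr (mul_inv_eq_iff_eq_mul.mp h))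
    have hCn : Nat.card C < n := by
      rw [← hn]
      refine lt_of_le_of_ne (Subgroup.card_le_card_group C) fun e => hq ?_
      rw [Subgroup.eq_top_of_card_eq C e]; exact Subgroup.mem_top q
    have hu2' : ((u : T) ^ 2) ^ 2 = 1 := by rw [← pow_mul]; exact h4 _
    have hchC : ∀ B : Subgroup C, B.Characteristic → IsMulCommutative B → IsCyclic B := by
      intro B hB hBc
      have hm : (B.map C.subtype).Characteristic := inferInstance
      have := hchar _ hm (Subgroup.map_isMulCommutative B C.subtype)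
      exact isCyclic_of_injective (B.equivMapOfInjective C.subtype C.subtype_injective).toMonoidHom
        (B.equivMapOfInjective C.subtype C.subtype_injective).injective
    have h4C : ∀ c : C, c ^ 4 = 1 := fun c => Subtype.ext (h4 c)
    have ihC := ih _ hCn C (hT.to_subgroup C) hchC h4C rfl
    have huC : (u : T) ∈ C := (hmemC u).mpr rfl
    have hZC : IsCyclic (Subgroup.center C) := hchC _ inferInstance inferInstance
    have hu2C : (⟨(u : T), huC⟩ : C) ^ 2 ∈ Subgroup.center C := by
      rw [Subgroup.mem_center_iff]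
      intro c
      exact Subtype.ext (Subgroup.mem_center_iff.mp hu2c c)
    have huniq : ∀ w : C, w ∈ Subgroup.center C → w ^ 2 = 1 → (w : T) = 1 ∨ (w : T) = (u : T) ^ 2 := by
      intro w hw hw2
      by_cases h1 : w = 1
      · exact Or.inl (by rw [h1]; rfl)
      refine Or.inr ?_
      have := eq_of_sq_eq_one hZC hw hu2C hw2 (Subtype.ext hu2') h1
        (fun e => hu2 (congrArg Subtype.val e))
      exact congrArg Subtype.val this
    refine ⟨u, q, C, u.2, hAu, hu2, hu2c, inferInstance, fun c hc => (hmemC c).mp hc,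
      fun c hc c' hc' => huniq _ (ihC ⟨c, hc⟩ ⟨c', hc'⟩).1 (ihC ⟨c, hc⟩ ⟨c', hc'⟩).2,
      fun c hc => huniq (⟨c, hc⟩ ^ 2) ?_ ?_, ?_, fun t => ?_⟩
    · rw [Subgroup.mem_center_iff]
      intro d
      refine (commutatorElement_eq_one_iff_mul_comm.mp ?_).symm
      rw [commutator_sq_left (ihC _ d).1, (ihC _ d).2]
    · rw [← pow_mul]; exact h4C _
    · rw [hmemC, ← mul_inv_eq_iff_eq_mul]
      calc q * q * (u : T) * (q * q)⁻¹ = q * (q * u * q⁻¹) * q⁻¹ := by group
        _ = (q * u * q⁻¹) ^ 3 := by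
              rw [hqu, show q * (u : T) ^ 3 * q⁻¹ = (q * (u : T) * q⁻¹) ^ 3 from conj_pow.symm, hqu]
        _ = u := by rw [hqu, ← pow_mul, show 3 * 3 = 4 + 4 + 1 from rfl, pow_add, pow_add, h4, one_mul, one_mul, pow_one]
    · rcases hconj t with h | h
      · exact Or.inl ((hmemC t).mpr (mul_inv_eq_iff_eq_mul.mp h))
      · refine Or.inr ((hmemC _).mpr (mul_inv_eq_iff_eq_mul.mp ?_))
        have hqu' : q⁻¹ * (u : T) * q = (u : T) ^ 3 := by
          calc q⁻¹ * (u : T) * q = q⁻¹ * ((u : T) ^ 3) ^ 3 * q := by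
                rw [← pow_mul, show 3 * 3 = 4 + 4 + 1 from rfl, pow_add, pow_add, h4, one_mul, one_mul, pow_one]
            _ = q⁻¹ * (q * (u : T) ^ 3 * q⁻¹) * q := by
                rw [show q * (u : T) ^ 3 * q⁻¹ = (q * (u : T) * q⁻¹) ^ 3 from conj_pow.symm, hqu]
            _ = (u : T) ^ 3 := by group
        calc t * q⁻¹ * (u : T) * (t * q⁻¹)⁻¹ = t * (q⁻¹ * u * q) * t⁻¹ := by group
          _ = (t * u * t⁻¹) ^ 3 := by rw [hqu', conj_pow]
          _ = u := by rw [h, ← pow_mul, show 3 * 3 = 4 + 4 + 1 from rfl, pow_add, pow_add, h4, one_mul, one_mul, pow_one]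
  by_contra hnc
  by_cases hall : ∀ A : Subgroup T, A.Characteristic → IsMulCommutative A → A ≤ Subgroup.center T
  · have := hT.isNilpotent
    obtain ⟨y, hy, hyZ, hyc⟩ := OddOrder41.exists_central_step (commutator T) (Subgroup.center T) hnc
    set A := commutator T ⊓ Subgroup.upperCentralSeries T 2 with hA
    have hAc : IsMulCommutative A := by
      refine ⟨⟨fun v w => Subtype.ext ?_⟩⟩
      show (v : T) * w = w * v
      have hle : commutator T ≤ Subgroup.centralizer ({(w : T)} : Set T) := by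
        rw [commutator_def, Subgroup.commutator_le]
        intro a _ b _
        rw [Subgroup.mem_centralizer_singleton_iff]
        have hw : ∀ x : T, ⁅(w : T), x⁆ ∈ Subgroup.center T := fun x => by
          have h2 := Subgroup.mem_upperCentralSeries_succ_iff.mp w.2.2 x
          rwa [Subgroup.upperCentralSeries_one] at h2
        refine (mul_inv_eq_iff_eq_mul.mp ?_).symm
        have e : ∀ x : T, (w : T) * x * (w : T)⁻¹ = ⁅(w : T), x⁆ * x := fun x => by
          rw [commutatorElement_def]; group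
        have hc1 : ∀ x : T, x * ⁅(w : T), a⁆ = ⁅(w : T), a⁆ * x := Subgroup.mem_center_iff.mp (hw a)
        have hc2 : ∀ x : T, x * ⁅(w : T), b⁆ = ⁅(w : T), b⁆ * x := Subgroup.mem_center_iff.mp (hw b)
        calc (w : T) * ⁅a, b⁆ * (w : T)⁻¹
            = ⁅(w : T) * a * (w : T)⁻¹, (w : T) * b * (w : T)⁻¹⁆ := (by rw [conjugate_commutatorElement])
          _ = ⁅a, b⁆ := by
            rw [e, e, commutatorElement_def, commutatorElement_def a b, mul_inv_rev, mul_inv_rev]
            generalize ⁅(w : T), a⁆ = c1 at hc1 ⊢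
            generalize ⁅(w : T), b⁆ = c2 at hc2 ⊢
            have hd : ∀ x : T, x * c2⁻¹ = c2⁻¹ * x := fun x => (show Commute x c2 from hc2 x).inv_right.eq
            calc c1 * a * (c2 * b) * (a⁻¹ * c1⁻¹) * (b⁻¹ * c2⁻¹)
                = c1 * ((a * c2) * b * a⁻¹) * c1⁻¹ * (b⁻¹ * c2⁻¹) := by group
              _ = ((a * c2) * b * a⁻¹) * (c1 * c1⁻¹) * (b⁻¹ * c2⁻¹) := by rw [← hc1]; group
              _ = c2 * (a * b * a⁻¹ * b⁻¹) * c2⁻¹ := by rw [hc2 a]; group
              _ = a * b * a⁻¹ * b⁻¹ := by rw [← hc2]; group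
      exact Subgroup.mem_centralizer_singleton_iff.mp (hle v.2.1)
    refine hyZ (hall A inferInstance hAc (Subgroup.mem_inf.mpr ⟨hy, ?_⟩))
    rw [Subgroup.mem_upperCentralSeries_succ_iff]
    intro g
    rw [Subgroup.upperCentralSeries_one]
    exact hyc g
  push Not at hall
  obtain ⟨A, hA, hAc, hAZ⟩ := hall
  -- the derived subgroup is abelian
  have hab : IsMulCommutative (commutator T) := by
    obtain ⟨u, q, C, huA, -, hu2, hu2c, hCn, hCu, hCC, hCsq, hqq, hcov⟩ := data A hA hAc hAZ
    have hz : ∀ x : T, x * u ^ 2 = u ^ 2 * x := Subgroup.mem_center_iff.mp hu2c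
    have hz2 : u ^ 2 * u ^ 2 = 1 := by rw [← pow_add]; exact h4 u
    have hu2C : u ^ 2 ∈ C := by
      rcases hcov (u ^ 2) with h | h
      · exact h
      · by_contra hcon
        rcases hcov u with h' | h'
        · exact hcon (C.pow_mem h' 2)
        · refine hcon ?_
          have h2 : u * q⁻¹ * (q * q) * (q⁻¹ * u) ∈ C := by
            refine mul_mem (mul_mem h' hqq) ?_
            have := hCn.conj_mem _ h' q⁻¹
            simpa [mul_assoc] using this
          simpa [mul_assoc, pow_two] using h2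
    set σ : T → T := fun c => q * c * q⁻¹ with hσ
    have hσC : ∀ c ∈ C, σ c ∈ C := fun c hc => hCn.conj_mem c hc q
    have hkey : ∀ c ∈ C, ∀ d ∈ C, Commute ⁅q, c⁆ ⁅q, d⁆ := by
      intro c hc d hd
      -- commutators in `C` are bilinear
      let β : T → T → T := fun a b => ⁅a, b⁆
      have hβz : ∀ a ∈ C, ∀ b ∈ C, β a b ∈ Subgroup.center T := fun a ha b hb => by
        rcases hCC a ha b hb with h | h <;> show ⁅a, b⁆ ∈ _ <;> rw [h]
        exacts [one_mem _, hu2c]
      have hβ2 : ∀ a ∈ C, ∀ b ∈ C, β a b * β a b = 1 := fun a ha b hb => by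
        rcases hCC a ha b hb with h | h <;> show ⁅a, b⁆ * ⁅a, b⁆ = 1 <;> rw [h]
        exacts [one_mul 1, hz2]
      have hl : ∀ a ∈ C, ∀ b ∈ C, ∀ e ∈ C, β (a * b) e = β a e * β b e := by
        intro a ha b hb e he
        show ⁅a * b, e⁆ = ⁅a, e⁆ * ⁅b, e⁆
        rw [show ⁅a * b, e⁆ = a * ⁅b, e⁆ * a⁻¹ * ⁅a, e⁆ by simp only [commutatorElement_def]; group,
          Subgroup.mem_center_iff.mp (hβz b hb e he) a, mul_inv_cancel_right,
          Subgroup.mem_center_iff.mp (hβz a ha e he) ⁅b, e⁆]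
      have hsym : ∀ a ∈ C, ∀ b ∈ C, β b a = β a b := fun a ha b hb => by
        show ⁅b, a⁆ = ⁅a, b⁆
        rw [← commutatorElement_inv a b]
        exact (eq_inv_of_mul_eq_one_left (hβ2 a ha b hb)).symm
      have hinv : ∀ a ∈ C, ∀ e ∈ C, β a⁻¹ e = β a e := fun a ha e he => by
        have := hl a ha a⁻¹ (inv_mem ha) e he
        rw [mul_inv_cancel] at this
        have h1 : β 1 e = 1 := by show ⁅1, e⁆ = 1; simp [commutatorElement_def]
        rw [h1] at this
        rw [← mul_one (β a e), this, ← mul_assoc, hβ2 a ha e he, one_mul]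
      have hσβ : ∀ a ∈ C, ∀ b ∈ C, β (σ a) (σ b) = β a b := fun a ha b hb => by
        show ⁅q * a * q⁻¹, q * b * q⁻¹⁆ = ⁅a, b⁆
        rw [← conjugate_commutatorElement, Subgroup.mem_center_iff.mp (hβz a ha b hb) q, mul_inv_cancel_right]
      have hσσ : ∀ a ∈ C, ∀ b ∈ C, β a (σ (σ b)) = β a b := fun a ha b hb => by
        have e : σ (σ b) = ⁅q * q, b⁆ * b := by simp only [hσ, commutatorElement_def]; group
        rcases hCC _ hqq b hb with h | h <;> rw [e, h]
        · rw [one_mul]
        · show β a (u ^ 2 * b) = β a b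
          rw [hsym _ (mul_mem hu2C hb) a ha, hl _ hu2C b hb a ha, show β (u ^ 2) a = 1 by
            show ⁅u ^ 2, a⁆ = 1; rw [commutatorElement_eq_one_iff_mul_comm, hz a], one_mul, hsym a ha b hb]
      have hcd : β ⁅q, c⁆ ⁅q, d⁆ = 1 := by
        have e1 : ∀ a, ⁅q, a⁆ = σ a * a⁻¹ := fun a => by simp only [hσ, commutatorElement_def]
        have hC1 : ∀ a ∈ C, σ a * a⁻¹ ∈ C := fun a ha => mul_mem (hσC a ha) (inv_mem ha)
        have e2 : ∀ a ∈ C, β a (σ d * d⁻¹) = β a (σ d) * β a d := fun a ha => by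
          rw [hsym _ (hC1 d hd) a ha, hl _ (hσC d hd) _ (inv_mem hd) a ha, hinv d hd a ha,
            hsym a ha _ (hσC d hd), hsym a ha d hd]
        rw [e1, e1, hl _ (hσC c hc) _ (inv_mem hc) _ (hC1 d hd), hinv c hc _ (hC1 d hd), e2 _ (hσC c hc),
          e2 c hc, hσβ c hc d hd]
        have e3 : β (σ c) d = β c (σ d) := by
          rw [← hσβ c hc (σ d) (hσC d hd), hσσ _ (hσC c hc) d hd]
        rw [e3, mul_assoc, ← mul_assoc (β c (σ d)), hβ2 c hc _ (hσC d hd), one_mul, hβ2 c hc d hd]
      exact commutatorElement_eq_one_iff_mul_comm.mp hcd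
    set N := Subgroup.closure (insert (u ^ 2) {x | ∃ c ∈ C, ⁅q, c⁆ = x}) with hN
    have hNc : IsMulCommutative N := by
      refine Subgroup.isMulCommutative_closure ?_
      rintro a (rfl | ⟨c, hc, rfl⟩) b (rfl | ⟨d, hd, rfl⟩)
      · rfl
      · exact (hz _).symm
      · exact hz _
      · exact hkey c hc d hd
    have hNz : u ^ 2 ∈ N := Subgroup.subset_closure (Set.mem_insert _ _)
    have hNC : N ≤ C := by
      rw [hN, Subgroup.closure_le]
      rintro a (rfl | ⟨c, hc, rfl⟩)
      · exact hu2C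
      · rw [SetLike.mem_coe, commutatorElement_def]
        exact mul_mem (hCn.conj_mem c hc q) (inv_mem hc)
    have hle : commutator T ≤ N := by
      rw [commutator_def, Subgroup.commutator_le]
      intro a _ b _
      refine commutator_mem_of_cover hcov (fun c hc c' hc' => ?_)
        (fun c hc => Subgroup.subset_closure
          (show ⁅q, c⁆ ∈ insert (u ^ 2) {x | ∃ c ∈ C, ⁅q, c⁆ = x} from Or.inr ⟨c, hc, rfl⟩))
        (fun c hc m hm => ?_) a b
      · rcases hCC c hc c' hc' with h | h <;> rw [h]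
        exacts [one_mem _, hNz]
      · rw [show c * m * c⁻¹ = ⁅c, m⁆ * m by rw [commutatorElement_def]; group]
        refine mul_mem ?_ hm
        rcases hCC c hc m (hNC hm) with h | h <;> rw [h]
        exacts [one_mem _, hNz]
    refine ⟨⟨fun v w => Subtype.ext ?_⟩⟩
    simpa using congrArg (Subtype.val : ↥N → T)
      (hNc.is_comm.comm (⟨(v : T), hle v.2⟩ : ↥N) (⟨(w : T), hle w.2⟩ : ↥N))
  obtain ⟨u, q, C, huA, hT', hu2, hu2c, hCn, hCu, hCC, hCsq, hqq, hcov⟩ :=
    data (commutator T) inferInstance hab hnc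
  have hz : ∀ x : T, x * u ^ 2 = u ^ 2 * x := Subgroup.mem_center_iff.mp hu2c
  refine hnc (le_trans ?_ (Subgroup.zpowers_le.mpr hu2c))
  rw [commutator_def, Subgroup.commutator_le]
  intro a _ b _
  have hmem : ∀ x : T, x = 1 ∨ x = u ^ 2 → x ∈ Subgroup.zpowers (u ^ 2) := by
    rintro x (rfl | rfl)
    exacts [one_mem _, Subgroup.mem_zpowers _]
  refine commutator_mem_of_cover hcov (fun c hc c' hc' => hmem _ (hCC c hc c' hc')) (fun c hc => ?_)
    (fun c _ m hm => ?_) a b
  · have hd : ⁅q, c⁆ ∈ Subgroup.zpowers u :=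
      hT' ▸ Subgroup.commutator_mem_commutator (Subgroup.mem_top _) (Subgroup.mem_top _)
    obtain ⟨k, hk⟩ := hd
    have hcd : c * ⁅q, c⁆ = ⁅q, c⁆ * c := by
      rw [← hk]; exact (Commute.zpow_right (show Commute c u from hCu c hc) k).eq
    have h1 : ⁅q, c ^ 2⁆ = 1 := by
      rw [commutatorElement_eq_one_iff_mul_comm]
      rcases hCsq c hc with h | h <;> rw [h]
      · simp
      · exact hz q
    rw [show ⁅q, c ^ 2⁆ = ⁅q, c⁆ * (c * ⁅q, c⁆ * c⁻¹) by simp only [commutatorElement_def, pow_two]; group,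
      hcd, mul_inv_cancel_right] at h1
    rw [← hk] at h1 ⊢
    have hdvd : (orderOf u : ℤ) ∣ k + k := by
      rw [orderOf_dvd_iff_zpow_eq_one, zpow_add]; exact h1
    have ho : orderOf u = 4 := orderOf_eq_prime_pow (p := 2) (n := 1) (by simpa using hu2) (h4 u)
    rw [ho] at hdvd
    obtain ⟨j, hj⟩ : (2 : ℤ) ∣ k := by
      obtain ⟨m, hm⟩ := hdvd
      exact ⟨m, by push_cast at hm; omega⟩
    refine ⟨j, ?_⟩
    show (u ^ 2) ^ j = u ^ k
    rw [hj, ← zpow_natCast u 2, ← zpow_mul]; rfl
  · obtain ⟨k, rfl⟩ := hm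
    rw [(Commute.zpow_right (show Commute c (u ^ 2) from hz c) k).eq, mul_inv_cancel_right]
    exact Subgroup.zpow_mem_zpowers _ _

end CfsgLib.SymplecticFour
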