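import Mathlib
import Cfsg.Agent.Lib.Frobenius.ZJComplement
import Cfsg.Agent.Lib.Transfer.NormalComplement
import Cfsg.Agent.Lib.PCore.Basic
import Cfsg.Agent.Lib.PLocal.Thompson
import Cfsg.Agent.Lib.PrimRecog.Basic

/-!
A finite group without nontrivial solvable normal subgroups is not covered by nilpotent maximal
subgroups; a nilpotent group has normal `p`-complements.
-/

set_option autoImplicit false
set_option linter.style.haveILetI false

namespace CfsgLib.NilpotentMaximal

open scoped Pointwise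

theorem hasNormalPComplement_of_isNilpotent {G : Type*} [Group G] [Finite G] [Group.IsNilpotent G]
    (p : ℕ) [Fact p.Prime] : Cfsg.HasNormalPComplement p G := by
  haveI hKn : (Cfsg.pPrimeCore p G).Normal := by
    refine Subgroup.Normal.mk fun n hn g => ?_
    have : Cfsg.pPrimeCore p G ≤ (Cfsg.pPrimeCore p G).comap (MulAut.conj g).toMonoidHom := by
      refine sSup_le fun N hN x hx => ?_
      exact le_sSup (s := {N : Subgroup G | N.Normal ∧ (Nat.card N).Coprime p}) hN
        (hN.1.conj_mem x hx g)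
    exact this hn
  refine CfsgLib.Transfer.hasNormalPComplement_of_coprime (Cfsg.pPrimeCore p G)
    CfsgLib.PCore.not_dvd_card_pPrimeCore ?_
  have h1 := CfsgLib.PCore.pPrimeCore_quotient_pPrimeCore (p := p) (G := G)
  refine IsPGroup.of_card (n := (Nat.card (G ⧸ Cfsg.pPrimeCore p G)).factorization p)
    (Nat.eq_of_factorization_eq Nat.card_pos.ne' (pow_ne_zero _ (Fact.out : p.Prime).ne_zero) fun q => ?_)
  rw [(Fact.out : p.Prime).factorization_pow]
  by_cases hqp : q = p
  · subst hqp; simp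
  rw [Finsupp.single_eq_of_ne hqp]
  by_contra hne
  have hqd : q ∣ Nat.card (G ⧸ Cfsg.pPrimeCore p G) := by
    by_contra h
    exact hne (Nat.factorization_eq_zero_of_not_dvd h)
  have hq : q.Prime := by
    by_contra h
    exact hne (Nat.factorization_eq_zero_of_not_prime _ h)
  haveI := Fact.mk hq
  let S : Sylow q (G ⧸ Cfsg.pPrimeCore p G) := default
  haveI : (S : Subgroup (G ⧸ Cfsg.pPrimeCore p G)).Normal := inferInstance
  have hS := CfsgLib.PCore.le_pPrimeCore (p := p) (inferInstance : (S : Subgroup (G ⧸ Cfsg.pPrimeCore p G)).Normal)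
    (by
      rw [S.card_eq_multiplicity]
      exact Nat.Coprime.pow_left _ ((Nat.coprime_primes hq Fact.out).mpr hqp))
  rw [h1, le_bot_iff] at hS
  exact S.ne_bot_of_dvd_card hqd hS

theorem mem_normalizer_of_conj {G : Type*} [Group G] [Finite G] (H : Subgroup G) (g : G)
    (h : ∀ x ∈ H, g * x * g⁻¹ ∈ H) : g ∈ Subgroup.normalizer (H : Set G) := by
  have heq : H.map (MulAut.conj g).toMonoidHom = H := by
    refine Subgroup.eq_of_le_of_card_ge ?_ ?_
    · rintro _ ⟨x, hx, rfl⟩
      exact h x hx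
    · exact (Subgroup.card_map_of_injective (MulAut.conj g).injective).ge
  rw [Subgroup.mem_normalizer_iff]
  intro x
  refine ⟨h x, fun hx => ?_⟩
  rw [← heq] at hx
  obtain ⟨y, hy, hyx⟩ := hx
  obtain rfl : y = x := (MulAut.conj g).injective hyx
  exact hy

variable {Q : Type*} [Group Q] [Finite Q]

/-- The nonnormal characteristic data of a nilpotent maximal subgroup. -/
theorem sylow_of_maximal (hrad : ∀ N : Subgroup Q, N.Normal → Group.IsSolvable N → N = ⊥)
    {M : Subgroup Q} (hM : IsCoatom M) [Group.IsNilpotent M] {p : ℕ} [Fact p.Prime]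
    (hp : p ∣ Nat.card M) :
    ∃ P : Sylow p Q, (P : Subgroup Q) ≤ M ∧ Subgroup.normalizer ((P : Subgroup Q) : Set Q) = M := by
  let S : Sylow p M := default
  let S' : Subgroup Q := (S : Subgroup M).map M.subtype
  have hle : M ≤ Subgroup.normalizer (S' : Set Q) := by
    intro m hm
    refine mem_normalizer_of_conj S' m ?_
    rintro _ ⟨s, hs, rfl⟩
    exact ⟨⟨m, hm⟩ * s * ⟨m, hm⟩⁻¹,
      (inferInstance : (S : Subgroup M).Normal).conj_mem s hs _, rfl⟩
  have hS'ne : S' ≠ ⊥ := by
    rw [ne_eq, Subgroup.map_eq_bot_iff_of_injective _ M.subtype_injective]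
    exact S.ne_bot_of_dvd_card hp
  have hnorm : Subgroup.normalizer (S' : Set Q) = M := by
    rcases eq_or_lt_of_le hle with h | h
    · exact h.symm
    · exfalso
      haveI : S'.Normal := Subgroup.normalizer_eq_top_iff.mp (hM.2 _ h)
      haveI := (S.isPGroup'.map M.subtype).isNilpotent
      exact hS'ne (hrad S' inferInstance inferInstance)
  obtain ⟨P, hP⟩ := (S.isPGroup'.map M.subtype).exists_le_sylow
  suffices h : (P : Subgroup Q) = S' by
    refine ⟨P, ?_, ?_⟩
    · rw [h]; exact Subgroup.map_subtype_le _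
    · rw [h]; exact hnorm
  by_contra hne
  haveI : Group.IsNilpotent (P : Subgroup Q) := P.isPGroup'.isNilpotent
  have hlt : S'.subgroupOf (P : Subgroup Q) < ⊤ := by
    rw [lt_top_iff_ne_top, ne_eq, Subgroup.subgroupOf_eq_top]
    exact fun h => hne (le_antisymm h hP)
  have hgrow := Group.normalizerCondition_of_isNilpotent _ hlt
  obtain ⟨x, hx, hxS⟩ := SetLike.exists_of_lt hgrow
  apply hxS
  rw [Subgroup.mem_subgroupOf]
  have hxN : (x : Q) ∈ Subgroup.normalizer (S' : Set Q) := by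
    refine mem_normalizer_of_conj S' (x : Q) fun s hs => ?_
    exact (Subgroup.mem_normalizer_iff.mp hx ⟨s, hP hs⟩).mp hs
  rw [hnorm] at hxN
  -- `x` is a `p`-element of `M`, hence in the normal Sylow subgroup
  haveI : (S : Subgroup M).Normal := inferInstance
  have hz : IsPGroup p (Subgroup.zpowers (⟨(x : Q), hxN⟩ : M)) := by
    refine (P.isPGroup'.to_le (H := Subgroup.zpowers (x : Q)) (Subgroup.zpowers_le.mpr x.2)).of_injective
      ((M.subtype.comp (Subgroup.zpowers (⟨(x : Q), hxN⟩ : M)).subtype).codRestrict _ ?_) ?_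
    · rintro ⟨_, k, rfl⟩
      exact ⟨k, by simp⟩
    · intro a b hab
      exact Subtype.ext (Subtype.ext (congrArg Subtype.val hab :))
  obtain ⟨T, hT⟩ := hz.exists_le_sylow
  haveI : Unique (Sylow p M) := Sylow.unique_of_normal S inferInstance
  rw [Subsingleton.elim T S] at hT
  exact ⟨⟨(x : Q), hxN⟩, hT (Subgroup.mem_zpowers _), rfl⟩

/-- In a group without solvable normal subgroups, a nilpotent maximal subgroup of odd order meets
the solvable residual trivially. -/
theorem inf_eq_bot_of_odd (hrad : ∀ N : Subgroup Q, N.Normal → Group.IsSolvable N → N = ⊥)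
    (D : Subgroup Q) (hD : ∀ L : Subgroup Q, ∀ hL : L.Normal, Group.IsSolvable (Q ⧸ L) → D ≤ L)
    {M : Subgroup Q} (hM : IsCoatom M) [Group.IsNilpotent M] (hodd : ¬ 2 ∣ Nat.card M) :
    M ⊓ D = ⊥ := by
  by_contra hne
  obtain ⟨p, hp, hpd⟩ := Nat.exists_prime_and_dvd (mt Subgroup.card_eq_one.mp hne)
  haveI := Fact.mk hp
  have hpM : p ∣ Nat.card M := hpd.trans (Subgroup.card_dvd_of_le inf_le_left)
  have hp2 : p ≠ 2 := fun h => hodd (h ▸ hpM)
  obtain ⟨P, hPM, hPN⟩ := sylow_of_maximal hrad hM hpM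
  have hZ : Subgroup.normalizer (Cfsg.centerThompsonAOf (P : Subgroup Q) : Set Q) = M := by
    rw [CfsgLib.PLocal.centerThompsonAOf_eq]
    have h1 := CfsgLib.PLocal.normalizer_le_normalizer_centerJ 0 (P : Subgroup Q)
    rw [hPN] at h1
    rcases eq_or_lt_of_le h1 with h | h
    · exact h.symm
    · exfalso
      haveI : (CfsgLib.PLocal.centerJ 0 (P : Subgroup Q)).Normal :=
        Subgroup.normalizer_eq_top_iff.mp (hM.2 _ h)
      haveI := (P.isPGroup'.to_le (CfsgLib.PLocal.centerJ_le 0 (P : Subgroup Q))).isNilpotent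
      refine CfsgLib.PLocal.centerJ_zero_ne_bot P.isPGroup' ?_ (hrad _ inferInstance inferInstance)
      exact P.ne_bot_of_dvd_card (hpM.trans (Subgroup.card_subgroup_dvd_card M))
  have hc : Cfsg.HasNormalPComplement p Q := by
    refine CfsgLib.Frobenius.ZJComp.hasNormalPComplement_of_centerThompsonAOf hp2 P ?_
    rw [hZ]
    exact hasNormalPComplement_of_isNilpotent p
  obtain ⟨P', N, hN, hNP⟩ := hc
  haveI := hN
  have hquot : Group.IsSolvable (Q ⧸ N) := by
    have hpg : IsPGroup p (Q ⧸ N) := by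
      refine IsPGroup.of_card (n := (Nat.card Q).factorization p) ?_
      rw [← Subgroup.index_eq_card, hNP.symm.index_eq_card, P'.card_eq_multiplicity]
    haveI := hpg.isNilpotent
    infer_instance
  have hDN := hD N hN hquot
  have h2 : p ∣ Nat.card N :=
    hpd.trans (Subgroup.card_dvd_of_le (inf_le_right.trans hDN))
  have h3 : ¬ p ∣ Nat.card N := by
    rw [← hNP.index_eq_card]; exact P'.not_dvd_index
  exact h3 h2

/-- No group without solvable normal subgroups is covered by nilpotent maximal subgroups. -/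
theorem subsingleton_of_covered (hrad : ∀ N : Subgroup Q, N.Normal → Group.IsSolvable N → N = ⊥)
    (hcov : ∀ q : Q, q ≠ 1 → ∃ M : Subgroup Q, IsCoatom M ∧ Group.IsNilpotent M ∧ q ∈ M) :
    Subsingleton Q := by
  by_contra hQ
  haveI := not_subsingleton_iff_nontrivial.mp hQ
  have hns : ¬ Group.IsSolvable Q := fun h => by
    haveI := h
    exact top_ne_bot (hrad ⊤ inferInstance inferInstance : (⊤ : Subgroup Q) = ⊥)
  -- the solvable residual
  obtain ⟨n, hn⟩ : ∃ n, ∀ m, n ≤ m → derivedSeries Q n ≤ derivedSeries Q m := by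
    obtain ⟨N, ⟨n, rfl⟩, hmin⟩ := (Set.toFinite (Set.range (derivedSeries Q))).exists_minimal
      (Set.range_nonempty _)
    refine ⟨n, fun m hm => ?_⟩
    exact hmin ⟨m, rfl⟩ (derivedSeries_antitone Q hm)
  set D := derivedSeries Q n with hDdef
  haveI : D.Normal := derivedSeries_normal Q n
  have hD : ∀ L : Subgroup Q, ∀ hL : L.Normal, Group.IsSolvable (Q ⧸ L) → D ≤ L := by
    intro L hL hs
    obtain ⟨m, hm⟩ := hs.solvable
    refine le_trans (hn (max n m) (le_max_left _ _)) ?_
    refine le_trans (derivedSeries_antitone Q (le_max_right n m)) ?_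
    have h1 := map_derivedSeries_le_derivedSeries (QuotientGroup.mk' L) m
    rw [hm, le_bot_iff, Subgroup.map_eq_bot_iff, QuotientGroup.ker_mk'] at h1
    exact h1
  have hDne : D ≠ ⊥ := fun h => hns ⟨n, h⟩
  have hDM : ∀ M : Subgroup Q, Group.IsNilpotent M → ¬ D ≤ M := by
    intro M hM hle
    haveI : Group.IsSolvable D :=
      Group.isSolvable_of_isSolvable_injective (f := Subgroup.inclusion hle)
        (Subgroup.inclusion_injective hle)
    exact hDne (hrad D inferInstance inferInstance)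
  haveI : Fact (Nat.Prime 2) := ⟨Nat.prime_two⟩
  -- all even ones are conjugate
  have heven : ∀ d ∈ D, d ≠ 1 → ∃ P : Sylow 2 Q,
      IsCoatom (Subgroup.normalizer ((P : Subgroup Q) : Set Q)) ∧
      Group.IsNilpotent (Subgroup.normalizer ((P : Subgroup Q) : Set Q)) ∧
      d ∈ Subgroup.normalizer ((P : Subgroup Q) : Set Q) := by
    intro d hd hd1
    obtain ⟨M, hM, hMn, hdM⟩ := hcov d hd1
    haveI := hMn
    have h2 : 2 ∣ Nat.card M := by
      by_contra h
      have hbot := inf_eq_bot_of_odd hrad D hD hM h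
      have hmem : d ∈ M ⊓ D := ⟨hdM, hd⟩
      rw [hbot, Subgroup.mem_bot] at hmem
      exact hd1 hmem
    obtain ⟨P, -, hPN⟩ := sylow_of_maximal hrad hM h2
    exact ⟨P, hPN.symm ▸ hM, hPN.symm ▸ hMn, hPN.symm ▸ hdM⟩
  obtain ⟨d₀, hd₀, hd₀1⟩ := (Subgroup.bot_or_exists_ne_one D).resolve_left hDne
  obtain ⟨P₀, hM₀, hM₀n, -⟩ := heven d₀ hd₀ hd₀1
  set M₀ := Subgroup.normalizer ((P₀ : Subgroup Q) : Set Q)
  have hsup : M₀ ⊔ D = ⊤ := hM₀.2 _ (lt_of_le_of_ne le_sup_left fun h =>
    hDM M₀ hM₀n (h ▸ le_sup_right))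
  obtain ⟨a, ha, hout⟩ := PrimRecog.exists_not_conj_mem (hDM M₀ hM₀n)
  have ha1 : a ≠ 1 := fun h => hout 1 D.one_mem (by rw [h]; simp)
  obtain ⟨P, -, -, haP⟩ := heven a ha ha1
  obtain ⟨g, hg⟩ := MulAction.exists_smul_eq Q P₀ P
  obtain ⟨m, hm, x, hx, rfl⟩ : ∃ m ∈ M₀, ∃ x ∈ D, x * m = g := by
    have hgtop : g ∈ D ⊔ M₀ := by rw [sup_comm, hsup]; trivial
    have : g ∈ (D : Set Q) * (M₀ : Set Q) := by
      rw [← Subgroup.normal_mul]; exact hgtop
    obtain ⟨x, hx, m, hm, rfl⟩ := this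
    exact ⟨m, hm, x, hx, rfl⟩
  rw [mul_smul, Sylow.smul_eq_iff_mem_normalizer.mpr hm] at hg
  apply hout x hx
  rw [← hg, Subgroup.mem_normalizer_iff] at haP
  rw [Subgroup.mem_normalizer_iff]
  intro y
  have h := haP (x * y * x⁻¹)
  rw [Sylow.coe_subgroup_smul, Subgroup.mem_pointwise_smul_iff_inv_smul_mem,
    Subgroup.mem_pointwise_smul_iff_inv_smul_mem, MulAut.smul_def, MulAut.smul_def,
    MulAut.conj_inv_apply, MulAut.conj_inv_apply] at h
  have e1 : x⁻¹ * (x * y * x⁻¹) * x = y := by group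
  have e2 : x⁻¹ * (a * (x * y * x⁻¹) * a⁻¹) * x = (x⁻¹ * a * x) * y * (x⁻¹ * a * x)⁻¹ := by group
  rw [e1, e2] at h
  exact h

end CfsgLib.NilpotentMaximal
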