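import Cfsg.Agent.Lib.Structure.FpfTight
import Cfsg.Agent.Lib.Coprime.Action
import Cfsg.Prelude.Def_Transfer

set_option autoImplicit false
set_option linter.style.haveILetI false

/-! An elementary abelian group as a module for a group normalising it. -/

namespace CfsgLib.Structure

open Finset
open scoped IsMulCommutative
open scoped commutatorElement

attribute [local instance 10000] IsMulCommutative.instCommMonoid IsMulCommutative.instCommGroup

variable {X : Type*} [Group X] (ℓ : ℕ) (V : Subgroup X) [IsMulCommutative V]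

/-- The module structure of an elementary abelian group. -/
@[reducible] def vModule (hV : ∀ v ∈ V, v ^ ℓ = 1) : Module (ZMod ℓ) (Additive V) :=
  AddCommGroup.zmodModule fun v => congrArg Additive.ofMul (Subtype.ext (hV _ (Additive.toMul v).2) :
    (Additive.toMul v : V) ^ ℓ = 1)

variable [Module (ZMod ℓ) (Additive V)]

/-- Conjugation as linear maps. -/
def vAction (L : Subgroup X) (hL : L ≤ Subgroup.normalizer (V : Set X)) :
    L →* Module.End (ZMod ℓ) (Additive V) :=
  { toFun := fun g => (MonoidHom.toAdditive (V.normalizerMonoidHom ⟨g, hL g.2⟩).toMonoidHom).toZModLinearMap ℓ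
    map_one' := LinearMap.ext fun v => congrArg Additive.ofMul
      (DFunLike.congr_fun (map_one V.normalizerMonoidHom) (Additive.toMul v))
    map_mul' := fun g h => LinearMap.ext fun v => congrArg Additive.ofMul
      (DFunLike.congr_fun (map_mul V.normalizerMonoidHom ⟨g, hL g.2⟩ ⟨h, hL h.2⟩) (Additive.toMul v)) }

theorem vAction_coe (L : Subgroup X) (hL : L ≤ Subgroup.normalizer (V : Set X))
    (g : L) (v : Additive V) :
    ((Additive.toMul (vAction ℓ V L hL g v) : V) : X) = g * (Additive.toMul v : V) * (g : X)⁻¹ := rfl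

theorem vAction_eq_one_iff (L : Subgroup X) (hL : L ≤ Subgroup.normalizer (V : Set X))
    (g : L) :
    vAction ℓ V L hL g = 1 ↔ (g : X) ∈ Subgroup.centralizer (V : Set X) := by
  rw [Subgroup.mem_centralizer_iff]
  constructor
  · intro h v hv
    have := congrArg (fun z : Additive V => ((Additive.toMul z : V) : X))
      (LinearMap.congr_fun h (Additive.ofMul (⟨v, hv⟩ : V)))
    simp only [vAction_coe] at this
    exact (mul_inv_eq_iff_eq_mul.mp this).symm
  · intro h
    refine LinearMap.ext fun v => ?_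
    apply Additive.toMul.injective
    apply Subtype.ext
    rw [vAction_coe]
    exact mul_inv_eq_iff_eq_mul.mpr (h _ (Additive.toMul v).2).symm

/-- An element of finite order without fixed points has vanishing trace sum. -/
theorem vAction_sum_pow_eq_zero (L : Subgroup X)
    (hL : L ≤ Subgroup.normalizer (V : Set X)) (g : L) {n : ℕ} (hn : g ^ n = 1)
    (hfix : ∀ v ∈ V, (g : X) * v = v * g → v = 1) :
    ∀ v, ∑ i ∈ range n, (vAction ℓ V L hL g ^ i) v = 0 := by
  intro v
  set s := ∑ i ∈ range n, (vAction ℓ V L hL g ^ i) v with hs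
  have hfs : vAction ℓ V L hL g s = s := by
    rw [hs, map_sum, Finset.sum_congr rfl fun i _ => show vAction ℓ V L hL g ((vAction ℓ V L hL g ^ i) v) =
      (vAction ℓ V L hL g ^ (i + 1)) v by rw [pow_succ', Module.End.mul_apply]]
    have h1 := Finset.sum_range_succ' (fun i => (vAction ℓ V L hL g ^ i) v) n
    rw [Finset.sum_range_succ, ← map_pow, hn, map_one, pow_zero] at h1
    exact (add_right_cancel h1).symm
  have h := congrArg (fun z : Additive V => ((Additive.toMul z : V) : X)) hfs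
  simp only [vAction_coe] at h
  have h1 := hfix _ (Additive.toMul s).2 (mul_inv_eq_iff_eq_mul.mp h)
  exact Additive.toMul.injective (Subtype.ext h1)

variable [Finite X]

/-- An operator of prime order without fixed points on `V` centralises a `q`-group modulo `C(V)`,
outside the exceptional configuration. -/
theorem commutator_le_centralizer_of_fpf_aux {p q : ℕ} [hp : Fact p.Prime] [hq : Fact q.Prime]
    [hℓ : Fact ℓ.Prime] (hpq : p ≠ q) (hpℓ : p ≠ ℓ) (hqℓ : q ≠ ℓ) (Q R : Subgroup X) (hQ : IsPGroup q Q)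
    (hR : Nat.card R = p) (hexc : q = 2 → (∃ n, p = 2 ^ n + 1) → ∀ a ∈ Q, ∀ b ∈ Q, a * b = b * a)
    (hRQ : R ≤ Subgroup.normalizer (Q : Set X)) (hL : Q ⊔ R ≤ Subgroup.normalizer (V : Set X))
    (hfix : V ⊓ Subgroup.centralizer (R : Set X) = ⊥) :
    ⁅Q, R⁆ ≤ Subgroup.centralizer (V : Set X) := by
  haveI : IsCyclic R := isCyclic_of_prime_card hR
  obtain ⟨⟨r, hr⟩, hgen⟩ := IsCyclic.exists_generator (α := R)
  have hrp : r ^ p = 1 := by
    have := congrArg Subtype.val (pow_card_eq_one' (x := (⟨r, hr⟩ : R)))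
    rw [hR] at this; exact this
  set rL : (Q ⊔ R : Subgroup X) := ⟨r, le_sup_right (a := Q) hr⟩
  have hsum := vAction_sum_pow_eq_zero ℓ V (Q ⊔ R) hL rL (n := p) (Subtype.ext hrp) (fun v hv h => by
    have h1 : v ∈ V ⊓ Subgroup.centralizer (R : Set X) := ⟨hv, Subgroup.mem_centralizer_iff.mpr fun g hg => by
      obtain ⟨i, hi⟩ := Subgroup.mem_zpowers_iff.mp (hgen ⟨g, hg⟩)
      have hgi : g = r ^ i := (congrArg Subtype.val hi).symm
      rw [hgi]
      exact (Commute.zpow_left h i).eq⟩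
    rwa [hfix, Subgroup.mem_bot] at h1)
  let σ : MulAut Q := Q.normalizerMonoidHom ⟨r, hRQ hr⟩
  have hσ : σ ^ p = 1 := by
    rw [← map_pow, show (⟨r, hRQ hr⟩ : Subgroup.normalizer (Q : Set X)) ^ p = 1 from Subtype.ext hrp, map_one]
  let ρL := vAction ℓ V (Q ⊔ R) hL
  let ρQ := MonoidHom.comp ρL (Subgroup.inclusion (le_sup_left : Q ≤ Q ⊔ R))
  let U := ρL rL
  have key := fpf_elementary_exc (V := Additive V) hpq hpℓ hqℓ hQ
    (fun h1 h2 a b => Subtype.ext (hexc h1 h2 a a.2 b b.2))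
    ρQ σ hσ U
    (fun y => by
      show vAction ℓ V (Q ⊔ R) hL rL * vAction ℓ V (Q ⊔ R) hL (Subgroup.inclusion le_sup_left y) =
        vAction ℓ V (Q ⊔ R) hL (Subgroup.inclusion le_sup_left (σ y)) * vAction ℓ V (Q ⊔ R) hL rL
      rw [← map_mul, ← map_mul]
      congr 1
      apply Subtype.ext
      show r * (y : X) = r * y * r⁻¹ * r
      group)
    hsum
  rw [Subgroup.commutator_le]
  intro x hx g hg
  obtain ⟨i, hi⟩ := (Submonoid.mem_powers_iff _ _).mp (mem_powers_iff_mem_zpowers.mpr (hgen ⟨g, hg⟩))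
  have hgi : g = r ^ i := (congrArg Subtype.val hi).symm
  subst hgi
  have hi' : ∀ i : ℕ, vAction ℓ V (Q ⊔ R) hL (Subgroup.inclusion le_sup_left ((σ ^ i) ⟨x, hx⟩)) =
      vAction ℓ V (Q ⊔ R) hL (Subgroup.inclusion le_sup_left ⟨x, hx⟩) := by
    intro i
    induction i with
    | zero => rfl
    | succ i ih => rw [pow_succ', MulAut.mul_apply]; exact (key _).trans ih
  have hmem : ⁅x, r ^ i⁆ ∈ Q ⊔ R :=
    (Q ⊔ R).mul_mem ((Q ⊔ R).mul_mem ((Q ⊔ R).mul_mem (le_sup_left (b := R) hx) (le_sup_right (a := Q) hg))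
      ((Q ⊔ R).inv_mem (le_sup_left (b := R) hx))) ((Q ⊔ R).inv_mem (le_sup_right (a := Q) hg))
  refine (vAction_eq_one_iff ℓ V (Q ⊔ R) hL ⟨⁅x, r ^ i⁆, hmem⟩).mp ?_
  have e : (⟨⁅x, r ^ i⁆, hmem⟩ : (Q ⊔ R : Subgroup X)) = Subgroup.inclusion le_sup_left ⟨x, hx⟩ *
      (Subgroup.inclusion le_sup_left ((σ ^ i) ⟨x, hx⟩))⁻¹ := by
    apply Subtype.ext
    have hσi : (((σ ^ i) ⟨x, hx⟩ : Q) : X) = r ^ i * x * (r ^ i)⁻¹ := by
      rw [← map_pow]; rfl
    show ⁅x, r ^ i⁆ = x * (((σ ^ i) ⟨x, hx⟩ : Q) : X)⁻¹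
    rw [hσi, commutatorElement_def]
    group
  rw [e, map_mul, ← hi' i, ← map_mul, mul_inv_cancel, map_one]

omit [Module (ZMod ℓ) (Additive V)] in
/-- An operator of prime order without fixed points on `V` centralises a `q`-group modulo `C(V)`,
outside the exceptional configuration. -/
theorem commutator_le_centralizer_of_fpf_exc {p q : ℕ} [hp : Fact p.Prime] [hq : Fact q.Prime]
    [hℓ : Fact ℓ.Prime] (hpq : p ≠ q) (hpℓ : p ≠ ℓ) (hqℓ : q ≠ ℓ) (Q R : Subgroup X) (hQ : IsPGroup q Q)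
    (hR : Nat.card R = p) (hV : ∀ v ∈ V, v ^ ℓ = 1)
    (hexc : q = 2 → (∃ n, p = 2 ^ n + 1) → ∀ a ∈ Q, ∀ b ∈ Q, a * b = b * a)
    (hRQ : R ≤ Subgroup.normalizer (Q : Set X)) (hL : Q ⊔ R ≤ Subgroup.normalizer (V : Set X))
    (hfix : V ⊓ Subgroup.centralizer (R : Set X) = ⊥) :
    ⁅Q, R⁆ ≤ Subgroup.centralizer (V : Set X) :=
  letI := vModule ℓ V hV
  commutator_le_centralizer_of_fpf_aux ℓ V hpq hpℓ hqℓ Q R hQ hR hexc hRQ hL hfix

end CfsgLib.Structure
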