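import Mathlib
import Cfsg.Agent.Lib.Small.Basic

/-!
Groups whose order divides `175560`: no simple group of proper divisor order is divisible by `19`.
-/

set_option autoImplicit false
set_option linter.style.haveILetI false

open scoped Pointwise

namespace CfsgLib.OrderJanko

open Subgroup

/-- The divisors of `175560`. -/
def divs : List ℕ :=
  [1, 2, 4, 8].flatMap fun a => [1, 3].flatMap fun b => [1, 5].flatMap fun c => [1, 7].flatMap fun d =>
    [1, 11].flatMap fun e => [1, 19].map fun f => a * (b * (c * (d * (e * f))))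

theorem mem_divs {n : ℕ} (h : n ∣ 175560) : n ∈ divs := by
  obtain ⟨a, r1, ha, hr1, rfl⟩ := Nat.dvd_mul.mp (show n ∣ 8 * (3 * (5 * (7 * (11 * 19)))) by simpa using h)
  obtain ⟨b, r2, hb, hr2, rfl⟩ := Nat.dvd_mul.mp hr1
  obtain ⟨c, r3, hc, hr3, rfl⟩ := Nat.dvd_mul.mp hr2
  obtain ⟨d, r4, hd, hr4, rfl⟩ := Nat.dvd_mul.mp hr3
  obtain ⟨e, f, he, hf, rfl⟩ := Nat.dvd_mul.mp hr4
  simp only [divs, List.mem_flatMap, List.mem_map]
  refine ⟨a, ?_, b, ?_, c, ?_, d, ?_, e, ?_, f, ?_, rfl⟩
  · exact (show ∀ x < 9, x ∣ 8 → x ∈ [1, 2, 4, 8] by decide) a (Nat.lt_succ_of_le (Nat.le_of_dvd (by norm_num) ha)) ha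
  all_goals simp only [List.mem_cons, List.not_mem_nil, or_false]
  · exact (Nat.dvd_prime (by norm_num)).mp hb
  · exact (Nat.dvd_prime (by norm_num)).mp hc
  · exact (Nat.dvd_prime (by norm_num)).mp hd
  · exact (Nat.dvd_prime (by norm_num)).mp he
  · exact (Nat.dvd_prime (by norm_num)).mp hf

/-- Sylow data at a prime: the prime, the number of Sylow subgroups, `[N : C]` and `|C| / p`. -/
structure Dat where
  p : ℕ
  d : ℕ
  e : ℕ
  c : ℕ

/-- The possible data at `p` in a simple group of order `n`. -/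
def opts (n p : ℕ) : List Dat :=
  (divs.filter fun d => decide (1 < d) && decide (n / p % d = 0) && decide (d % p = 1)).flatMap fun d =>
    ((List.range p).filter fun e =>
        decide (1 < e) && decide ((p - 1) % e = 0) && decide (n / p % (d * e) = 0) &&
        (decide (12 < d) || decide (d.factorial % (2 * n) = 0)) &&
        (decide (n % 8 = 0) || decide (e % 4 ≠ 0)) &&
        !(decide (p = 19) && decide (d = 20) && (decide (1 < n / p / (d * e)) || decide (e % 2 = 0)))).map
      fun e => ⟨p, d, e, n / p / (d * e)⟩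

/-- The number of elements of order divisible by `p`. -/
def cnt (x : Dat) : ℕ := x.d * (x.p - 1) * x.c

/-- An upper bound for the number of elements of order divisible by both primes. -/
def inter (x y : Dat) : ℕ :=
  if x.c % y.p = 0 then min (x.d * (x.p - 1) * (x.c - 1)) (y.d * (y.p - 1) * (y.c - 1)) else 0

/-- Incompatible data. -/
def pairBad (x y : Dat) : Bool :=
  decide (x.c % y.p = 0) &&
    (decide (y.c % x.p ≠ 0) ||
      ((divs.all fun z => decide (z ≤ 1) || decide (z % y.p ≠ 1) || decide (x.p * x.c / y.p % z ≠ 0)) &&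
        decide ((y.p * y.e * y.c) % (x.p * x.c) ≠ 0)))

/-- The pairwise correction. -/
def corr : List Dat → ℕ
  | [] => 0
  | x :: r => (r.map (inter x)).sum + corr r

/-- A list of data contradicting simplicity. -/
def bad (n : ℕ) (acc : List Dat) : Bool :=
  (acc.any fun x => acc.any fun y => decide (x.p ≠ y.p) && pairBad x y) ||
    (acc.sublists.any fun T => decide (n + corr T ≤ (T.map cnt).sum))

/-- All choices of data are contradictory. -/
def dead (n : ℕ) : List Dat → List ℕ → Bool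
  | acc, [] => bad n acc
  | acc, p :: r => bad n acc || (opts n p).all fun x => dead n (x :: acc) r

variable {G : Type*} [Group G] [Finite G]

/-- The data of `G` at `x.p`. -/
def IsDat (G : Type*) [Group G] (x : Dat) : Prop :=
  x.p.Prime ∧ Nat.card (Sylow x.p G) = x.d ∧ x.p * (x.d * x.e * x.c) = Nat.card G ∧ ¬ x.p ∣ x.d * x.e * x.c ∧
    ∀ P : Sylow x.p G, Nat.card P = x.p ∧
      Nat.card (centralizer ((P : Subgroup G) : Set G)) = x.p * x.c ∧
      Nat.card (normalizer ((P : Subgroup G) : Set G)) = x.p * x.c * x.e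

omit [Finite G] in
/-- Every element is a product of a `p`-th root of unity and a `p`-regular element. -/
theorem exists_decomp {p m : ℕ} (hp : p.Prime) (hm : ¬ p ∣ m) {g : G} (hg : g ^ (p * m) = 1) :
    ∃ u z : G, u * z = g ∧ u ^ p = 1 ∧ z ^ m = 1 ∧ (∀ h, Commute h g → Commute h u ∧ Commute h z) := by
  have hco : p.Coprime m := (hp.coprime_iff_not_dvd).mpr hm
  have h1 : (p : ℤ) * Nat.gcdA p m + (m : ℤ) * Nat.gcdB p m = 1 := by
    rw [← Nat.gcd_eq_gcd_ab, hco.gcd_eq_one, Nat.cast_one]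
  have hgz : g ^ ((p : ℤ) * m) = 1 := by rw [← Nat.cast_mul, zpow_natCast, hg]
  refine ⟨g ^ ((m : ℤ) * Nat.gcdB p m), g ^ ((p : ℤ) * Nat.gcdA p m), ?_, ?_, ?_, ?_⟩
  · rw [← zpow_add, add_comm, h1, zpow_one]
  · rw [← zpow_natCast, ← zpow_mul, show (m : ℤ) * Nat.gcdB p m * p = (p : ℤ) * m * Nat.gcdB p m by ring,
      zpow_mul, hgz, one_zpow]
  · rw [← zpow_natCast, ← zpow_mul, show (p : ℤ) * Nat.gcdA p m * m = (p : ℤ) * m * Nat.gcdA p m by ring,
      zpow_mul, hgz, one_zpow]
  · exact fun h hh => ⟨hh.zpow_right _, hh.zpow_right _⟩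

omit [Finite G] in
theorem decomp_unique {p m : ℕ} (hp : p.Prime) (hm : ¬ p ∣ m) {u z u' z' : G} (hu : u ^ p = 1) (hz : z ^ m = 1)
    (hu' : u' ^ p = 1) (hz' : z' ^ m = 1) (hc : Commute u z) (hc' : Commute u' z') (h : u * z = u' * z') :
    u = u' ∧ z = z' := by
  have hco : p.Coprime m := (hp.coprime_iff_not_dvd).mpr hm
  have h1 : u ^ m = u' ^ m := by
    have := congrArg (· ^ m) h
    simpa [hc.mul_pow, hc'.mul_pow, hz, hz'] using this
  have h2 : ∀ w : G, w ^ p = 1 → w = (w ^ m) ^ Nat.gcdB p m := fun w hw => by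
    have h1 : (p : ℤ) * Nat.gcdA p m + (m : ℤ) * Nat.gcdB p m = 1 := by
      rw [← Nat.gcd_eq_gcd_ab, hco.gcd_eq_one, Nat.cast_one]
    rw [← zpow_natCast w m, ← zpow_mul]
    conv_lhs => rw [← zpow_one w, ← h1, zpow_add, zpow_mul, zpow_natCast, hw, one_zpow, one_mul]
  have e : u = u' := by rw [h2 u hu, h2 u' hu', h1]
  exact ⟨e, mul_left_cancel (h.trans (by rw [e]))⟩

theorem exists_sylow_of_orderOf {p : ℕ} [Fact p.Prime] (hP : ∀ P : Sylow p G, Nat.card P = p) {y : G}
    (hy : orderOf y = p) : ∃ P : Sylow p G, (P : Subgroup G) = zpowers y := by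
  obtain ⟨P, hyP, -⟩ := CfsgLib.Small.exists_unique_sylow_mem hy hP
  refine ⟨P, CfsgLib.Small.eq_zpowers_of_mem (hP P) hyP fun h => ?_⟩
  exact (Fact.out : p.Prime).ne_one (by rw [← hy, h, orderOf_one])

/-- `p`-regular elements of the centralizer of an element of order `p`. -/
abbrev Kel (p m : ℕ) (y : G) := {z : G // Commute z y ∧ z ^ m = 1}

theorem card_kel {x : Dat} (hx : IsDat G x) {y : G} (hy : orderOf y = x.p) :
    Nat.card (Kel x.p (x.d * x.e * x.c) y) = x.c := by
  obtain ⟨hp, -, hn, hm, hP⟩ := hx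
  haveI := Fact.mk hp
  set m := x.d * x.e * x.c
  obtain ⟨P, hPy⟩ := exists_sylow_of_orderOf (fun P => (hP P).1) hy
  have hC : ∀ g : G, g ∈ centralizer ((P : Subgroup G) : Set G) ↔ Commute g y := by
    intro g
    rw [hPy, mem_centralizer_iff]
    refine ⟨fun h => (h y (mem_zpowers y)).symm, ?_⟩
    rintro h _ ⟨i, rfl⟩
    exact (h.zpow_right i).eq.symm
  let f : ↥(P : Subgroup G) × Kel x.p m y → centralizer ((P : Subgroup G) : Set G) := fun uz =>
    ⟨(uz.1 : G) * uz.2.1, mul_mem ((hC _).mpr (by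
      obtain ⟨i, hi⟩ := (hPy ▸ uz.1.2 : (uz.1 : G) ∈ zpowers y)
      rw [← hi]; exact (Commute.refl y).zpow_left i)) ((hC _).mpr uz.2.2.1)⟩
  have hupow : ∀ u ∈ (P : Subgroup G), u ^ x.p = 1 := fun u hu => by
    obtain ⟨i, rfl⟩ := (hPy ▸ hu : u ∈ zpowers y)
    show (y ^ i) ^ x.p = 1
    rw [← zpow_natCast, ← zpow_mul, mul_comm, zpow_mul, zpow_natCast, ← hy, pow_orderOf_eq_one, one_zpow]
  have hf : Function.Bijective f := by
    constructor
    · rintro ⟨⟨u, hu⟩, ⟨z, hz, hzm⟩⟩ ⟨⟨u', hu'⟩, ⟨z', hz', hzm'⟩⟩ h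
      have hc : ∀ w ∈ (P : Subgroup G), ∀ v : G, Commute v y → Commute w v := by
        intro w hw v hv
        obtain ⟨i, rfl⟩ := (hPy ▸ hw : w ∈ zpowers y)
        exact (hv.zpow_right i).symm
      obtain ⟨rfl, rfl⟩ := decomp_unique hp hm (hupow u hu) hzm (hupow u' hu') hzm' (hc u hu z hz)
        (hc u' hu' z' hz') (congrArg Subtype.val h)
      rfl
    · rintro ⟨g, hg⟩
      obtain ⟨u, z, huz, hu, hz, hcomm⟩ := exists_decomp hp hm
        (show g ^ (x.p * m) = 1 by rw [hn]; exact pow_card_eq_one')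
      obtain ⟨c1, c2⟩ := hcomm y ((hC g).mp hg).symm
      have huP : u ∈ (P : Subgroup G) := by
        have hpg : IsPGroup x.p (zpowers u) := IsPGroup.of_card_dvd_pow (n := 1) (by
          rw [Nat.card_zpowers, pow_one]; exact orderOf_dvd_of_pow_eq_one hu)
        have h1 := IsPGroup.to_sup_of_normal_right' hpg P.isPGroup'
          (zpowers_le.mpr (centralizer_le_normalizer _ ((hC u).mpr c1.symm)))
        exact (P.3 h1 le_sup_right).le (mem_sup_left (mem_zpowers u))
      exact ⟨(⟨u, huP⟩, ⟨z, c2.symm, hz⟩), Subtype.ext huz⟩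
  have h1 := Nat.card_congr (Equiv.ofBijective f hf)
  rw [Nat.card_prod, (hP P).1, (hP P).2.1] at h1
  exact Nat.eq_of_mul_eq_mul_left hp.pos h1

/-- Elements of order divisible by `p`. -/
def eset (p : ℕ) : Set G := {g | p ∣ orderOf g}

theorem orderOf_mul_dvd {p m : ℕ} (hp : p.Prime) (hm : ¬ p ∣ m) {y z : G} (hy : orderOf y = p)
    (hz : z ^ m = 1) (hc : Commute z y) : p ∣ orderOf (y * z) := by
  have hco : (orderOf y).Coprime (orderOf z) := hy ▸ ((hp.coprime_iff_not_dvd).mpr fun h =>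
    hm (h.trans (orderOf_dvd_of_pow_eq_one hz)))
  rw [hc.symm.orderOf_mul_eq_mul_orderOf_of_coprime hco, hy]
  exact dvd_mul_right _ _

theorem card_eset {x : Dat} (hx : IsDat G x) : Nat.card (eset (G := G) x.p) = cnt x := by
  classical
  obtain ⟨hp, hd, hn, hm, hP⟩ := id hx
  haveI := Fact.mk hp
  haveI := Fintype.ofFinite G
  set m := x.d * x.e * x.c
  let f : (Σ y : {g : G // orderOf g = x.p}, Kel x.p m (y : G)) → eset (G := G) x.p := fun yz =>
    ⟨(yz.1 : G) * yz.2.1, orderOf_mul_dvd hp hm yz.1.2 yz.2.2.2 yz.2.2.1⟩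
  have hf : Function.Bijective f := by
    constructor
    · rintro ⟨⟨y, hy⟩, ⟨z, hz, hzm⟩⟩ ⟨⟨y', hy'⟩, ⟨z', hz', hzm'⟩⟩ h
      obtain ⟨rfl, rfl⟩ := decomp_unique hp hm (orderOf_dvd_iff_pow_eq_one.mp hy.dvd) hzm (orderOf_dvd_iff_pow_eq_one.mp hy'.dvd) hzm'
        hz.symm hz'.symm (congrArg Subtype.val h)
      rfl
    · rintro ⟨g, hg⟩
      obtain ⟨u, z, huz, hu, hz, hcomm⟩ := exists_decomp hp hm
        (show g ^ (x.p * m) = 1 by rw [hn]; exact pow_card_eq_one')
      obtain ⟨c1, -⟩ := hcomm g (Commute.refl g)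
      obtain ⟨-, c2⟩ := hcomm u c1.symm
      have huo : orderOf u = x.p := by
        refine ((hp.eq_one_or_self_of_dvd _ (orderOf_dvd_of_pow_eq_one hu))).resolve_left fun h => hm ?_
        rw [orderOf_eq_one_iff] at h
        subst h
        rw [one_mul] at huz
        subst huz
        exact hg.trans (orderOf_dvd_of_pow_eq_one hz)
      exact ⟨⟨⟨u, huo⟩, ⟨z, c2.symm, hz⟩⟩, Subtype.ext huz⟩
  rw [← Nat.card_congr (Equiv.ofBijective f hf), Nat.card_sigma,
    Finset.sum_congr rfl (g := fun _ => x.c) (fun y _ => card_kel hx y.2), Finset.sum_const, smul_eq_mul,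
    Finset.card_univ, ← Nat.card_eq_fintype_card, CfsgLib.Small.card_orderOf_eq_prime (fun P => (hP P).1), hd, cnt]

theorem dvd_c_of_common {x y : Dat} (hx : IsDat G x) (hy : IsDat G y) (hne : x.p ≠ y.p) {g : G}
    (h1 : x.p ∣ orderOf g) (h2 : y.p ∣ orderOf g) : y.p ∣ x.c := by
  haveI := Fact.mk hx.1
  set a := g ^ (orderOf g / x.p)
  set b := g ^ (orderOf g / y.p)
  have ha : orderOf a = x.p := by
    rw [orderOf_pow_of_dvd (Nat.div_pos (Nat.le_of_dvd (orderOf_pos g) h1) hx.1.pos).ne' (Nat.div_dvd_of_dvd h1),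
      Nat.div_div_self h1 (orderOf_pos g).ne']
  have hb : orderOf b = y.p := by
    rw [orderOf_pow_of_dvd (Nat.div_pos (Nat.le_of_dvd (orderOf_pos g) h2) hy.1.pos).ne' (Nat.div_dvd_of_dvd h2),
      Nat.div_div_self h2 (orderOf_pos g).ne']
  obtain ⟨P, hP⟩ := exists_sylow_of_orderOf (fun P => (hx.2.2.2.2 P).1) ha
  have hbC : b ∈ centralizer ((P : Subgroup G) : Set G) := by
    rw [hP, mem_centralizer_iff]
    rintro _ ⟨i, rfl⟩
    exact (((Commute.refl g).pow_pow _ _).zpow_left i).eq
  have := Subgroup.orderOf_dvd_natCard _ hbC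
  rw [hb, (hx.2.2.2.2 P).2.1] at this
  exact ((hy.1.dvd_mul).mp this).resolve_left fun h => hne ((Nat.prime_dvd_prime_iff_eq hy.1 hx.1).mp h).symm

theorem dvd_c_symm {x y : Dat} (hx : IsDat G x) (hy : IsDat G y) (hne : x.p ≠ y.p) (h : y.p ∣ x.c) :
    x.p ∣ y.c := by
  haveI := Fact.mk hx.1
  haveI := Fact.mk hy.1
  obtain ⟨P⟩ := (inferInstance : Nonempty (Sylow x.p G))
  obtain ⟨⟨b, hb⟩, hbo⟩ := exists_prime_orderOf_dvd_card' (G := centralizer ((P : Subgroup G) : Set G)) y.p
    (by rw [(hx.2.2.2.2 P).2.1]; exact h.mul_left _)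
  rw [Subgroup.orderOf_mk] at hbo
  obtain ⟨⟨a, ha⟩, hao⟩ := exists_prime_orderOf_dvd_card' (G := (P : Subgroup G)) x.p
    (by rw [(hx.2.2.2.2 P).1])
  rw [Subgroup.orderOf_mk] at hao
  have hc : Commute a b := mem_centralizer_iff.mp hb a ha
  refine dvd_c_of_common hy hx hne.symm (g := a * b) ?_ ?_
  all_goals rw [hc.orderOf_mul_eq_mul_orderOf_of_coprime
    (by rw [hao, hbo]; exact (Nat.coprime_primes hx.1 hy.1).mpr hne), hao, hbo]
  · exact dvd_mul_left _ _
  · exact dvd_mul_right _ _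

theorem card_inter_le_aux {x y : Dat} (hx : IsDat G x) (hy : IsDat G y) (hne : x.p ≠ y.p) :
    Nat.card (eset (G := G) x.p ∩ eset y.p : Set G) ≤ x.d * (x.p - 1) * (x.c - 1) := by
  classical
  obtain ⟨hp, hd, hn, hm, hP⟩ := id hx
  haveI := Fact.mk hp
  haveI := Fintype.ofFinite G
  set m := x.d * x.e * x.c
  have hex : ∀ g : (eset (G := G) x.p ∩ eset y.p : Set G),
      ∃ yz : (Σ u : {g : G // orderOf g = x.p}, {z : Kel x.p m (u : G) // ¬ (z : G) = 1}),
        (yz.1 : G) * (yz.2.1 : G) = g := by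
    rintro ⟨g, hg1, hg2⟩
    obtain ⟨u, z, huz, hu, hz, hcomm⟩ := exists_decomp hp hm
      (show g ^ (x.p * m) = 1 by rw [hn]; exact pow_card_eq_one')
    obtain ⟨c1, -⟩ := hcomm g (Commute.refl g)
    obtain ⟨-, c2⟩ := hcomm u c1.symm
    have huo : orderOf u = x.p := by
      refine ((hp.eq_one_or_self_of_dvd _ (orderOf_dvd_of_pow_eq_one hu))).resolve_left fun h => hm ?_
      rw [orderOf_eq_one_iff] at h
      subst h
      rw [one_mul] at huz
      subst huz
      exact (show x.p ∣ orderOf z from hg1).trans (orderOf_dvd_of_pow_eq_one hz)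
    have hz1 : z ≠ 1 := by
      rintro rfl
      rw [mul_one] at huz
      subst huz
      exact hne ((Nat.prime_dvd_prime_iff_eq hy.1 hp).mp (huo ▸ (show y.p ∣ orderOf u from hg2))).symm
    exact ⟨⟨⟨u, huo⟩, ⟨⟨z, c2.symm, hz⟩, hz1⟩⟩, huz⟩
  choose f hf using hex
  refine (Nat.card_le_card_of_injective f fun a b hab => Subtype.ext (by rw [← hf a, ← hf b, hab])).trans ?_
  rw [Nat.card_sigma, Finset.sum_congr rfl (g := fun _ => x.c - 1), Finset.sum_const, smul_eq_mul,
    Finset.card_univ, ← Nat.card_eq_fintype_card, CfsgLib.Small.card_orderOf_eq_prime (fun P => (hP P).1), hd]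
  intro u _
  have e : Nat.card {z : Kel x.p m (u : G) // ¬ (z : G) = 1} =
      Nat.card {z : Kel x.p m (u : G) // ¬ z = ⟨1, Commute.one_left _, one_pow _⟩} :=
    Nat.card_congr (Equiv.subtypeEquivRight fun z => by simp [Subtype.ext_iff])
  rw [e, Nat.card_eq_fintype_card, Fintype.card_subtype_compl, Fintype.card_subtype_eq,
    ← Nat.card_eq_fintype_card, card_kel hx u.2]

theorem card_inter_le {x y : Dat} (hx : IsDat G x) (hy : IsDat G y) (hne : x.p ≠ y.p) :
    Nat.card (eset (G := G) x.p ∩ eset y.p : Set G) ≤ inter x y := by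
  unfold inter
  split_ifs with h
  · refine le_min (card_inter_le_aux hx hy hne) ?_
    rw [Set.inter_comm]
    exact card_inter_le_aux hy hx hne.symm
  · have he : (eset (G := G) x.p ∩ eset y.p : Set G) = ∅ :=
      Set.eq_empty_iff_forall_notMem.mpr fun g ⟨h1, h2⟩ =>
        h (Nat.dvd_iff_mod_eq_zero.mp (dvd_c_of_common hx hy hne h1 h2))
    simp [he]

/-- The union of the sets of `p`-singular elements. -/
def uset : List Dat → Set G
  | [] => ∅
  | x :: r => eset x.p ∪ uset r

theorem card_uset : ∀ T : List Dat, (∀ x ∈ T, IsDat G x) → T.Pairwise (fun x y => x.p ≠ y.p) →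
    (T.map cnt).sum ≤ Nat.card (uset (G := G) T) + corr T := by
  intro T
  induction T with
  | nil => simp [corr]
  | cons x r ih =>
    intro hT hpw
    obtain ⟨hx, hr⟩ := List.forall_mem_cons.mp hT
    obtain ⟨hne, hpw'⟩ := List.pairwise_cons.mp hpw
    have h2 : ∀ r' : List Dat, (∀ y ∈ r', IsDat G y) → (∀ y ∈ r', x.p ≠ y.p) →
        Nat.card (eset (G := G) x.p ∩ uset r' : Set G) ≤ (r'.map (inter x)).sum := by
      intro r'
      induction r' with
      | nil => simp [uset]
      | cons y s ihs =>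
        intro hs hne'
        have e : (eset (G := G) x.p ∩ uset (y :: s) : Set G) =
            (eset x.p ∩ eset y.p) ∪ (eset x.p ∩ uset s) := Set.inter_union_distrib_left _ _ _
        rw [Nat.card_coe_set_eq, e]
        refine (Set.ncard_union_le _ _).trans ?_
        rw [List.map_cons, List.sum_cons]
        refine Nat.add_le_add ?_ ?_
        · rw [← Nat.card_coe_set_eq]
          exact card_inter_le hx (hs y List.mem_cons_self) (hne' y List.mem_cons_self)
        · rw [← Nat.card_coe_set_eq]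
          exact ihs (fun z hz => hs z (List.mem_cons_of_mem _ hz)) (fun z hz => hne' z (List.mem_cons_of_mem _ hz))
    have h3 := Set.ncard_union_add_ncard_inter (eset (G := G) x.p) (uset r)
    have h4 := ih hr hpw'
    have h5 := h2 r hr hne
    rw [List.map_cons, List.sum_cons, corr, ← card_eset hx]
    simp only [Nat.card_coe_set_eq] at h4 h5 ⊢
    show _ ≤ (eset (G := G) x.p ∪ uset r).ncard + _
    omega

theorem uset_lt : ∀ T : List Dat, (∀ x ∈ T, IsDat G x) → Nat.card (uset (G := G) T) < Nat.card G := by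
  intro T hT
  have h : (1 : G) ∉ uset (G := G) T := by
    induction T with
    | nil => exact id
    | cons x r ih =>
      obtain ⟨hx, hr⟩ := List.forall_mem_cons.mp hT
      rintro (h | h)
      · exact hx.1.not_dvd_one (orderOf_one (G := G) ▸ h)
      · exact ih hr h
  rw [Nat.card_coe_set_eq]
  exact Set.ncard_lt_card fun e => h (e ▸ Set.mem_univ _)

omit [Finite G] in
theorem mem_divs_of_dvd {d : ℕ} (hn : Nat.card G ∣ 175560) (h : d ∣ Nat.card G) : d ∈ divs := mem_divs (h.trans hn)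

theorem pairBad_false (hn : Nat.card G ∣ 175560) {x y : Dat} (hx : IsDat G x) (hy : IsDat G y)
    (hne : x.p ≠ y.p) : pairBad x y = false := by
  rw [Bool.eq_false_iff]
  intro h
  simp only [pairBad, Bool.and_eq_true, Bool.or_eq_true, decide_eq_true_eq, List.all_eq_true] at h
  obtain ⟨hdvd', h2⟩ := h
  have hdvd : y.p ∣ x.c := Nat.dvd_of_mod_eq_zero hdvd'
  rcases h2 with h2 | ⟨h2, h3⟩
  · exact h2 (Nat.mod_eq_zero_of_dvd (dvd_c_symm hx hy hne hdvd))
  haveI := Fact.mk hx.1
  haveI := Fact.mk hy.1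
  obtain ⟨P⟩ := (inferInstance : Nonempty (Sylow x.p G))
  set C := centralizer ((P : Subgroup G) : Set G) with hC
  have hCc : Nat.card C = x.p * x.c := (hx.2.2.2.2 P).2.1
  obtain ⟨R⟩ := (inferInstance : Nonempty (Sylow y.p C))
  have hRG : Nat.card R ∣ y.p := by
    obtain ⟨Q, hQ⟩ := (R.isPGroup'.map C.subtype).exists_le_sylow
    have h0 := card_dvd_of_le hQ
    rw [← Nat.card_congr ((R : Subgroup C).equivMapOfInjective _ C.subtype_injective).toEquiv] at h0
    exact h0.trans (dvd_of_eq (hy.2.2.2.2 Q).1)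
  have hRc : Nat.card R = y.p := Nat.dvd_antisymm hRG (R.dvd_card_of_dvd_card (hCc ▸ hdvd.mul_left _))
  have hRn : Nat.card (Sylow y.p C) = 1 := by
    have h4 : Nat.card (Sylow y.p C) % y.p = 1 := by
      have := card_sylow_modEq_one y.p C
      rwa [Nat.ModEq, Nat.mod_eq_of_lt hy.1.one_lt] at this
    have h5 : Nat.card (Sylow y.p C) ∣ x.p * x.c / y.p := by
      have h6 := card_mul_index (R : Subgroup C)
      rw [hRc, hCc] at h6
      rw [← h6, Nat.mul_div_cancel_left _ hy.1.pos]
      exact R.card_dvd_index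
    have h7 := h2 _ (mem_divs_of_dvd hn ((h5.trans (Nat.div_dvd_of_dvd (hdvd.mul_left _))).trans
      (hCc ▸ card_subgroup_dvd_card C)))
    rcases h7 with (h7 | h7) | h7
    · have := Nat.card_pos (α := Sylow y.p C); omega
    · exact absurd h4 h7
    · exact absurd (Nat.mod_eq_zero_of_dvd h5) h7
  haveI : Subsingleton (Sylow y.p C) := (Nat.card_eq_one_iff_unique.mp hRn).1
  haveI : (R : Subgroup C).Normal := R.normal_of_subsingleton
  obtain ⟨Q, hQ⟩ := (R.isPGroup'.map C.subtype).exists_le_sylow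
  have hQe : (R : Subgroup C).map C.subtype = Q := eq_of_le_of_card_ge hQ (le_of_eq (by
    rw [← Nat.card_congr ((R : Subgroup C).equivMapOfInjective _ C.subtype_injective).toEquiv, hRc]
    exact (hy.2.2.2.2 Q).1))
  have hle : C ≤ normalizer ((Q : Subgroup G) : Set G) := by
    rw [← hQe]
    intro g hg
    have h8 := le_normalizer_map (H := (R : Subgroup C)) C.subtype (mem_map_of_mem C.subtype
      (show (⟨g, hg⟩ : C) ∈ normalizer ((R : Subgroup C) : Set C) by rw [normalizer_eq_top]; trivial))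
    exact h8
  have h9 := card_dvd_of_le hle
  rw [hCc, (hy.2.2.2.2 Q).2.2] at h9
  refine h3 (Nat.mod_eq_zero_of_dvd ?_)
  rwa [mul_right_comm] 

theorem bad_false (hn : Nat.card G ∣ 175560) (acc : List Dat) (hacc : ∀ x ∈ acc, IsDat G x)
    (hpw : acc.Pairwise (fun x y => x.p ≠ y.p)) : bad (Nat.card G) acc = false := by
  rw [Bool.eq_false_iff]
  intro h
  simp only [bad, Bool.or_eq_true, List.any_eq_true, Bool.and_eq_true, decide_eq_true_eq] at h
  rcases h with ⟨x, hx, y, hy, hne, hb⟩ | ⟨T, hT, hle⟩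
  · rw [pairBad_false hn (hacc x hx) (hacc y hy) hne] at hb
    exact Bool.false_ne_true hb
  · have hs := List.mem_sublists.mp hT
    have h1 := card_uset T (fun x hx => hacc x (hs.subset hx)) (hpw.sublist hs)
    have h2 := uset_lt T (fun x hx => hacc x (hs.subset hx))
    omega

/-- The degree twenty argument. -/
theorem twenty [IsSimpleGroup G] (hG : ¬ IsMulCommutative G) (P : Sylow 19 G)
    (h19 : Nat.card P = 19) (h20 : Nat.card (Sylow 19 G) = 20) :
    centralizer ((P : Subgroup G) : Set G) = P ∧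
      ∀ t ∈ normalizer ((P : Subgroup G) : Set G), t ^ 2 = 1 → t = 1 := by
  classical
  haveI : Fact (Nat.Prime 19) := ⟨by norm_num⟩
  haveI : Fintype (Sylow 19 G) := Fintype.ofFinite _
  have hdvd : 19 ∣ Nat.card G := h19 ▸ card_subgroup_dvd_card _
  have hinj : Function.Injective (MulAction.toPermHom G (Sylow 19 G)) := by
    rw [← MonoidHom.ker_eq_bot_iff]
    refine (CfsgLib.Small.eq_bot_or_top _).resolve_right fun h => ?_
    refine CfsgLib.Small.sylow_normalizer_ne_top hG hdvd P (eq_top_iff.mpr fun g _ => ?_)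
    have h1 : g ∈ (MulAction.toPermHom G (Sylow 19 G)).ker := h ▸ mem_top g
    exact Sylow.smul_eq_iff_mem_normalizer.mp (Equiv.Perm.ext_iff.mp (MonoidHom.mem_ker.mp h1) P)
  have hfix : ∀ u ∈ (P : Subgroup G), ∀ Q : Sylow 19 G, Q ≠ P → u • Q = Q → u = 1 := by
    intro u hu Q hQ huQ
    by_contra hu1
    have h1 : (P : Subgroup G) = zpowers u := CfsgLib.Small.eq_zpowers_of_mem h19 hu hu1
    have h2 : (P : Subgroup G) ≤ normalizer ((Q : Subgroup G) : Set G) := by
      rw [h1, zpowers_le]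
      exact Sylow.smul_eq_iff_mem_normalizer.mp huQ
    have h3 := IsPGroup.to_sup_of_normal_right' P.isPGroup' Q.isPGroup' h2
    exact hQ (Sylow.ext ((Q.3 h3 le_sup_right).symm.trans (P.3 h3 le_sup_left)))
  have htr : ∀ Q R : Sylow 19 G, Q ≠ P → R ≠ P → ∃ u ∈ (P : Subgroup G), u • Q = R := by
    intro Q R hQ hR
    let f : ↥(P : Subgroup G) → {S : Sylow 19 G // S ≠ P} := fun u => ⟨(u : G) • Q, fun h => hQ (by
      have h1 : (u : G) • P = P := Sylow.smul_eq_iff_mem_normalizer.mpr (le_normalizer u.2)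
      exact MulAction.injective (u : G) (h.trans h1.symm))⟩
    have hf : Function.Injective f := fun a b h => Subtype.ext (by
      have h1 : (a : G) • Q = (b : G) • Q := congrArg Subtype.val h
      exact (inv_mul_eq_one.mp (hfix _ (mul_mem (inv_mem a.2) b.2) Q hQ (by
        rw [mul_smul, ← h1, inv_smul_smul]))))
    have hb := (Nat.bijective_iff_injective_and_card f).mpr ⟨hf, by
      rw [h19, Nat.card_eq_fintype_card, Fintype.card_subtype_compl, Fintype.card_subtype_eq,
        ← Nat.card_eq_fintype_card, h20]⟩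
    obtain ⟨u, hu⟩ := hb.2 ⟨R, hR⟩
    exact ⟨u, u.2, congrArg Subtype.val hu⟩
  obtain ⟨Q, hQ⟩ : ∃ Q : Sylow 19 G, Q ≠ P := Fintype.exists_ne_of_one_lt_card
    (by rw [← Nat.card_eq_fintype_card, h20]; norm_num) P
  have hPabel : (P : Subgroup G) ≤ centralizer ((P : Subgroup G) : Set G) := by
    haveI : IsCyclic (P : Subgroup G) := isCyclic_of_prime_card h19
    let _ := IsCyclic.commGroup (α := (P : Subgroup G))
    exact fun a ha => mem_centralizer_iff.mpr fun b hb => congrArg Subtype.val (mul_comm (⟨b, hb⟩ : (P : Subgroup G)) ⟨a, ha⟩)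
  have hCeq : centralizer ((P : Subgroup G) : Set G) = P := by
    refine le_antisymm (fun c hc => ?_) hPabel
    have hcP : c • P = P := Sylow.smul_eq_iff_mem_normalizer.mpr (centralizer_le_normalizer _ hc)
    obtain ⟨u, hu, huQ⟩ := htr Q (c • Q) hQ fun h => hQ (MulAction.injective c (h.trans hcP.symm))
    have hc' : u⁻¹ * c ∈ centralizer ((P : Subgroup G) : Set G) := mul_mem (inv_mem (hPabel hu)) hc
    suffices h : u⁻¹ * c = 1 by rwa [← inv_mul_eq_one.mp h]
    refine hinj (Equiv.ext fun R => ?_)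
    rw [map_one, Equiv.Perm.one_apply]
    show (u⁻¹ * c) • R = R
    by_cases hR : R = P
    · rw [hR, Sylow.smul_eq_iff_mem_normalizer]
      exact centralizer_le_normalizer _ hc'
    obtain ⟨v, hv, rfl⟩ := htr Q R hQ hR
    rw [← mul_smul, ← mem_centralizer_iff.mp hc' v hv, mul_smul, mul_smul, ← huQ, inv_smul_smul]
  refine ⟨hCeq, fun t ht ht2 => ?_⟩
  by_contra ht1
  set σ : Equiv.Perm (Sylow 19 G) := MulAction.toPerm t with hσ
  have hσ2 : σ ^ 2 = 1 := by
    refine Equiv.ext fun R => ?_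
    rw [pow_two, Equiv.Perm.mul_apply, hσ, MulAction.toPerm_apply, MulAction.toPerm_apply, ← mul_smul,
      ← pow_two, ht2, one_smul]; rfl
  have htP : t • P = P := Sylow.smul_eq_iff_mem_normalizer.mpr ht
  have htC : t ∉ centralizer ((P : Subgroup G) : Set G) := fun h => ht1 (by
    rw [hCeq] at h
    refine orderOf_eq_one_iff.mp (Nat.eq_one_of_dvd_coprimes (show (2 : ℕ).Coprime 19 by norm_num)
      (orderOf_dvd_of_pow_eq_one ht2) ?_)
    have := Subgroup.orderOf_dvd_natCard _ h
    rwa [h19] at this)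
  have hone : ∀ A B : Sylow 19 G, A ≠ P → B ≠ P → t • A = A → t • B = B → A = B := by
    intro A B hA hB htA htB
    obtain ⟨u, hu, rfl⟩ := htr A B hA hB
    by_contra hne
    have hu1 : u ≠ 1 := fun h => hne (by rw [h, one_smul])
    have hconj : t * u * t⁻¹ ∈ (P : Subgroup G) := (mem_normalizer_iff.mp ht u).mp hu
    have h1 : (u⁻¹ * (t * u * t⁻¹)) • A = A := by
      rw [mul_smul, mul_smul, mul_smul, show t⁻¹ • A = A from inv_smul_eq_iff.mpr htA.symm, htB, inv_smul_smul]
    have h2 := inv_mul_eq_one.mp (hfix _ (mul_mem (inv_mem hu) hconj) A hA h1)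
    apply htC
    rw [CfsgLib.Small.eq_zpowers_of_mem h19 hu hu1, mem_centralizer_iff]
    rintro _ ⟨i, rfl⟩
    have h3 : Commute t u := by
      show t * u = u * t
      conv_rhs => rw [h2, inv_mul_cancel_right]
    exact (h3.zpow_right i).eq.symm
  -- exactly two fixed points
  have hs := CfsgLib.Small.sign_toPerm hG (α := Sylow 19 G) t
  rw [← hσ, Equiv.Perm.sign_of_pow_two_eq_one hσ2] at hs
  have hf2 : Fintype.card (Function.fixedPoints σ) ≤ 2 := by
    by_contra hlt
    obtain ⟨⟨a, ha⟩, ⟨b, hb⟩, ⟨c, hc⟩, hab, hac, hbc⟩ := Fintype.two_lt_card_iff.mp (by omega : 2 < Fintype.card (Function.fixedPoints σ))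
    have hab' : a ≠ b := fun h => hab (Subtype.ext h)
    have hac' : a ≠ c := fun h => hac (Subtype.ext h)
    have hbc' : b ≠ c := fun h => hbc (Subtype.ext h)
    by_cases haP : a = P
    · exact hbc' (hone b c (fun h => hab' (haP.trans h.symm)) (fun h => hac' (haP.trans h.symm)) hb hc)
    by_cases hbP : b = P
    · exact hac' (hone a c haP (fun h => hbc' (hbP.trans h.symm)) ha hc)
    exact hab' (hone a b haP hbP ha hb)
  have hmod : Fintype.card (Sylow 19 G) ≡ Fintype.card (Function.fixedPoints σ) [MOD 2] := by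
    haveI : Fact (Nat.Prime 2) := ⟨Nat.prime_two⟩
    refine Equiv.Perm.card_fixedPoints_modEq (p := 2) (n := 1) (f := (σ : Sylow 19 G → Sylow 19 G)) ?_
    funext R
    exact Equiv.Perm.ext_iff.mp hσ2 R
  have hpos : 0 < Fintype.card (Function.fixedPoints σ) := Fintype.card_pos_iff.mpr ⟨⟨P, htP⟩⟩
  have h20' : Fintype.card (Sylow 19 G) = 20 := by rw [← Nat.card_eq_fintype_card, h20]
  rw [h20'] at hs hmod
  have hk : Fintype.card (Function.fixedPoints σ) = 2 := by
    have : (20 : ℕ) % 2 = Fintype.card (Function.fixedPoints σ) % 2 := hmod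
    omega
  rw [hk] at hs
  exact absurd hs (by decide)

theorem exists_dat [IsSimpleGroup G] (hG : ¬ IsMulCommutative G) (hn : Nat.card G ∣ 175560) {p : ℕ}
    (hp : p ∈ [19, 11, 7, 5, 3]) (hpG : p ∣ Nat.card G) :
    ∃ x ∈ opts (Nat.card G) p, IsDat G x ∧ x.p = p := by
  set n := Nat.card G with hndef
  have hpp : p.Prime := by
    simp only [List.mem_cons, List.not_mem_nil, or_false] at hp
    rcases hp with rfl | rfl | rfl | rfl | rfl <;> norm_num
  haveI := Fact.mk hpp
  have hm : ¬ p ∣ n / p := fun h => by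
    have h1 : p * p ∣ 175560 := (Nat.mul_dvd_of_dvd_div hpG h).trans hn
    simp only [List.mem_cons, List.not_mem_nil, or_false] at hp
    rcases hp with rfl | rfl | rfl | rfl | rfl <;> norm_num at h1
  have hc : Nat.card G = p ^ 1 * (n / p) := by rw [pow_one, Nat.mul_div_cancel' hpG]
  have hP : ∀ P : Sylow p G, Nat.card P = p := fun P => by
    rw [CfsgLib.Small.card_sylow_of_card_eq hc hm P, pow_one]
  obtain ⟨P⟩ := (inferInstance : Nonempty (Sylow p G))
  obtain ⟨e, he1, he2, ⟨c, hcC⟩, hNC, hmul⟩ := CfsgLib.Small.sylow_prime_order_data hG P (hP P)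
  set d := Nat.card (Sylow p G) with hd
  have hmem := CfsgLib.Small.card_sylow_mem (p := p) hG one_ne_zero hc hm
  rw [Finset.mem_filter, Nat.mem_divisors] at hmem
  obtain ⟨⟨hdm, -⟩, hdmod, hd1⟩ := hmem
  have hnp : n / p = d * e * c := by
    rw [hndef, ← hmul, hcC, show p * c * e * Nat.card (Sylow p G) = p * (d * e * c) by rw [hd]; ring,
      Nat.mul_div_cancel_left _ hpp.pos]
  have hde : d * e ≠ 0 := by positivity
  have hcdiv : n / p / (d * e) = c := by rw [hnp, Nat.mul_div_cancel_left _ (Nat.pos_of_ne_zero hde)]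
  have he0 : e ≤ p - 1 := Nat.le_of_dvd (by have := hpp.two_le; omega) he2
  have hconj : ∀ Q : Sylow p G, Nat.card (centralizer ((Q : Subgroup G) : Set G)) = p * c ∧
      Nat.card (normalizer ((Q : Subgroup G) : Set G)) = p * c * e := by
    intro Q
    obtain ⟨e', he', -, -, hNC', hmul'⟩ := CfsgLib.Small.sylow_prime_order_data hG Q (hP Q)
    have hN : Nat.card (normalizer ((Q : Subgroup G) : Set G)) = Nat.card (normalizer ((P : Subgroup G) : Set G)) := by
      have h1 := CfsgLib.Small.card_normalizer_mul_card_sylow P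
      have h2 := CfsgLib.Small.card_normalizer_mul_card_sylow Q
      exact Nat.eq_of_mul_eq_mul_right (by omega : 0 < Nat.card (Sylow p G)) (h2.trans h1.symm)
    obtain ⟨g, rfl⟩ := MulAction.exists_smul_eq G P Q
    have hC : Nat.card (centralizer (((g • P : Sylow p G) : Subgroup G) : Set G)) = Nat.card (centralizer ((P : Subgroup G) : Set G)) := by
      have e1 : centralizer (((g • P : Sylow p G) : Subgroup G) : Set G) =
          (centralizer ((P : Subgroup G) : Set G)).map (MulAut.conj g).toMonoidHom := by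
        ext a
        rw [mem_map_equiv, MulAut.conj_symm_apply, mem_centralizer_iff, mem_centralizer_iff,
          Sylow.coe_subgroup_smul]
        constructor
        · intro h b hb
          have h1 := h (g * b * g⁻¹) ⟨b, hb, rfl⟩
          calc b * (g⁻¹ * a * g) = g⁻¹ * (g * b * g⁻¹ * a) * g := by group
            _ = g⁻¹ * (a * (g * b * g⁻¹)) * g := by rw [h1]
            _ = g⁻¹ * a * g * b := by group
        · rintro h _ ⟨b, hb, rfl⟩
          have h1 := h b hb
          show g * b * g⁻¹ * a = a * (g * b * g⁻¹)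
          calc g * b * g⁻¹ * a = g * (b * (g⁻¹ * a * g)) * g⁻¹ := by group
            _ = g * (g⁻¹ * a * g * b) * g⁻¹ := by rw [h1]
            _ = a * (g * b * g⁻¹) := by group
      rw [e1, Nat.card_congr (equivMapOfInjective _ _ (MulAut.conj g).injective).toEquiv.symm]
    rw [hC, hcC, hN, ← hNC, hcC]
    exact ⟨rfl, rfl⟩
  refine ⟨⟨p, d, e, c⟩, ?_, ⟨hpp, rfl, ?_, hnp ▸ hm, fun Q => ⟨hP Q, hconj Q⟩⟩, rfl⟩
  · simp only [opts, List.mem_flatMap, List.mem_map, List.mem_filter, Bool.and_eq_true, Bool.or_eq_true,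
      decide_eq_true_eq, Bool.not_eq_true']
    refine ⟨d, ⟨mem_divs ((hdm.trans (Nat.div_dvd_of_dvd hpG)).trans hn),
      ⟨⟨hd1, Nat.mod_eq_zero_of_dvd hdm⟩, hdmod⟩⟩, e, ⟨List.mem_range.mpr (by omega), ?_⟩, by rw [hcdiv]⟩
    refine ⟨⟨⟨⟨⟨he1, Nat.mod_eq_zero_of_dvd he2⟩, ?_⟩, ?_⟩, ?_⟩, ?_⟩
    · rw [hnp]; exact Nat.mul_mod_right _ _
    · exact Or.inr (Nat.mod_eq_zero_of_dvd (CfsgLib.Small.two_mul_card_dvd_factorial_card_sylow hG hpG))
    · by_cases h8 : n % 8 = 0
      · exact Or.inl h8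
      refine Or.inr fun he4 => ?_
      obtain ⟨t, -, hto⟩ : ∃ t ∈ normalizer ((P : Subgroup G) : Set G), 4 ∣ orderOf t := by
        set f := (P : Subgroup G).normalizerMonoidHom with hf
        haveI : IsCyclic (P : Subgroup G) := isCyclic_of_prime_card (hP P)
        have hcard : Nat.card f.range = e := by
          have h1 := CfsgLib.Small.card_centralizer_mul_relIndex (P : Subgroup G)
          rw [← hNC] at h1
          have h2 : (centralizer ((P : Subgroup G) : Set G)).relIndex (normalizer ((P : Subgroup G) : Set G)) = e :=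
            Nat.eq_of_mul_eq_mul_left Nat.card_pos h1
          rw [relIndex, ← normalizerMonoidHom_ker, Subgroup.index_ker] at h2
          exact h2
        haveI : Fact (Nat.card (P : Subgroup G)).Prime := ⟨(hP P).symm ▸ hpp⟩
        haveI : IsCyclic f.range := isCyclic_of_injective
          ((IsCyclic.mulAutMulEquiv (P : Subgroup G)).toMonoidHom.comp f.range.subtype)
          (fun a b h => f.range.subtype_injective ((IsCyclic.mulAutMulEquiv (P : Subgroup G)).injective h))
        obtain ⟨⟨_, w, rfl⟩, hv⟩ := IsCyclic.exists_generator (α := f.range)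
        refine ⟨w, w.2, ?_⟩
        have h3 : orderOf (⟨f w, w, rfl⟩ : f.range) = e := (orderOf_eq_card_of_forall_mem_zpowers hv).trans hcard
        rw [← Subgroup.orderOf_coe] at h3
        have h4 := orderOf_map_dvd f w
        rw [h3] at h4
        rw [Subgroup.orderOf_coe]
        exact (Nat.dvd_of_mod_eq_zero he4).trans h4
      haveI : Fact (Nat.Prime 2) := ⟨Nat.prime_two⟩
      set s := t ^ (orderOf t / 4) with hsdef
      have hs : orderOf s = 4 := by
        rw [hsdef, orderOf_pow_of_dvd (Nat.div_pos (Nat.le_of_dvd (orderOf_pos t) hto) (by norm_num)).ne'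
          (Nat.div_dvd_of_dvd hto), Nat.div_div_self hto (orderOf_pos t).ne']
      obtain ⟨S, hS⟩ := (IsPGroup.of_card (p := 2) (n := 2) (G := zpowers s)
        (by rw [Nat.card_zpowers, hs]; norm_num)).exists_le_sylow
      have h4n : 4 ∣ n := hs ▸ orderOf_dvd_natCard s
      have hScard : Nat.card S = 4 := by
        have hc2 : Nat.card G = 2 ^ 2 * (n / 4) := by rw [← hndef]; omega
        exact (CfsgLib.Small.card_sylow_of_card_eq hc2 (by omega) S).trans (by norm_num)
      have hSs : (zpowers s : Subgroup G) = S := eq_of_le_of_card_ge hS (by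
        rw [Nat.card_zpowers, hs]; exact hScard.le)
      have hcyc : IsCyclic S := by
        have := (zpowers s).isCyclic_iff_exists_zpowers_eq_top.mpr ⟨s, rfl⟩
        exact isCyclic_of_surjective _ (MulEquiv.subgroupCongr hSs).surjective
      refine CfsgLib.Small.not_normalizer_le_centralizer hG (dvd_trans (by norm_num) h4n) S
        (IsCyclic.normalizer_le_centralizer ?_ hcyc)
      exact (Nat.minFac_eq_two_iff _).mpr (dvd_trans (by norm_num) h4n)
    · rw [Bool.eq_false_iff]
      intro hh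
      simp only [Bool.and_eq_true, Bool.or_eq_true, decide_eq_true_eq] at hh
      obtain ⟨⟨rfl, hd20⟩, hbad⟩ := hh
      obtain ⟨hCP, ht⟩ := twenty hG P (hP P) hd20
      rw [hCP, hP P] at hcC
      have hc1 : c = 1 := by omega
      rw [hcdiv, hc1] at hbad
      have he4 : e % 2 = 0 := hbad.resolve_left (by omega)
      haveI : Fact (Nat.Prime 2) := ⟨Nat.prime_two⟩
      obtain ⟨⟨t, htN⟩, hto⟩ := exists_prime_orderOf_dvd_card' (G := normalizer ((P : Subgroup G) : Set G)) 2
        (by rw [← hNC]; exact (Nat.dvd_of_mod_eq_zero he4).mul_left _)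
      rw [Subgroup.orderOf_mk] at hto
      have := ht t htN (hto ▸ pow_orderOf_eq_one t)
      rw [this, orderOf_one] at hto
      omega
  · show p * (d * e * c) = n
    rw [← hnp, Nat.mul_div_cancel' hpG]

theorem dead_false [IsSimpleGroup G] (hG : ¬ IsMulCommutative G) (hn : Nat.card G ∣ 175560) :
    ∀ (ps : List ℕ) (acc : List Dat), (∀ p ∈ ps, p ∈ [19, 11, 7, 5, 3] ∧ p ∣ Nat.card G) → ps.Nodup →
      (∀ x ∈ acc, IsDat G x ∧ x.p ∉ ps) → acc.Pairwise (fun x y => x.p ≠ y.p) → dead (Nat.card G) acc ps = false := by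
  intro ps
  induction ps with
  | nil => intro acc _ _ hacc hpw; exact bad_false hn acc (fun x hx => (hacc x hx).1) hpw
  | cons p r ih =>
    intro acc hps hnd hacc hpw
    obtain ⟨hpr, hndr⟩ := List.nodup_cons.mp hnd
    rw [dead, Bool.or_eq_false_iff]
    refine ⟨bad_false hn acc (fun x hx => (hacc x hx).1) hpw, ?_⟩
    rw [List.all_eq_false]
    obtain ⟨x, hx, hxd, hxp⟩ := exists_dat hG hn (hps p List.mem_cons_self).1 (hps p List.mem_cons_self).2
    refine ⟨x, hx, ?_⟩
    rw [ih (x :: acc) (fun q hq => hps q (List.mem_cons_of_mem _ hq)) hndr ?_ ?_]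
    · exact Bool.false_ne_true
    · intro y hy
      rcases List.mem_cons.mp hy with rfl | hy
      · exact ⟨hxd, hxp ▸ hpr⟩
      · exact ⟨(hacc y hy).1, fun h => (hacc y hy).2 (List.mem_cons_of_mem _ h)⟩
    · refine List.pairwise_cons.mpr ⟨fun y hy h => (hacc y hy).2 ?_, hpw⟩
      rw [← h, hxp]; exact List.mem_cons_self

theorem all_dead : ∀ n ∈ divs, n % 19 = 0 → 19 < n → n < 175560 →
    dead n [] ([19, 11, 7, 5, 3].filter fun p => decide (n % p = 0)) = true := by
  decide +kernel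

/-- No simple group of these orders. -/
theorem not_isSimpleGroup (hn : Nat.card G ∣ 175560) (h19 : 19 ∣ Nat.card G) (h1 : 19 < Nat.card G)
    (h2 : Nat.card G < 175560) : ¬ IsSimpleGroup G := fun hs => by
  have hG : ¬ IsMulCommutative G := CfsgLib.Small.nc_of_not_prime fun h =>
    h1.ne ((Nat.prime_dvd_prime_iff_eq (by norm_num) h).mp h19)
  have h := all_dead _ (mem_divs hn) (Nat.mod_eq_zero_of_dvd h19) h1 h2
  rw [dead_false hG hn _ [] ?_ ?_ (by simp) List.Pairwise.nil] at h
  · exact Bool.false_ne_true h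
  · intro p hp
    rw [List.mem_filter, decide_eq_true_eq] at hp
    exact ⟨hp.1, Nat.dvd_of_mod_eq_zero hp.2⟩
  · exact List.Nodup.filter _ (by decide)

/-- A group of order `19` acting on a group of order dividing `9240` centralizes it. -/
theorem centralizes {R P : Subgroup G} [R.Normal] (hR : Nat.card R ∣ 9240) (hP : Nat.card P = 19) :
    R ≤ centralizer (P : Set G) := by
  classical
  haveI : Fact (Nat.Prime 19) := ⟨by norm_num⟩
  have hPp : IsPGroup 19 P := IsPGroup.of_card (n := 1) (by rw [hP, pow_one])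
  set C := (centralizer (P : Set G)).subgroupOf R with hC
  suffices h : ∀ r : ℕ, r.Prime → r ^ (Nat.card R).factorization r ∣ Nat.card C by
    have h1 : Nat.card R ∣ Nat.card C := by
      refine (Nat.dvd_iff_prime_pow_dvd_dvd _ _).mpr fun r k hr hrk => ?_
      exact (pow_dvd_pow r ((hr.pow_dvd_iff_le_factorization Nat.card_pos.ne').mp hrk)).trans (h r hr)
    exact subgroupOf_eq_top.mp (eq_top_of_le_card C (Nat.le_of_dvd Nat.card_pos h1))
  intro r hr
  haveI := Fact.mk hr
  have h19R : ¬ 19 ∣ Nat.card R := fun h => by have := h.trans hR; norm_num at this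
  letI : MulDistribMulAction P R := MulDistribMulAction.compHom R ((MulAut.conjNormal (H := R)).comp P.subtype)
  have hsyl : ¬ 19 ∣ Nat.card (Sylow r R) := fun h =>
    h19R ((h.trans ((default : Sylow r R).card_dvd_index)).trans (index_dvd_card _))
  obtain ⟨Q, hQ⟩ := hPp.nonempty_fixed_point_of_prime_not_dvd_card (Sylow r R) hsyl
  refine dvd_trans (dvd_of_eq Q.card_eq_multiplicity.symm) (card_dvd_of_le fun q hq => ?_)
  rw [hC, mem_subgroupOf, mem_centralizer_iff]
  intro u hu
  have hQc : Nat.card Q ≤ 11 := by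
    rw [Q.card_eq_multiplicity]
    have h1 : r ^ (Nat.card R).factorization r ∣ 9240 := (Nat.ordProj_dvd _ r).trans hR
    exact (show ∀ r : ℕ, r.Prime → ∀ k : ℕ, r ^ k ∣ 9240 → r ^ k ≤ 11 from le_of_prime_pow_dvd) r hr _ h1
  let σ : P → ↥(Q : Subgroup R) → ↥(Q : Subgroup R) := fun u q =>
    ⟨u • (q : R), by
      have h1 : u • Q = Q := hQ u
      have h2 : u • (q : R) ∈ u • (Q : Subgroup R) := ⟨q, q.2, rfl⟩
      rwa [show u • (Q : Subgroup R) = Q from (Sylow.pointwise_smul_def.symm.trans (congrArg _ h1))] at h2⟩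
  letI : MulAction P (Q : Subgroup R) :=
    { smul := σ
      one_smul := fun q => Subtype.ext (one_smul P (q : R))
      mul_smul := fun a b q => Subtype.ext (mul_smul a b (q : R)) }
  have h1 : Nat.card (MulAction.orbit P (⟨q, hq⟩ : (Q : Subgroup R))) ≤ 11 :=
    (Nat.card_le_card_of_injective _ Subtype.val_injective).trans hQc
  obtain ⟨k, hk⟩ := hPp.card_orbit (⟨q, hq⟩ : (Q : Subgroup R))
  have hk0 : k = 0 := by
    by_contra hne
    have : 19 ≤ 19 ^ k := Nat.le_self_pow hne 19
    omega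
  rw [hk0, pow_zero, Nat.card_eq_one_iff_unique] at hk
  haveI := hk.1
  have h2 : (⟨_, MulAction.mem_orbit (⟨q, hq⟩ : (Q : Subgroup R)) (⟨u, hu⟩ : P)⟩ :
      MulAction.orbit P (⟨q, hq⟩ : (Q : Subgroup R))) = ⟨_, MulAction.mem_orbit_self _⟩ := Subsingleton.elim _ _
  have h3 : u * (q : G) * u⁻¹ = (q : G) := by
    have h4 := congrArg (fun z : MulAction.orbit P (⟨q, hq⟩ : (Q : Subgroup R)) => ((z.1 : R) : G)) h2
    exact h4
  exact mul_inv_eq_iff_eq_mul.mp h3
where
  le_of_prime_pow_dvd : ∀ r : ℕ, r.Prime → ∀ k : ℕ, r ^ k ∣ 9240 → r ^ k ≤ 11 := by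
    intro r hr k hk
    rcases Nat.eq_zero_or_pos k with rfl | hk0
    · simp
    have hr' : r ∣ 8 * (3 * (5 * (7 * 11))) := (dvd_pow_self r hk0.ne').trans hk
    have pr : ∀ q : ℕ, q.Prime → r ∣ q → r = q := fun q hq h => (Nat.prime_dvd_prime_iff_eq hr hq).mp h
    rcases hr.dvd_mul.mp hr' with h | h
    · have h2 : r = 2 := pr 2 Nat.prime_two (hr.dvd_of_dvd_pow (show r ∣ 2 ^ 3 by simpa using h))
      subst h2
      have : k ≤ 3 := by
        by_contra hlt
        have := (pow_dvd_pow 2 (by omega : 4 ≤ k)).trans hk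
        norm_num at this
      exact le_trans (Nat.pow_le_pow_right (by norm_num) this) (by norm_num)
    have hk1 : ∀ q, r = q → ¬ q ^ 2 ∣ 9240 → q ≤ 11 → r ^ k ≤ 11 := by
      intro q e h1 h2
      subst e
      have : k = 1 := by
        by_contra hne
        exact h1 ((pow_dvd_pow r (by omega : 2 ≤ k)).trans hk)
      simpa [this] using h2
    rcases hr.dvd_mul.mp h with h | h
    · exact hk1 3 (pr 3 (by norm_num) h) (by norm_num) (by norm_num)
    rcases hr.dvd_mul.mp h with h | h
    · exact hk1 5 (pr 5 (by norm_num) h) (by norm_num) (by norm_num)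
    rcases hr.dvd_mul.mp h with h | h
    · exact hk1 7 (pr 7 (by norm_num) h) (by norm_num) (by norm_num)
    · exact hk1 11 (pr 11 (by norm_num) h) (by norm_num) (by norm_num)

/-- The subgroups of order `19` are normal unless the whole group is simple of order `175560`. -/
theorem normal_of_card_dvd : ∀ (n : ℕ) (H : Type*) [Group H] [Finite H], Nat.card H = n → n ∣ 175560 → 19 ∣ n →
    (n = 175560 → ¬ IsSimpleGroup H) → ∀ P : Subgroup H, Nat.card P = 19 → P.Normal := by
  intro n
  induction n using Nat.strong_induction_on with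
  | _ n ih =>
  intro H _ _ hn hdvd h19 hns P hP
  by_cases htop : P = ⊤
  · rw [htop]; infer_instance
  have h19lt : 19 < n := by
    rw [← hn, ← hP]
    refine lt_of_le_of_ne (Nat.le_of_dvd Nat.card_pos (card_subgroup_dvd_card P)) fun h => htop ?_
    exact eq_top_of_card_eq P h
  have hnot : ¬ IsSimpleGroup H := by
    rcases eq_or_ne n 175560 with h | h
    · exact hns h
    · exact not_isSimpleGroup (hn ▸ hdvd) (hn ▸ h19) (hn ▸ h19lt)
        (hn ▸ lt_of_le_of_ne (Nat.le_of_dvd (by norm_num) hdvd) h)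
  haveI : Nontrivial H := Finite.one_lt_card_iff_nontrivial.mp (by omega)
  obtain ⟨R, hRn, hR0, hR1⟩ : ∃ R : Subgroup H, R.Normal ∧ R ≠ ⊥ ∧ R ≠ ⊤ := by
    by_contra h
    push Not at h
    refine hnot ⟨fun N hN => ?_⟩
    by_cases hb : N = ⊥
    · exact Or.inl hb
    · exact Or.inr (h N hN hb)
  haveI := hRn
  haveI : Fact (Nat.Prime 19) := ⟨by norm_num⟩
  have hdist : ∀ P' : Subgroup H, Nat.card P' = 19 → ∀ g : H, Nat.card (P'.map (MulAut.conj g).toMonoidHom : Subgroup H) = 19 :=
    fun P' hP' g => (Nat.card_congr (P'.equivMapOfInjective _ (MulAut.conj g).injective).toEquiv).symm.trans hP'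
  have hsq : ¬ 19 * 19 ∣ n := fun h => by have := h.trans hdvd; norm_num at this
  have hRlt : Nat.card R < n := hn ▸ lt_of_le_of_ne (Nat.le_of_dvd Nat.card_pos (card_subgroup_dvd_card R))
    fun h => hR1 (eq_top_of_card_eq R h)
  have hRdvd : Nat.card R ∣ n := hn ▸ card_subgroup_dvd_card R
  by_cases hR19 : 19 ∣ Nat.card R
  · -- every subgroup of order 19 lies in `R`
    have hle : ∀ Q : Subgroup H, Nat.card Q = 19 → Q ≤ R := by
      intro Q hQ
      by_contra hQR
      have h1 : Q.map (QuotientGroup.mk' R) ≠ ⊥ := fun h => hQR (by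
        rwa [Subgroup.map_eq_bot_iff, QuotientGroup.ker_mk'] at h)
      have h2 : Nat.card (Q.map (QuotientGroup.mk' R)) = 19 :=
        ((Nat.dvd_prime (by norm_num)).mp (hQ ▸ card_map_dvd Q (QuotientGroup.mk' R))).resolve_left
          fun h => h1 (card_eq_one.mp h)
      have h3 : 19 ∣ R.index := h2 ▸ card_subgroup_dvd_card _
      exact hsq (hn ▸ R.card_mul_index ▸ mul_dvd_mul hR19 h3)
    have key : ∀ Q : Subgroup H, Nat.card Q = 19 → Q = P := by
      intro Q hQ
      have e : ∀ Q' : Subgroup H, (hQ' : Nat.card Q' = 19) → (Q'.subgroupOf R).Normal := fun Q' hQ' =>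
        ih _ hRlt R rfl (hRdvd.trans hdvd) hR19 (fun h => absurd (Nat.le_of_dvd (by norm_num) hdvd) (by omega)) _
          ((Nat.card_congr (subgroupOfEquivOfLe (hle Q' hQ')).toEquiv).trans hQ')
      haveI := e P hP
      have hS : ∀ Q' : Subgroup H, Nat.card Q' = 19 → IsPGroup 19 (Q'.subgroupOf R) := fun Q' hQ' =>
        IsPGroup.of_card (n := 1) ((Nat.card_congr (subgroupOfEquivOfLe (hle Q' hQ')).toEquiv).trans (by rw [hQ', pow_one]))
      obtain ⟨S, hS'⟩ := ((hS Q hQ).to_sup_of_normal_right (hS P hP)).exists_le_sylow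
      have hSc : Nat.card S = 19 := by
        rw [S.card_eq_multiplicity]
        have h4 : (Nat.card R).factorization 19 = 1 := by
          refine le_antisymm ?_ ((Nat.Prime.factorization_pos_of_dvd (by norm_num) Nat.card_pos.ne' hR19))
          by_contra hlt
          exact hsq ((pow_two 19 ▸ ((pow_dvd_pow 19 (by omega : 2 ≤ (Nat.card R).factorization 19)).trans
            (Nat.ordProj_dvd _ _))).trans hRdvd)
        rw [h4, pow_one]
      have eP : P.subgroupOf R = S := eq_of_le_of_card_ge (le_sup_right.trans hS')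
        ((hSc.trans ((Nat.card_congr (subgroupOfEquivOfLe (hle P hP)).toEquiv).trans hP).symm).le)
      have eQ : Q.subgroupOf R = S := eq_of_le_of_card_ge (le_sup_left.trans hS')
        ((hSc.trans ((Nat.card_congr (subgroupOfEquivOfLe (hle Q hQ)).toEquiv).trans hQ).symm).le)
      have := congrArg (Subgroup.map R.subtype) (eQ.trans eP.symm)
      rwa [subgroupOf_map_subtype, subgroupOf_map_subtype, inf_of_le_left (hle Q hQ), inf_of_le_left (hle P hP)] at this
    exact ⟨fun x hx g => key _ (hdist P hP g) ▸ ⟨x, hx, rfl⟩⟩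
  · -- quotient by `R`
    set π := QuotientGroup.mk' R with hπ
    have hqcard : Nat.card (P.map π) = 19 := by
      refine ((Nat.dvd_prime (by norm_num)).mp (hP ▸ card_map_dvd P π)).resolve_left fun h => hR19 ?_
      have h1 : P ≤ R := by
        have := card_eq_one.mp h
        rwa [Subgroup.map_eq_bot_iff, hπ, QuotientGroup.ker_mk'] at this
      exact hP ▸ card_dvd_of_le h1
    have hmul := R.card_mul_index
    have hidxlt : R.index < n := by
      rw [← hn, ← hmul]
      exact lt_mul_of_one_lt_left (Nat.pos_of_ne_zero index_ne_zero_of_finite)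
        ((one_lt_card_iff_ne_bot R).mpr hR0)
    have hidxdvd : R.index ∣ n := hn ▸ index_dvd_card R
    haveI : (P.map π).Normal := ih _ hidxlt (H ⧸ R) rfl (hidxdvd.trans hdvd) (hqcard ▸ card_subgroup_dvd_card _)
      (fun h => absurd (Nat.le_of_dvd (by norm_num) hdvd) (by omega)) _ hqcard
    have hR9240 : Nat.card R ∣ 9240 := by
      have : Nat.card R ∣ 9240 * 19 := (hRdvd.trans hdvd).trans (by norm_num)
      exact Nat.Coprime.dvd_of_dvd_mul_right (Nat.Coprime.symm ((Nat.Prime.coprime_iff_not_dvd (by norm_num)).mpr hR19)) this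
    refine ⟨fun x hx g => ?_⟩
    have h1 : π (g * x * g⁻¹) ∈ P.map π := by
      rw [map_mul, map_mul, map_inv]
      exact (inferInstance : (P.map π).Normal).conj_mem _ (mem_map_of_mem π hx) _
    obtain ⟨u, hu, hue⟩ := h1
    have hr : u⁻¹ * (g * x * g⁻¹) ∈ R := QuotientGroup.eq.mp hue
    set r := u⁻¹ * (g * x * g⁻¹) with hrdef
    have hcomm : Commute u r := mem_centralizer_iff.mp (centralizes hR9240 hP hr) u hu
    have hp19 : ∀ z ∈ P, z ^ 19 = 1 := fun z hz => by
      have := congrArg Subtype.val (pow_card_eq_one' (x := (⟨z, hz⟩ : P)))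
      simpa [hP] using this
    have h2 : (g * x * g⁻¹) ^ 19 = 1 := by rw [conj_pow, hp19 x hx]; group
    rw [show g * x * g⁻¹ = u * r by rw [hrdef, mul_inv_cancel_left], hcomm.mul_pow, hp19 u hu, one_mul] at h2
    have h3 : r = 1 := orderOf_eq_one_iff.mp (((Nat.dvd_prime (by norm_num)).mp (orderOf_dvd_of_pow_eq_one h2)).resolve_right
      fun h => hR19 (h ▸ Subgroup.orderOf_dvd_natCard _ hr))
    rw [← show u = g * x * g⁻¹ from inv_mul_eq_one.mp h3]
    exact hu

end CfsgLib.OrderJanko
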