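import Mathlib
import Cfsg.Agent.Lib.ChevStr.RankOne
import Cfsg.Agent.Lib.Schur.SLTwo

/-!
Square roots of scalars in `2 × 2` matrices: trace-zero matrices of a given determinant are conjugate
under `SL₂` of a finite field of odd characteristic; conjugation by `diag(u, 1)`.
-/

set_option autoImplicit false
set_option linter.unusedSectionVars false

namespace CfsgLib.GTwoInv

open Matrix CfsgLib.ChevStr.ChevCore
open scoped MatrixGroups

variable {F : Type*} [Field F]

local notation "SL2" => SpecialLinearGroup (Fin 2) F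

/-- Conjugation by `diag(u, 1)`. -/
def dconjFun (u : Fˣ) (g : SL2) : SL2 :=
  ⟨!![(g : Matrix (Fin 2) (Fin 2) F) 0 0, (u : F) * (g : Matrix (Fin 2) (Fin 2) F) 0 1;
    ((u⁻¹ : Fˣ) : F) * (g : Matrix (Fin 2) (Fin 2) F) 1 0, (g : Matrix (Fin 2) (Fin 2) F) 1 1], by
    rw [det_fin_two]
    have hd := sl_det g
    have hu : (u : F) * ((u⁻¹ : Fˣ) : F) = 1 := by simp
    simp only [of_apply, cons_val', cons_val_zero, cons_val_one, cons_val_fin_one]
    linear_combination hd - ((g : Matrix (Fin 2) (Fin 2) F) 0 1 * (g : Matrix (Fin 2) (Fin 2) F) 1 0) * hu⟩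

/-- `dconjFun` as a homomorphism. -/
def dconj (u : Fˣ) : SL2 →* SL2 where
  toFun := dconjFun u
  map_one' := by ext a b; fin_cases a <;> fin_cases b <;> simp [dconjFun]
  map_mul' g h := by
    ext a b
    show (dconjFun u (g * h)).1 a b = ((dconjFun u g).1 * (dconjFun u h).1) a b
    fin_cases a <;> fin_cases b <;>
      simp [dconjFun, Matrix.mul_apply, Fin.sum_univ_two] <;>
      field_simp

theorem dconj_slX (u : Fˣ) (t : F) : dconj u (slX t) = slX ((u : F) * t) := by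
  ext a b; fin_cases a <;> fin_cases b <;> simp [dconj, dconjFun]

theorem dconj_slY (u : Fˣ) (t : F) : dconj u (slY t) = slY (((u⁻¹ : Fˣ) : F) * t) := by
  ext a b; fin_cases a <;> fin_cases b <;> simp [dconj, dconjFun]

/-- `diag(c, c⁻¹)`. -/
def slD (c : Fˣ) : SL2 := ⟨!![(c : F), 0; 0, ((c⁻¹ : Fˣ) : F)], by simp [det_fin_two]⟩

theorem coe_slD (c : Fˣ) : ((slD c : SL2) : Matrix (Fin 2) (Fin 2) F) = !![(c : F), 0; 0, ((c⁻¹ : Fˣ) : F)] := rfl

theorem dconj_slW_neg_one : dconj (-1 : Fˣ) (slW : SL2) = -slW := by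
  ext a b; fin_cases a <;> fin_cases b <;> simp [dconj, dconjFun]

theorem commute_neg_one (g : SL2) : Commute (-1 : SL2) g := by
  show -1 * g = g * -1
  ext a b
  simp [SpecialLinearGroup.coe_mul]

/-- Matrices commuting with both elementary generators are signs. -/
theorem central_sl (x : SL2) (h1 : x * slX 1 = slX 1 * x) (h2 : x * slY 1 = slY 1 * x) : x = 1 ∨ x = -1 := by
  have hd := sl_det x
  have e1 : ∀ i j, ((x * slX 1 : SL2) : Matrix (Fin 2) (Fin 2) F) i j = ((slX 1 * x : SL2) : Matrix (Fin 2) (Fin 2) F) i j := by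
    rw [h1]; simp
  have e2 : ∀ i j, ((x * slY 1 : SL2) : Matrix (Fin 2) (Fin 2) F) i j = ((slY 1 * x : SL2) : Matrix (Fin 2) (Fin 2) F) i j := by
    rw [h2]; simp
  have a1 := e1 0 0
  have a2 := e1 0 1
  have a3 := e2 0 0
  simp [SpecialLinearGroup.coe_mul, Matrix.mul_apply, Fin.sum_univ_two] at a1 a2 a3
  set a := (x : Matrix (Fin 2) (Fin 2) F) 0 0 with ha
  set b := (x : Matrix (Fin 2) (Fin 2) F) 0 1 with hb
  set c := (x : Matrix (Fin 2) (Fin 2) F) 1 0 with hc
  set d := (x : Matrix (Fin 2) (Fin 2) F) 1 1 with hd'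
  have hc0 : c = 0 := a1
  have had : a = d := by linear_combination a2
  rw [a3, hc0, mul_zero, sub_zero, ← had] at hd
  rcases mul_self_eq_one_iff.mp hd with h | h
  · left; ext i j; fin_cases i <;> fin_cases j <;> simp [← ha, ← hb, ← hc, ← hd', ← had, h, a3, hc0]
  · right; ext i j; fin_cases i <;> fin_cases j <;> simp [← ha, ← hb, ← hc, ← hd', ← had, h, a3, hc0]

/-- Square roots of `1` in `SL₂`. -/
theorem sq_eq_one (h2 : (2 : F) ≠ 0) (x : SL2) (hx : x * x = 1) : x = 1 ∨ x = -1 := by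
  have hd := sl_det x
  have e : ∀ i j, ((x * x : SL2) : Matrix (Fin 2) (Fin 2) F) i j = ((1 : SL2) : Matrix (Fin 2) (Fin 2) F) i j := by
    rw [hx]; simp
  have e00 := e 0 0
  have e01 := e 0 1
  have e10 := e 1 0
  have e11 := e 1 1
  simp [SpecialLinearGroup.coe_mul, Matrix.mul_apply, Fin.sum_univ_two] at e00 e01 e10 e11
  set a := (x : Matrix (Fin 2) (Fin 2) F) 0 0 with ha
  set b := (x : Matrix (Fin 2) (Fin 2) F) 0 1 with hb
  set c := (x : Matrix (Fin 2) (Fin 2) F) 1 0 with hc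
  set d := (x : Matrix (Fin 2) (Fin 2) F) 1 1 with hd'
  have ht : a + d ≠ 0 := by
    intro h
    apply h2
    linear_combination (a * 1) * h - e00 - hd
  have hb0 : b = 0 := by
    have : (a + d) * b = 0 := by linear_combination e01
    exact (mul_eq_zero.mp this).resolve_left ht
  have hc0 : c = 0 := by
    have : (a + d) * c = 0 := by linear_combination e10
    exact (mul_eq_zero.mp this).resolve_left ht
  rw [hb0, hc0, mul_zero, add_zero] at e00
  rw [hb0, hc0, mul_zero, sub_zero] at hd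
  have had : a = d := by linear_combination d * e00 - a * hd
  rcases mul_self_eq_one_iff.mp e00 with h | h
  · left; ext i j; fin_cases i <;> fin_cases j <;> simp [← ha, ← hb, ← hc, ← hd', ← had, h, hb0, hc0]
  · right; ext i j; fin_cases i <;> fin_cases j <;> simp [← ha, ← hb, ← hc, ← hd', ← had, h, hb0, hc0]

/-- A square root of a scalar: scalar matrix or trace zero. -/
theorem trace_zero_of_sq {M : Matrix (Fin 2) (Fin 2) F} {r : F} (h : M * M = r • (1 : Matrix (Fin 2) (Fin 2) F)) :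
    M 1 1 = -M 0 0 ∨ ∃ m, M.det = m * m ∧ r = m * m := by
  have e01 : M 0 0 * M 0 1 + M 0 1 * M 1 1 = 0 := by
    simpa [Matrix.mul_apply, Fin.sum_univ_two] using congrFun (congrFun h 0) 1
  have e10 : M 1 0 * M 0 0 + M 1 1 * M 1 0 = 0 := by
    simpa [Matrix.mul_apply, Fin.sum_univ_two] using congrFun (congrFun h 1) 0
  have e00 : M 0 0 * M 0 0 + M 0 1 * M 1 0 = r := by
    simpa [Matrix.mul_apply, Fin.sum_univ_two] using congrFun (congrFun h 0) 0
  have e11 : M 1 0 * M 0 1 + M 1 1 * M 1 1 = r := by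
    simpa [Matrix.mul_apply, Fin.sum_univ_two] using congrFun (congrFun h 1) 1
  by_cases ht : M 0 0 + M 1 1 = 0
  · exact Or.inl (by linear_combination ht)
  refine Or.inr ⟨M 0 0, ?_, ?_⟩
  all_goals
    have hb : M 0 1 = 0 := (mul_eq_zero.mp (show (M 0 0 + M 1 1) * M 0 1 = 0 by linear_combination e01)).resolve_left ht
    have hc : M 1 0 = 0 := (mul_eq_zero.mp (show (M 0 0 + M 1 1) * M 1 0 = 0 by linear_combination e10)).resolve_left ht
    rw [hb, hc] at e00 e11
    have had : M 1 1 = M 0 0 := by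
      have : (M 1 1 - M 0 0) * (M 0 0 + M 1 1) = 0 := by linear_combination e11 - e00
      exact sub_eq_zero.mp ((mul_eq_zero.mp this).resolve_right ht)
  · rw [det_fin_two, hb, hc, had]; ring
  · linear_combination -e00

variable [Fintype F]

/-- A trace-zero matrix is conjugate under `SL₂` to its companion matrix. -/
theorem exists_companion (h2 : (2 : F) ≠ 0) (hF : ringChar F ≠ 2) {M : Matrix (Fin 2) (Fin 2) F}
    (htr : M 1 1 = -M 0 0) (hdet : M.det ≠ 0) :
    ∃ P : SL2, M * (P : Matrix (Fin 2) (Fin 2) F) = (P : Matrix (Fin 2) (Fin 2) F) * !![0, -M.det; 1, 0] := by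
  obtain ⟨x, y, hxy⟩ : ∃ x y : F, M 1 0 * (x * x) + (-2 * M 0 0) * (x * y) - M 0 1 * (y * y) = 1 := by
    rw [det_fin_two, htr] at hdet
    by_cases hc : M 1 0 = 0
    · have ha : M 0 0 ≠ 0 := fun h => hdet (by rw [h, hc]; ring)
      refine ⟨(-M 0 1 - 1) / (2 * M 0 0), 1, ?_⟩
      rw [hc]
      field_simp
      ring
    · have hk : -(M 0 0 * M 0 0 + M 0 1 * M 1 0) / M 1 0 ≠ 0 :=
        div_ne_zero (fun h => hdet (by linear_combination h)) hc
      obtain ⟨u, v, huv⟩ := FiniteField.exists_root_sum_quadratic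
        (f := Polynomial.C (M 1 0) * Polynomial.X ^ 2 - 1)
        (g := Polynomial.C (-(M 0 0 * M 0 0 + M 0 1 * M 1 0) / M 1 0) * Polynomial.X ^ 2)
        (by rw [Polynomial.degree_sub_eq_left_of_degree_lt] <;> simp [Polynomial.degree_C_mul_X_pow 2 hc])
        (Polynomial.degree_C_mul_X_pow 2 hk)
        (FiniteField.odd_card_of_char_ne_two hF)
      simp at huv
      refine ⟨u + M 0 0 * v / M 1 0, v, ?_⟩
      field_simp at huv ⊢
      linear_combination huv
  refine ⟨⟨!![x, M 0 0 * x + M 0 1 * y; y, M 1 0 * x + M 1 1 * y], ?_⟩, ?_⟩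
  · simp [det_fin_two, htr]; linear_combination hxy
  · show M * !![x, M 0 0 * x + M 0 1 * y; y, M 1 0 * x + M 1 1 * y] =
      !![x, M 0 0 * x + M 0 1 * y; y, M 1 0 * x + M 1 1 * y] * !![0, -M.det; 1, 0]
    ext i j
    fin_cases i <;> fin_cases j <;> simp [Matrix.mul_apply, Fin.sum_univ_two, det_fin_two, htr] <;> ring

/-- Trace-zero matrices with the same determinant are conjugate under `SL₂`. -/
theorem exists_conj (h2 : (2 : F) ≠ 0) (hF : ringChar F ≠ 2) {M N : Matrix (Fin 2) (Fin 2) F}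
    (hM : M 1 1 = -M 0 0) (hN : N 1 1 = -N 0 0) (hdet : M.det ≠ 0) (h : M.det = N.det) :
    ∃ g : SL2, (g : Matrix (Fin 2) (Fin 2) F) * M = N * (g : Matrix (Fin 2) (Fin 2) F) := by
  obtain ⟨P, hP⟩ := exists_companion h2 hF hM hdet
  obtain ⟨Q, hQ⟩ := exists_companion h2 hF hN (h ▸ hdet)
  refine ⟨Q * P⁻¹, ?_⟩
  have hPi : (P : Matrix (Fin 2) (Fin 2) F) * ((P⁻¹ : SL2) : Matrix (Fin 2) (Fin 2) F) = 1 := by
    exact congrArg Subtype.val (mul_inv_cancel P)
  have hPi' : ((P⁻¹ : SL2) : Matrix (Fin 2) (Fin 2) F) * (P : Matrix (Fin 2) (Fin 2) F) = 1 := by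
    exact congrArg Subtype.val (inv_mul_cancel P)
  show (Q : Matrix (Fin 2) (Fin 2) F) * ((P⁻¹ : SL2) : Matrix (Fin 2) (Fin 2) F) * M = N * ((Q : Matrix (Fin 2) (Fin 2) F) * ((P⁻¹ : SL2) : Matrix (Fin 2) (Fin 2) F))
  calc (Q : Matrix (Fin 2) (Fin 2) F) * ((P⁻¹ : SL2) : Matrix (Fin 2) (Fin 2) F) * M
      = (Q : Matrix (Fin 2) (Fin 2) F) * ((P⁻¹ : SL2) : Matrix (Fin 2) (Fin 2) F) *
          (M * (P : Matrix (Fin 2) (Fin 2) F)) * ((P⁻¹ : SL2) : Matrix (Fin 2) (Fin 2) F) := by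
        simp only [mul_assoc, hPi, mul_one]
    _ = (Q : Matrix (Fin 2) (Fin 2) F) * !![0, -M.det; 1, 0] * ((P⁻¹ : SL2) : Matrix (Fin 2) (Fin 2) F) := by
        rw [hP]
        simp only [mul_assoc]
        rw [← mul_assoc ((P⁻¹ : SL2) : Matrix (Fin 2) (Fin 2) F) (P : Matrix (Fin 2) (Fin 2) F), hPi', one_mul]
    _ = _ := by rw [h, ← hQ, mul_assoc]

theorem ringChar_ne_two_of_odd (h : Odd (Fintype.card F)) : ringChar F ≠ 2 := fun e =>
  Nat.not_even_iff_odd.mpr h (Nat.even_iff.mpr (FiniteField.even_card_iff_char_two.mp e))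

theorem two_ne_zero' (h : Odd (Fintype.card F)) : (2 : F) ≠ 0 :=
  Ring.two_ne_zero (ringChar_ne_two_of_odd h)

theorem exists_nonsquare (h : Odd (Fintype.card F)) : ∃ e : Fˣ, ¬ IsSquare (e : F) := by
  obtain ⟨a, ha⟩ := FiniteField.exists_nonsquare (ringChar_ne_two_of_odd h)
  exact ⟨Units.mk0 a (fun e => ha (e ▸ IsSquare.zero)), ha⟩

theorem card_SL2 : Nat.card SL2 = Fintype.card F * (Fintype.card F ^ 2 - 1) := by
  rw [CfsgLib.Schur.natCard_slTwo, show Fintype.card F ^ 2 - 1 = (Fintype.card F - 1) * (Fintype.card F + 1) by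
    rw [← one_pow 2, Nat.sq_sub_sq]; ring]

end CfsgLib.GTwoInv
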