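import Cfsg.Agent.Lib.Structure.Subnormal
import Cfsg.Prelude.Def_Solvable
import Cfsg.Prelude.Def_OddOrderLocal

/-!
Subnormal nilpotent subgroups lie in the Fitting subgroup, subnormal π-subgroups in `O_π(G)`.
-/

set_option autoImplicit false
set_option linter.style.haveILetI false

open Subgroup

namespace CfsgLib.Structure

variable {G : Type*} [Group G]

/-- Fitting's theorem for a group generated by two normal nilpotent subgroups. -/
theorem isNilpotent_of_sup_eq_top [Finite G] {N M : Subgroup G} [N.Normal] [M.Normal]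
    (h : N ⊔ M = ⊤) [Group.IsNilpotent N] [Group.IsNilpotent M] : Group.IsNilpotent G := by
  refine (Group.isNilpotent_of_finite_tfae.out 0 3).mpr ?_
  intro p hp P
  obtain ⟨PN⟩ : Nonempty (Sylow p N) := inferInstance
  obtain ⟨PM⟩ : Nonempty (Sylow p M) := inferInstance
  haveI : (PN : Subgroup N).Characteristic := PN.characteristic_of_normal inferInstance
  haveI : (PM : Subgroup M).Characteristic := PM.characteristic_of_normal inferInstance
  set Q₁ := (PN : Subgroup N).map N.subtype with hQ₁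
  set Q₂ := (PM : Subgroup M).map M.subtype with hQ₂
  haveI : Q₁.Normal := inferInstance
  haveI : Q₂.Normal := inferInstance
  have hQ : IsPGroup p ↥(Q₁ ⊔ Q₂) :=
    (PN.2.map N.subtype).to_sup_of_normal_left (PM.2.map M.subtype)
  have hindex : ¬ p ∣ (Q₁ ⊔ Q₂).index := by
    have h1 : (N.map (QuotientGroup.mk' (Q₁ ⊔ Q₂))) ⊔ M.map (QuotientGroup.mk' (Q₁ ⊔ Q₂)) = ⊤ := by
      rw [← Subgroup.map_sup, h, map_top_of_surjective _ (QuotientGroup.mk'_surjective _)]
    haveI : (N.map (QuotientGroup.mk' (Q₁ ⊔ Q₂))).Normal :=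
      Normal.map inferInstance _ (QuotientGroup.mk'_surjective _)
    have hd := card_top_dvd_of_sup_eq_top h1
    rw [← Subgroup.index_eq_card] at hd
    intro hp'
    have aux : ∀ (L : Subgroup G) (PL : Sylow p L),
        (PL : Subgroup L).map L.subtype ≤ Q₁ ⊔ Q₂ →
        p ∣ Nat.card (L.map (QuotientGroup.mk' (Q₁ ⊔ Q₂))) → False := by
      intro L PL hle hdvd
      refine PL.not_dvd_index (hdvd.trans ?_)
      set f := (QuotientGroup.mk' (Q₁ ⊔ Q₂)).comp L.subtype with hf
      have hrange : f.range = L.map (QuotientGroup.mk' (Q₁ ⊔ Q₂)) := by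
        rw [hf, MonoidHom.range_comp, range_subtype]
      have hker : (PL : Subgroup L) ≤ f.ker := by
        intro x hx
        rw [MonoidHom.mem_ker, hf, MonoidHom.comp_apply, QuotientGroup.mk'_apply,
          QuotientGroup.eq_one_iff]
        exact hle (mem_map_of_mem _ hx)
      rw [← hrange, ← Nat.card_congr (QuotientGroup.quotientKerEquivRange f).toEquiv,
        ← Subgroup.index_eq_card]
      exact index_dvd_of_le hker
    rcases (Fact.out : p.Prime).dvd_mul.mp (hp'.trans hd) with h2 | h2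
    · exact aux N PN le_sup_left h2
    · exact aux M PM le_sup_right h2
  obtain ⟨g, hg⟩ := MulAction.exists_smul_eq G (hQ.toSylow hindex) P
  haveI hn : ((hQ.toSylow hindex : Sylow p G) : Subgroup G).Normal :=
    (inferInstance : (Q₁ ⊔ Q₂).Normal)
  rw [← hg, Sylow.smul_eq_of_normal]
  exact hn

theorem isNilpotent_sup_of_le_normalizer [Finite G] {N M : Subgroup G}
    (h₁ : N ≤ normalizer (M : Set G)) (h₂ : M ≤ normalizer (N : Set G))
    [hN : Group.IsNilpotent N] [hM : Group.IsNilpotent M] : Group.IsNilpotent ↥(N ⊔ M) := by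
  haveI := normal_subgroupOf_sup h₂
  haveI : (M.subgroupOf (N ⊔ M)).Normal := by
    rw [normal_subgroupOf_iff_le_normalizer le_sup_right]
    exact sup_le h₁ le_normalizer
  haveI : Group.IsNilpotent ↥(N.subgroupOf (N ⊔ M)) :=
    (Group.isNilpotent_congr (subgroupOfEquivOfLe (le_sup_left : N ≤ N ⊔ M))).mpr hN
  haveI : Group.IsNilpotent ↥(M.subgroupOf (N ⊔ M)) :=
    (Group.isNilpotent_congr (subgroupOfEquivOfLe (le_sup_right : M ≤ N ⊔ M))).mpr hM
  exact isNilpotent_of_sup_eq_top subgroupOf_sup_subgroupOf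

theorem le_fittingSubgroup_of_isSubnormal [Finite G] {A : Subgroup G} (hA : A.IsSubnormal)
    (h : Group.IsNilpotent A) : A ≤ Cfsg.fittingSubgroup G :=
  le_sSup_normal_of_isSubnormal (fun N => Group.IsNilpotent N) inferInstance
    (fun g N hN => (Group.isNilpotent_congr (N.equivMapOfInjective _ (MulAut.conj g).injective)).mp hN)
    (fun _ _ hN hM h₁ h₂ => isNilpotent_sup_of_le_normalizer h₁ h₂ (hN := hN) (hM := hM)) hA h

theorem le_piCore_of_isSubnormal [Finite G] {A : Subgroup G} (hA : A.IsSubnormal) (π : Set ℕ)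
    (h : ∀ p : ℕ, p.Prime → p ∣ Nat.card A → p ∈ π) : A ≤ Cfsg.piCore π G := by
  refine le_sSup_normal_of_isSubnormal (fun N => ∀ p : ℕ, p.Prime → p ∣ Nat.card N → p ∈ π)
    ?_ ?_ ?_ hA h
  · intro p hp hd
    rw [Subgroup.card_bot] at hd
    exact absurd hd hp.not_dvd_one
  · intro g N hN p hp hd
    rw [card_map_conj] at hd
    exact hN p hp hd
  · intro N M hN hM _ h₂ p hp hd
    rcases hp.dvd_mul.mp (hd.trans (card_sup_dvd_mul h₂)) with h' | h'
    · exact hN p hp h'
    · exact hM p hp h'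

theorem le_pPrimeCore_of_isSubnormal [Finite G] {A : Subgroup G} (hA : A.IsSubnormal) {p : ℕ}
    (h : (Nat.card A).Coprime p) : A ≤ Cfsg.pPrimeCore p G := by
  refine le_sSup_normal_of_isSubnormal (fun N => (Nat.card N).Coprime p) ?_ ?_ ?_ hA h
  · simp
  · intro g N hN
    rwa [card_map_conj]
  · intro N M hN hM _ h₂
    exact (hN.mul_left hM).coprime_dvd_left (card_sup_dvd_mul h₂)

theorem le_pCore_of_isSubnormal [Finite G] {A : Subgroup G} (hA : A.IsSubnormal) {p : ℕ}
    (h : IsPGroup p A) : A ≤ Cfsg.pCore p G :=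
  le_sSup_normal_of_isSubnormal (fun N => IsPGroup p N) IsPGroup.of_bot
    (fun _ _ hN => hN.map _) (fun _ _ hN hM _ h₂ => hN.to_sup_of_normal_left' hM h₂) hA h

end CfsgLib.Structure
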