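import Mathlib
import Cfsg.Agent.Lib.ChevStr.RankOne
import Cfsg.Agent.Lib.ChevStr.Orders
import Cfsg.Agent.Lib.Structure.SLTwoTraceZero
import Cfsg.Agent.Lib.KnownSimple51.Pronormal
import Cfsg.Agent.S1059

/-!
Involutions of `G₂(q)`, `q` odd: one class, with centraliser an extension of degree two of the central
product of two copies of `SL₂(q)`.
-/

set_option autoImplicit false
set_option linter.unusedSectionVars false
set_option linter.style.haveILetI false

namespace CfsgLib.GTwoInv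

open Cfsg.Lie CfsgLib.ChevStr Matrix
open CfsgLib.ChevStr.ChevCore
open scoped MatrixGroups

variable {F : Type*} [Field F]

local notation "SL2" => SpecialLinearGroup (Fin 2) F
local notation "GG" => GL chevG2.Idx F

/-- The structure of `G₂`. -/
noncomputable abbrev co (F : Type*) [Field F] : ChevCore chevG2 F := coreG2 F

/-- The short fundamental node. -/
def iA : Fin chevG2.rank := ⟨0, by decide⟩

/-- The long fundamental node. -/
def iB : Fin chevG2.rank := ⟨1, by decide⟩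

theorem etaNeg : (co F).EtaNeg := etaCheck_G2

/-- The character of a parameter at a root. -/
noncomputable abbrev chr (c : Fin chevG2.rank → Fˣ) (r : ℕ) : Fˣ :=
  (co F).R.torusChar c ((co F).R.α r)

theorem fin_cases_rank (i : Fin chevG2.rank) : i = iA ∨ i = iB := by
  obtain ⟨i, hi⟩ := i
  have : i < 2 := hi
  interval_cases i
  · exact Or.inl rfl
  · exact Or.inr rfl

theorem univ_rank : (Finset.univ : Finset (Fin chevG2.rank)) = {iA, iB} := by
  ext i; rcases fin_cases_rank i with h | h <;> simp [h]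

theorem iA_ne_iB : iA ≠ iB := by simp [iA, iB]

theorem chr_eq (c : Fin chevG2.rank → Fˣ) {r : ℕ} (hr : r < chevG2.nroots) :
    chr c r = c iA ^ chevG2.cartan 0 r * c iB ^ chevG2.cartan 1 r := by
  show (co F).R.torusChar c ((co F).R.α r) = _
  rw [(co F).R.torusChar_root c hr, univ_rank, Finset.prod_pair iA_ne_iB]
  rfl

/-- A parameter vector. -/
def vec (a b : Fˣ) : Fin chevG2.rank → Fˣ := fun i => if i = iA then a else b

@[simp] theorem vec_A (a b : Fˣ) : vec a b iA = a := by simp [vec]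
@[simp] theorem vec_B (a b : Fˣ) : vec a b iB = b := by simp [vec, iA_ne_iB.symm]

theorem vec_mul (a b a' b' : Fˣ) : vec a b * vec a' b' = vec (a * a') (b * b') := by
  funext i; rcases fin_cases_rank i with h | h <;> simp [h]

theorem single_A (a : Fˣ) : (Pi.mulSingle iA a : Fin chevG2.rank → Fˣ) = vec a 1 := by
  funext i; rcases fin_cases_rank i with h | h <;> simp [h, iA_ne_iB.symm]

theorem single_B (b : Fˣ) : (Pi.mulSingle iB b : Fin chevG2.rank → Fˣ) = vec 1 b := by
  funext i; rcases fin_cases_rank i with h | h <;> simp [h, iA_ne_iB]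

theorem cartan_table :
    (chevG2.cartan 0 7 = 2 ∧ chevG2.cartan 1 7 = -1) ∧ (chevG2.cartan 0 6 = -3 ∧ chevG2.cartan 1 6 = 2) ∧
    (chevG2.cartan 0 4 = -2 ∧ chevG2.cartan 1 4 = 1) ∧ (chevG2.cartan 0 5 = 3 ∧ chevG2.cartan 1 5 = -2) ∧
    (chevG2.cartan 0 11 = 0 ∧ chevG2.cartan 1 11 = 1) ∧ (chevG2.cartan 0 0 = 0 ∧ chevG2.cartan 1 0 = -1) := by
  decide +kernel

theorem chr7 (a b : Fˣ) : chr (vec a b) 7 = a ^ 2 * b⁻¹ := by
  rw [chr_eq _ (by decide), cartan_table.1.1, cartan_table.1.2]; simp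

theorem chr6 (a b : Fˣ) : chr (vec a b) 6 = (a ^ 3)⁻¹ * b ^ 2 := by
  rw [chr_eq _ (by decide), cartan_table.2.1.1, cartan_table.2.1.2]; simp [_root_.zpow_neg]

theorem chr4 (a b : Fˣ) : chr (vec a b) 4 = (chr (vec a b) 7)⁻¹ := by
  rw [chr7, chr_eq _ (by decide), cartan_table.2.2.1.1, cartan_table.2.2.1.2]; simp [_root_.zpow_neg, mul_comm]

theorem chr11 (a b : Fˣ) : chr (vec a b) 11 = b := by
  rw [chr_eq _ (by decide), cartan_table.2.2.2.2.1.1, cartan_table.2.2.2.2.1.2]; simp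

theorem chr0 (a b : Fˣ) : chr (vec a b) 0 = b⁻¹ := by
  rw [chr_eq _ (by decide), cartan_table.2.2.2.2.2.1, cartan_table.2.2.2.2.2.2]; simp

theorem eq_vec (c : Fin chevG2.rank → Fˣ) : c = vec (c iA) (c iB) := by
  funext i; rcases fin_cases_rank i with h | h <;> simp [h]

/-- The torus element with two parameters. -/
noncomputable def tor (a b : Fˣ) : GG := (co F).R.torus (vec a b)

theorem tor_mul (a b a' b' : Fˣ) : tor a b * tor a' b' = tor (a * a') (b * b') := by
  rw [tor, tor, tor, ← map_mul, vec_mul]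

theorem tor_one : tor (1 : Fˣ) 1 = 1 := by
  rw [tor, show vec (1 : Fˣ) 1 = 1 by funext i; simp [vec], map_one]

theorem torus_mem_group (c : Fin chevG2.rank → Fˣ) : (co F).R.torus c ∈ chevG2.group F :=
  (co F).borel_le_group ((co F).torus_mem_borel c)

theorem conj_x (c : Fin chevG2.rank → Fˣ) {r : ℕ} (hr : r < chevG2.nroots) (t : F) :
    (co F).R.torus c * (co F).xGL r t * ((co F).R.torus c)⁻¹ = (co F).xGL r ((chr c r : F) * t) :=
  (co F).acts_torus c ⟨r, hr⟩ t

theorem simple_eq : chevG2.simple iA.val = 7 ∧ chevG2.simple iB.val = 6 := by decide +kernel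

theorem neg_table : chevG2.neg 7 = 4 ∧ chevG2.neg 6 = 5 ∧ chevG2.neg 11 = 0 := by decide +kernel

/-! ### The two copies of `SL₂` -/

/-- The representative carrying the long fundamental root to the highest root. -/
noncomputable def nH : GG := (co F).nS iB * (co F).nS iA

theorem nH_acts : ∃ e : F, e * e = 1 ∧
    (∀ t : F, nH * (co F).xGL 6 t * nH⁻¹ = (co F).xGL 11 (e * t)) ∧
    ∀ t : F, nH * (co F).xGL 5 t * nH⁻¹ = (co F).xGL 0 (e * t) := by
  obtain ⟨hw, e, he⟩ := ChevCore.Acts.mul (co F) ((co F).acts_nS iB) ((co F).acts_nS iA)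
  obtain ⟨h1, h2, h3⟩ := he ⟨6, by decide⟩
  obtain ⟨-, -, h5⟩ := he ⟨5, by decide⟩
  have w6 : (((co F).hR.sPerm iB * (co F).hR.sPerm iA) ⟨6, by decide⟩ : ℕ) = 11 := by
    rw [Equiv.Perm.mul_apply, ReflData.sPerm_val, ReflData.sPerm_val]
    decide +kernel
  have w5 : (((co F).hR.sPerm iB * (co F).hR.sPerm iA) ⟨5, by decide⟩ : ℕ) = 0 := by
    rw [Equiv.Perm.mul_apply, ReflData.sPerm_val, ReflData.sPerm_val]
    decide +kernel
  refine ⟨((e 6 : ℤ) : F), ?_, fun t => ?_, fun t => ?_⟩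
  · rcases h1 with h | h <;> simp [show e 6 = _ from h]
  · rw [← w6]; exact h3 t
  · have h2' : e 5 = e 6 := by rw [← neg_table.2.1]; exact h2
    rw [← w5, ← h2']; exact h5 t

/-- The short root copy. -/
noncomputable def phiA : SL2 →* GG := (co F).slHom iA etaNeg

/-- The long root copy. -/
noncomputable def phiH : SL2 →* GG := (MulAut.conj (nH : GG)).toMonoidHom.comp ((co F).slHom iB etaNeg)

theorem phiA_X (t : F) : phiA (slX t) = (co F).xGL 7 t := by
  show (co F).slMap iA (slX t) = _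
  rw [(co F).slMap_slX, ChevCore.rX, simple_eq.1]

theorem phiA_Y (t : F) : phiA (slY t) = (co F).xGL 4 t := by
  show (co F).slMap iA (slY t) = _
  rw [(co F).slMap_slY, ChevCore.rY, simple_eq.1, neg_table.1]

theorem phiH_XY : ∃ e : F, e * e = 1 ∧ (∀ t, phiH (slX t) = (co F).xGL 11 (e * t)) ∧
    ∀ t, phiH (slY t) = (co F).xGL 0 (e * t) := by
  obtain ⟨e, he, h1, h2⟩ := nH_acts (F := F)
  refine ⟨e, he, fun t => ?_, fun t => ?_⟩
  · show nH * (co F).slMap iB (slX t) * nH⁻¹ = _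
    rw [(co F).slMap_slX, ChevCore.rX, simple_eq.2, h1]
  · show nH * (co F).slMap iB (slY t) * nH⁻¹ = _
    rw [(co F).slMap_slY, ChevCore.rY, simple_eq.2, neg_table.2.1, h2]

theorem comm_roots : ∀ r ∈ [7, 4], ∀ s ∈ [11, 0], s ≠ r ∧ s ≠ chevG2.neg r ∧
    (r < chevG2.nroots ∧ s < chevG2.nroots) ∧ chevG2.commTerms r s = [] := by decide +kernel

theorem commute_roots {r s : ℕ} (hr : r ∈ [7, 4]) (hs : s ∈ [11, 0]) (t u : F) :
    Commute ((co F).xGL r t) ((co F).xGL s u) := by
  obtain ⟨h1, h2, ⟨h3, h4⟩, h5⟩ := comm_roots r hr s hs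
  have h := (co F).xGL_comm h3 h4 h1 h2 t u
  have e : (co F).wordGL (chevG2.commWord F r s t u) = 1 := by
    simp [ChevalleyDatum.commWord, h5, ChevCore.wordGL]
  rw [e, mul_one] at h
  exact h.symm

theorem phi_comm (x y : SL2) : Commute (phiA x) (phiH y) := by
  obtain ⟨e, -, hX, hY⟩ := phiH_XY (F := F)
  refine sl_decomp (fun x => Commute (phiA x) (phiH y)) ?_ ?_ (fun g h hg hh => by
    rw [map_mul]; exact hg.mul_left hh) x
  all_goals
    intro t
    refine sl_decomp (fun y => Commute _ (phiH y)) ?_ ?_ (fun g h hg hh => by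
      rw [map_mul]; exact hg.mul_right hh) y
  all_goals intro u
  · rw [phiA_X, hX]; exact commute_roots (by simp) (by simp) _ _
  · rw [phiA_X, hY]; exact commute_roots (by simp) (by simp) _ _
  · rw [phiA_Y, hX]; exact commute_roots (by simp) (by simp) _ _
  · rw [phiA_Y, hY]; exact commute_roots (by simp) (by simp) _ _

/-- The central product. -/
noncomputable def psi : SL2 × SL2 →* GG := MonoidHom.noncommCoprod phiA phiH phi_comm

theorem psi_apply (x y : SL2) : psi (x, y) = phiA x * phiH y := rfl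

theorem torus_conj_phiA (c : Fin chevG2.rank → Fˣ) (g : SL2) :
    (co F).R.torus c * phiA g * ((co F).R.torus c)⁻¹ = phiA (dconj (chr c 7) g) := by
  refine sl_decomp (fun g => (co F).R.torus c * phiA g * ((co F).R.torus c)⁻¹ = phiA (dconj (chr c 7) g))
    (fun t => ?_) (fun t => ?_) (fun g h hg hh => ?_) g
  · rw [dconj_slX, phiA_X, phiA_X, conj_x c (by decide)]
  · rw [dconj_slY, phiA_Y, phiA_Y, conj_x c (by decide)]
    rw [eq_vec c, chr4]
  · simp only [map_mul, ← hg, ← hh]; group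

theorem torus_conj_phiH (c : Fin chevG2.rank → Fˣ) (g : SL2) :
    (co F).R.torus c * phiH g * ((co F).R.torus c)⁻¹ = phiH (dconj (chr c 11) g) := by
  obtain ⟨e, -, hX, hY⟩ := phiH_XY (F := F)
  refine sl_decomp (fun g => (co F).R.torus c * phiH g * ((co F).R.torus c)⁻¹ = phiH (dconj (chr c 11) g))
    (fun t => ?_) (fun t => ?_) (fun g h hg hh => ?_) g
  · rw [dconj_slX, hX, hX, conj_x c (by decide), mul_left_comm]
  · rw [dconj_slY, hY, hY, conj_x c (by decide), mul_left_comm]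
    rw [eq_vec c, chr0, chr11]
  · simp only [map_mul, ← hg, ← hh]; group

theorem torus_conj_psi (a b : Fˣ) (x y : SL2) :
    tor a b * psi (x, y) * (tor a b)⁻¹ = psi (dconj (chr (vec a b) 7) x, dconj (chr (vec a b) 11) y) := by
  rw [psi_apply, psi_apply, ← torus_conj_phiA, ← torus_conj_phiH, tor]; group

theorem phiA_diag (c : Fˣ) : phiA (slD c) = tor c 1 := by
  show (co F).slMap iA (slD c) = _
  simp only [ChevCore.slMap, ChevCore.slCell, coe_slD]
  simp only [Matrix.of_apply, Matrix.cons_val', Matrix.cons_val_zero, Matrix.cons_val_one,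
    Matrix.cons_val_fin_one, zero_div, ↓reduceIte]
  rw [(co F).rX_zero, mul_one, (co F).rH_eq iA c.ne_zero, Units.mk0_val, RootData.torusSingle, single_A]
  rfl

theorem phiH_diag (c : Fˣ) : phiH (slD c) = tor c (c * c) := by
  have h : (co F).slMap iB (slD c) = tor 1 c := by
    simp only [ChevCore.slMap, ChevCore.slCell, coe_slD]
    simp only [Matrix.of_apply, Matrix.cons_val', Matrix.cons_val_zero, Matrix.cons_val_one,
      Matrix.cons_val_fin_one, zero_div, ↓reduceIte]
    rw [(co F).rX_zero, mul_one, (co F).rH_eq iB c.ne_zero, Units.mk0_val, RootData.torusSingle, single_B]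
    rfl
  show nH * (co F).slMap iB (slD c) * nH⁻¹ = _
  rw [h, nH, tor, show (co F).nS iB * (co F).nS iA * (co F).R.torus (vec 1 c) * ((co F).nS iB * (co F).nS iA)⁻¹ =
    (co F).nS iB * ((co F).nS iA * (co F).R.torus (vec 1 c) * ((co F).nS iA)⁻¹) * ((co F).nS iB)⁻¹ by group,
    (co F).nS_conj_torus, simple_eq.1, show (co F).R.torusChar (vec 1 c) ((co F).R.α 7) = chr (vec 1 c) 7 from rfl,
    chr7, single_A, vec_mul, (co F).nS_conj_torus, simple_eq.2,
    show ∀ v : Fin chevG2.rank → Fˣ, (co F).R.torusChar v ((co F).R.α 6) = chr v 6 from fun _ => rfl,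
    chr6, single_B, vec_mul, tor]
  congr 2
  · simp
  · simp [pow_succ, mul_assoc]

theorem slD_neg_one : slD (-1 : Fˣ) = -1 := by
  ext a b; fin_cases a <;> fin_cases b <;> simp [coe_slD]

/-- The involution. -/
noncomputable def t0 : GG := tor (-1) 1

theorem phiA_neg_one : phiA (-1 : SL2) = t0 := by rw [← slD_neg_one, phiA_diag, t0]

theorem phiH_neg_one : phiH (-1 : SL2) = t0 := by rw [← slD_neg_one, phiH_diag, t0, neg_one_mul, neg_neg]

theorem tor_ne_one {a b : Fˣ} (h : chr (vec a b) 7 ≠ 1) : tor a b ≠ 1 := fun e => h (by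
  have h1 := conj_x (F := F) (vec a b) (r := 7) (by decide) 1
  rw [show (co F).R.torus (vec a b) = tor a b from rfl, e, one_mul, inv_one, mul_one] at h1
  by_contra hne
  have h2 : ((co F).xGL 7 1)⁻¹ * (co F).xGL 7 ((chr (vec a b) 7 : F) * 1) = 1 := by rw [← h1, inv_mul_cancel]
  rw [(co F).xGL_inv, ← (co F).xGL_add, (co F).xGL_eq_one_iff (by decide)] at h2
  exact hne (Units.ext (by simp only [Units.val_one]; linear_combination h2)))

theorem slHom_injective (i : Fin chevG2.rank) : Function.Injective ((co F).slHom i etaNeg) := by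
  rw [injective_iff_map_eq_one]
  intro g hg
  have hg' : (co F).slMap i g = 1 := hg
  have hd := sl_det g
  simp only [ChevCore.slMap, ChevCore.slCell] at hg'
  set a := (g : Matrix (Fin 2) (Fin 2) F) 0 0 with ha
  set b := (g : Matrix (Fin 2) (Fin 2) F) 0 1 with hb
  set c := (g : Matrix (Fin 2) (Fin 2) F) 1 0 with hc
  set d := (g : Matrix (Fin 2) (Fin 2) F) 1 1 with hd'
  split_ifs at hg' with hc0
  · rw [hc0, mul_zero, sub_zero] at hd
    have ha0 : a ≠ 0 := left_ne_zero_of_mul_eq_one hd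
    have hU : (co F).rH i a ∈ chevG2.posUnipotent F := by
      rw [eq_inv_of_mul_eq_one_left hg']
      exact inv_mem ((co F).xGL_mem_posUnipotent ((co F).R.simple_pos i) _)
    have hH : (co F).rH i a = 1 := by
      have : (co F).rH i a ∈ chevG2.posUnipotent F ⊓ chevG2.diagonalSubgroup F :=
        ⟨hU, by rw [(co F).rH_eq i ha0, (co F).diagonalSubgroup_eq]; exact ⟨_, rfl⟩⟩
      rwa [(co F).posUnipotent_inf_diagonal, Subgroup.mem_bot] at this
    rw [hH, one_mul, ChevCore.rX, (co F).xGL_eq_one_iff ((co F).R.simple_lt i), div_eq_zero_iff,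
      or_iff_left ha0] at hg'
    have hu : Units.mk0 a ha0 = 1 := by
      set u := Units.mk0 a ha0
      have key : ∀ r < chevG2.nroots, chr (Pi.mulSingle i u) r = 1 := by
        intro r hr
        have h1 := conj_x (F := F) (Pi.mulSingle i u) hr 1
        rw [show (co F).R.torus (Pi.mulSingle i u) = (1 : GG) from ((co F).rH_eq i ha0).symm.trans hH,
          one_mul, inv_one, mul_one] at h1
        have h2 : ((co F).xGL r 1)⁻¹ * (co F).xGL r ((chr (Pi.mulSingle i u) r : F) * 1) = 1 := by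
          rw [← h1, inv_mul_cancel]
        rw [(co F).xGL_inv, ← (co F).xGL_add, (co F).xGL_eq_one_iff hr] at h2
        exact Units.ext (by simp only [Units.val_one]; linear_combination h2)
      rcases fin_cases_rank i with rfl | rfl
      · have k7 := key 7 (by decide)
        have k6 := key 6 (by decide)
        rw [single_A, chr7, inv_one, mul_one] at k7
        rw [single_A, chr6, one_pow, mul_one, inv_eq_one, pow_succ, k7, one_mul] at k6
        exact k6
      · have k7 := key 7 (by decide)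
        rwa [single_B, chr7, one_pow, one_mul, inv_eq_one] at k7
    have ha1 : a = 1 := by simpa [Units.ext_iff] using hu
    rw [ha1, one_mul] at hd
    ext p q; fin_cases p <;> fin_cases q <;> simp [← ha, ← hb, ← hc, ← hd', ha1, hg', hc0, hd]
  · exfalso
    have hn : (co F).rN i (-c⁻¹) ∈ chevG2.posUnipotent F := by
      have e : (co F).rN i (-c⁻¹) = ((co F).rX i (a / c))⁻¹ * ((co F).rX i (d / c))⁻¹ := by
        rw [eq_inv_mul_iff_mul_eq, eq_inv_iff_mul_eq_one]; exact hg'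
      rw [e]
      exact mul_mem (inv_mem ((co F).xGL_mem_posUnipotent ((co F).R.simple_pos i) _))
        (inv_mem ((co F).xGL_mem_posUnipotent ((co F).R.simple_pos i) _))
    set u := Units.mk0 (-c⁻¹) (by simpa using hc0)
    have hm : (co F).rN i (-c⁻¹) = (co F).R.torus (Pi.mulSingle i u) * (co F).nS i := (co F).nGL_simple i u
    have hmon : (co F).rN i (-c⁻¹) ∈ chevG2.monomialSubgroup F :=
      hm ▸ mul_mem ((co F).torus_mem_monomial _) ((co F).nS_mem_monomial i)
    have hone : (co F).rN i (-c⁻¹) = 1 := by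
      have : (co F).rN i (-c⁻¹) ∈ chevG2.posUnipotent F ⊓ chevG2.monomialSubgroup F := ⟨hn, hmon⟩
      rwa [(co F).posUnipotent_inf_monomial, Subgroup.mem_bot] at this
    have h1 : (co F).Moves ((co F).rN i (-c⁻¹)) (1 * (co F).hR.sPerm i) := by
      rw [hm]; exact ChevCore.Moves.mul (co F) ((co F).moves_torus _) (ChevCore.Acts.moves (co F) ((co F).acts_nS i))
    rw [hone] at h1
    have h2 := ChevCore.Moves.unique (co F) h1 (ChevCore.Acts.moves (co F) (co F).acts_one)
    rw [one_mul] at h2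
    have h3 := congrArg Fin.val (Equiv.Perm.ext_iff.mp h2 ⟨chevG2.simple i.val, (co F).R.simple_lt i⟩)
    rw [ReflData.sPerm_val, Equiv.Perm.one_apply] at h3
    change chevG2.reflectRoot i.val (chevG2.simple i.val) = chevG2.simple i.val at h3
    revert h3
    rcases fin_cases_rank i with rfl | rfl <;> decide +kernel

theorem phiA_injective : Function.Injective (phiA : SL2 → GG) := slHom_injective iA

theorem phiH_injective : Function.Injective (phiH : SL2 → GG) := fun _ _ h =>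
  slHom_injective iB ((MulAut.conj (nH : GG)).injective h)

theorem central_of_mem_range {x y : SL2} (h : phiA x = phiH y) : x = 1 ∨ x = -1 := by
  refine central_sl x (phiA_injective ?_) (phiA_injective ?_) <;>
  · rw [map_mul, map_mul, h]; exact (phi_comm _ y).symm.eq

theorem psi_eq_one {x y : SL2} : psi (x, y) = 1 ↔ x = 1 ∧ y = 1 ∨ x = -1 ∧ y = -1 := by
  rw [psi_apply]
  constructor
  · intro h
    have hinv : phiA x = phiH y⁻¹ := by rw [map_inv]; exact eq_inv_of_mul_eq_one_left h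
    rcases central_of_mem_range hinv with rfl | rfl
    · rw [map_one, one_mul] at h
      exact Or.inl ⟨rfl, phiH_injective (h.trans (map_one _).symm)⟩
    · rw [phiA_neg_one, ← phiH_neg_one, ← map_mul] at h
      refine Or.inr ⟨rfl, ?_⟩
      have := eq_inv_of_mul_eq_one_right (phiH_injective (h.trans (map_one _).symm))
      rw [this, inv_eq_iff_mul_eq_one]; simp
  · rintro (⟨rfl, rfl⟩ | ⟨rfl, rfl⟩)
    · simp
    · rw [phiA_neg_one, phiH_neg_one, t0, tor_mul, neg_one_mul, neg_neg, one_mul, tor_one]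

/-- The central product as a subgroup. -/
noncomputable def Lsub (F : Type*) [Field F] : Subgroup (GL chevG2.Idx F) := (psi (F := F)).range

/-- The centraliser of `t0`. -/
noncomputable def Csub (F : Type*) [Field F] : Subgroup (GL chevG2.Idx F) :=
  chevG2.group F ⊓ Subgroup.centralizer {(t0 : GL chevG2.Idx F)}

theorem mem_Csub {g : GG} : g ∈ Csub F ↔ g ∈ chevG2.group F ∧ g * t0 = t0 * g := by
  rw [Csub, Subgroup.mem_inf, Subgroup.mem_centralizer_iff]
  simp [eq_comm]

theorem phiA_mem_group (x : SL2) : phiA x ∈ chevG2.group F :=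
  sl_decomp (fun x => phiA x ∈ chevG2.group F) (fun t => phiA_X t ▸ (co F).xGL_mem_group _ _)
    (fun t => phiA_Y t ▸ (co F).xGL_mem_group _ _) (fun g h hg hh => by rw [map_mul]; exact mul_mem hg hh) x

theorem phiH_mem_group (x : SL2) : phiH x ∈ chevG2.group F := by
  obtain ⟨e, -, hX, hY⟩ := phiH_XY (F := F)
  exact sl_decomp (fun x => phiH x ∈ chevG2.group F) (fun t => hX t ▸ (co F).xGL_mem_group _ _)
    (fun t => hY t ▸ (co F).xGL_mem_group _ _) (fun g h hg hh => by rw [map_mul]; exact mul_mem hg hh) x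

theorem psi_neg_one_fst : psi ((-1 : SL2), 1) = t0 := by rw [psi_apply, phiA_neg_one, map_one, mul_one]

theorem t0_mem_L : (t0 : GG) ∈ Lsub F := ⟨(-1, 1), psi_neg_one_fst⟩

theorem t0_comm_psi (z : SL2 × SL2) : Commute (t0 : GG) (psi z) := by
  rw [← psi_neg_one_fst]
  exact Commute.map (Prod.commute_iff.mpr ⟨commute_neg_one _, Commute.one_left _⟩) psi

theorem L_le_C : Lsub F ≤ Csub F := by
  rintro _ ⟨⟨x, y⟩, rfl⟩
  exact mem_Csub.mpr ⟨mul_mem (phiA_mem_group x) (phiH_mem_group y), ((t0_comm_psi _).eq).symm⟩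

theorem tor_mem_C (a b : Fˣ) : tor a b ∈ Csub F :=
  mem_Csub.mpr ⟨torus_mem_group _, by rw [t0, tor_mul, tor_mul, mul_comm a, mul_comm b]⟩

theorem not_mem_L {a b : Fˣ} (h : ¬ IsSquare ((chr (vec a b) 7 : Fˣ) : F)) : tor a b ∉ Lsub F := by
  rintro ⟨⟨x, y⟩, hxy⟩
  set u := chr (vec a b) 7
  have h1 : phiA (slX ((u : F) * 1)) = phiA (x * slX 1 * x⁻¹) := by
    rw [← dconj_slX, ← torus_conj_phiA, map_mul, map_mul, map_inv]
    rw [show (co F).R.torus (vec a b) = psi (x, y) from hxy.symm, psi_apply, _root_.mul_inv_rev]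
    have hc := (phi_comm (slX 1) y).eq
    calc phiA x * phiH y * phiA (slX 1) * ((phiH y)⁻¹ * (phiA x)⁻¹)
        = phiA x * (phiH y * phiA (slX 1)) * (phiH y)⁻¹ * (phiA x)⁻¹ := by group
      _ = phiA x * (phiA (slX 1) * phiH y) * (phiH y)⁻¹ * (phiA x)⁻¹ := by rw [hc]
      _ = _ := by group
  have h2 : slX ((u : F) * 1) * x = x * slX 1 := by rw [phiA_injective h1, inv_mul_cancel_right]
  have e : ∀ i j, ((slX ((u : F) * 1) * x : SL2) : Matrix (Fin 2) (Fin 2) F) i j =
      ((x * slX 1 : SL2) : Matrix (Fin 2) (Fin 2) F) i j := by rw [h2]; simp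
  have e00 := e 0 0
  have e01 := e 0 1
  simp [SpecialLinearGroup.coe_mul, Matrix.mul_apply, Fin.sum_univ_two] at e00 e01
  have hd := sl_det x
  rw [e00, mul_zero, sub_zero] at hd
  have hd11 : (x : Matrix (Fin 2) (Fin 2) F) 0 0 = (u : F) * (x : Matrix (Fin 2) (Fin 2) F) 1 1 := by
    linear_combination -e01
  exact h ⟨(x : Matrix (Fin 2) (Fin 2) F) 0 0, by
    linear_combination (-(u : F)) * hd - ((x : Matrix (Fin 2) (Fin 2) F) 0 0) * hd11⟩

/-! ### Orders -/

/-- The permutations of the Weyl group as tables. -/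
def tbl (l : List (Fin 12)) (s : Fin 12) : Fin 12 := l.getD s.val 0

theorem t0_ne_one [Fintype F] (hF : Odd (Fintype.card F)) : (t0 : GG) ≠ 1 := by
  intro h
  have h1 : phiA (-1 : SL2) = phiA 1 := by rw [phiA_neg_one, h, map_one]
  have h2 := congrArg (fun g : SL2 => (g : Matrix (Fin 2) (Fin 2) F) 0 0) (phiA_injective h1)
  simp at h2
  exact Ring.neg_one_ne_one_of_char_ne_two (ringChar_ne_two_of_odd hF) h2

theorem word_conj (c : Fin chevG2.rank → Fˣ) : ∀ (L : List ℕ), (∀ r ∈ L, r < chevG2.nroots) → ∀ t : ℕ → F,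
    (co F).R.torus c * (co F).word L t * ((co F).R.torus c)⁻¹ = (co F).word L (fun r => (chr c r : F) * t r) := by
  intro L
  induction L with
  | nil => intro _ t; rw [(co F).word_nil, (co F).word_nil]; group
  | cons k L ih =>
    intro h t
    rw [(co F).word_cons, (co F).word_cons, ← ih (fun r hr => h r (List.mem_cons_of_mem _ hr)),
      ← conj_x c (h k List.mem_cons_self)]
    group

theorem chr_t0 : ∀ r < chevG2.nroots, r ≠ 0 ∧ r ≠ 4 ∧ r ≠ 7 ∧ r ≠ 11 → chevG2.cartan 0 r % 2 = 1 := by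
  decide +kernel

theorem chr_t0_eq (r : ℕ) (hr : r < chevG2.nroots) :
    (r ≠ 0 ∧ r ≠ 4 ∧ r ≠ 7 ∧ r ≠ 11 → (chr (vec (-1 : Fˣ) 1) r : F) = -1) ∧
      (r = 0 ∨ r = 4 ∨ r = 7 ∨ r = 11 → (chr (vec (-1 : Fˣ) 1) r : F) = 1) := by
  rw [chr_eq _ hr, vec_A, vec_B, _root_.one_zpow, mul_one]
  constructor
  · intro h
    obtain ⟨k, hk⟩ : Odd (chevG2.cartan 0 r) := Int.odd_iff.mpr (chr_t0 r hr h)
    rw [hk, _root_.zpow_add, _root_.zpow_mul]; simp
  · intro h
    obtain ⟨k, hk⟩ : Even (chevG2.cartan 0 r) := by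
      rcases h with rfl | rfl | rfl | rfl <;> decide +kernel
    rw [hk, _root_.zpow_add, ← _root_.mul_zpow]; simp

/-- Elements of a product of root groups commuting with `t0` only involve `±a`, `±h`. -/
theorem fixed_word [Fintype F] (hF : Odd (Fintype.card F)) {L : List ℕ} (hs : L.Pairwise (· < ·))
    (hpos : ∀ r ∈ L, chevG2.IsPosRoot r) (t : ℕ → F)
    (h : t0 * (co F).word L t * t0⁻¹ = (co F).word L t) :
    ∀ r ∈ L, r ≠ 7 → r ≠ 11 → t r = 0 := by
  intro r hr h7 h11
  rw [t0, tor, word_conj _ L (fun r hr => (hpos r hr).1)] at h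
  have h1 := (co F).word_injective hs hpos _ _ h r hr
  have hr' : r ≠ 0 ∧ r ≠ 4 ∧ r ≠ 7 ∧ r ≠ 11 := by
    refine ⟨?_, ?_, h7, h11⟩ <;> rintro rfl
    · exact absurd (hpos 0 hr) (by decide +kernel)
    · exact absurd (hpos 4 hr) (by decide +kernel)
  rw [(chr_t0_eq r (hpos r hr).1).1 hr'] at h1
  have : (2 : F) * t r = 0 := by linear_combination -h1
  exact (mul_eq_zero.mp this).resolve_left (two_ne_zero' hF)

/-- The fixed coordinates. -/
def fixList (L : List ℕ) : List ℕ := L.filter fun r => decide (r = 7) || decide (r = 11)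

/-- Words supported on the fixed coordinates. -/
noncomputable def fixSet (L : List ℕ) : Set GG :=
  Set.range fun f : Fin (fixList L).length → F =>
    (co F).word L fun r => if h : (fixList L).idxOf r < (fixList L).length then f ⟨_, h⟩ else 0

theorem card_fixSet [Fintype F] (L : List ℕ) :
    Nat.card (fixSet (F := F) L) ≤ Fintype.card F ^ (fixList L).length := by
  refine (Finite.card_range_le _).trans (le_of_eq ?_)
  rw [Nat.card_fun, Nat.card_fin, Nat.card_eq_fintype_card]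

theorem mem_fixSet [Fintype F] (hF : Odd (Fintype.card F)) {L : List ℕ} (hs : L.Pairwise (· < ·))
    (hc : (co F).R.IsClosed {r | r ∈ L}) {u : GG} (hu : u ∈ (co F).Ucl {r | r ∈ L})
    (h : t0 * u * t0⁻¹ = u) : u ∈ fixSet (F := F) L := by
  obtain ⟨t, rfl⟩ := (co F).exists_word hs hc u hu
  have h0 := fixed_word hF hs hc.1 t h
  refine ⟨fun i => t ((fixList L).get i), (co F).word_congr fun r hr => ?_⟩
  by_cases hm : r ∈ fixList L
  · rw [dif_pos (List.idxOf_lt_length_of_mem hm)]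
    simp
  · rw [dif_neg (fun hlt => hm (List.idxOf_lt_length_iff.mp hlt))]
    simp only [fixList, List.mem_filter, Bool.or_eq_true, decide_eq_true_eq, not_and, not_or] at hm
    exact (h0 r hr (hm hr).1 (hm hr).2).symm

/-- The inversion list of a permutation. -/
def invList (w : Equiv.Perm (Fin chevG2.nroots)) : List ℕ :=
  (List.range chevG2.nroots).filter fun r =>
    if h : r < chevG2.nroots then decide (chevG2.IsPosRoot r) && decide (chevG2.IsNegRoot (w ⟨r, h⟩)) else false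

theorem setOf_invList (w : Equiv.Perm (Fin chevG2.nroots)) :
    {r | r ∈ invList w} = (co F).hR.invRoots w := by
  ext r
  simp only [invList, Set.mem_ofPred_eq, List.mem_filter, List.mem_range, ReflData.invRoots]
  constructor
  · rintro ⟨hr, h⟩
    rw [dif_pos hr, Bool.and_eq_true, decide_eq_true_eq, decide_eq_true_eq] at h
    exact ⟨hr, (co F).hR.mem_invSet.mpr h⟩
  · rintro ⟨hr, h⟩
    refine ⟨hr, ?_⟩
    rw [dif_pos hr, Bool.and_eq_true, decide_eq_true_eq, decide_eq_true_eq]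
    exact (co F).hR.mem_invSet.mp h

/-- The positive roots. -/
def posList : List ℕ := (List.range chevG2.nroots).filter fun r => decide (chevG2.IsPosRoot r)

theorem setOf_posList : {r | r ∈ posList} = {r | chevG2.IsPosRoot r} := by
  ext r
  simp only [posList, Set.mem_ofPred_eq, List.mem_filter, List.mem_range, decide_eq_true_eq]
  exact ⟨fun h => h.2, fun h => ⟨h.1, h⟩⟩

theorem fixList_pos : (fixList posList).length = 2 := by decide +kernel

/-- The simple reflections as tables. -/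
def reflFun (i : Fin chevG2.rank) (s : Fin chevG2.nroots) : Fin chevG2.nroots :=
  ⟨chevG2.reflectRoot i.val s.val % chevG2.nroots, Nat.mod_lt _ (by decide)⟩

/-- Words of the Weyl group of `G₂`. -/
def weylWords : List (List (Fin chevG2.rank)) :=
  [[], [iA], [iB], [iA, iB], [iB, iA], [iA, iB, iA], [iB, iA, iB], [iA, iB, iA, iB], [iB, iA, iB, iA],
    [iA, iB, iA, iB, iA], [iB, iA, iB, iA, iB], [iA, iB, iA, iB, iA, iB]]

/-- The action of a word. -/
def wordFun (l : List (Fin chevG2.rank)) (s : Fin chevG2.nroots) : Fin chevG2.nroots := l.foldr reflFun s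

theorem weylWords_closed : ∀ l ∈ weylWords, ∀ i : Fin chevG2.rank, ∃ l' ∈ weylWords,
    ∀ s : Fin chevG2.nroots, wordFun l (reflFun i s) = wordFun l' s := by decide +kernel

theorem exists_word_fun {w : Equiv.Perm (Fin chevG2.nroots)} (hw : w ∈ (co F).hR.weyl) :
    ∃ l ∈ weylWords, ∀ s, w s = wordFun l s := by
  refine (co F).hR.weyl_induction (P := fun w => ∃ l ∈ weylWords, ∀ s, w s = wordFun l s)
    ⟨[], by simp [weylWords], fun s => rfl⟩ ?_ w hw
  rintro v - i ⟨l, hl, hv⟩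
  obtain ⟨l', hl', h⟩ := weylWords_closed l hl i
  refine ⟨l', hl', fun s => ?_⟩
  rw [← h, Equiv.Perm.mul_apply, hv]
  congr 1
  exact Fin.ext (by
    rw [ReflData.sPerm_val]
    exact (Nat.mod_eq_of_lt ((co F).hR.refl_lt i s.val s.isLt)).symm)

/-- The words fixing `t0`. -/
def stabWords : List (List (Fin chevG2.rank)) :=
  weylWords.filter fun l => decide ((wordFun l ⟨7, by decide⟩).val ∈ [0, 4, 7, 11] ∧ (wordFun l ⟨11, by decide⟩).val ∈ [0, 4, 7, 11])

/-- The number of fixed coordinates in the inversion set of a word. -/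
def wordExp (l : List (Fin chevG2.rank)) : ℕ :=
  ((List.range chevG2.nroots).filter fun r =>
    if h : r < chevG2.nroots then
      (decide (chevG2.IsPosRoot r) && decide (chevG2.IsNegRoot (wordFun l ⟨r, h⟩))) && (decide (r = 7) || decide (r = 11))
    else false).length

theorem stab_exps : (stabWords.map wordExp) = [0, 1, 1, 2] := by decide +kernel

variable [Fintype F]

/-- The permutations of the Weyl group fixing `t0`. -/
def StabW (F : Type*) [Field F] : Type :=
  {w : Equiv.Perm (Fin chevG2.nroots) // w ∈ (co F).hR.weyl ∧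
    (w ⟨7, by decide⟩).val ∈ [0, 4, 7, 11] ∧ (w ⟨11, by decide⟩).val ∈ [0, 4, 7, 11]}

theorem sum_stab_le : ∀ [Fintype (StabW F)], ∑ w : StabW F, Fintype.card F ^ (fixList (invList w.1)).length ≤
    (Fintype.card F + 1) ^ 2 := by
  intro _
  classical
  choose l hl hw using fun w : StabW F => exists_word_fun w.2.1
  have hls : ∀ w, l w ∈ stabWords := fun w => by
    simp only [stabWords, List.mem_filter, decide_eq_true_eq]
    exact ⟨hl w, by rw [← hw, ← hw]; exact w.2.2⟩
  have hinj : Function.Injective l := fun a b h =>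
    Subtype.ext (Equiv.ext fun s => by rw [hw, hw, h])
  have hexp : ∀ w : StabW F, (fixList (invList w.1)).length = wordExp (l w) := fun w => by
    rw [fixList, invList, List.filter_filter, wordExp]
    congr 1
    refine List.filter_congr fun r hr => ?_
    rw [List.mem_range] at hr
    rw [dif_pos hr, dif_pos hr, hw, Bool.and_comm]
  simp only [hexp]
  calc ∑ w : StabW F, Fintype.card F ^ wordExp (l w)
      = ∑ x ∈ Finset.univ.image l, Fintype.card F ^ wordExp x := by
        rw [Finset.sum_image (fun a _ b _ h => hinj h)]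
    _ ≤ ∑ x ∈ stabWords.toFinset, Fintype.card F ^ wordExp x :=
        Finset.sum_le_sum_of_subset (fun x hx => by
          obtain ⟨w, -, rfl⟩ := Finset.mem_image.mp hx
          exact List.mem_toFinset.mpr (hls w))
    _ = ((stabWords.map wordExp).map fun k => Fintype.card F ^ k).sum := by
        rw [List.sum_toFinset _ (by decide +kernel), List.map_map]; rfl
    _ = _ := by rw [stab_exps]; simp; ring

theorem stab_of_fixed (hF : Odd (Fintype.card F)) {n : GG} {w : Equiv.Perm (Fin chevG2.nroots)}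
    (hw : (co F).Moves n w) (hn : n * t0 = t0 * n) :
    (w ⟨7, by decide⟩).val ∈ [0, 4, 7, 11] ∧ (w ⟨11, by decide⟩).val ∈ [0, 4, 7, 11] := by
  have key : ∀ r : Fin chevG2.nroots, (chr (vec (-1 : Fˣ) 1) r.val : F) = 1 → (w r).val ∈ [0, 4, 7, 11] := by
    intro r hr
    by_contra hnot
    simp only [List.mem_cons, List.not_mem_nil, or_false, not_or] at hnot
    obtain ⟨u, hu⟩ := hw.2 r 1
    have h1 : t0 * (co F).xGL r.val 1 * t0⁻¹ = (co F).xGL r.val 1 := by
      rw [t0, tor, conj_x _ r.isLt, hr, one_mul]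
    have h2 : (co F).xGL (w r).val ((chr (vec (-1 : Fˣ) 1) (w r).val : F) * u) = (co F).xGL (w r).val u := by
      rw [← conj_x _ (w r).isLt, ← hu, show (co F).R.torus (vec (-1) 1) = t0 from rfl]
      calc t0 * (n * (co F).xGL r.val 1 * n⁻¹) * t0⁻¹ = (t0 * n) * (co F).xGL r.val 1 * (t0 * n)⁻¹ := by group
        _ = (n * t0) * (co F).xGL r.val 1 * (n * t0)⁻¹ := by rw [hn]
        _ = n * (t0 * (co F).xGL r.val 1 * t0⁻¹) * n⁻¹ := by group
        _ = _ := by rw [h1]
    rw [(chr_t0_eq _ (w r).isLt).1 hnot] at h2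
    have h3 : (co F).xGL (w r).val (-((-1) * u) + u) = 1 := by
      rw [(co F).xGL_add, ← (co F).xGL_inv, h2, inv_mul_cancel]
    rw [(co F).xGL_eq_one_iff (w r).isLt] at h3
    have hu0 : u = 0 := by
      have : (2 : F) * u = 0 := by linear_combination h3
      exact (mul_eq_zero.mp this).resolve_left (two_ne_zero' hF)
    rw [hu0, (co F).xGL_zero, mul_inv_eq_one, mul_eq_left] at hu
    exact one_ne_zero (((co F).xGL_eq_one_iff r.isLt).1 hu)
  exact ⟨key ⟨7, by decide⟩ ((chr_t0_eq 7 (by decide)).2 (by simp)),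
    key ⟨11, by decide⟩ ((chr_t0_eq 11 (by decide)).2 (by simp))⟩

theorem mem_fix_inv (hF : Odd (Fintype.card F)) {w : Equiv.Perm (Fin chevG2.nroots)} (hw : w ∈ (co F).hR.weyl)
    {u : GG} (hu : u ∈ (co F).Ucl ((co F).hR.invRoots w)) (h : t0 * u * t0⁻¹ = u) :
    u ∈ fixSet (F := F) (invList w) := by
  have e := setOf_invList (F := F) w
  rw [← e] at hu
  have hc : (co F).R.IsClosed {r | r ∈ invList w} := by rw [e]; exact (co F).hR.invRoots_closed hw
  have hs : (invList w).Pairwise (· < ·) := ChevCore.sorted_filter _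
  exact mem_fixSet hF hs hc hu h

theorem mem_fix_pos (hF : Odd (Fintype.card F)) {v : GG} (hv : v ∈ chevG2.posUnipotent F)
    (h : t0 * v * t0⁻¹ = v) : v ∈ fixSet (F := F) posList := by
  rw [(co F).posUnipotent_eq, ← setOf_posList] at hv
  have hc : (co F).R.IsClosed {r | r ∈ posList} := by rw [setOf_posList]; exact (co F).R.isClosed_pos
  have hs : posList.Pairwise (· < ·) := ChevCore.sorted_filter _
  exact mem_fixSet hF hs hc hv h

set_option maxHeartbeats 1000000 in
theorem card_C_le (hF : Odd (Fintype.card F)) :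
    Nat.card (Csub F) ≤ Fintype.card F ^ 2 * (Fintype.card F ^ 2 - 1) ^ 2 := by
  classical
  haveI : Finite (StabW F) := Subtype.finite
  haveI : Fintype (StabW F) := Fintype.ofFinite _
  choose rep hrepN hrep using fun w : StabW F => (show ∃ n ∈ chevG2.monomialSubgroup F, (co F).Moves n w.1 from by
    obtain ⟨n, hn, h⟩ := (co F).exists_rep w.2.1
    exact ⟨n, (co F).rep_mem_monomial hn, ChevCore.Acts.moves (co F) h⟩)
  let f : (fixSet (F := F) posList) × (Σ w : StabW F, chevG2.diagonalSubgroup F × fixSet (F := F) (invList w.1)) → GG :=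
    fun x => (x.1 : GG) * (x.2.2.1 : GG) * rep x.2.1 * (x.2.2.2 : GG)
  have hsub : (Csub F : Set GG) ⊆ Set.range f := by
    intro g hg
    obtain ⟨hgG, hgc⟩ := mem_Csub.mp hg
    obtain ⟨w, hw, b, hb, n, hn, hmv, u, hu, rfl⟩ := (co F).normalForm_exists hgG
    obtain ⟨v, hv, c, rfl⟩ := (co F).mem_borel.mp hb
    set d := (co F).R.torus c with hd
    -- conjugation by `t0`
    set n' := t0 * n * t0⁻¹ with hn'
    have ht0N : (t0 : GG) ∈ chevG2.monomialSubgroup F := (co F).torus_mem_monomial _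
    have ht0B : (t0 : GG) ∈ chevG2.borelSubgroup F := (co F).torus_mem_borel _
    have hn'N : n' ∈ chevG2.monomialSubgroup F := mul_mem (mul_mem ht0N hn) (inv_mem ht0N)
    have hmv' : (co F).Moves n' w := by
      have := ChevCore.Moves.mul (co F) (ChevCore.Moves.mul (co F) ((co F).moves_torus (vec (-1) 1)) hmv)
        ((co F).moves_torus (vec (-1) 1)⁻¹)
      rw [map_inv, one_mul, mul_one] at this
      exact this
    have hnorm : t0 ∈ Subgroup.normalizer (chevG2.posUnipotent F : Set GG) := by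
      refine (co F).diagonal_normalizes_pos ?_
      rw [(co F).diagonalSubgroup_eq]; exact ⟨_, rfl⟩
    have hv' : t0 * v * t0⁻¹ ∈ chevG2.posUnipotent F := (Subgroup.mem_normalizer_iff.mp hnorm v).mp hv
    have hcomm_d : t0 * d = d * t0 := by rw [hd, t0, tor, ← map_mul, ← map_mul, mul_comm]
    have hu' : t0 * u * t0⁻¹ ∈ (co F).Ucl ((co F).hR.invRoots w) :=
      (Subgroup.mem_normalizer_iff.mp ((co F).torus_normalizes _ ⟨_, rfl⟩) u).mp hu
    have heq : v * d * n * u = (t0 * v * t0⁻¹ * d) * n' * (t0 * u * t0⁻¹) := by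
      calc v * d * n * u = t0 * (v * d * n * u) * t0⁻¹ := by rw [← hgc, mul_inv_cancel_right]
        _ = t0 * v * t0⁻¹ * (t0 * d) * n * u * t0⁻¹ := by group
        _ = _ := by rw [hcomm_d, hn']; group
    have hd' : d ∈ chevG2.borelSubgroup F := (co F).torus_mem_borel c
    have hB' : t0 * v * t0⁻¹ * d ∈ chevG2.borelSubgroup F :=
      mul_mem (le_sup_left (b := chevG2.diagonalSubgroup F) hv') hd'
    obtain ⟨-, hk, -⟩ := (co F).normalForm_unique hb hB' hn hn'N hmv hmv' hu hu' heq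
    rw [(co F).diagonalSubgroup_eq] at hk
    obtain ⟨k, hk⟩ := hk
    -- move the torus factor across `n`
    have hnk : n * (co F).R.torus k * n⁻¹ ∈ chevG2.diagonalSubgroup F := by
      rw [(co F).diagonalSubgroup_eq]
      exact (Subgroup.mem_normalizer_iff.mp ((co F).monomial_le_normalizer hn) _).mp ⟨k, rfl⟩
    rw [(co F).diagonalSubgroup_eq] at hnk
    obtain ⟨m, hm⟩ := hnk
    have hn'' : n' = (co F).R.torus m * n := by rw [hm, hk]; group
    have heq2 : v * d * n * u = (t0 * v * t0⁻¹ * (d * (co F).R.torus m)) * n * (t0 * u * t0⁻¹) := by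
      rw [heq, hn'']; group
    have hB'' : t0 * v * t0⁻¹ * (d * (co F).R.torus m) ∈ chevG2.borelSubgroup F :=
      mul_mem (le_sup_left (b := chevG2.diagonalSubgroup F) hv') (mul_mem hd' ((co F).torus_mem_borel m))
    obtain ⟨-, -, huniq⟩ := (co F).normalForm_unique hb hB'' hn hn hmv hmv hu hu' heq2
    obtain ⟨hbb, huu⟩ := huniq rfl
    have hvm : (t0 * v * t0⁻¹)⁻¹ * v = (co F).R.torus m := by
      have h1 : (t0 * v * t0⁻¹)⁻¹ * (v * d) = d * (co F).R.torus m := by rw [hbb]; group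
      rw [hd, ← map_mul, mul_comm c m, map_mul] at h1
      exact mul_right_cancel (((mul_assoc _ _ _).trans h1))
    have hone : (co F).R.torus m = 1 := by
      have : (co F).R.torus m ∈ chevG2.posUnipotent F ⊓ chevG2.diagonalSubgroup F :=
        Subgroup.mem_inf.mpr ⟨hvm ▸ mul_mem (inv_mem hv') hv, by rw [(co F).diagonalSubgroup_eq]; exact ⟨m, rfl⟩⟩
      rwa [(co F).posUnipotent_inf_diagonal, Subgroup.mem_bot] at this
    have hvfix : t0 * v * t0⁻¹ = v := inv_mul_eq_one.mp (hvm.trans hone)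
    rw [hone, one_mul] at hn''
    have hnc : n * t0 = t0 * n := by
      rw [hn', mul_inv_eq_iff_eq_mul] at hn''
      exact hn''.symm
    set W : StabW F := ⟨w, hw, stab_of_fixed hF hmv hnc⟩
    have hu2 : u ∈ fixSet (F := F) (invList w) := mem_fix_inv hF hw hu huu.symm
    have hv2 : v ∈ fixSet (F := F) posList := mem_fix_pos hF hv hvfix
    have hdiag : d * (n * (rep W)⁻¹) ∈ chevG2.diagonalSubgroup F := by
      refine mul_mem (by rw [(co F).diagonalSubgroup_eq]; exact ⟨c, rfl⟩) ?_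
      refine (co F).mem_diagonal_of_moves_one (mul_mem hn (inv_mem (hrepN W))) ?_
      simpa [W] using ChevCore.Moves.mul (co F) hmv (ChevCore.Moves.inv (co F) (hrepN W) (hrep W))
    refine ⟨(⟨v, hv2⟩, ⟨W, ⟨d * (n * (rep W)⁻¹), hdiag⟩, ⟨u, hu2⟩⟩), ?_⟩
    simp only [f]
    group
  have hcard : Nat.card (chevG2.diagonalSubgroup F) = (Fintype.card F - 1) ^ 2 := by
    have := card_diagonalG2 F
    rw [one_mul] at this
    exact this
  calc Nat.card (Csub F) ≤ Nat.card (Set.range f) := Nat.card_mono (Set.toFinite _) hsub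
    _ ≤ Nat.card (fixSet (F := F) posList) * ∑ w : StabW F, Nat.card (chevG2.diagonalSubgroup F) * Nat.card (fixSet (F := F) (invList w.1)) := by
        refine (Finite.card_range_le f).trans (le_of_eq ?_)
        rw [Nat.card_prod, Nat.card_sigma]
        simp only [Nat.card_prod]
    _ ≤ Fintype.card F ^ 2 * ((Fintype.card F - 1) ^ 2 * (Fintype.card F + 1) ^ 2) := by
        refine Nat.mul_le_mul ((card_fixSet _).trans (le_of_eq (by rw [fixList_pos]))) ?_
        rw [← Finset.mul_sum, hcard]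
        exact Nat.mul_le_mul_left _ ((Finset.sum_le_sum fun w _ => card_fixSet _).trans sum_stab_le)
    _ = _ := by
        rw [← mul_pow, show Fintype.card F ^ 2 - 1 = (Fintype.card F - 1) * (Fintype.card F + 1) by
          rw [← one_pow 2, Nat.sq_sub_sq]; ring]

theorem card_L (hF : Odd (Fintype.card F)) :
    2 * Nat.card (Lsub F) = Fintype.card F ^ 2 * (Fintype.card F ^ 2 - 1) ^ 2 := by
  have h1 := (psi (F := F)).ker.card_mul_index
  rw [Subgroup.index_ker, Nat.card_prod, card_SL2] at h1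
  have hk : Nat.card (psi (F := F)).ker = 2 := by
    have hne : ((-1 : SL2), (-1 : SL2)) ≠ 1 := fun h => t0_ne_one hF (by
      rw [← phiA_neg_one, show (-1 : SL2) = 1 from congrArg Prod.fst h, map_one])
    refine Nat.card_eq_two_iff.mpr ⟨⟨1, one_mem _⟩, ⟨(-1, -1), psi_eq_one.mpr (Or.inr ⟨rfl, rfl⟩)⟩, fun h => hne (congrArg Subtype.val h).symm, ?_⟩
    ext ⟨⟨x, y⟩, hxy⟩
    simp only [Set.mem_insert_iff, Set.mem_singleton_iff, Set.mem_univ, iff_true]
    rcases psi_eq_one.mp hxy with ⟨rfl, rfl⟩ | ⟨rfl, rfl⟩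
    · exact Or.inl rfl
    · exact Or.inr rfl
  rw [hk] at h1
  rw [Lsub, h1]; ring

/-- A torus element outside `L`. -/
noncomputable def hEps (e : Fˣ) : GG := tor 1 e

theorem hEps_not_mem {e : Fˣ} (he : ¬ IsSquare (e : F)) : hEps e ∉ Lsub F := by
  refine not_mem_L fun h => he ?_
  rw [chr7, one_pow, one_mul, Units.val_inv_eq_inv_val, isSquare_inv] at h
  exact h

theorem C_eq (hF : Odd (Fintype.card F)) {e : Fˣ} (he : ¬ IsSquare (e : F)) :
    Nat.card (Csub F) = Fintype.card F ^ 2 * (Fintype.card F ^ 2 - 1) ^ 2 ∧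
    (Lsub F).relIndex (Csub F) = 2 ∧
    ∀ g ∈ Csub F, g ∈ Lsub F ∨ (hEps e)⁻¹ * g ∈ Lsub F := by
  have hL : (Lsub F).relIndex (Csub F) * Nat.card (Lsub F) = Nat.card (Csub F) := by
    rw [← Nat.card_congr (Subgroup.subgroupOfEquivOfLe (L_le_C (F := F))).toEquiv]
    exact ((Lsub F).subgroupOf (Csub F)).index_mul_card
  have hne1 : (Lsub F).relIndex (Csub F) ≠ 1 := fun h =>
    hEps_not_mem he (Subgroup.relIndex_eq_one.mp h (tor_mem_C 1 e))
  have hpos : 0 < Nat.card (Lsub F) := Nat.card_pos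
  have h0 : (Lsub F).relIndex (Csub F) ≠ 0 := fun h => by
    rw [h, zero_mul] at hL
    exact Nat.card_pos.ne' hL.symm
  have hle := card_C_le hF
  rw [← card_L hF, ← hL] at hle
  have h2 : (Lsub F).relIndex (Csub F) = 2 :=
    le_antisymm (Nat.le_of_mul_le_mul_right hle hpos) (by omega)
  refine ⟨by rw [← hL, h2, card_L hF], h2, fun g hg => ?_⟩
  by_cases hgL : g ∈ Lsub F
  · exact Or.inl hgL
  refine Or.inr ?_
  have := (Subgroup.mul_mem_iff_of_index_two (H := (Lsub F).subgroupOf (Csub F)) h2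
    (a := (⟨hEps e, tor_mem_C 1 e⟩ : Csub F)⁻¹) (b := ⟨g, hg⟩)).mpr
    (iff_of_false (fun h => hEps_not_mem he ((Subgroup.inv_mem_iff _).mp h)) hgL)
  exact this

/-! ### Involutions -/

theorem coe_psi_neg (x y : SL2) : psi (-x, -y) = psi (x, y) := by
  have h : ((-x, -y) : SL2 × SL2) = (x, y) * (-1, -1) := by
    refine Prod.ext ?_ ?_ <;> ext a b <;> simp
  rw [h, map_mul, psi_eq_one.mpr (Or.inr ⟨rfl, rfl⟩), mul_one]

/-- The standard involution of `L` other than `t0`. -/
noncomputable def u0 : GG := psi (slW, slW)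

theorem sq_neg_one_of (x : SL2) (h : x * x = -1) :
    (x : Matrix (Fin 2) (Fin 2) F) * (x : Matrix (Fin 2) (Fin 2) F) = (-1 : F) • (1 : Matrix (Fin 2) (Fin 2) F) := by
  have := congrArg Subtype.val h
  simpa using this

theorem trace_zero_sl (hF : Odd (Fintype.card F)) (x : SL2) (h : x * x = -1) :
    (x : Matrix (Fin 2) (Fin 2) F) 1 1 = -(x : Matrix (Fin 2) (Fin 2) F) 0 0 := by
  rcases trace_zero_of_sq (sq_neg_one_of x h) with h1 | ⟨m, h1, h2⟩
  · exact h1
  · exfalso
    have := (Matrix.SpecialLinearGroup.det_coe x).symm.trans h1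
    exact Ring.neg_one_ne_one_of_char_ne_two (ringChar_ne_two_of_odd hF) (h2.trans this.symm)

theorem slW_sq : (slW : SL2) * slW = -1 := by
  ext a b; fin_cases a <;> fin_cases b <;> simp [Matrix.mul_apply, Fin.sum_univ_two]

theorem exists_conj_slW (hF : Odd (Fintype.card F)) (x : SL2) (h : x * x = -1) :
    ∃ g : SL2, g * x * g⁻¹ = slW := by
  obtain ⟨g, hg⟩ := exists_conj (two_ne_zero' hF) (ringChar_ne_two_of_odd hF) (trace_zero_sl hF x h)
    (trace_zero_sl hF slW slW_sq) (by simp) (by simp)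
  refine ⟨g, mul_inv_eq_iff_eq_mul.mpr (Subtype.ext ?_)⟩
  exact hg

/-- Involutions of `L` other than `t0` are conjugate to `u0`. -/
theorem conj_u0 (hF : Odd (Fintype.card F)) {s : GG} (hs : s ∈ Lsub F) (h2 : s * s = 1) (h1 : s ≠ 1)
    (h0 : s ≠ t0) : ∃ k ∈ Csub F, k * s * k⁻¹ = u0 := by
  obtain ⟨⟨x, y⟩, rfl⟩ := hs
  rw [← map_mul, Prod.mk_mul_mk, psi_eq_one] at h2
  rcases h2 with ⟨hx, hy⟩ | ⟨hx, hy⟩
  · exfalso
    rcases sq_eq_one (two_ne_zero' hF) x hx with rfl | rfl <;>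
      rcases sq_eq_one (two_ne_zero' hF) y hy with rfl | rfl
    · exact h1 (psi_eq_one.mpr (Or.inl ⟨rfl, rfl⟩))
    · exact h0 (by rw [psi_apply, map_one, one_mul, phiH_neg_one])
    · exact h0 psi_neg_one_fst
    · exact h1 (psi_eq_one.mpr (Or.inr ⟨rfl, rfl⟩))
  · obtain ⟨g, hg⟩ := exists_conj_slW hF x hx
    obtain ⟨g', hg'⟩ := exists_conj_slW hF y hy
    refine ⟨psi (g, g'), L_le_C ⟨_, rfl⟩, ?_⟩
    rw [← map_inv, ← map_mul, ← map_mul, Prod.inv_mk, Prod.mk_mul_mk, Prod.mk_mul_mk, hg, hg', u0]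

theorem hEps_sq (e : Fˣ) : hEps e * hEps e = psi (slD e⁻¹, slD e) := by
  rw [psi_apply, phiA_diag, phiH_diag, hEps, tor_mul, tor_mul, inv_mul_cancel, one_mul, one_mul]

/-- `diag(c, 1)`. -/
def dd (c : F) : Matrix (Fin 2) (Fin 2) F := !![c, 0; 0, 1]

theorem dd_mul_dconj (c : Fˣ) (x : SL2) :
    dd (c : F) * (x : Matrix (Fin 2) (Fin 2) F) = (dconj c x : Matrix (Fin 2) (Fin 2) F) * dd (c : F) := by
  ext a b
  fin_cases a <;> fin_cases b <;> simp [dd, dconj, dconjFun, Matrix.mul_apply, Fin.sum_univ_two, mul_comm]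

/-- The square of an outer element in matrix form. -/
theorem outer_sq (c : Fˣ) (x z : SL2) (h : slD c * dconj c⁻¹ x * x = z) :
    (dd (c : F) * (x : Matrix (Fin 2) (Fin 2) F)) * (dd (c : F) * (x : Matrix (Fin 2) (Fin 2) F)) =
      (c : F) • (z : Matrix (Fin 2) (Fin 2) F) := by
  subst h
  have hd : dd (c : F) * dd (c : F) = (c : F) • (slD c : Matrix (Fin 2) (Fin 2) F) := by
    ext a b
    fin_cases a <;> fin_cases b <;> simp [dd, coe_slD, Matrix.mul_apply, Fin.sum_univ_two]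
  have hx : (x : Matrix (Fin 2) (Fin 2) F) * dd (c : F) = dd (c : F) * (dconj c⁻¹ x : Matrix (Fin 2) (Fin 2) F) := by
    rw [dd_mul_dconj]
    congr 1
    ext a b
    fin_cases a <;> fin_cases b <;> simp [dconj, dconjFun]
  show _ = (c : F) • ((slD c : Matrix (Fin 2) (Fin 2) F) * (dconj c⁻¹ x : Matrix (Fin 2) (Fin 2) F) * (x : Matrix (Fin 2) (Fin 2) F))
  calc dd (c : F) * (x : Matrix (Fin 2) (Fin 2) F) * (dd (c : F) * (x : Matrix (Fin 2) (Fin 2) F))
      = dd (c : F) * ((x : Matrix (Fin 2) (Fin 2) F) * dd (c : F)) * (x : Matrix (Fin 2) (Fin 2) F) := by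
        simp only [mul_assoc]
    _ = dd (c : F) * dd (c : F) * (dconj c⁻¹ x : Matrix (Fin 2) (Fin 2) F) * (x : Matrix (Fin 2) (Fin 2) F) := by
        rw [hx]; simp only [mul_assoc]
    _ = _ := by rw [hd, Matrix.smul_mul, Matrix.smul_mul]

theorem det_of_sq {M : Matrix (Fin 2) (Fin 2) F} {r : F} (h : M * M = r • (1 : Matrix (Fin 2) (Fin 2) F))
    (htr : M 1 1 = -M 0 0) : M.det = -r := by
  have e00 : M 0 0 * M 0 0 + M 0 1 * M 1 0 = r := by
    simpa [Matrix.mul_apply, Fin.sum_univ_two] using congrFun (congrFun h 0) 0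
  rw [det_fin_two, htr]
  linear_combination -e00

/-- Outer involutions give trace-zero matrices of fixed determinant. -/
theorem outer_trace (hF : Odd (Fintype.card F)) {c : Fˣ} (hc : ¬ IsSquare (c : F)) (x z : SL2) (h : slD c * dconj c⁻¹ x * x = z)
    (hz : z = 1 ∨ z = -1) :
    z = -1 ∧ (dd (c : F) * (x : Matrix (Fin 2) (Fin 2) F)) 1 1 = -(dd (c : F) * (x : Matrix (Fin 2) (Fin 2) F)) 0 0 := by
  have hsq := outer_sq c x z h
  have hdet : (dd (c : F) * (x : Matrix (Fin 2) (Fin 2) F)).det = (c : F) := by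
    rw [det_mul, show (x : Matrix (Fin 2) (Fin 2) F).det = 1 from x.2, mul_one]; simp [dd, det_fin_two]
  rcases hz with rfl | rfl
  · exfalso
    change _ = (c : F) • (1 : Matrix (Fin 2) (Fin 2) F) at hsq
    rcases trace_zero_of_sq hsq with h1 | ⟨m, h1, -⟩
    · have h2 := det_of_sq hsq h1
      rw [hdet] at h2
      have : (2 : F) * (c : F) = 0 := by linear_combination h2
      rcases mul_eq_zero.mp this with h3 | h3
      · exact two_ne_zero' hF h3
      · exact c.ne_zero h3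
    · exact hc ⟨m, hdet ▸ h1⟩
  · refine ⟨rfl, ?_⟩
    have hsq' : (dd (c : F) * (x : Matrix (Fin 2) (Fin 2) F)) * (dd (c : F) * (x : Matrix (Fin 2) (Fin 2) F)) =
        (-(c : F)) • (1 : Matrix (Fin 2) (Fin 2) F) := by
      rw [hsq]; ext a b; fin_cases a <;> fin_cases b <;> simp
    rcases trace_zero_of_sq hsq' with h1 | ⟨m, h1, -⟩
    · exact h1
    · exact absurd ⟨m, hdet ▸ h1⟩ hc

theorem dd_inj (c : Fˣ) {A B : Matrix (Fin 2) (Fin 2) F} (h : dd (c : F) * A = dd (c : F) * B) : A = B := by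
  have e : dd ((c⁻¹ : Fˣ) : F) * dd (c : F) = 1 := by
    ext a b; fin_cases a <;> fin_cases b <;> simp [dd, Matrix.mul_apply, Fin.sum_univ_two]
  have := congrArg (dd ((c⁻¹ : Fˣ) : F) * ·) h
  simpa only [← mul_assoc, e, one_mul] using this

theorem conj_slot (hF : Odd (Fintype.card F)) (c : Fˣ) {x x' : SL2}
    (h : (dd (c : F) * (x : Matrix (Fin 2) (Fin 2) F)) 1 1 = -(dd (c : F) * (x : Matrix (Fin 2) (Fin 2) F)) 0 0)
    (h' : (dd (c : F) * (x' : Matrix (Fin 2) (Fin 2) F)) 1 1 = -(dd (c : F) * (x' : Matrix (Fin 2) (Fin 2) F)) 0 0) :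
    ∃ g : SL2, dconj c⁻¹ g * x * g⁻¹ = x' := by
  have hdet : ∀ y : SL2, (dd (c : F) * (y : Matrix (Fin 2) (Fin 2) F)).det = (c : F) := fun y => by
    rw [det_mul, show (y : Matrix (Fin 2) (Fin 2) F).det = 1 from y.2, mul_one]; simp [dd, det_fin_two]
  obtain ⟨g, hg⟩ := exists_conj (two_ne_zero' hF) (ringChar_ne_two_of_odd hF) h h'
    (by rw [hdet]; exact c.ne_zero) (by rw [hdet, hdet])
  refine ⟨g, mul_inv_eq_iff_eq_mul.mpr (Subtype.ext ?_)⟩
  show (dconj c⁻¹ g : Matrix (Fin 2) (Fin 2) F) * (x : Matrix (Fin 2) (Fin 2) F) =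
    (x' : Matrix (Fin 2) (Fin 2) F) * (g : Matrix (Fin 2) (Fin 2) F)
  refine dd_inj c ?_
  have hx : (g : Matrix (Fin 2) (Fin 2) F) * dd (c : F) = dd (c : F) * (dconj c⁻¹ g : Matrix (Fin 2) (Fin 2) F) := by
    rw [dd_mul_dconj]
    congr 1
    ext a b
    fin_cases a <;> fin_cases b <;> simp [dconj, dconjFun]
  rw [← mul_assoc, ← hx, mul_assoc, hg, mul_assoc]

theorem tor_inv (a b : Fˣ) : (tor a b)⁻¹ = tor a⁻¹ b⁻¹ := by
  rw [inv_eq_iff_mul_eq_one, tor_mul, mul_inv_cancel, mul_inv_cancel, tor_one]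

theorem hEps_conj (e : Fˣ) (x y : SL2) :
    (hEps e)⁻¹ * psi (x, y) * hEps e = psi (dconj e x, dconj e⁻¹ y) := by
  have h := torus_conj_psi (1 : Fˣ) e⁻¹ x y
  rw [chr7, chr11, one_pow, one_mul, inv_inv, tor_inv, inv_one, inv_inv] at h
  rw [hEps, tor_inv, inv_one]
  exact h

/-- The form of the involutions of `C` outside `L`. -/
theorem outer_form (hF : Odd (Fintype.card F)) {e : Fˣ} (he : ¬ IsSquare (e : F)) {s : GG}
    (hs : s ∈ Csub F) (hsL : s ∉ Lsub F) (h2 : s * s = 1) :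
    ∃ x y : SL2, s = hEps e * psi (x, y) ∧
      (dd ((e⁻¹ : Fˣ) : F) * (x : Matrix (Fin 2) (Fin 2) F)) 1 1 = -(dd ((e⁻¹ : Fˣ) : F) * (x : Matrix (Fin 2) (Fin 2) F)) 0 0 ∧
      (dd (e : F) * (y : Matrix (Fin 2) (Fin 2) F)) 1 1 = -(dd (e : F) * (y : Matrix (Fin 2) (Fin 2) F)) 0 0 := by
  obtain ⟨⟨x, y⟩, hxy⟩ := ((C_eq hF he).2.2 s hs).resolve_left hsL
  have hse : s = hEps e * psi (x, y) := by rw [hxy, mul_inv_cancel_left]
  have hsq : s * s = psi (slD e⁻¹ * dconj e x * x, slD e * dconj e⁻¹ y * y) := by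
    calc s * s = (hEps e * hEps e) * ((hEps e)⁻¹ * psi (x, y) * hEps e) * psi (x, y) := by rw [hse]; group
      _ = _ := by rw [hEps_sq, hEps_conj, ← map_mul, ← map_mul, Prod.mk_mul_mk, Prod.mk_mul_mk]
  rw [h2] at hsq
  have he' : ¬ IsSquare ((e⁻¹ : Fˣ) : F) := by rw [Units.val_inv_eq_inv_val, isSquare_inv]; exact he
  refine ⟨x, y, hse, (outer_trace hF he' x _ (by rw [inv_inv]) ?_).2, (outer_trace hF he y _ rfl ?_).2⟩
  · exact (psi_eq_one.mp hsq.symm).imp (fun h => h.1) (fun h => h.1)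
  · exact (psi_eq_one.mp hsq.symm).imp (fun h => h.2) (fun h => h.2)

theorem conj_outer (hF : Odd (Fintype.card F)) {s s' : GG} (hs : s ∈ Csub F) (hsL : s ∉ Lsub F)
    (h2 : s * s = 1) (hs' : s' ∈ Csub F) (hsL' : s' ∉ Lsub F) (h2' : s' * s' = 1) :
    ∃ k ∈ Csub F, k * s * k⁻¹ = s' := by
  obtain ⟨e, he⟩ := exists_nonsquare hF
  obtain ⟨x, y, rfl, hx, hy⟩ := outer_form hF he hs hsL h2
  obtain ⟨x', y', rfl, hx', hy'⟩ := outer_form hF he hs' hsL' h2'
  obtain ⟨g, hg⟩ := conj_slot hF e⁻¹ hx hx'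
  obtain ⟨g', hg'⟩ := conj_slot hF e hy hy'
  refine ⟨psi (g, g'), L_le_C ⟨_, rfl⟩, ?_⟩
  calc psi (g, g') * (hEps e * psi (x, y)) * (psi (g, g'))⁻¹
      = hEps e * (((hEps e)⁻¹ * psi (g, g') * hEps e) * psi (x, y) * (psi (g, g'))⁻¹) := by group
    _ = _ := by
      rw [inv_inv] at hg
      rw [hEps_conj, ← map_inv, ← map_mul, ← map_mul, Prod.inv_mk, Prod.mk_mul_mk, Prod.mk_mul_mk, hg, hg']

/-- The fundamental representative used to move the torus. -/
noncomputable def gB : GG := (co F).nS iB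

theorem gB_mem : (gB : GG) ∈ chevG2.group F := (co F).nGL_mem_group _ _

theorem gB_conj (a b : Fˣ) : gB * tor a b * gB⁻¹ = tor a (b * ((a ^ 3)⁻¹ * b ^ 2)⁻¹) := by
  rw [gB, tor, (co F).nS_conj_torus, simple_eq.2,
    show ∀ v : Fin chevG2.rank → Fˣ, (co F).R.torusChar v ((co F).R.α 6) = chr v 6 from fun _ => rfl,
    chr6, single_B, vec_mul, mul_one]
  rfl

theorem slW_ne : (slW : SL2) ≠ 1 ∧ (slW : SL2) ≠ -1 := by
  constructor <;> intro h <;> have := congrArg (fun g : SL2 => (g : Matrix (Fin 2) (Fin 2) F) 0 0) h <;> simp at this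

/-- Every involution of `C` is conjugate to `t0`. -/
theorem conj_t0 (hF : Odd (Fintype.card F)) {s : GG} (hs : s ∈ Csub F) (h2 : s * s = 1) (h1 : s ≠ 1) :
    ∃ k ∈ chevG2.group F, k * s * k⁻¹ = t0 := by
  obtain ⟨e, he⟩ := exists_nonsquare hF
  let R : GG → GG → Prop := fun a b => ∃ k ∈ chevG2.group F, k * a * k⁻¹ = b
  have rsym : ∀ {a b}, R a b → R b a := fun {a b} ⟨k, hk, h⟩ => ⟨k⁻¹, inv_mem hk, by rw [← h]; group⟩
  have rtr : ∀ {a b c}, R a b → R b c → R a c := fun {a b c} ⟨k, hk, h⟩ ⟨l, hl, h'⟩ =>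
    ⟨l * k, mul_mem hl hk, by rw [← h', ← h]; group⟩
  have hCG : ∀ {k}, k ∈ Csub F → k ∈ chevG2.group F := fun hk => (mem_Csub.mp hk).1
  have hm1 : (-1 : Fˣ) ≠ 1 := fun h => Ring.neg_one_ne_one_of_char_ne_two (ringChar_ne_two_of_odd hF)
    (by simpa [Units.ext_iff] using h)
  set t1 : GG := tor (-1) (-1) with ht1
  have hg0 : gB * t0 * gB⁻¹ = t1 := by rw [t0, gB_conj, ht1]; congr 1; simp [pow_succ]
  have hg1 : gB * t1 * gB⁻¹ = t0 := by rw [t0, ht1, gB_conj]; congr 1; simp [pow_succ]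
  have hW2 : (u0 : GG) * u0 = 1 := by
    rw [u0, ← map_mul, Prod.mk_mul_mk, slW_sq]; exact psi_eq_one.mpr (Or.inr ⟨rfl, rfl⟩)
  have hu0c : Commute (u0 : GG) t1 := by
    have h := torus_conj_psi (-1 : Fˣ) (-1) slW slW
    rw [chr7, chr11, neg_one_sq, one_mul, inv_neg, inv_one, dconj_slW_neg_one, coe_psi_neg] at h
    rw [mul_inv_eq_iff_eq_mul] at h
    exact h.symm
  set v : GG := gB * u0 * gB⁻¹ with hv
  set k : GG := tor e 1 with hk
  set v' : GG := gB * (u0 * k) * gB⁻¹ with hv'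
  have hkc : Commute k t1 := by
    show k * t1 = t1 * k
    rw [hk, ht1, tor_mul, tor_mul, mul_comm e, mul_comm (1 : Fˣ)]
  have hmemC : ∀ z : GG, z ∈ chevG2.group F → Commute z t1 → gB * z * gB⁻¹ ∈ Csub F := by
    intro z hz hc
    refine mem_Csub.mpr ⟨mul_mem (mul_mem gB_mem hz) (inv_mem gB_mem), ?_⟩
    rw [← hg1]
    calc gB * z * gB⁻¹ * (gB * t1 * gB⁻¹) = gB * (z * t1) * gB⁻¹ := by group
      _ = gB * (t1 * z) * gB⁻¹ := by rw [hc.eq]
      _ = _ := by group
  have hu0G : (u0 : GG) ∈ chevG2.group F := hCG (L_le_C ⟨_, rfl⟩)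
  have hkG : k ∈ chevG2.group F := torus_mem_group _
  have hu0k : u0 * k = psi (slW * slD e, slW) := by
    rw [u0, hk, ← phiA_diag, show phiA (slD e) = psi (slD e, 1) by rw [psi_apply, map_one, mul_one], ← map_mul,
      Prod.mk_mul_mk, mul_one]
  have hWD : (slW * slD e : SL2) * (slW * slD e) = -1 := by
    ext a b; fin_cases a <;> fin_cases b <;> simp [coe_slD, Matrix.mul_apply, Fin.sum_univ_two]
  have hinvL : ∀ x y : SL2, x * x = -1 → y * y = -1 → x ≠ 1 → x ≠ -1 → R (psi (x, y)) u0 := by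
    intro x y hx hy hx1 hx2
    obtain ⟨l, hl, h⟩ := conj_u0 hF (s := psi (x, y)) ⟨_, rfl⟩
      (by rw [← map_mul, Prod.mk_mul_mk, hx, hy]; exact psi_eq_one.mpr (Or.inr ⟨rfl, rfl⟩))
      (fun h => (psi_eq_one.mp h).elim (fun h => hx1 h.1) (fun h => hx2 h.1))
      (fun h => by
        have h' : psi (-x, y) = 1 := by
          calc psi (-x, y) = psi ((-1 : SL2), 1) * psi (x, y) := by
                rw [← map_mul, Prod.mk_mul_mk, one_mul]; congr 2; ext a b; simp
            _ = psi ((-1 : SL2), 1) * psi ((-1 : SL2), 1) := by rw [h, psi_neg_one_fst]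
            _ = 1 := by
                rw [← map_mul, Prod.mk_mul_mk, mul_one]
                exact psi_eq_one.mpr (Or.inl ⟨by ext a b; simp, rfl⟩)
        rcases psi_eq_one.mp h' with ⟨h3, -⟩ | ⟨h3, -⟩
        · exact hx2 (by rw [← h3]; ext a b; simp)
        · exact hx1 (by rw [show x = -(-x) by ext a b; simp, h3]; ext a b; simp))
    exact ⟨l, hCG hl, h⟩
  have hRv : R v u0 := rsym ⟨gB, gB_mem, rfl⟩
  have hRv' : R v' u0 := rtr (rsym ⟨gB, gB_mem, rfl⟩) (hu0k ▸ hinvL _ _ hWD slW_sq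
    (fun h => by have := congrArg (fun g : SL2 => (g : Matrix (Fin 2) (Fin 2) F) 0 0) h; simp [coe_slD] at this)
    (fun h => by have := congrArg (fun g : SL2 => (g : Matrix (Fin 2) (Fin 2) F) 0 0) h; simp [coe_slD] at this))
  have hvv : v' = v * tor e (1 * ((e ^ 3)⁻¹ * 1 ^ 2)⁻¹) := by rw [hv', hv, ← gB_conj, hk]; group
  have hK : tor e (1 * ((e ^ 3)⁻¹ * 1 ^ 2)⁻¹) ∉ Lsub F := by
    refine not_mem_L fun h => he ?_
    rw [chr7, one_pow, mul_one, one_mul, inv_inv, show (e : Fˣ) ^ 2 * (e ^ 3)⁻¹ = e⁻¹ by group,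
      Units.val_inv_eq_inv_val, isSquare_inv] at h
    exact h
  -- an involution outside `L` conjugate to `u0`
  obtain ⟨o, hoC, hoL, ho2, hoR⟩ : ∃ o ∈ Csub F, o ∉ Lsub F ∧ o * o = 1 ∧ R o u0 := by
    by_cases hvL : v ∈ Lsub F
    · refine ⟨v', hmemC _ (mul_mem hu0G hkG) (hu0c.mul_left hkc), fun h => hK ?_, ?_, hRv'⟩
      · have := mul_mem (inv_mem hvL) h
        rwa [hvv, inv_mul_cancel_left] at this
      · calc v' * v' = gB * ((u0 * k) * (u0 * k)) * gB⁻¹ := by rw [hv']; group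
          _ = 1 := by
            rw [hu0k, ← map_mul, Prod.mk_mul_mk, hWD, slW_sq, psi_eq_one.mpr (Or.inr ⟨rfl, rfl⟩)]; group
    · refine ⟨v, hmemC _ hu0G hu0c, hvL, ?_, hRv⟩
      calc v * v = gB * (u0 * u0) * gB⁻¹ := by rw [hv]; group
        _ = 1 := by rw [hW2]; group
  have main : ∀ z : GG, z ∈ Csub F → z * z = 1 → z ≠ 1 → z ≠ t0 → R z u0 := by
    intro z hz hz2 hz1 hz0
    by_cases hzL : z ∈ Lsub F
    · obtain ⟨l, hl, h⟩ := conj_u0 hF hzL hz2 hz1 hz0
      exact ⟨l, hCG hl, h⟩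
    · obtain ⟨l, hl, h⟩ := conj_outer hF hz hzL hz2 hoC hoL ho2
      exact rtr ⟨l, hCG hl, h⟩ hoR
  have ht1R : R t1 u0 := by
    refine main t1 (tor_mem_C _ _) ?_ ?_ ?_
    · rw [ht1, tor_mul, neg_one_mul, neg_neg, tor_one]
    · exact tor_ne_one (by rw [chr7]; simpa using hm1)
    · intro h
      refine tor_ne_one (a := (1 : Fˣ)) (b := -1) (by rw [chr7]; simpa using hm1) ?_
      have h' : t1 * t0 = t0 * t0 := by rw [h]
      rw [ht1, t0, tor_mul, tor_mul, neg_one_mul, neg_neg, mul_one, mul_one, tor_one] at h'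
      exact h'
  by_cases hs0 : s = t0
  · exact ⟨1, one_mem _, by rw [hs0]; group⟩
  · exact rtr (main s hs h2 h1 hs0) (rtr (rsym ht1R) ⟨gB, gB_mem, hg1⟩)

/-- All involutions of `G₂(q)` are conjugate to `t0`. -/
theorem exists_conj_t0 (hF : Odd (Fintype.card F)) (s : ↥(chevG2.group F)) (hs : orderOf s = 2) :
    ∃ k : ↥(chevG2.group F), ((k * s * k⁻¹ : ↥(chevG2.group F)) : GG) = t0 := by
  haveI : Finite (GL chevG2.Idx F) := inferInstance
  haveI : Fact (Nat.Prime 2) := ⟨Nat.prime_two⟩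
  set Cg : Subgroup (chevG2.group F) := (Csub F).subgroupOf (chevG2.group F) with hCg
  obtain ⟨e, he⟩ := exists_nonsquare hF
  have hle : Csub F ≤ chevG2.group F := inf_le_left
  have hidx : Cg.index = Fintype.card F ^ 4 * (Fintype.card F ^ 4 + Fintype.card F ^ 2 + 1) := by
    have h1 := Cg.card_mul_index
    rw [hCg, Nat.card_congr (Subgroup.subgroupOfEquivOfLe hle).toEquiv, (C_eq hF he).1,
      Cfsg.Agent.S1059.result rfl] at h1
    have hq : 2 ≤ Fintype.card F := Fintype.one_lt_card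
    generalize hqq : Fintype.card F = q at h1 hq ⊢
    obtain ⟨r, hr⟩ : ∃ r, q ^ 2 = r + 1 := ⟨q ^ 2 - 1, by
      have : 1 ≤ q ^ 2 := Nat.one_le_pow _ _ (by omega)
      omega⟩
    have e4 : q ^ 4 = (r + 1) ^ 2 := by rw [← hr]; ring
    have e6 : q ^ 6 = (r + 1) ^ 3 := by rw [← hr]; ring
    have e7 : (r + 1) ^ 3 - 1 = r * ((r + 1) ^ 2 + (r + 1) + 1) := by
      have : (r + 1) ^ 3 = r * ((r + 1) ^ 2 + (r + 1) + 1) + 1 := by ring
      omega
    have hr0 : 0 < r := by nlinarith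
    rw [e6, hr, Nat.add_sub_cancel, e7] at h1
    rw [e4, hr]
    refine Nat.eq_of_mul_eq_mul_left (show 0 < (r + 1) * r ^ 2 by positivity) ?_
    rw [hCg, h1]
    ring
  have hodd : ¬ 2 ∣ Cg.index := by
    rw [hidx]
    intro h
    exact Nat.not_even_iff_odd.mpr ((hF.pow).mul (((hF.pow (n := 4)).add_odd (hF.pow (n := 2))).add_one)) (even_iff_two_dvd.mpr h)
  obtain ⟨P, hP⟩ := CfsgLib.KnownSimple51.Pronormal.exists_sylow_le_of_not_dvd_index hodd
  obtain ⟨Q, hQ⟩ := (IsPGroup.of_card (p := 2) (n := 1) (G := Subgroup.zpowers s)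
    (by rw [Nat.card_zpowers, hs, pow_one])).exists_le_sylow
  obtain ⟨g, rfl⟩ := MulAction.exists_smul_eq (↥(chevG2.group F)) P Q
  obtain ⟨z, hz, hzs⟩ := hQ (Subgroup.mem_zpowers s)
  have hzs' : g * z * g⁻¹ = s := hzs
  have hz2 : z * z = 1 := by
    have h : s * s = 1 := by rw [← pow_two, ← hs, pow_orderOf_eq_one]
    rw [show z = g⁻¹ * s * g by rw [← hzs']; group]
    calc g⁻¹ * s * g * (g⁻¹ * s * g) = g⁻¹ * (s * s) * g := by group
      _ = 1 := by rw [h]; group
  have hz1 : (z : GG) ≠ 1 := fun h => by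
    rw [show z = 1 from Subtype.ext h] at hzs'
    rw [← hzs'] at hs
    simp at hs
  obtain ⟨k, hk, hkz⟩ := conj_t0 hF (s := (z : GG)) (hP hz) (by rw [← Subgroup.coe_mul, hz2]; rfl) hz1
  refine ⟨⟨k, hk⟩ * g⁻¹, ?_⟩
  rw [← hkz, ← hzs']
  push_cast
  group

end CfsgLib.GTwoInv
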