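import Mathlib
import Cfsg.Agent.Lib.Frobenius.Basic
import Cfsg.Agent.Lib.PrimRecog.Basic
import Cfsg.Agent.Lib.KnownSimple51.Pronormal

/-!
Finite groups whose class sizes are either `T`-numbers or prime to `T`: the disconnected case of the
prime graph on class sizes.
-/

set_option autoImplicit false
set_option linter.style.haveILetI false

open scoped Pointwise

namespace CfsgLib.ClassGraph

open Subgroup

/-- All prime divisors lie in `T`. -/
def TNum (T : Set ℕ) (k : ℕ) : Prop := ∀ p : ℕ, p.Prime → p ∣ k → p ∈ T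

theorem TNum.dvd {T : Set ℕ} {a b : ℕ} (hb : TNum T b) (h : a ∣ b) : TNum T a :=
  fun p hp hd => hb p hp (hd.trans h)

theorem coprime_of_tnum {T : Set ℕ} {a b : ℕ} (ha : TNum T a) (hb : TNum Tᶜ b) : a.Coprime b :=
  Nat.coprime_of_dvd fun p hp h1 h2 => hb p hp h2 (ha p hp h1)

theorem eq_one_of_tnum {T : Set ℕ} {a : ℕ} (h1 : TNum T a) (h2 : TNum Tᶜ a) : a = 1 :=
  Nat.eq_one_of_dvd_coprimes (coprime_of_tnum h1 h2) dvd_rfl dvd_rfl

variable {G : Type*} [Group G]

/-- The class size. -/
noncomputable def idx (x : G) : ℕ := (centralizer ({x} : Set G)).index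

theorem mem_cent {x c : G} : c ∈ centralizer ({x} : Set G) ↔ c * x = x * c := by
  rw [mem_centralizer_iff]
  simp [eq_comm]

theorem idx_eq_one_iff {x : G} : idx x = 1 ↔ x ∈ center G := by
  rw [idx, index_eq_one, centralizer_eq_top_iff_subset, Set.singleton_subset_iff, SetLike.mem_coe]

theorem mem_cent_mul {x y c : G} (hx : c ∈ centralizer ({x} : Set G)) (hy : c ∈ centralizer ({y} : Set G)) :
    c ∈ centralizer ({x * y} : Set G) := by
  rw [mem_cent] at hx hy ⊢
  rw [← mul_assoc, hx, mul_assoc, hy, mul_assoc]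

variable [Finite G]

theorem relIndex_dvd_index_of_normal' (C V : Subgroup G) [V.Normal] : C.relIndex V ∣ C.index := by
  have h1 := relIndex_mul_index (inf_le_left : C ⊓ V ≤ C)
  have h2 := relIndex_mul_index (inf_le_right : C ⊓ V ≤ V)
  have h3 := relIndex_mul_index (le_sup_left : V ≤ V ⊔ C)
  rw [inf_relIndex_left] at h1
  rw [inf_relIndex_right] at h2
  rw [relIndex_sup_left] at h3
  rw [← h2, ← h3, mul_left_comm] at h1
  exact Dvd.intro _ (Nat.eq_of_mul_eq_mul_left (Nat.pos_of_ne_zero index_ne_zero_of_finite) h1).symm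

theorem idx_ne_zero (x : G) : idx x ≠ 0 := index_ne_zero_of_finite

theorem idx_pow_dvd (x : G) (k : ℕ) : idx (x ^ k) ∣ idx x := by
  refine index_dvd_of_le fun c hc => ?_
  rw [mem_cent] at hc ⊢
  exact (show Commute c x from hc).pow_right k

theorem idx_conj (g x : G) : idx (g * x * g⁻¹) = idx x := by
  have : centralizer ({g * x * g⁻¹} : Set G) =
      (centralizer ({x} : Set G)).map (MulAut.conj g).toMonoidHom := by
    ext c
    simp only [mem_map_equiv, mem_cent, MulAut.conj_symm_apply]
    constructor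
    · intro h
      calc g⁻¹ * c * g * x = g⁻¹ * (c * (g * x * g⁻¹)) * g := by group
        _ = g⁻¹ * (g * x * g⁻¹ * c) * g := by rw [h]
        _ = x * (g⁻¹ * c * g) := by group
    · intro h
      calc c * (g * x * g⁻¹) = g * (g⁻¹ * c * g * x) * g⁻¹ := by group
        _ = g * (x * (g⁻¹ * c * g)) * g⁻¹ := by rw [h]
        _ = g * x * g⁻¹ * c := by group
  rw [idx, idx, this]
  exact index_map_equiv _ (MulAut.conj g)

/-- Commuting elements of coprime order: both class sizes divide that of the product. -/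
theorem idx_dvd_mul {a b : G} (hab : Commute a b) (hco : (orderOf a).Coprime (orderOf b)) :
    idx a ∣ idx (a * b) ∧ idx b ∣ idx (a * b) := by
  constructor
  · obtain ⟨k, hk⟩ := exists_pow_eq_self_of_coprime hco.symm
    have : (a * b) ^ (orderOf b * k) = a := by
      rw [hab.mul_pow, pow_mul b, pow_orderOf_eq_one, one_pow, mul_one, pow_mul]
      exact hk
    exact (congrArg idx this).symm.dvd.trans (idx_pow_dvd _ _)
  · obtain ⟨k, hk⟩ := exists_pow_eq_self_of_coprime hco
    have : (a * b) ^ (orderOf a * k) = b := by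
      rw [hab.mul_pow, pow_mul a, pow_orderOf_eq_one, one_pow, one_mul, pow_mul]
      exact hk
    exact (congrArg idx this).symm.dvd.trans (idx_pow_dvd _ _)

theorem mem_of_prime_power_parts (H : Subgroup G) (P : G → Prop) (hP : ∀ x k, P x → P (x ^ k))
    (hpp : ∀ x, P x → IsPrimePow (orderOf x) → x ∈ H) : ∀ x, P x → x ∈ H := by
  intro x hx
  induction hn : orderOf x using Nat.strong_induction_on generalizing x with
  | _ n ih =>
  subst hn
  by_cases h1 : orderOf x = 1
  · rw [orderOf_eq_one_iff.mp h1]; exact one_mem H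
  by_cases h2 : IsPrimePow (orderOf x)
  · exact hpp x hx h2
  obtain ⟨p, hp, hpd⟩ := Nat.exists_prime_and_dvd h1
  haveI := Fact.mk hp
  obtain ⟨k, m, hpm, hkm⟩ := Nat.exists_eq_pow_mul_and_not_dvd (orderOf_pos x).ne' p hp.ne_one
  have hk : k ≠ 0 := fun e => hpm (by rw [e, pow_zero, one_mul] at hkm; rwa [← hkm])
  have hm : 1 < m := by
    rcases Nat.lt_or_ge 1 m with h | h
    · exact h
    · exfalso
      have hm0 : m ≠ 0 := fun e => (orderOf_pos x).ne' (by rw [hkm, e, mul_zero])
      exact h2 ⟨p, k, hp.prime, Nat.pos_of_ne_zero hk, by rw [hkm, show m = 1 by omega, mul_one]⟩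
  have hpk : 1 < p ^ k := Nat.one_lt_pow hk hp.one_lt
  have o1 : orderOf (x ^ m) = p ^ k := by
    rw [orderOf_pow' x (by omega), hkm, Nat.gcd_eq_right (dvd_mul_left m _), Nat.mul_div_cancel _ (by omega)]
  have o2 : orderOf (x ^ (p ^ k)) = m := by
    rw [orderOf_pow' x (by omega), hkm, Nat.gcd_eq_right (dvd_mul_right _ _), Nat.mul_div_cancel_left _ (by omega)]
  have a1 : x ^ m ∈ H := hpp _ (hP x m hx) ⟨p, k, hp.prime, Nat.pos_of_ne_zero hk, o1.symm⟩
  have a2 : x ^ (p ^ k) ∈ H := ih m (by rw [hkm]; exact lt_mul_of_one_lt_left (by omega) hpk) _ (hP x _ hx) o2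
  have hco : (p ^ k).Coprime m := Nat.Coprime.pow_left k ((hp.coprime_iff_not_dvd).mpr hpm)
  have e : x = (x ^ (p ^ k)) ^ Nat.gcdA (p ^ k) m * (x ^ m) ^ Nat.gcdB (p ^ k) m := by
    rw [← zpow_natCast x, ← zpow_natCast x, ← zpow_mul, ← zpow_mul, ← zpow_add, ← Nat.gcd_eq_gcd_ab,
      Nat.Coprime.gcd_eq_one hco]
    simp
  rw [e]
  exact mul_mem (H.zpow_mem a2 _) (H.zpow_mem a1 _)

/-- The union of the conjugates of a subgroup `C` of index `≥ 2` in its normalising overgroup is small. -/
theorem normalizer_le_centralizer_of_cover {p : ℕ} [Fact p.Prime] (P : Sylow p G) (M : Subgroup G)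
    (hM : M ≠ ⊤) (hcov : ∀ g, g ∈ M ∨ ∃ h : G, h⁻¹ * g * h ∈ centralizer ((P : Subgroup G) : Set G)) :
    normalizer ((P : Subgroup G) : Set G) ≤ centralizer ((P : Subgroup G) : Set G) := by
  classical
  set N := normalizer ((P : Subgroup G) : Set G) with hN
  set C := centralizer ((P : Subgroup G) : Set G) with hC
  have hCN : C ≤ N := centralizer_le_normalizer _
  by_contra hle
  haveI := Fintype.ofFinite G
  have hlt : C < N := lt_of_le_of_ne hCN fun e => hle e.ge
  have h2 : 2 * Nat.card C ≤ Nat.card N := by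
    obtain ⟨d, hd⟩ := card_dvd_of_le hCN
    have hd1 : d ≠ 1 := fun e => hlt.ne (eq_of_le_of_card_ge hCN (by rw [hd, e, mul_one]))
    have hd0 : d ≠ 0 := fun e => by rw [e, mul_zero] at hd; exact Nat.card_pos.ne' hd
    rw [hd, mul_comm 2]
    exact Nat.mul_le_mul_left _ (by omega)
  have hM2 : 2 * Nat.card M ≤ Nat.card G := by
    rw [← M.card_mul_index, mul_comm 2]
    exact Nat.mul_le_mul_left _ (one_lt_index_of_ne_top hM)
  -- the union of the conjugates
  have hnorm : ∀ (h n : G), n ∈ N → ∀ g, (h * n)⁻¹ * g * (h * n) ∈ C ↔ h⁻¹ * g * h ∈ C := by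
    intro h n hn g
    have hnC : ∀ n ∈ N, ∀ c ∈ C, n⁻¹ * c * n ∈ C := by
      intro n hn c hc
      rw [hC, mem_centralizer_iff] at hc ⊢
      intro q hq
      have hq' : n * q * n⁻¹ ∈ (P : Subgroup G) := (mem_normalizer_iff.mp hn q).mp hq
      have := hc _ hq'
      calc q * (n⁻¹ * c * n) = n⁻¹ * (n * q * n⁻¹ * c) * n := by group
        _ = n⁻¹ * (c * (n * q * n⁻¹)) * n := by rw [this]
        _ = n⁻¹ * c * n * q := by group
    constructor
    · intro h1
      have := hnC n⁻¹ (inv_mem hn) _ h1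
      convert this using 1; group
    · intro h1
      have := hnC n hn _ h1
      convert this using 1; group
  let U : Finset G := Finset.univ.filter fun g => g ≠ 1 ∧ ∃ h : G, h⁻¹ * g * h ∈ C
  have hU : U.card ≤ N.index * (Nat.card C - 1) := by
    let f : (G ⧸ N) × {c : C // c ≠ 1} → G := fun qc => qc.1.out * (qc.2.1 : G) * qc.1.out⁻¹
    have hsub : U ⊆ Finset.univ.image f := by
      intro g hg
      obtain ⟨-, hg1, h, hh⟩ := Finset.mem_filter.mp hg
      have hout : ((h : G ⧸ N).out)⁻¹ * g * (h : G ⧸ N).out ∈ C := by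
        have hmem : h⁻¹ * (h : G ⧸ N).out ∈ N := QuotientGroup.eq.mp (QuotientGroup.out_eq' _).symm
        have := (hnorm h _ hmem g).mpr hh
        rwa [mul_inv_cancel_left] at this
      refine Finset.mem_image.mpr ⟨((h : G ⧸ N), ⟨⟨_, hout⟩, fun e => hg1 ?_⟩), Finset.mem_univ _, ?_⟩
      · have e' : ((h : G ⧸ N).out)⁻¹ * g * (h : G ⧸ N).out = 1 := congrArg Subtype.val e
        calc g = (h : G ⧸ N).out * (((h : G ⧸ N).out)⁻¹ * g * (h : G ⧸ N).out) * ((h : G ⧸ N).out)⁻¹ := by group
          _ = 1 := by rw [e']; group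
      · simp only [f]; group
    refine (Finset.card_le_card hsub).trans (Finset.card_image_le.trans (le_of_eq ?_))
    rw [Finset.card_univ, Fintype.card_prod, Subgroup.index, Nat.card_eq_fintype_card, Nat.card_eq_fintype_card,
      Fintype.card_subtype_compl, Fintype.card_subtype_eq]
  let Mf : Finset G := Finset.univ.filter fun g => g ∈ M
  have hall : Finset.univ ⊆ Mf ∪ U := by
    intro g _
    by_cases hg1 : g = 1
    · exact Finset.mem_union_left _ (Finset.mem_filter.mpr ⟨Finset.mem_univ _, hg1 ▸ one_mem M⟩)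
    rcases hcov g with h | h
    · exact Finset.mem_union_left _ (Finset.mem_filter.mpr ⟨Finset.mem_univ _, h⟩)
    · exact Finset.mem_union_right _ (Finset.mem_filter.mpr ⟨Finset.mem_univ _, hg1, h⟩)
  have hMf : Mf.card = Nat.card M := by
    rw [Nat.card_eq_fintype_card, Fintype.card_subtype]
  have h3 := (Finset.card_le_card hall).trans (Finset.card_union_le _ _)
  rw [Finset.card_univ, ← Nat.card_eq_fintype_card, hMf] at h3
  have h4 := N.card_mul_index
  have h5 : 1 ≤ N.index := Nat.one_le_iff_ne_zero.mpr index_ne_zero_of_finite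
  have h6 : 1 ≤ Nat.card C := Nat.card_pos
  have h7 : N.index * (Nat.card C - 1) + N.index = N.index * Nat.card C := by
    rw [← Nat.mul_succ]; congr 1; omega
  nlinarith

/-- For a Sylow subgroup with `N(P) = C(P)` the prime does not divide the derived group. -/
theorem not_dvd_card_commutator {p : ℕ} [Fact p.Prime] (P : Sylow p G)
    (hP : normalizer ((P : Subgroup G) : Set G) ≤ centralizer ((P : Subgroup G) : Set G)) :
    ¬ p ∣ Nat.card (commutator G) := by
  haveI : IsMulCommutative (P : Subgroup G) :=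
    ⟨⟨fun a b => Subtype.ext (mem_centralizer_iff.mp (hP (le_normalizer b.2)) a a.2)⟩⟩
  set f := MonoidHom.transferSylow P hP with hf
  have hle : commutator G ≤ f.ker := by
    rw [commutator_def, commutator_le]
    intro a _ b _
    rw [MonoidHom.mem_ker, map_commutatorElement, commutatorElement_eq_one_iff_mul_comm]
    exact mul_comm' _ _
  intro hd
  have h1 := hd.trans (card_dvd_of_le hle)
  have h2 := (MonoidHom.ker_transferSylow_isComplement' P hP).index_eq_card
  rw [← h2] at h1
  exact P.not_dvd_index h1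

variable {T : Set ℕ}

/-- The stabilizer of a class contains all `[g, x]` for classes of coprime size with small product. -/
theorem exists_translation_group' (y : G) (hy : TNum T (idx y)) (hy1 : 1 < idx y) :
    ∃ N : Subgroup G, N.Normal ∧ TNum T (Nat.card N) ∧
      ∀ x g : G, (idx y).Coprime (idx x) → idx (x * y) ≤ idx y → x⁻¹ * (g * x * g⁻¹) ∈ N := by
  classical
  set B : Set G := {b | ∃ g, g * y * g⁻¹ = b} with hB
  have hBconj : ∀ g, ∀ b ∈ B, g * b * g⁻¹ ∈ B := by
    rintro g _ ⟨h, rfl⟩; exact ⟨g * h, by group⟩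
  let N : Subgroup G :=
    { carrier := {t | ∀ b, t * b ∈ B ↔ b ∈ B}
      mul_mem' := fun {a b} ha hb c => by rw [mul_assoc, ha, hb]
      one_mem' := fun b => by rw [one_mul]
      inv_mem' := fun {a} ha b => by rw [← ha, mul_inv_cancel_left] }
  have hNn : N.Normal := ⟨fun t ht g b => by
    constructor
    · intro h1
      have h2 := hBconj g⁻¹ _ h1
      rw [show g⁻¹ * (g * t * g⁻¹ * b) * g⁻¹⁻¹ = t * (g⁻¹ * b * g) by group, ht] at h2
      simpa [mul_assoc] using hBconj g _ h2
    · intro h1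
      have h2 := hBconj g⁻¹ _ h1
      rw [inv_inv, ← ht] at h2
      simpa [mul_assoc] using hBconj g _ h2⟩
  haveI := hNn
  have hBcard : Nat.card B = idx y := by
    rw [idx, Subgroup.index]
    refine (Nat.card_eq_of_bijective
      (fun q : G ⧸ centralizer ({y} : Set G) => (⟨q.out * y * q.out⁻¹, _, rfl⟩ : B)) ⟨?_, ?_⟩).symm
    · intro a b h
      have h' : a.out * y * a.out⁻¹ = b.out * y * b.out⁻¹ := congrArg Subtype.val h
      rw [← a.out_eq', ← b.out_eq', QuotientGroup.eq, mem_cent]
      calc a.out⁻¹ * b.out * y = a.out⁻¹ * (b.out * y * b.out⁻¹) * b.out := by group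
        _ = a.out⁻¹ * (a.out * y * a.out⁻¹) * b.out := by rw [h']
        _ = y * (a.out⁻¹ * b.out) := by group
    · rintro ⟨_, g, rfl⟩
      refine ⟨(g : G ⧸ centralizer ({y} : Set G)), Subtype.ext ?_⟩
      have hm : g⁻¹ * (g : G ⧸ centralizer ({y} : Set G)).out ∈ centralizer ({y} : Set G) :=
        QuotientGroup.eq.mp (QuotientGroup.out_eq' _).symm
      rw [mem_cent] at hm
      set o := (g : G ⧸ centralizer ({y} : Set G)).out
      calc o * y * o⁻¹ = g * (g⁻¹ * o * y) * o⁻¹ := by group
        _ = g * (y * (g⁻¹ * o)) * o⁻¹ := by rw [hm]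
        _ = g * y * g⁻¹ := by group
  refine ⟨N, hNn, hy.dvd ?_, fun x g hco hle2 => ?_⟩
  · rw [← hBcard]
    have e : QuotientGroup.mk ⁻¹' ((QuotientGroup.mk : G → G ⧸ N) '' B) = B := by
      refine Set.Subset.antisymm ?_ (Set.subset_preimage_image _ _)
      rintro u ⟨b, hb, hbu⟩
      have h1 : b⁻¹ * u ∈ N := QuotientGroup.eq.mp hbu
      have h2 : b * (b⁻¹ * u) * b⁻¹ ∈ N := hNn.conj_mem _ h1 b
      have := (h2 b).mpr hb
      simpa [mul_assoc] using this
    rw [← e, Nat.card_congr (QuotientGroup.preimageMkEquivSubgroupProdSet N _), Nat.card_prod]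
    exact dvd_mul_right _ _
  · -- the product of the classes of `x` and `y` is a single class
    set m := idx x with hm
    set n := idx y with hn
    set Cx := centralizer ({x} : Set G)
    set Cy := centralizer ({y} : Set G)
    have hinf : (Cx ⊓ Cy).index = m * n := le_antisymm index_inf_le
      (Nat.le_of_dvd (Nat.pos_of_ne_zero index_ne_zero_of_finite)
        (hco.symm.mul_dvd_of_dvd_of_dvd (index_dvd_of_le inf_le_left) (index_dvd_of_le inf_le_right)))
    have hrel : Cx.relIndex Cy = m := by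
      have h1 : (Cx ⊓ Cy).relIndex Cy * Cy.index = (Cx ⊓ Cy).index := relIndex_mul_index inf_le_right
      rw [inf_relIndex_right, hinf] at h1
      exact Nat.eq_of_mul_eq_mul_right (by omega : 0 < n) h1
    -- `C(y)` is transitive on the class of `x`
    have htrans : ∀ u : G, ∃ c ∈ Cy, c⁻¹ * u ∈ Cx := by
      intro u
      let f : Cy ⧸ Cx.subgroupOf Cy → G ⧸ Cx := Quotient.map' (fun c : Cy => (c : G)) fun a b hab => by
        rw [QuotientGroup.leftRel_apply] at hab ⊢
        simpa [mem_subgroupOf] using hab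
      have hf : Function.Injective f := by
        intro a b hab
        induction a using QuotientGroup.induction_on with
        | H a =>
          induction b using QuotientGroup.induction_on with
          | H b =>
            have hab' : ((a : G) : G ⧸ Cx) = ((b : G) : G ⧸ Cx) := hab
            rw [QuotientGroup.eq] at hab' ⊢
            simpa [mem_subgroupOf] using hab'
      have hb := (Nat.bijective_iff_injective_and_card f).mpr ⟨hf, hrel⟩
      obtain ⟨q, hq⟩ := hb.2 (u : G ⧸ Cx)
      induction q using QuotientGroup.induction_on with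
      | H c => exact ⟨c, c.2, QuotientGroup.eq.mp hq⟩
    set C : Set G := {c | ∃ h, h * (x * y) * h⁻¹ = c} with hC
    have hmemC : ∀ u, ∀ b ∈ B, u * x * u⁻¹ * b ∈ C := by
      rintro u _ ⟨h, rfl⟩
      obtain ⟨c, hc, hcx⟩ := htrans (h⁻¹ * u)
      refine ⟨h * c, ?_⟩
      rw [mem_cent] at hc hcx
      have e1 : c * x * c⁻¹ = h⁻¹ * u * x * (h⁻¹ * u)⁻¹ := by
        calc c * x * c⁻¹ = c * (x * (c⁻¹ * (h⁻¹ * u))) * (h⁻¹ * u)⁻¹ := by group
          _ = c * (c⁻¹ * (h⁻¹ * u) * x) * (h⁻¹ * u)⁻¹ := by rw [hcx]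
          _ = _ := by group
      have e2 : c * y * c⁻¹ = y := by rw [hc, mul_inv_cancel_right]
      calc h * c * (x * y) * (h * c)⁻¹ = h * ((c * x * c⁻¹) * (c * y * c⁻¹)) * h⁻¹ := by group
        _ = h * (h⁻¹ * u * x * (h⁻¹ * u)⁻¹ * y) * h⁻¹ := by rw [e1, e2]
        _ = u * x * u⁻¹ * (h * y * h⁻¹) := by group
    have hCcard : Nat.card C ≤ idx (x * y) := by
      refine Nat.card_le_card_of_surjective
        (fun q : G ⧸ centralizer ({x * y} : Set G) => (⟨q.out * (x * y) * q.out⁻¹, _, rfl⟩ : C)) ?_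
      rintro ⟨_, h, rfl⟩
      refine ⟨(h : G ⧸ centralizer ({x * y} : Set G)), Subtype.ext ?_⟩
      have hm' : h⁻¹ * (h : G ⧸ centralizer ({x * y} : Set G)).out ∈ centralizer ({x * y} : Set G) :=
        QuotientGroup.eq.mp (QuotientGroup.out_eq' _).symm
      rw [mem_cent] at hm'
      set o := (h : G ⧸ centralizer ({x * y} : Set G)).out
      calc o * (x * y) * o⁻¹ = h * (h⁻¹ * o * (x * y)) * o⁻¹ := by group
        _ = h * (x * y * (h⁻¹ * o)) * o⁻¹ := by rw [hm']
        _ = h * (x * y) * h⁻¹ := by group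
    let tr : G → B → C := fun u b => ⟨u * x * u⁻¹ * (b : G), hmemC u b b.2⟩
    have trinj : ∀ u, Function.Injective (tr u) := fun u a b hab =>
      Subtype.ext (mul_left_cancel (congrArg Subtype.val hab))
    have hle1 : Nat.card B ≤ Nat.card C := Nat.card_le_card_of_injective (tr 1) (trinj 1)
    rw [hBcard] at hle1
    have htrbij : ∀ u, Function.Bijective (tr u) := fun u =>
      (Nat.bijective_iff_injective_and_card _).mpr ⟨trinj u, by rw [hBcard]; omega⟩
    show ∀ b, x⁻¹ * (g * x * g⁻¹) * b ∈ B ↔ b ∈ B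
    intro b
    constructor
    · intro hb
      obtain ⟨⟨b', hb'⟩, e⟩ := (htrbij g).2 (tr 1 ⟨_, hb⟩)
      have e' : g * x * g⁻¹ * b' = 1 * x * 1⁻¹ * (x⁻¹ * (g * x * g⁻¹) * b) := congrArg Subtype.val e
      have : b' = b := by
        apply mul_left_cancel (a := g * x * g⁻¹)
        rw [e']; group
      rwa [← this]
    · intro hb
      obtain ⟨⟨b', hb'⟩, e⟩ := (htrbij 1).2 (tr g ⟨b, hb⟩)
      have e' : 1 * x * 1⁻¹ * b' = g * x * g⁻¹ * b := congrArg Subtype.val e
      have : x⁻¹ * (g * x * g⁻¹) * b = b' := by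
        apply mul_left_cancel (a := x)
        calc x * (x⁻¹ * (g * x * g⁻¹) * b) = g * x * g⁻¹ * b := by group
          _ = x * b' := by rw [← e']; group
      rw [this]; exact hb'

/-- The stabilizer of the largest class contains all `[g, x]` for small classes. -/
theorem exists_translation_group (hpure : ∀ g : G, TNum T (idx g) ∨ TNum Tᶜ (idx g)) (y : G)
    (hy : TNum T (idx y)) (hy1 : 1 < idx y) (hmax : ∀ g : G, idx g ≤ idx y) :
    ∃ N : Subgroup G, N.Normal ∧ TNum T (Nat.card N) ∧
      ∀ x g : G, TNum Tᶜ (idx x) → x⁻¹ * (g * x * g⁻¹) ∈ N := by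
  obtain ⟨N, hNn, hNT, hN⟩ := exists_translation_group' y hy hy1
  refine ⟨N, hNn, hNT, fun x g hx => hN x g (coprime_of_tnum hy hx) ?_⟩
  have hdvd : idx (x * y) ∣ idx x * idx y :=
    (index_dvd_of_le (H := centralizer ({x} : Set G) ⊓ centralizer ({y} : Set G))
      fun c hc => mem_cent_mul hc.1 hc.2).trans (dvd_of_eq (le_antisymm index_inf_le
      (Nat.le_of_dvd (Nat.pos_of_ne_zero index_ne_zero_of_finite)
        ((coprime_of_tnum hy hx).symm.mul_dvd_of_dvd_of_dvd (index_dvd_of_le inf_le_left)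
          (index_dvd_of_le inf_le_right)))))
  rcases hpure (x * y) with h | h
  · exact Nat.le_of_dvd (by omega) ((coprime_of_tnum h hx).dvd_of_dvd_mul_left hdvd)
  · exact (Nat.le_of_dvd (Nat.pos_of_ne_zero (idx_ne_zero x))
      ((coprime_of_tnum hy h).symm.dvd_of_dvd_mul_right hdvd)).trans (hmax x)

/-- Prime-to-`T` elements with small class are central. -/
theorem central_of_prime_power (N : Subgroup G) [N.Normal] (hN : TNum T (Nat.card N))
    {x : G} (hx : TNum Tᶜ (idx x)) (hmod : ∀ g, x⁻¹ * (g * x * g⁻¹) ∈ N)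
    {p : ℕ} [Fact p.Prime] (hpT : p ∉ T) {k : ℕ} (hxo : orderOf x = p ^ k) : x ∈ center G := by
  have hxp : IsPGroup p (zpowers x) := IsPGroup.of_card (n := k) (by rw [Nat.card_zpowers, hxo])
  have hNp : ¬ p ∣ Nat.card N := fun h => hpT (hN p Fact.out h)
  have hdis : ∀ u, u ∈ zpowers x → u ∈ N → u = 1 := fun u hu hu' => by
    refine orderOf_eq_one_iff.mp (Nat.eq_one_of_dvd_coprimes
      ((((Fact.out : p.Prime).coprime_iff_not_dvd).mpr hNp).pow_left k)
      (hxo ▸ orderOf_dvd_of_mem_zpowers hu) (Subgroup.orderOf_dvd_natCard _ hu'))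
  set L := zpowers x ⊔ N with hL
  have hxL : x ∈ L := mem_sup_left (mem_zpowers x)
  -- `⟨x⟩` is a Sylow subgroup of `L`
  have hcardL : Nat.card L = Nat.card (zpowers x) * Nat.card N := by
    have : ((L : Subgroup G) : Set G) = (zpowers x : Set G) * (N : Set G) := mul_normal (zpowers x) N
    have hbij : Function.Bijective (fun ab : zpowers x × N => (⟨(ab.1 : G) * (ab.2 : G),
        mul_mem (mem_sup_left ab.1.2) (mem_sup_right ab.2.2)⟩ : L)) := by
      constructor
      · rintro ⟨a, b⟩ ⟨a', b'⟩ h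
        have h' : (a : G) * b = a' * b' := congrArg Subtype.val h
        have h1 : (a' : G)⁻¹ * a = b' * (b : G)⁻¹ := by
          rw [eq_mul_inv_iff_mul_eq, mul_assoc, h', inv_mul_cancel_left]
        have h2 := hdis _ (mul_mem (inv_mem a'.2) a.2) (h1 ▸ mul_mem b'.2 (inv_mem b.2))
        have ha : (a : G) = a' := (inv_mul_eq_one.mp h2).symm
        rw [h1, mul_inv_eq_one] at h2
        exact Prod.ext (Subtype.ext ha) (Subtype.ext h2.symm)
      · rintro ⟨u, hu⟩
        have hu' : u ∈ (zpowers x : Set G) * (N : Set G) := this ▸ hu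
        obtain ⟨a, ha, b, hb, rfl⟩ := hu'
        exact ⟨(⟨a, ha⟩, ⟨b, hb⟩), rfl⟩
    rw [← Nat.card_congr (Equiv.ofBijective _ hbij), Nat.card_prod]
  let P : Sylow p L := Sylow.ofCard ((zpowers x).subgroupOf L) (by
    rw [Nat.card_congr (subgroupOfEquivOfLe le_sup_left).toEquiv, hcardL, Nat.card_zpowers, hxo,
      Nat.factorization_mul (pow_ne_zero _ (Fact.out : p.Prime).ne_zero) Nat.card_pos.ne', Finsupp.add_apply,
      Nat.Prime.factorization_pow Fact.out, Finsupp.single_eq_same,
      Nat.factorization_eq_zero_of_not_dvd hNp, add_zero])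
  -- conjugates of `x` are conjugates by `N`
  have key : ∀ g : G, ∃ n ∈ N, n⁻¹ * g ∈ centralizer ({x} : Set G) := by
    intro g
    set x' := g * x * g⁻¹ with hx'
    have hx'L : x' ∈ L := by
      rw [show x' = x * (x⁻¹ * x') by group]; exact mul_mem hxL (mem_sup_right (hmod g))
    have hx'p : IsPGroup p (zpowers x') := IsPGroup.of_card (n := k) (by
      rw [Nat.card_zpowers, hx']
      exact (orderOf_injective (MulAut.conj g).toMonoidHom (MulAut.conj g).injective x).trans hxo)
    obtain ⟨Q, hQ⟩ := (hx'p.of_equiv (subgroupOfEquivOfLe (zpowers_le.mpr hx'L)).symm).exists_le_sylow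
    obtain ⟨l, hl⟩ := MulAction.exists_smul_eq L P Q
    have h1 : (⟨x', hx'L⟩ : L) ∈ ((l • P : Sylow p L) : Subgroup L) := hl ▸ hQ (show x' ∈ zpowers x' from mem_zpowers x')
    have h2 : (l : G)⁻¹ * x' * (l : G) ∈ zpowers x := by
      rw [Sylow.coe_subgroup_smul, Subgroup.mem_pointwise_smul_iff_inv_smul_mem, ← map_inv,
        MulAut.smul_def, MulAut.conj_apply, inv_inv] at h1
      exact h1
    have hl' : (l : G) ∈ ((zpowers x ⊔ N : Subgroup G) : Set G) := l.2
    rw [sup_comm, normal_mul] at hl'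
    obtain ⟨n, hn, a, ha, hna⟩ := hl'
    refine ⟨n, hn, ?_⟩
    obtain ⟨i, hi⟩ := ha
    have hi' : a = x ^ i := hi.symm
    have h3 : n⁻¹ * x' * n ∈ zpowers x := by
      have h4 : a * ((l : G)⁻¹ * x' * (l : G)) * a⁻¹ ∈ zpowers x :=
        mul_mem (mul_mem ⟨i, hi⟩ h2) (inv_mem ⟨i, hi⟩)
      have hna' : n * a = (l : G) := hna
      rw [← hna'] at h4
      convert h4 using 1; group
    have h5 : x⁻¹ * (n⁻¹ * x' * n) ∈ N := by
      have e : x⁻¹ * (n⁻¹ * x' * n) = (x⁻¹ * n⁻¹ * x) * (x⁻¹ * x') * n := by group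
      rw [e]
      exact mul_mem (mul_mem (by simpa using ‹N.Normal›.conj_mem n⁻¹ (inv_mem hn) x⁻¹) (hmod g)) hn
    have h6 := hdis _ (mul_mem (inv_mem (mem_zpowers x)) h3) h5
    rw [mem_cent]
    calc n⁻¹ * g * x = n⁻¹ * x' * n * (n⁻¹ * g) := by rw [hx']; group
      _ = x * (n⁻¹ * g) := by rw [← inv_mul_eq_one.mp h6]
  rw [← idx_eq_one_iff]
  refine eq_one_of_tnum ?_ hx
  have hsup : N ⊔ centralizer ({x} : Set G) = ⊤ := by
    refine eq_top_iff.mpr fun g _ => ?_
    obtain ⟨n, hn, hc⟩ := key g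
    rw [show g = n * (n⁻¹ * g) by group]
    exact mul_mem (mem_sup_left hn) (mem_sup_right hc)
  have : idx x ∣ Nat.card N := by
    have h1 : (centralizer ({x} : Set G)).relIndex N ∣ Nat.card N := relIndex_dvd_card _ _
    have h2 : (centralizer ({x} : Set G)).relIndex N = idx x := by
      have h3 : ((N ⊔ centralizer ({x} : Set G) : Subgroup G) : Set G) = (N : Set G) * centralizer ({x} : Set G) :=
        normal_mul N _
      rw [hsup] at h3
      rw [relIndex, idx, Subgroup.index, Subgroup.index]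
      refine Nat.card_eq_of_bijective (Quotient.map' (fun c : N => (c : G)) fun a b hab => by
        rw [QuotientGroup.leftRel_apply] at hab ⊢
        simpa [mem_subgroupOf] using hab) ⟨?_, ?_⟩
      · intro a b hab
        induction a using QuotientGroup.induction_on with
        | H a =>
          induction b using QuotientGroup.induction_on with
          | H b =>
            have hab' : ((a : G) : G ⧸ centralizer ({x} : Set G)) = (b : G) := hab
            rw [QuotientGroup.eq] at hab' ⊢
            simpa [mem_subgroupOf] using hab'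
      · intro q
        induction q using QuotientGroup.induction_on with
        | H u =>
          obtain ⟨n, hn, hc⟩ := key u
          exact ⟨((⟨n, hn⟩ : N) : N ⧸ (centralizer ({x} : Set G)).subgroupOf N), QuotientGroup.eq.mpr hc⟩
    exact h2 ▸ h1
  exact hN.dvd this

/-- The structure theorem. -/
theorem frobenius_of_pure (hpure : ∀ g : G, TNum T (idx g) ∨ TNum Tᶜ (idx g)) (y : G)
    (hy : TNum T (idx y)) (hy1 : 1 < idx y) (hmax : ∀ g : G, idx g ≤ idx y)
    (x₀ : G) (hx₀ : TNum Tᶜ (idx x₀)) (hx₀1 : 1 < idx x₀) :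
    ∃ H : Subgroup (G ⧸ center G), Cfsg.IsFrobeniusComplement H ∧ IsMulCommutative H ∧
      ∀ a ∈ Cfsg.frobeniusKernel H, ∀ b ∈ Cfsg.frobeniusKernel H, a * b = b * a := by
  classical
  obtain ⟨N, hNn, hNT, hmod⟩ := exists_translation_group hpure y hy hy1 hmax
  haveI := hNn
  set Z := center G with hZ
  -- the subgroup of small classes
  let gen : Set G := {u | TNum Tᶜ (idx u) ∧ TNum T (orderOf u)}
  set M := Subgroup.closure (gen ∪ (Z : Set G)) with hMdef
  have hsmallM : ∀ u : G, TNum Tᶜ (idx u) → u ∈ M := by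
    refine mem_of_prime_power_parts M (fun u => TNum Tᶜ (idx u)) (fun u k h => h.dvd (idx_pow_dvd u k)) ?_
    rintro u hu ⟨p, k, hp, hk, hpk⟩
    have hp' := Nat.prime_iff.mpr hp
    haveI := Fact.mk hp'
    by_cases hpT : p ∈ T
    · refine subset_closure (Or.inl ⟨hu, fun q hq hqd => ?_⟩)
      rw [← hpk] at hqd
      rw [(Nat.prime_dvd_prime_iff_eq hq hp').mp (hq.dvd_of_dvd_pow hqd)]
      exact hpT
    · exact subset_closure (Or.inr (central_of_prime_power N hNT hu (fun g => hmod u g hu) hpT hpk.symm))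
  have hprimeT : ∀ u : G, TNum Tᶜ (idx u) → TNum Tᶜ (orderOf u) → u ∈ Z := by
    intro u hu huo
    refine mem_of_prime_power_parts Z (fun u => TNum Tᶜ (idx u) ∧ TNum Tᶜ (orderOf u))
      (fun v k hv => ⟨hv.1.dvd (idx_pow_dvd v k), hv.2.dvd (orderOf_pow_dvd k)⟩) ?_ u ⟨hu, huo⟩
    rintro v ⟨hv, hvo⟩ ⟨p, k, hp, hk, hpk⟩
    have hp' := Nat.prime_iff.mpr hp
    haveI := Fact.mk hp'
    exact central_of_prime_power N hNT hv (fun g => hmod v g hv)
      (hvo p hp' (hpk ▸ dvd_pow_self p hk.ne')) hpk.symm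
  have hgencomm : ∀ u ∈ gen, ∀ v ∈ gen, u * v = v * u := by
    rintro u ⟨hu, -⟩ v ⟨hv, hvo⟩
    set V := zpowers v ⊔ N with hV
    haveI : V.Normal := ⟨fun w hw g => by
      have hle : V.map (MulAut.conj g).toMonoidHom ≤ V := by
        rw [hV, Subgroup.map_sup, MonoidHom.map_zpowers]
        refine sup_le (zpowers_le.mpr ?_) ?_
        · show g * v * g⁻¹ ∈ V
          rw [show g * v * g⁻¹ = v * (v⁻¹ * (g * v * g⁻¹)) by group]
          exact mul_mem (mem_sup_left (mem_zpowers v)) (mem_sup_right (hmod v g hv))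
        · rintro _ ⟨a, ha, rfl⟩
          exact mem_sup_right (hNn.conj_mem a ha g)
      exact hle ⟨w, hw, rfl⟩⟩
    have hVT : TNum T (Nat.card V) := by
      intro p hp hpd
      have h1 : Nat.card V ∣ Nat.card (zpowers v) * Nat.card N := by
        have h2 := (Subgroup.card_mul_index (N.subgroupOf V))
        rw [Nat.card_congr (subgroupOfEquivOfLe (le_sup_right : N ≤ V)).toEquiv] at h2
        rw [← h2, mul_comm]
        refine Nat.mul_dvd_mul_right ?_ _
        show N.relIndex V ∣ _
        rw [hV, sup_comm, relIndex_sup_left]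
        exact relIndex_dvd_card _ _
      rcases hp.dvd_mul.mp (hpd.trans h1) with h | h
      · exact hvo p hp (by rwa [Nat.card_zpowers] at h)
      · exact hNT p hp h
    have h1 : (centralizer ({u} : Set G)).relIndex V = 1 :=
      eq_one_of_tnum (hVT.dvd (relIndex_dvd_card _ _)) (hu.dvd (relIndex_dvd_index_of_normal' _ V))
    exact ((mem_cent.mp (relIndex_eq_one.mp h1 (mem_sup_left (mem_zpowers v)))).symm)
  have hMcomm : ∀ a ∈ M, ∀ b ∈ M, a * b = b * a := by
    have : IsMulCommutative M := by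
      refine isMulCommutative_closure ?_
      rintro a (ha | ha) b (hb | hb)
      · exact hgencomm a ha b hb
      · exact (mem_center_iff.mp hb a)
      · exact (mem_center_iff.mp ha b).symm
      · exact (mem_center_iff.mp hb a)
    exact fun a ha b hb => congrArg Subtype.val (this.is_comm.comm ⟨a, ha⟩ ⟨b, hb⟩)
  have hMne : M ≠ ⊤ := fun e => by
    have : y ∈ Z := mem_center_iff.mpr fun g => hMcomm g (e ▸ mem_top g) y (e ▸ mem_top y)
    rw [hZ, ← idx_eq_one_iff] at this
    omega
  have hout : ∀ g, g ∉ M → TNum T (idx g) := fun g hg => (hpure g).resolve_right fun h => hg (hsmallM g h)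
  -- primes outside `T` do not divide the derived group
  have hcover : ∀ (p : ℕ) [Fact p.Prime] (P : Sylow p G), p ∉ T → ∀ g, g ∉ M →
      ∃ h : G, h⁻¹ * g * h ∈ centralizer ((P : Subgroup G) : Set G) := by
    intro p _ P hp g hg
    obtain ⟨R, hR⟩ := CfsgLib.KnownSimple51.Pronormal.exists_sylow_le_of_not_dvd_index (H := centralizer ({g} : Set G))
      (fun h : p ∣ idx g => hp (hout g hg p Fact.out h))
    obtain ⟨h, rfl⟩ := MulAction.exists_smul_eq G P R
    refine ⟨h, mem_centralizer_iff.mpr fun a ha => ?_⟩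
    have : h * a * h⁻¹ ∈ centralizer ({g} : Set G) := hR ⟨a, ha, rfl⟩
    rw [mem_cent] at this
    calc a * (h⁻¹ * g * h) = h⁻¹ * (h * a * h⁻¹ * g) * h := by group
      _ = h⁻¹ * (g * (h * a * h⁻¹)) * h := by rw [this]
      _ = h⁻¹ * g * h * a := by group
  have hNC : ∀ (p : ℕ) [Fact p.Prime] (P : Sylow p G), p ∉ T →
      normalizer ((P : Subgroup G) : Set G) ≤ centralizer ((P : Subgroup G) : Set G) := fun p _ P hp =>
    normalizer_le_centralizer_of_cover P M hMne fun g => (em (g ∈ M)).imp_right fun h => hcover p P hp g h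
  have hder : TNum T (Nat.card (commutator G)) := fun p hp hd => by
    by_contra hpT
    haveI := Fact.mk hp
    exact not_dvd_card_commutator (default : Sylow p G) (hNC p default hpT) hd
  -- the `T`-elements
  let S : Subgroup G :=
    { carrier := {g | TNum T (orderOf g)}
      one_mem' := fun p hp h => absurd (Nat.dvd_one.mp (orderOf_one (G := G) ▸ h)) hp.one_lt.ne'
      inv_mem' := fun {g} hg p hp h => hg p hp (by rwa [orderOf_inv] at h)
      mul_mem' := fun {a b} ha hb p hp h => by
        set k := orderOf a * orderOf b with hk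
        have h1 : Abelianization.of ((a * b) ^ k) = 1 := by
          rw [map_pow, map_mul, mul_pow, hk, pow_mul, ← map_pow, pow_orderOf_eq_one, map_one, one_pow, one_mul,
            mul_comm, pow_mul, ← map_pow, pow_orderOf_eq_one, map_one, one_pow]
        have h2 : (a * b) ^ k ∈ commutator G := by
          rw [← Abelianization.ker_of]; exact h1
        have h3 : orderOf (a * b) ∣ k * Nat.card (commutator G) := orderOf_dvd_of_pow_eq_one (by
          rw [pow_mul]
          exact congrArg Subtype.val (pow_card_eq_one' (x := (⟨_, h2⟩ : commutator G))))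
        rcases hp.dvd_mul.mp (h.trans h3) with h4 | h4
        · rcases hp.dvd_mul.mp h4 with h5 | h5
          · exact ha p hp h5
          · exact hb p hp h5
        · exact hder p hp h4 }
  have hSmem : ∀ g : G, g ∈ S ↔ TNum T (orderOf g) := fun g => Iff.rfl
  have hGS : commutator G ≤ S := fun g hg => hder.dvd (Subgroup.orderOf_dvd_natCard _ hg)
  haveI : S.Normal := Subgroup.Normal.of_commutator_le G hGS
  have hScard : TNum T (Nat.card S) := fun p hp hd => by
    haveI := Fact.mk hp
    obtain ⟨⟨a, ha⟩, hao⟩ := exists_prime_orderOf_dvd_card' (G := S) p hd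
    rw [Subgroup.orderOf_mk] at hao
    exact ha p hp (dvd_of_eq hao.symm)
  have hScent : ∀ u, TNum Tᶜ (idx u) → ∀ s ∈ S, s * u = u * s := by
    intro u hu s hs
    have h1 : (centralizer ({u} : Set G)).relIndex S = 1 := by
      exact eq_one_of_tnum (hScard.dvd (relIndex_dvd_card _ _)) (hu.dvd (relIndex_dvd_index_of_normal' _ S))
    exact mem_cent.mp (relIndex_eq_one.mp h1 hs)
  have hSM : ∀ s ∈ S, ∀ u ∈ M, s * u = u * s := by
    intro s hs u hu
    induction hu using Subgroup.closure_induction with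
    | mem a ha =>
      rcases ha with ha | ha
      · exact hScent a ha.1 s hs
      · exact mem_center_iff.mp ha s
    | one => simp
    | mul a b _ _ ha hb => exact (show Commute s a from ha).mul_right hb
    | inv a _ ha => exact (show Commute s a from ha).inv_right
  -- a noncentral small element in `S`, and a prime
  obtain ⟨p, hp, hpd⟩ := Nat.exists_prime_and_dvd (show idx x₀ ≠ 1 by omega)
  haveI := Fact.mk hp
  have hpT : p ∉ T := hx₀ p hp hpd
  let P : Sylow p G := default
  obtain ⟨u₀, hu₀S, hu₀, hu₀Z⟩ : ∃ u, u ∈ S ∧ TNum Tᶜ (idx u) ∧ u ∉ Z := by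
    by_contra hno
    push Not at hno
    have : x₀ ∈ Z := by
      refine mem_of_prime_power_parts Z (fun u => TNum Tᶜ (idx u)) (fun u k h => h.dvd (idx_pow_dvd u k)) ?_ x₀ hx₀
      rintro u hu ⟨r, k, hr, hk, hrk⟩
      by_cases hrT : r ∈ T
      · exact hno u (fun q hq hqd => by
          rw [← hrk] at hqd
          rw [(Nat.prime_dvd_prime_iff_eq hq (Nat.prime_iff.mpr hr)).mp (hq.dvd_of_dvd_pow hqd)]
          exact hrT) hu
      · exact hprimeT u hu (fun q hq hqd => by
          rw [← hrk] at hqd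
          rw [(Nat.prime_dvd_prime_iff_eq hq (Nat.prime_iff.mpr hr)).mp (hq.dvd_of_dvd_pow hqd)]
          exact hrT)
    rw [hZ, ← idx_eq_one_iff] at this
    omega
  have mixed : ∀ a b : G, Commute a b → (orderOf a).Coprime (orderOf b) →
      TNum T (idx a) → 1 < idx a → TNum Tᶜ (idx b) → 1 < idx b → False := by
    intro a b hab hco ha ha1 hb hb1
    obtain ⟨d1, d2⟩ := idx_dvd_mul hab hco
    rcases hpure (a * b) with h | h
    · exact hb1.ne' (eq_one_of_tnum (h.dvd d2) hb)
    · exact ha1.ne' (eq_one_of_tnum ha (h.dvd d1))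
  have one_lt_idx : ∀ u, u ∉ Z → 1 < idx u := fun u hu => by
    have h1 := idx_ne_zero u
    have h2 : idx u ≠ 1 := fun e => hu (idx_eq_one_iff.mp e)
    omega
  -- `S ≤ M`
  have hSle : S ≤ M := by
    set D := S ⊓ centralizer ((P : Subgroup G) : Set G) with hD
    set M' := M ⊓ S with hM'
    have hcov : ∀ s ∈ S, s ∈ M ∨ ∃ t ∈ S, t⁻¹ * s * t ∈ D := by
      intro s hs
      by_cases hsM : s ∈ M
      · exact Or.inl hsM
      refine Or.inr ?_
      obtain ⟨g, hg⟩ := hcover p P hpT s hsM
      -- Frattini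
      haveI : (S ⊔ (P : Subgroup G)).Normal := Subgroup.Normal.of_commutator_le G (hGS.trans le_sup_left)
      have hfr : g ∈ ((S ⊔ centralizer ((P : Subgroup G) : Set G) : Subgroup G) : Set G) := by
        have h1 : normalizer ((P : Subgroup G) : Set G) ⊔ (S ⊔ (P : Subgroup G)) = ⊤ :=
          Sylow.normalizer_sup_eq_top' P le_sup_right
        have h2 : (⊤ : Subgroup G) ≤ S ⊔ centralizer ((P : Subgroup G) : Set G) := by
          rw [← h1]
          refine sup_le ((hNC p P hpT).trans le_sup_right) (sup_le le_sup_left ?_)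
          exact (le_normalizer.trans (hNC p P hpT)).trans le_sup_right
        exact h2 (mem_top g)
      rw [normal_mul] at hfr
      obtain ⟨t, ht : t ∈ S, c, hc : c ∈ centralizer ((P : Subgroup G) : Set G), rfl⟩ := hfr
      simp only at hg
      refine ⟨t, ht, mem_inf.mpr ⟨mul_mem (mul_mem (inv_mem ht) hs) ht, ?_⟩⟩
      have := mul_mem (mul_mem hc hg) (inv_mem hc)
      convert this using 1; group
    have hDM : S ≤ D ⊔ M' := by
      by_contra hne
      obtain ⟨a, haS, ha⟩ := CfsgLib.PrimRecog.exists_not_conj_mem hne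
      rcases hcov a haS with h | ⟨t, ht, h⟩
      · exact ha 1 (one_mem S) (by simpa using mem_sup_right (mem_inf.mpr ⟨h, haS⟩))
      · exact ha t ht (mem_sup_left h)
    have hle : S ≤ normalizer (D : Set G) := by
      refine hDM.trans (sup_le le_normalizer fun m hm => mem_normalizer_iff.mpr fun d => ?_)
      obtain ⟨hm1, hm2⟩ : m ∈ M ∧ m ∈ S := mem_inf.mp hm
      have e : ∀ d ∈ S, m * d * m⁻¹ = d := fun d hd => by
        rw [← hSM d hd m hm1, mul_inv_cancel_right]
      constructor
      · intro hd; rwa [e d (mem_inf.mp hd).1]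
      · intro hd
        have h1 : d ∈ S := by
          have := mul_mem (mul_mem (inv_mem hm2) (mem_inf.mp hd).1) hm2
          simpa [mul_assoc] using this
        rwa [e d h1] at hd
    have hor : ∀ s ∈ S, s ∈ M ∨ s ∈ D := by
      intro s hs
      refine (hcov s hs).imp_right fun ⟨t, ht, h⟩ => ?_
      have := (mem_normalizer_iff.mp (hle ht) _).mp h
      simpa [mul_assoc] using this
    by_contra hne
    obtain ⟨s, hsS, hsM⟩ := SetLike.not_le_iff_exists.mp hne
    have hSD : S ≤ D := by
      intro r hr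
      by_contra hrD
      have hrM := (hor r hr).resolve_right hrD
      have hsD := (hor s hsS).resolve_left hsM
      rcases hor (s * r) (mul_mem hsS hr) with h | h
      · exact hsM (by simpa [mul_assoc] using mul_mem h (inv_mem hrM))
      · exact hrD (by simpa using mul_mem (inv_mem hsD) h)
    have hPZ : ¬ (P : Subgroup G) ≤ Z := fun hPZ => P.not_dvd_index
      (hpd.trans (index_dvd_of_le fun a ha => mem_cent.mpr (mem_center_iff.mp (hPZ ha) x₀).symm))
    obtain ⟨a, haP, haZ⟩ := SetLike.not_le_iff_exists.mp hPZ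
    have hao : TNum Tᶜ (orderOf a) := by
      intro q hq hqd
      obtain ⟨k, hk⟩ : ∃ k, a ^ p ^ k = 1 := (P.isPGroup' ⟨a, haP⟩).imp fun k h => congrArg Subtype.val h
      have := (hqd.trans (orderOf_dvd_of_pow_eq_one hk))
      rw [(Nat.prime_dvd_prime_iff_eq hq hp).mp (hq.dvd_of_dvd_pow this)]
      exact hpT
    refine mixed a u₀ ?_ (coprime_of_tnum hu₀S hao).symm ((hpure a).resolve_right fun h => haZ (hprimeT a h hao))
      (one_lt_idx a haZ) hu₀ (one_lt_idx u₀ hu₀Z)
    exact mem_centralizer_iff.mp (hSD hu₀S).2 a haP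
  have hScomm : ∀ a ∈ S, ∀ b ∈ S, a * b = b * a := fun a ha b hb => hMcomm a (hSle ha) b (hSle hb)
  have hSindex : TNum Tᶜ S.index := fun q hq hqd hqT => by
    haveI := Fact.mk hq
    refine (default : Sylow q G).not_dvd_index (hqd.trans (index_dvd_of_le fun a ha => ?_))
    intro r hr hrd
    obtain ⟨k, hk⟩ : ∃ k, a ^ q ^ k = 1 := ((default : Sylow q G).isPGroup' ⟨a, ha⟩).imp fun k h => congrArg Subtype.val h
    rw [(Nat.prime_dvd_prime_iff_eq hr hq).mp (hr.dvd_of_dvd_pow (hrd.trans (orderOf_dvd_of_pow_eq_one hk)))]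
    exact hqT
  have hsidx : ∀ s ∈ S, TNum Tᶜ (idx s) := fun s hs =>
    hSindex.dvd (index_dvd_of_le fun r hr => mem_cent.mpr (hScomm r hr s hs))
  -- the quotient by the center
  let π : G →* G ⧸ Z := QuotientGroup.mk' Z
  set K : Subgroup (G ⧸ Z) := S.map π with hK
  haveI : K.Normal := Subgroup.Normal.map inferInstance π (QuotientGroup.mk'_surjective Z)
  have hKT : TNum T (Nat.card K) := hScard.dvd (card_map_dvd S π)
  have hKi : TNum Tᶜ K.index := hSindex.dvd (index_map_dvd S (QuotientGroup.mk'_surjective Z))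
  obtain ⟨H, hH⟩ := exists_right_complement'_of_coprime (N := K) (coprime_of_tnum hKT hKi)
  have hHcard : Nat.card H = K.index := hH.symm.index_eq_card.symm
  have hHcomm : ∀ a ∈ H, ∀ b ∈ H, a * b = b * a := by
    intro a ha b hb
    obtain ⟨g, rfl⟩ := QuotientGroup.mk'_surjective Z a
    obtain ⟨h, rfl⟩ := QuotientGroup.mk'_surjective Z b
    rw [← commutatorElement_eq_one_iff_mul_comm]
    refine Subgroup.disjoint_def.mp hH.disjoint ?_ ?_
    · rw [← map_commutatorElement]
      exact mem_map_of_mem _ (hGS (commutator_mem_commutator (mem_top g) (mem_top h)))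
    · exact mul_mem (mul_mem (mul_mem ha hb) (inv_mem ha)) (inv_mem hb)
  have hKb : K ≠ ⊥ := fun e => by
    have h1 : π u₀ ∈ K := mem_map_of_mem _ hu₀S
    rw [e, mem_bot] at h1
    exact hu₀Z ((QuotientGroup.eq_one_iff u₀).mp h1)
  have hHb : H ≠ ⊥ := fun e => hMne (eq_top_iff.mpr fun g _ => by
    have h1 : K = ⊤ := by
      rw [e] at hH
      exact isComplement'_bot_right.mp hH
    have h2 : π g ∈ K := h1 ▸ mem_top _
    obtain ⟨s, hs, hsg⟩ := h2
    have h3 : s⁻¹ * g ∈ Z := QuotientGroup.eq.mp hsg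
    rw [show g = s * (s⁻¹ * g) by group]
    exact mul_mem (hSle hs) (subset_closure (Or.inr h3)))
  have hfree : ∀ h ∈ H, h ≠ 1 → ∀ k ∈ K, h * k = k * h → k = 1 := by
    rintro h hh hh1 _ ⟨s, hs, rfl⟩ hcomm
    obtain ⟨g, rfl⟩ := QuotientGroup.mk'_surjective Z h
    by_contra hk1
    have hsZ : s ∉ Z := fun h => hk1 ((QuotientGroup.eq_one_iff s).mpr h)
    set n := orderOf (π g) with hn
    have hnT : TNum Tᶜ n := hKi.dvd (hHcard ▸ orderOf_dvd_natCard H hh)
    set z := s⁻¹ * (g * s * g⁻¹) with hz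
    have hzS : z ∈ S := mul_mem (inv_mem hs) ((inferInstance : S.Normal).conj_mem s hs g)
    have hzZ : z ∈ Z := by
      refine (QuotientGroup.eq_one_iff z).mp ?_
      show π z = 1
      rw [hz, map_mul, map_inv, map_mul, map_mul, map_inv, hcomm, mul_inv_cancel_right, inv_mul_cancel]
    have hpowz : ∀ i : ℕ, g ^ i * s * (g ^ i)⁻¹ = s * z ^ i := by
      intro i
      induction i with
      | zero => simp
      | succ i ih =>
        have e1 : g * z * g⁻¹ = z := by rw [mem_center_iff.mp hzZ g, mul_inv_cancel_right]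
        have e2 : g * z ^ i * g⁻¹ = z ^ i := by rw [← conj_pow, e1]
        calc g ^ (i + 1) * s * (g ^ (i + 1))⁻¹ = g * (g ^ i * s * (g ^ i)⁻¹) * g⁻¹ := by
              rw [pow_succ']; group
          _ = (g * s * g⁻¹) * (g * z ^ i * g⁻¹) := by rw [ih]; group
          _ = s * z * z ^ i := by rw [e2, hz]; group
          _ = s * z ^ (i + 1) := by rw [pow_succ', mul_assoc]
    have hgn : g ^ n ∈ Z := (QuotientGroup.eq_one_iff _).mp (by
      show π (g ^ n) = 1
      rw [map_pow, hn, pow_orderOf_eq_one])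
    have hzn : z ^ n = 1 := by
      have := hpowz n
      rw [← mem_center_iff.mp hgn s, mul_inv_cancel_right] at this
      exact mul_eq_left.mp this.symm
    have hz1 : z = 1 := orderOf_eq_one_iff.mp
      (eq_one_of_tnum hzS (hnT.dvd (orderOf_dvd_of_pow_eq_one hzn)))
    have hgs : Commute g s := by
      have := inv_mul_eq_one.mp hz1
      show g * s = s * g
      rw [eq_mul_inv_iff_mul_eq] at this
      exact this.symm
    set a := g ^ Nat.card S with ha
    have hao : TNum Tᶜ (orderOf a) := hSindex.dvd (orderOf_dvd_of_pow_eq_one (by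
      rw [ha, ← pow_mul, mul_comm, pow_mul]
      exact congrArg Subtype.val
        (pow_card_eq_one' (x := (⟨_, pow_index_mem S g⟩ : S)))))
    have haZ : a ∉ Z := fun h => hh1 (by
      have h1 : π g ^ Nat.card S = 1 := by
        rw [← map_pow]; exact (QuotientGroup.eq_one_iff a).mpr h
      exact orderOf_eq_one_iff.mp (eq_one_of_tnum (hScard.dvd (orderOf_dvd_of_pow_eq_one h1)) hnT))
    exact mixed a s (hgs.pow_left _) (coprime_of_tnum hs hao).symm
      ((hpure a).resolve_right fun h => haZ (hprimeT a h hao)) (one_lt_idx a haZ) (hsidx s hs) (one_lt_idx s hsZ)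
  have hF := CfsgLib.Frobenius.isFrobeniusComplement_of_normal_complement hH hKb hHb hfree
  refine ⟨H, hF, ⟨⟨fun a b => Subtype.ext (hHcomm a a.2 b b.2)⟩⟩, ?_⟩
  rw [← CfsgLib.Frobenius.normal_complement_eq_kernel hF hH]
  rintro _ ⟨a, ha, rfl⟩ _ ⟨b, hb, rfl⟩
  rw [← map_mul, ← map_mul, hScomm a ha b hb]

end CfsgLib.ClassGraph
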