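import Cfsg.Agent.Lib.SuzukiTwo.Setting
import Cfsg.Agent.Lib.PGroup.Frattini
import Cfsg.Agent.Lib.OddOrder.PuigSeries
import Cfsg.Agent.Lib.Structure.TransitiveSolvable
import Cfsg.Agent.Lib.Structure.Weights

/-!
Higman's theorem for a solvable group of automorphisms transitive on the involutions of a
nonabelian 2-group: squares are involutions or trivial, and the centre is elementary abelian.
-/

set_option autoImplicit false
set_option linter.style.haveILetI false
set_option linter.unusedSectionVars false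

namespace CfsgLib.SuzukiSolvable

open CfsgLib.SuzukiTwo (invols exists_invol_mem exists_order smul_mem_center)
open scoped commutatorElement

universe u v

/-- a 2-group with a solvable operator group transitive on its several involutions -/
structure Hyp (P : Type u) [Group P] (Y : Type v) [Group Y] [MulDistribMulAction Y P] : Prop where
  isTwo : IsPGroup 2 P
  two : ∃ x y : P, x ≠ y ∧ x ≠ 1 ∧ x * x = 1 ∧ y ≠ 1 ∧ y * y = 1
  trans : ∀ x y : P, x ≠ 1 → x * x = 1 → y ≠ 1 → y * y = 1 → ∃ a : Y, a • x = y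
  sol : Group.IsSolvable Y

/-- operators on an invariant subgroup -/
@[instance_reducible]
def subAction {P : Type u} [Group P] {Y : Type v} [Group Y] [MulDistribMulAction Y P]
    (C : Subgroup P) (hC : ∀ k : Y, ∀ x ∈ C, k • x ∈ C) : MulDistribMulAction Y C where
  smul k x := ⟨k • (x : P), hC k x x.2⟩
  one_smul x := Subtype.ext (one_smul Y (x : P))
  mul_smul a b x := Subtype.ext (mul_smul a b (x : P))
  smul_mul a x y := Subtype.ext (smul_mul' a (x : P) (y : P))
  smul_one a := Subtype.ext (smul_one a)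

theorem commutator_eq_sq_mul {P : Type u} [Group P] (y z : P) :
    ⁅y, z⁆ = (y * y) * ((y⁻¹ * z) * (y⁻¹ * z)) * (z⁻¹ * z⁻¹) := by
  rw [commutatorElement_def]; group

theorem zmod_two_cases : ∀ a : ZMod 2, a = 0 ∨ a = 1 := by decide

theorem square_mul {P : Type u} [Group P] (y z : P) :
    y * z * (y * z) = y * y * (⁅y⁻¹, z⁆ * (z * z)) := by
  rw [commutatorElement_def]; group

theorem add_self_of_idem {R : Type u} [Ring R] (h2 : ∀ r : R, r + r = 0) {a b : R} (ha : a * a = a)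
    (hb : b * b = b) (hab : (a + b) * (a + b) = a + b) : a * b = b * a := by
  have h : a * b + b * a = 0 := by
    rw [add_mul, mul_add, mul_add, ha, hb] at hab
    calc a * b + b * a = (a + a * b + (b * a + b)) + ((a + b)) := by
          rw [show (a + a * b + (b * a + b)) + (a + b) = (a + a) + (b + b) + (a * b + b * a) by abel,
            h2, h2, zero_add, zero_add]
      _ = 0 := by rw [hab, h2]
  calc a * b = a * b + (b * a + b * a) := by rw [h2, add_zero]
    _ = b * a := by rw [← add_assoc, h, zero_add]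

/-- In a transitive situation a commuting stable family of idempotents consists of `0` and `1`. -/
theorem idempotent_trivial {L : Type u} [AddCommGroup L] [Finite L] (h2 : ∀ l : L, l + l = 0)
    (R : Set (AddMonoid.End L)) (hidem : ∀ φ ∈ R, φ * φ = φ)
    (hsum : ∀ φ ∈ R, ∀ ψ ∈ R, φ + ψ ∈ R)
    (htr : ∀ u w : L, u ≠ 0 → w ≠ 0 → ∃ π : L ≃+ L, π u = w ∧
      ∀ φ ∈ R, ∃ ψ ∈ R, ∀ l, ψ (π l) = π (φ l)) :
    ∀ φ ∈ R, φ = 0 ∨ φ = 1 := by
  classical
  have hR2 : ∀ r : AddMonoid.End L, r + r = 0 := fun r => AddMonoidHom.ext fun l => h2 _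
  have hcomm : ∀ φ ∈ R, ∀ ψ ∈ R, φ * ψ = ψ * φ := fun φ hφ ψ hψ =>
    add_self_of_idem hR2 (hidem φ hφ) (hidem ψ hψ) (hidem _ (hsum φ hφ ψ hψ))
  let Pr : Submonoid (AddMonoid.End L) := Submonoid.closure R
  have hPcomm : ∀ φ ∈ Pr, ∀ ψ ∈ Pr, φ * ψ = ψ * φ := by
    have h1 : ∀ φ ∈ R, ∀ ψ ∈ Pr, φ * ψ = ψ * φ := by
      intro φ hφ ψ hψ
      induction hψ using Submonoid.closure_induction with
      | mem x hx => exact hcomm φ hφ x hx
      | one => rw [one_mul, mul_one]
      | mul a b _ _ ha hb => rw [← mul_assoc, ha, mul_assoc, hb, mul_assoc]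
    intro φ hφ ψ hψ
    induction hφ using Submonoid.closure_induction with
    | mem x hx => exact h1 x hx ψ hψ
    | one => rw [one_mul, mul_one]
    | mul a b _ _ ha hb => rw [mul_assoc, hb, ← mul_assoc, ha, mul_assoc]
  have hPidem : ∀ φ ∈ Pr, φ * φ = φ := by
    intro φ hφ
    induction hφ using Submonoid.closure_induction with
    | mem x hx => exact hidem x hx
    | one => rw [one_mul]
    | mul a b ha' hb' ha hb =>
      calc a * b * (a * b) = a * (b * a) * b := by simp [mul_assoc]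
        _ = a * (a * b) * b := by rw [hPcomm b hb' a ha']
        _ = (a * a) * (b * b) := by simp [mul_assoc]
        _ = a * b := by rw [ha, hb]
  haveI : Finite (AddMonoid.End L) :=
    Finite.of_injective (fun f : AddMonoid.End L => (f : L → L)) DFunLike.coe_injective
  intro φ0 hφ0
  by_cases h0 : φ0 = 0
  · exact Or.inl h0
  right
  obtain ⟨φ, ⟨hφ, hφne⟩, hmin⟩ := Set.exists_min_image {φ | φ ∈ Pr ∧ φ ≠ 0}
    (fun φ => (Set.range φ).ncard) (Set.toFinite _) ⟨φ0, Submonoid.subset_closure hφ0, h0⟩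
  have hfix : ∀ {ψ : AddMonoid.End L}, ψ ∈ Pr → ∀ {w : L}, w ∈ Set.range ψ → ψ w = w := by
    rintro ψ hψ w ⟨l, rfl⟩
    exact DFunLike.congr_fun (hPidem ψ hψ) l
  have hone : ∀ w, φ w = w := by
    obtain ⟨l, hl⟩ : ∃ l, φ l ≠ 0 := by
      by_contra hall
      push Not at hall
      exact hφne (AddMonoidHom.ext hall)
    obtain ⟨u, hu⟩ : ∃ u, u = φ l := ⟨_, rfl⟩
    have huu : φ u = u := hu ▸ hfix hφ ⟨l, rfl⟩
    rw [← hu] at hl
    intro w
    by_contra hw
    obtain ⟨v, hv⟩ : ∃ v, v = w - φ w := ⟨_, rfl⟩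
    have hvv : φ v = 0 := by rw [hv, map_sub, hfix hφ ⟨w, rfl⟩, sub_self]
    have hv0 : v ≠ 0 := fun e => hw (sub_eq_zero.mp (hv ▸ e)).symm
    have huv : u + v ≠ 0 := fun e => hl (by
      have := congrArg φ e
      rwa [map_add, huu, hvv, add_zero, map_zero] at this)
    obtain ⟨π, hπu, hπ⟩ := htr u (u + v) hl huv
    -- the conjugate of `φ`
    have hconj : ∀ ψ ∈ Pr, ∃ ψ' ∈ Pr, ∀ l, ψ' (π l) = π (ψ l) := by
      intro ψ hψ
      induction hψ using Submonoid.closure_induction with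
      | mem x hx =>
        obtain ⟨ψ', hψ', h'⟩ := hπ x hx
        exact ⟨ψ', Submonoid.subset_closure hψ', h'⟩
      | one => exact ⟨1, one_mem _, fun l => rfl⟩
      | mul a b _ _ ha hb =>
        obtain ⟨a', ha', ea⟩ := ha
        obtain ⟨b', hb', eb⟩ := hb
        exact ⟨a' * b', mul_mem ha' hb', fun l => by
          show a' (b' (π l)) = π (a (b l))
          rw [eb, ea]⟩
    obtain ⟨φ', hφ', hπφ⟩ := hconj φ hφ
    have h1 : φ' (u + v) = u + v := by rw [← hπu, hπφ, huu]
    have h2' : φ' u = u := by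
      have := congrArg φ h1
      rw [show φ (φ' (u + v)) = (φ * φ') (u + v) from rfl, hPcomm φ hφ φ' hφ'] at this
      have h3 : (φ' * φ) (u + v) = φ' u := by
        show φ' (φ (u + v)) = φ' u
        rw [map_add φ, huu, hvv, add_zero]
      rw [h3, map_add, huu, hvv, add_zero] at this
      exact this
    have h4 : φ' v = v := by
      rw [map_add, h2'] at h1
      exact add_left_cancel h1
    have hne : φ' * φ ≠ 0 := fun e => hl (by
      have : (φ' * φ) u = 0 := by rw [e]; rfl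
      rwa [show (φ' * φ) u = φ' (φ u) from rfl, huu, h2'] at this)
    have hsub : Set.range (φ' * φ : AddMonoid.End L) ⊆ Set.range φ := by
      rintro _ ⟨x, rfl⟩
      rw [hPcomm φ' hφ' φ hφ]
      exact ⟨φ' x, rfl⟩
    have heq := Set.eq_of_subset_of_ncard_le hsub (hmin _ ⟨mul_mem hφ' hφ, hne⟩) (Set.toFinite _)
    have hsub' : Set.range φ ⊆ Set.range φ' := by
      rw [← heq]
      rintro _ ⟨x, rfl⟩
      exact ⟨φ x, rfl⟩
    have hcard : (Set.range φ').ncard = (Set.range φ).ncard := by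
      have e : Set.range φ' = π '' Set.range φ := by
        ext w
        constructor
        · rintro ⟨x, rfl⟩
          exact ⟨φ (π.symm x), ⟨_, rfl⟩, by rw [← hπφ, π.apply_symm_apply]⟩
        · rintro ⟨_, ⟨x, rfl⟩, rfl⟩
          exact ⟨π x, hπφ x⟩
      rw [e, Set.ncard_image_of_injective _ π.injective]
    have heq' := Set.eq_of_subset_of_ncard_le hsub' hcard.le (Set.toFinite _)
    have : v ∈ Set.range φ := by rw [heq']; exact ⟨v, h4⟩
    exact hv0 (by rw [← hfix hφ this, hvv])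
  have hall := hmin φ0 ⟨Submonoid.subset_closure hφ0, h0⟩
  have huniv : Set.range φ0 = Set.univ := by
    refine Set.eq_of_subset_of_ncard_le (Set.subset_univ _) ?_ (Set.toFinite _)
    rw [show Set.range φ = Set.univ from Set.eq_univ_of_forall fun w => ⟨w, hone w⟩] at hall
    exact hall
  exact AddMonoidHom.ext fun w =>
    hfix (Submonoid.subset_closure hφ0) (huniv ▸ Set.mem_univ w)

variable {P : Type u} [Group P] [Finite P] {Y : Type v} [Group Y] [Finite Y]
  [MulDistribMulAction Y P]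

namespace Hyp

variable (h : Hyp P Y)
include h

theorem invol_central {x : P} (hx : x * x = 1) : x ∈ Subgroup.center P := by
  by_cases hx1 : x = 1
  · rw [hx1]; exact one_mem _
  haveI : Fact (Nat.Prime 2) := ⟨Nat.prime_two⟩
  haveI : Nontrivial P := ⟨⟨x, 1, hx1⟩⟩
  haveI := h.isTwo.center_nontrivial
  obtain ⟨z, hz, hz1, hzz⟩ := exists_invol_mem h.isTwo
    ((Subgroup.nontrivial_iff_ne_bot (Subgroup.center P)).1 inferInstance)
  obtain ⟨k, hk⟩ := h.trans z x hz1 hzz hx1 hx
  rw [← hk, Subgroup.mem_center_iff]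
  intro g
  calc g * k • z = k • (k⁻¹ • g * z) := by rw [smul_mul', smul_inv_smul]
    _ = k • (z * k⁻¹ • g) := by rw [Subgroup.mem_center_iff.mp hz]
    _ = _ := by rw [smul_mul', smul_inv_smul]

theorem mem_invols {x : P} : x ∈ invols P ↔ x * x = 1 := by
  refine ⟨fun hx => ?_, fun hx => Subgroup.subset_closure hx⟩
  induction hx using Subgroup.closure_induction with
  | mem y hy => exact hy
  | one => exact one_mul 1
  | mul a b _ _ ha hb =>
    rw [(show Commute b a from ((Subgroup.mem_center_iff.1 (h.invol_central hb)) a).symm).mul_mul_mul_comm a b,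
      ha, hb, one_mul]
  | inv a _ ha => rw [← mul_inv_rev, ha, inv_one]

theorem invols_le_center : invols P ≤ Subgroup.center P := fun _ hx =>
  h.invol_central (h.mem_invols.1 hx)

theorem central {w : P} (hw : w ∈ invols P) (g : P) : Commute g w :=
  Subgroup.mem_center_iff.1 (h.invols_le_center hw) g

theorem smul_mem_invols (k : Y) {x : P} (hx : x ∈ invols P) : k • x ∈ invols P := by
  rw [h.mem_invols] at *
  rw [← smul_mul', hx, smul_one]

theorem invols_le {S : Subgroup P} (hinv : ∀ k : Y, ∀ x ∈ S, k • x ∈ S) (hS : S ≠ ⊥) : invols P ≤ S := by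
  rw [invols, Subgroup.closure_le]
  intro y hy
  by_cases hy1 : y = 1
  · rw [hy1]; exact S.one_mem
  obtain ⟨x, hx, hx1, hxx⟩ := exists_invol_mem h.isTwo hS
  obtain ⟨k, hk⟩ := h.trans x y hx1 hxx hy1 hy
  exact hk ▸ hinv k x hx

variable {A : Subgroup P}

theorem exists_exponent (hinv : ∀ k : Y, ∀ x ∈ A, k • x ∈ A) :
    ∃ M : ℕ, (∀ a ∈ A, a ^ 2 ^ M = 1) ∧ ∀ i, i < M → ∀ w ∈ invols P, ∃ a ∈ A, a ^ 2 ^ i = w := by
  classical
  haveI : Fintype P := Fintype.ofFinite P
  have hex : ∃ M, ∀ a ∈ A, a ^ 2 ^ M = 1 := by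
    choose f hf using h.isTwo
    refine ⟨Finset.univ.sup f, fun a _ => ?_⟩
    obtain ⟨d, hd⟩ := Nat.exists_eq_add_of_le (Finset.le_sup (f := f) (Finset.mem_univ a))
    rw [hd, pow_add, pow_mul, hf, one_pow]
  refine ⟨Nat.find hex, Nat.find_spec hex, fun i hi w hw => ?_⟩
  have := Nat.find_min hex hi
  push Not at this
  obtain ⟨a, ha, hai⟩ := this
  by_cases hw1 : w = 1
  · exact ⟨1, A.one_mem, by rw [one_pow, hw1]⟩
  obtain ⟨j, hj, hj'⟩ := exists_order h.isTwo hai
  obtain ⟨k, hk⟩ := h.trans _ w hj (by rw [← pow_two, ← pow_mul, ← pow_succ, hj']) hw1 (h.mem_invols.1 hw)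
  refine ⟨k • a ^ 2 ^ j, hinv k _ (A.pow_mem ha _), ?_⟩
  rw [← smul_pow', ← pow_mul, mul_comm, pow_mul]
  exact hk

theorem exists_root (hcomm : ∀ a ∈ A, ∀ b ∈ A, a * b = b * a)
    {M : ℕ} (hroot : ∀ i, i < M → ∀ w ∈ invols P, ∃ a ∈ A, a ^ 2 ^ i = w) :
    ∀ i ≤ M, ∀ a ∈ A, a ^ 2 ^ i = 1 → ∃ b ∈ A, b ^ 2 ^ (M - i) = a := by
  intro i
  induction i with
  | zero =>
    intro _ a _ ha
    exact ⟨1, A.one_mem, by rw [one_pow]; simpa using ha.symm⟩
  | succ i ih =>
    intro hi a ha hai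
    have hw : a ^ 2 ^ i ∈ invols P := h.mem_invols.2 (by rw [← pow_two, ← pow_mul, ← pow_succ, hai])
    obtain ⟨c, hc, hcw⟩ := hroot (M - 1) (by omega) _ hw
    have hd : M - (i + 1) + i = M - 1 := by omega
    set c' := c ^ 2 ^ (M - (i + 1)) with hc'
    have hc'A : c' ∈ A := A.pow_mem hc _
    have hc'i : c' ^ 2 ^ i = a ^ 2 ^ i := by rw [hc', ← pow_mul, ← pow_add, hd, hcw]
    obtain ⟨b, hb, hbe⟩ := ih (by omega) (a * c'⁻¹) (A.mul_mem ha (A.inv_mem hc'A)) (by
      rw [(show Commute a c'⁻¹ from hcomm a ha _ (A.inv_mem hc'A)).mul_pow, inv_pow, hc'i, mul_inv_cancel])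
    refine ⟨b ^ 2 * c, A.mul_mem (A.pow_mem hb 2) hc, ?_⟩
    rw [(show Commute (b ^ 2) c from hcomm _ (A.pow_mem hb 2) c hc).mul_pow, ← pow_mul, ← pow_succ',
      show M - (i + 1) + 1 = M - i by omega, hbe, ← hc', inv_mul_cancel_right]

/-- coordinates on the involutions and an element acting as a large part of a Singer cycle -/
theorem exists_coord :
    ∃ (L : Type u) (_ : Field L) (_ : Finite L) (e : L → P) (y : Y) (t : L) (n d : ℕ),
      Function.Injective e ∧ (∀ a b, e (a + b) = e a * e b) ∧ (∀ x, x ∈ invols P ↔ ∃ l, e l = x) ∧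
      (∀ l, y • e l = e (t * l)) ∧ Odd (orderOf y) ∧ CfsgLib.Weights.Sing t n d := by
  classical
  set W := invols P with hW
  letI : CommGroup W := { (inferInstance : Group W) with
    mul_comm := fun a b => Subtype.ext (Subgroup.mem_center_iff.1 (h.invols_le_center b.2) a) }
  letI := subAction W (fun k x hx => h.smul_mem_invols k hx)
  let ρ : Y →* MulAut W := MulDistribMulAction.toMulAut Y W
  letI : DistribMulAction ρ.range (Additive W) :=
    { smul := fun s a => Additive.ofMul ((s : MulAut W) (Additive.toMul a))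
      one_smul := fun a => rfl
      mul_smul := fun a b x => rfl
      smul_zero := fun s => congrArg Additive.ofMul (map_one (s : MulAut W))
      smul_add := fun s a b => congrArg Additive.ofMul
        (map_mul (s : MulAut W) (Additive.toMul a) (Additive.toMul b)) }
  haveI : FaithfulSMul ρ.range (Additive W) :=
    ⟨fun {a b} hab => Subtype.ext (MulEquiv.ext fun w => congrArg Additive.toMul (hab (Additive.ofMul w)))⟩
  have hsol : Group.IsSolvable ρ.range := by
    haveI := h.sol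
    exact Group.isSolvable_of_surjective ρ.rangeRestrict_surjective
  obtain ⟨x, y', hxy, hx1, hxx, hy1, hyy⟩ := h.two
  let x' : Additive W := Additive.ofMul ⟨x, h.mem_invols.2 hxx⟩
  let y'' : Additive W := Additive.ofMul ⟨y', h.mem_invols.2 hyy⟩
  have hx' : x' ≠ 0 := fun e => hx1 (congrArg (fun z => ((Additive.toMul z : W) : P)) e)
  have hy'' : y'' ≠ 0 := fun e => hy1 (congrArg (fun z => ((Additive.toMul z : W) : P)) e)
  have hxy' : x' ≠ y'' := fun e => hxy (congrArg (fun z => ((Additive.toMul z : W) : P)) e)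
  haveI : Nontrivial (Additive W) := ⟨⟨x', 0, hx'⟩⟩
  obtain ⟨L, hF, hfin, e, s, t, n, d, hs, h2, hcard, hord, hdvd⟩ :=
    CfsgLib.TransitiveSolvable.exists_singer_part (V := Additive W) (S := ρ.range)
      (fun a => Additive.toMul.injective (Subtype.ext (h.mem_invols.1 (Additive.toMul a : W).2))) hsol
      (fun a b ha hb => by
        obtain ⟨k, hk⟩ := h.trans ((Additive.toMul a : W) : P) ((Additive.toMul b : W) : P)
          (fun e => ha (Additive.toMul.injective (Subtype.ext e))) (h.mem_invols.1 (Additive.toMul a : W).2)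
          (fun e => hb (Additive.toMul.injective (Subtype.ext e))) (h.mem_invols.1 (Additive.toMul b : W).2)
        exact ⟨⟨ρ k, k, rfl⟩, Additive.toMul.injective (Subtype.ext hk)⟩)
  have hn : 2 ≤ n := by
    by_contra hlt
    have h3 : 3 ≤ Nat.card L := by
      haveI : Fintype (Additive W) := Fintype.ofFinite _
      rw [Nat.card_congr e.toEquiv, Nat.card_eq_fintype_card]
      exact le_trans (Finset.card_eq_three.2 ⟨_, _, _, hx'.symm, hy''.symm, hxy', rfl⟩).ge
        (Finset.card_le_univ ({0, x', y''} : Finset (Additive W)))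
    have h4 : 2 ^ n ≤ 2 ^ 1 := Nat.pow_le_pow_right two_pos (by omega)
    omega
  have hsing : CfsgLib.Weights.Sing t n d := ⟨h2, hcard, hord, hdvd, hn⟩
  obtain ⟨y0, hy0⟩ := s.2
  obtain ⟨k, m, hm, hkm⟩ := Nat.exists_eq_two_pow_mul_odd (orderOf_pos y0).ne'
  have hpow : ∀ (i : ℕ) (l : L), ((ρ y0) ^ i) (Additive.toMul (e l)) = Additive.toMul (e (t ^ i * l)) := by
    intro i
    induction i with
    | zero => intro l; simp
    | succ i ih =>
      intro l
      rw [pow_succ', MulAut.mul_apply, ih, pow_succ', mul_assoc]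
      have h1 := hs (t ^ i * l)
      rw [hy0]
      exact congrArg Additive.toMul h1
  have hto : orderOf (t ^ 2 ^ k) = orderOf t := by
    refine Nat.Coprime.orderOf_pow (Nat.Coprime.pow_right _ ?_)
    exact ((Nat.Prime.coprime_iff_not_dvd Nat.prime_two).mpr hsing.ord_odd).symm
  refine ⟨L, hF, hfin, fun l => ((Additive.toMul (e l) : W) : P), y0 ^ 2 ^ k, t ^ 2 ^ k, n, d,
    fun a b hab => e.injective (Additive.toMul.injective (Subtype.ext hab)),
    fun a b => by simp only [map_add]; rfl,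
    fun z => ⟨fun hz => ⟨e.symm (Additive.ofMul ⟨z, hz⟩),
        congrArg (fun w => ((Additive.toMul w : W) : P)) (e.apply_symm_apply _)⟩,
      fun ⟨l, hl⟩ => hl ▸ (Additive.toMul (e l) : W).2⟩,
    fun l => ?_, ?_, ⟨h2, hcard, by rw [hto]; exact hord, hdvd, hn⟩⟩
  · have h1 := hpow (2 ^ k) l
    rw [← map_pow] at h1
    exact congrArg Subtype.val h1
  · have h0 := orderOf_pos y0
    rw [orderOf_pow_of_dvd (by positivity) (hkm ▸ dvd_mul_right _ _), hkm,
      Nat.mul_div_cancel_left _ (by positivity)]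
    exact hm

/-- An element acting without fixed involutions fixes no nontrivial coset. -/
theorem mem_of_smul_coset {L : Type u} [Field L] {e : L → P} (he : Function.Injective e)
    (hadd : ∀ a b, e (a + b) = e a * e b) (hW : ∀ x, x ∈ invols P ↔ ∃ l, e l = x) {y : Y} {t : L}
    (hact : ∀ l, y • e l = e (t * l)) (hodd : Odd (orderOf y)) (ht : t ≠ 0) {C : Subgroup P}
    (hC : ∀ k : Y, ∀ x ∈ C, k • x ∈ C) {z : P} {j : ℕ} (hj : ¬ orderOf t ∣ j)
    (hz : z⁻¹ * y ^ j • z ∈ C) : z ∈ C := by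
  classical
  by_contra hzC
  have hactp : ∀ (i : ℕ) (l : L), y ^ i • e l = e (t ^ i * l) := by
    intro i
    induction i with
    | zero => intro l; simp
    | succ i ih => intro l; rw [pow_succ', mul_smul, ih, hact, pow_succ', mul_assoc]
  have hs : t ^ j ≠ 1 := fun e1 => hj (orderOf_dvd_of_pow_eq_one e1)
  obtain ⟨r, hr, hrd⟩ := Nat.exists_prime_and_dvd (fun e1 => hs (orderOf_eq_one_iff.1 e1))
  haveI := Fact.mk hr
  have hso : orderOf (t ^ j) ∣ orderOf (y ^ j) := by
    refine orderOf_dvd_of_pow_eq_one ?_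
    have h1 := hactp (j * orderOf (y ^ j)) 1
    rw [pow_mul y, pow_orderOf_eq_one, one_smul, pow_mul t, mul_one] at h1
    exact (he h1).symm
  obtain ⟨a, m, hm, hym⟩ := Nat.exists_eq_pow_mul_and_not_dvd (orderOf_pos (y ^ j)).ne' r hr.ne_one
  have hsm : (t ^ j) ^ m ≠ 1 := fun e1 => hm (hrd.trans (orderOf_dvd_of_pow_eq_one e1))
  have hr2 : r ≠ 2 := fun e1 => by
    have h1 : 2 ∣ orderOf y := (e1 ▸ hrd.trans hso).trans (orderOf_pow_dvd j)
    exact (Nat.not_even_iff_odd.2 hodd) (even_iff_two_dvd.2 h1)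
  let T : Subgroup Y :=
    { carrier := {b | z⁻¹ * b • z ∈ C}
      one_mem' := by simp [C.one_mem]
      mul_mem' := fun {a b} ha hb => by
        show z⁻¹ * (a * b) • z ∈ C
        have e1 : z⁻¹ * (a * b) • z = (z⁻¹ * a • z) * a • (z⁻¹ * b • z) := by
          rw [smul_mul', smul_inv', mul_smul]; group
        rw [e1]; exact C.mul_mem ha (hC a _ hb)
      inv_mem' := fun {a} ha => by
        show z⁻¹ * a⁻¹ • z ∈ C
        have e1 : z⁻¹ * a⁻¹ • z = (a⁻¹ • (z⁻¹ * a • z))⁻¹ := by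
          rw [smul_mul', smul_inv', inv_smul_smul]; group
        rw [e1]; exact C.inv_mem (hC _ _ ha) }
  let y3 := (y ^ j) ^ m
  have hT : Subgroup.zpowers y3 ≤ T := Subgroup.zpowers_le.mpr (T.pow_mem (show y ^ j ∈ T from hz) m)
  have hpg : IsPGroup r (Subgroup.zpowers y3) := by
    obtain ⟨c, -, hc⟩ := (Nat.dvd_prime_pow hr).mp (orderOf_dvd_of_pow_eq_one
      (show y3 ^ r ^ a = 1 by
        show ((y ^ j) ^ m) ^ r ^ a = 1
        rw [← pow_mul, mul_comm, ← hym, pow_orderOf_eq_one]))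
    exact IsPGroup.of_card (n := c) (by rw [Nat.card_zpowers, hc])
  let X := {x : P // z⁻¹ * x ∈ C}
  letI : MulAction (Subgroup.zpowers y3) X :=
    { smul := fun b x => ⟨(b : Y) • (x : P), by
        have e1 : z⁻¹ * (b : Y) • (x : P) = (z⁻¹ * (b : Y) • z) * (b : Y) • (z⁻¹ * (x : P)) := by
          rw [smul_mul', smul_inv']; group
        rw [e1]; exact C.mul_mem (hT b.2) (hC _ _ x.2)⟩
      one_smul := fun x => Subtype.ext (one_smul Y (x : P))
      mul_smul := fun a b x => Subtype.ext (mul_smul (a : Y) (b : Y) (x : P)) }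
  haveI : Fact (Nat.Prime 2) := ⟨Nat.prime_two⟩
  have hnd : ¬ r ∣ Nat.card X := by
    rw [Nat.card_congr (show X ≃ C from (Equiv.mulLeft z⁻¹).subtypeEquiv fun _ => Iff.rfl)]
    obtain ⟨n, hn⟩ := (h.isTwo.to_subgroup C).exists_card_eq
    rw [hn]
    exact fun hd => hr2 ((Nat.prime_dvd_prime_iff_eq hr Nat.prime_two).1 (hr.dvd_of_dvd_pow hd))
  obtain ⟨x, hx⟩ := hpg.nonempty_fixed_point_of_prime_not_dvd_card X hnd
  have hxf : y3 • (x : P) = x := congrArg Subtype.val (hx ⟨y3, Subgroup.mem_zpowers y3⟩)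
  have hx1 : (x : P) ≠ 1 := fun e1 => hzC (by
    have := x.2
    rw [e1, mul_one] at this
    simpa using C.inv_mem this)
  obtain ⟨i, hi, hi'⟩ := exists_order h.isTwo hx1
  obtain ⟨l, hl⟩ := (hW _).1 (h.mem_invols.2
    (show (x : P) ^ 2 ^ i * (x : P) ^ 2 ^ i = 1 by rw [← pow_two, ← pow_mul, ← pow_succ, hi']))
  have hfl : (t ^ j) ^ m * l = l := by
    refine he ?_
    rw [← pow_mul, ← hactp, pow_mul, hl, smul_pow']
    exact congrArg (· ^ 2 ^ i) hxf
  have hl0 : l ≠ 0 := fun e1 => hi (by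
    have := hadd 0 0
    rw [add_zero] at this
    rw [← hl, e1, left_eq_mul.1 this])
  exact hsm (mul_right_cancel₀ hl0 (hfl.trans (one_mul l).symm))

/-- the induction step: squares are involutions -/
theorem sq_step
    (ih : ∀ (C : Subgroup P), (∀ k : Y, ∀ x ∈ C, k • x ∈ C) → C ≠ ⊤ → invols P ≤ C →
      (∃ x ∈ C, ∃ y ∈ C, x * y ≠ y * x) → ∀ z ∈ C, (∀ y ∈ C, y * z = z * y) → z * z = 1) :
    (∃ x y : P, x * y ≠ y * x) → ∀ x : P, x * x ∈ invols P := by
  classical
  rintro ⟨xa, xb, hna⟩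
  by_contra hgoal
  push Not at hgoal
  obtain ⟨x0, hx0⟩ := hgoal
  haveI : Fact (Nat.Prime 2) := ⟨Nat.prime_two⟩
  obtain ⟨L, hF, hfin, e, y, t, n, d, he, hadd, hW, hact, hodd, hS⟩ := h.exists_coord
  have h2 := hS.h2
  have ht0 := hS.t_ne_zero
  have he0 : e 0 = 1 := by
    have := hadd 0 0
    rw [add_zero] at this
    exact left_eq_mul.1 this
  have hWc := h.invols_le_center
  have hWe : ∀ l, e l ∈ invols P := fun l => (hW _).2 ⟨l, rfl⟩
  have hcomm_smul : ∀ (k : Y) (a b : P), k • ⁅a, b⁆ = ⁅k • a, k • b⁆ := fun k a b => by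
    simp [commutatorElement_def, smul_mul', smul_inv']
  have hsmulc : ∀ (k : Y) {a b : P}, a * b = b * a → k • a * k • b = k • b * k • a := fun k a b hab => by
    rw [← smul_mul', hab, smul_mul']
  -- the Frattini subgroup
  let A : Subgroup P := Subgroup.closure (Set.range fun y => y * y)
  have hsqA : ∀ z : P, z * z ∈ A := fun z => Subgroup.subset_closure ⟨z, rfl⟩
  have hcmA : ∀ a b : P, ⁅a, b⁆ ∈ A := fun a b => by
    rw [commutator_eq_sq_mul]
    exact A.mul_mem (A.mul_mem (hsqA a) (hsqA _)) (hsqA b⁻¹)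
  have hAn : ∀ g : P, ∀ x ∈ A, g * x * g⁻¹ ∈ A := fun g x hx => by
    rw [show g * x * g⁻¹ = ⁅g, x⁆ * x by rw [commutatorElement_def]; group]
    exact A.mul_mem (hcmA g x) hx
  have hAinv : ∀ k : Y, ∀ x ∈ A, k • x ∈ A := by
    intro k x hx
    induction hx using Subgroup.closure_induction with
    | mem y hy =>
      obtain ⟨y, rfl⟩ := hy
      rw [smul_mul']; exact hsqA _
    | one => rw [smul_one]; exact one_mem _
    | mul a b _ _ ha hb => rw [smul_mul']; exact mul_mem ha hb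
    | inv a _ ha => rw [smul_inv']; exact inv_mem ha
  have hAtop : A ≠ ⊤ := by
    haveI : Nontrivial P := ⟨⟨x0 * x0, 1, fun e1 => hx0 (by rw [e1]; exact one_mem _)⟩⟩
    intro htop
    refine CfsgLib.PGroup.frattini_ne_top (P := P) (top_le_iff.mp ?_)
    rw [← htop, Subgroup.closure_le]
    rintro _ ⟨z, rfl⟩
    show z * z ∈ frattini P
    rw [← pow_two]
    exact CfsgLib.PGroup.pow_mem_frattini h.isTwo z
  have hWA : invols P ≤ A := h.invols_le hAinv fun e1 => hx0 (by
    have := hsqA x0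
    rw [e1, Subgroup.mem_bot] at this
    rw [this]; exact one_mem _)
  -- it is abelian
  have hAcomm : ∀ a ∈ A, ∀ b ∈ A, a * b = b * a := by
    by_contra hc
    push Not at hc
    obtain ⟨a, ha, b, hb, hab⟩ := hc
    have hZ := ih A hAinv hAtop hWA ⟨a, ha, b, hb, hab⟩
    set W := invols P with hWdef
    haveI hWn : W.Normal := ⟨fun w hw g => by
      rw [(h.central hw g).eq, mul_inv_cancel_right]; exact hw⟩
    let π := QuotientGroup.mk' W
    haveI : Group.IsNilpotent (P ⧸ W) := (h.isTwo.to_quotient W).isNilpotent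
    haveI hFq : (A.map π).Normal :=
      Subgroup.Normal.map ⟨fun x hx g => hAn g x hx⟩ π (QuotientGroup.mk'_surjective W)
    have hne : A.map π ≠ ⊥ := fun e1 => hx0 (by
      have : π (x0 * x0) ∈ A.map π := ⟨_, hsqA x0, rfl⟩
      rw [e1, Subgroup.mem_bot] at this
      exact (QuotientGroup.eq_one_iff _).1 this)
    obtain ⟨⟨z, hz⟩, hz1'⟩ :=
      Subgroup.ne_bot_iff_exists_ne_one.1 (OddOrder.PuigSeries.inf_center_ne_bot (A.map π) hne)
    obtain ⟨f, hf, rfl⟩ := hz.2
    have hfW : f ∉ W := fun e1 => hz1' (Subtype.ext ((QuotientGroup.eq_one_iff f).2 e1))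
    have hfc : ∀ w : P, ⁅f, w⁆ ∈ W := fun w => (QuotientGroup.eq_one_iff _).1 (by
      show π ⁅f, w⁆ = 1
      rw [map_commutatorElement, commutatorElement_eq_one_iff_mul_comm]
      exact (Subgroup.mem_center_iff.1 hz.1 (π w)).symm)
    refine hfW (h.mem_invols.2 (hZ f hf fun w hw => ?_))
    have hle : A ≤ Subgroup.centralizer ({f} : Set P) := (Subgroup.closure_le _).2 (by
      rintro _ ⟨v, rfl⟩
      refine Subgroup.mem_centralizer_singleton_iff.2 ?_
      refine (commutatorElement_eq_one_iff_mul_comm.1 ?_).symm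
      rw [CfsgLib.PGroup.commutatorElement_mul_right_of_central _ _ _ (hWc (hfc v)),
        h.mem_invols.1 (hfc v)])
    exact Subgroup.mem_centralizer_singleton_iff.1 (hle hw)
  obtain ⟨M, hM, hAroot⟩ := h.exists_exponent (A := A) hAinv
  have hArt := h.exists_root (A := A) hAcomm hAroot
  have hM2 : 2 ≤ M := by
    by_contra hlt
    obtain ⟨d', hd'⟩ := Nat.exists_eq_add_of_le (show M ≤ 1 by omega)
    have := congrArg (· ^ 2 ^ d') (hM _ (hsqA x0))
    simp only [one_pow, ← pow_mul, ← pow_add, ← hd', pow_one] at this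
    exact hx0 (h.mem_invols.2 (by rwa [pow_two] at this))
  have hW1 : ∃ w ∈ invols P, w ≠ 1 := by
    obtain ⟨x, -, -, hx1, hxx, -⟩ := h.two
    exact ⟨x, h.mem_invols.2 hxx, hx1⟩
  have hnk : ∃ z : P, (z * z) ^ 2 ^ (M - 1) ≠ 1 := by
    by_contra hall
    push Not at hall
    have hA1 : ∀ a ∈ A, a ^ 2 ^ (M - 1) = 1 := by
      intro a ha
      induction ha using Subgroup.closure_induction with
      | mem v hv => obtain ⟨v, rfl⟩ := hv; exact hall v
      | one => exact one_pow _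
      | mul a b ha hb iha ihb =>
        rw [(show Commute a b from hAcomm a ha b hb).mul_pow, iha, ihb, one_mul]
      | inv a _ iha => rw [inv_pow, iha, inv_one]
    obtain ⟨w, hw, hw1⟩ := hW1
    obtain ⟨a, ha, hae⟩ := hAroot (M - 1) (by omega) w hw
    exact hw1 (by rw [← hae, hA1 a ha])
  have hWpow : ∀ w ∈ invols P, ∀ i : ℕ, 1 ≤ i → w ^ 2 ^ i = (1 : P) := fun w hw i hi => by
    obtain ⟨i, rfl⟩ : ∃ j, i = j + 1 := ⟨i - 1, by omega⟩
    rw [pow_succ', pow_mul, pow_two, h.mem_invols.1 hw, one_pow]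
  -- an equivariant surjection to the involutions
  have surj : ∀ g : P → P, (∀ a b, g (a * b) = g a * g b) → (∀ a, g a ∈ invols P) →
      (∀ (k : Y) a, g (k • a) = k • g a) → (∃ a, g a ≠ 1) → ∀ l, ∃ a, g a = e l := by
    intro g hgmul hgW hgeq hgne l
    let g' : P →* P := MonoidHom.mk' g hgmul
    obtain ⟨a, ha⟩ := h.invols_le (S := g'.range) (fun k w hw => by
      obtain ⟨a, rfl⟩ := hw
      exact ⟨k • a, hgeq k a⟩) (fun e1 => by
        obtain ⟨a, ha⟩ := hgne
        have : g' a ∈ g'.range := ⟨a, rfl⟩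
        rw [e1, Subgroup.mem_bot] at this
        exact ha this) (hWe l)
    exact ⟨a, ha⟩
  by_cases hAZ : A ≤ Subgroup.center P
  · -- squares central: class two
    have hcW : ∀ a b : P, ⁅a, b⁆ ∈ invols P := fun a b => h.mem_invols.2 (by
      have h1 := CfsgLib.PGroup.commutatorElement_pow_left_of_central (hAZ (hcmA a b)) 2
      rw [pow_two, pow_two] at h1
      rw [← h1, commutatorElement_eq_one_iff_mul_comm]
      exact (Subgroup.mem_center_iff.1 (hAZ (hsqA a)) b).symm)
    let g : P → P := fun a => (a * a) ^ 2 ^ (M - 1)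
    have hgmul : ∀ a b, g (a * b) = g a * g b := fun a b => by
      show (a * b * (a * b)) ^ _ = _
      rw [square_mul, (show Commute (a * a) (⁅a⁻¹, b⁆ * (b * b)) from
          hAcomm _ (hsqA a) _ (A.mul_mem (hcmA _ _) (hsqA b))).mul_pow,
        (show Commute ⁅a⁻¹, b⁆ (b * b) from hAcomm _ (hcmA _ _) _ (hsqA b)).mul_pow,
        hWpow _ (hcW _ _) _ (by omega), one_mul]
    have hgW : ∀ a, g a ∈ invols P := fun a => h.mem_invols.2 (by
      show (a * a) ^ 2 ^ (M - 1) * (a * a) ^ 2 ^ (M - 1) = 1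
      rw [← pow_two, ← pow_mul, ← pow_succ, show M - 1 + 1 = M by omega, hM _ (hsqA a)])
    have hgeq : ∀ (k : Y) a, g (k • a) = k • g a := fun k a => by
      show (k • a * k • a) ^ _ = k • (a * a) ^ _
      rw [smul_pow', smul_mul']
    have hgker : ∀ a, g a = 1 → a ∈ A := by
      intro a ha
      obtain ⟨b, hb, hbe⟩ := hArt (M - 1) (by omega) (a * a) (hsqA a) ha
      rw [show M - (M - 1) = 1 by omega, pow_one, pow_two] at hbe
      have hab : Commute b⁻¹ a := (Subgroup.mem_center_iff.1 (hAZ (A.inv_mem hb)) a).symm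
      have h1 : a * b⁻¹ * (a * b⁻¹) = 1 := by
        rw [hab.mul_mul_mul_comm a b⁻¹, ← mul_inv_rev, hbe, mul_inv_cancel]
      simpa using A.mul_mem (hWA (h.mem_invols.2 h1)) hb
    choose sP hsP using surj g hgmul hgW hgeq hnk
    choose c hc using fun u v => (hW _).1 (hcW (sP u) (sP v))
    have hp : ∀ a b u v, g a = e u → g b = e v → ⁅a, b⁆ = e (c u v) := by
      intro a b u v hu hv
      have key : ∀ a u, g a = e u → ∃ r ∈ Subgroup.center P, a = sP u * r := fun a u hu =>
        ⟨(sP u)⁻¹ * a, hAZ (hgker _ (by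
          rw [hgmul, show g (sP u)⁻¹ = (g (sP u))⁻¹ from map_inv (MonoidHom.mk' g hgmul) (sP u),
            hsP, hu, inv_mul_cancel])), by group⟩
      obtain ⟨r, hr, rfl⟩ := key a u hu
      obtain ⟨r', hr', rfl⟩ := key b v hv
      have hr1 : ∀ w : P, ⁅r, w⁆ = 1 := fun w => commutatorElement_eq_one_iff_mul_comm.2
        (Subgroup.mem_center_iff.1 hr w).symm
      have hr2 : ⁅sP u, r'⁆ = 1 := commutatorElement_eq_one_iff_mul_comm.2
        (Subgroup.mem_center_iff.1 hr' (sP u))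
      rw [CfsgLib.PGroup.commutatorElement_mul_left_of_central _ _ _ (by rw [hr1]; exact one_mem _),
        hr1, mul_one,
        CfsgLib.PGroup.commutatorElement_mul_right_of_central _ _ _ (by rw [hr2]; exact one_mem _),
        hr2, mul_one, hc]
    have hz := CfsgLib.Weights.pairing_zero hS (b := c)
      (fun u u' v => he (by
        rw [hadd, hc u v, hc u' v, ← CfsgLib.PGroup.commutatorElement_mul_left_of_central _ _ _
          (hWc (hcW _ _))]
        exact (hp _ _ _ _ (by rw [hgmul, hsP, hsP, hadd]) (hsP v)).symm))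
      (fun u v v' => he (by
        rw [hadd, hc u v, hc u v', ← CfsgLib.PGroup.commutatorElement_mul_right_of_central _ _ _
          (hWc (hcW _ _))]
        exact (hp _ _ _ _ (hsP u) (by rw [hgmul, hsP, hsP, hadd])).symm))
      (fun u => he (by rw [he0, hc, commutatorElement_self]))
      (fun u v => he (by
        rw [← hact, hc u v, hcomm_smul]
        exact (hp _ _ _ _ (by rw [hgeq, hsP, hact]) (by rw [hgeq, hsP, hact])).symm))
    obtain ⟨u, hu⟩ := (hW _).1 (hgW xa)
    obtain ⟨v, hv⟩ := (hW _).1 (hgW xb)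
    refine hna (commutatorElement_eq_one_iff_mul_comm.1 ?_)
    rw [hp xa xb u v hu.symm hv.symm, hz, he0]
  -- the centralizer of `A`
  let C := Subgroup.centralizer (A : Set P)
  have hAC : A ≤ C := fun a ha => Subgroup.mem_centralizer_iff.2 fun b hb => hAcomm b hb a ha
  have hCinv : ∀ k : Y, ∀ z ∈ C, k • z ∈ C := fun k z hz => Subgroup.mem_centralizer_iff.2 fun x hx => by
    calc x * k • z = k • (k⁻¹ • x * z) := by rw [smul_mul', smul_inv_smul]
      _ = k • (z * k⁻¹ • x) := by rw [Subgroup.mem_centralizer_iff.1 hz _ (hAinv k⁻¹ x hx)]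
      _ = _ := by rw [smul_mul', smul_inv_smul]
  have hCtop : C ≠ ⊤ := fun e1 => hAZ fun a ha => Subgroup.mem_center_iff.2 fun g =>
    (Subgroup.mem_centralizer_iff.1 (e1 ▸ Subgroup.mem_top g : g ∈ C) a ha).symm
  have hCcomm : ∀ a ∈ C, ∀ b ∈ C, a * b = b * a := by
    by_contra hc
    push Not at hc
    obtain ⟨a, ha, b, hb, hab⟩ := hc
    exact hx0 (h.mem_invols.2 (ih C hCinv hCtop (hWA.trans hAC) ⟨a, ha, b, hb, hab⟩ _ (hAC (hsqA x0))
      fun w hw => (Subgroup.mem_centralizer_iff.1 hw _ (hsqA x0)).symm))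
  have hself : ∀ z, (∀ x ∈ C, x * z = z * x) → z ∈ C := fun z hz =>
    Subgroup.mem_centralizer_iff.2 fun x hx => hz x (hAC hx)
  obtain ⟨N, hN, hCroot⟩ := h.exists_exponent (A := C) hCinv
  have hCrt := h.exists_root (A := C) hCcomm hCroot
  have hN2 : 2 ≤ N := by
    by_contra hlt
    obtain ⟨d', hd'⟩ := Nat.exists_eq_add_of_le (show N ≤ 1 by omega)
    have := congrArg (· ^ 2 ^ d') (hN _ (hAC (hsqA x0)))
    simp only [one_pow, ← pow_mul, ← pow_add, ← hd', pow_one] at this
    exact hx0 (h.mem_invols.2 (by rwa [pow_two] at this))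
  have hCn : ∀ g : P, ∀ x ∈ C, g * x * g⁻¹ ∈ C := fun g x hx => by
    rw [show g * x * g⁻¹ = ⁅g, x⁆ * x by rw [commutatorElement_def]; group]
    exact C.mul_mem (hAC (hcmA g x)) hx
  have hDC : ∀ (z : P) {x : P}, x ∈ C → ⁅z, x⁆ ∈ C := fun z x _ => hAC (hcmA z x)
  have hDmul : ∀ (z : P) {a b : P}, a ∈ C → b ∈ C → ⁅z, a * b⁆ = ⁅z, a⁆ * ⁅z, b⁆ := fun z a b ha hb => by
    calc ⁅z, a * b⁆ = ⁅z, a⁆ * (a * ⁅z, b⁆ * a⁻¹) := by simp only [commutatorElement_def]; group
      _ = _ := by rw [hCcomm _ ha _ (hDC z hb), mul_inv_cancel_right]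
  have hDpow : ∀ (z : P) {a : P}, a ∈ C → ∀ i : ℕ, ⁅z, a ^ i⁆ = ⁅z, a⁆ ^ i := by
    intro z a ha i
    induction i with
    | zero => simp
    | succ i ih => rw [pow_succ, hDmul z (C.pow_mem ha i) ha, ih, pow_succ]
  have hDW : ∀ (z : P) {w : P}, w ∈ invols P → ⁅z, w⁆ = 1 := fun z w hw =>
    commutatorElement_eq_one_iff_mul_comm.2 (h.central hw z).eq
  have hdd : ∀ (z : P) {x : P}, x ∈ C → ⁅z, ⁅z, x⁆⁆ * (⁅z, x⁆ * ⁅z, x⁆) = 1 := by
    intro z x hx
    have h1 : z * z * x * (z * z)⁻¹ = x := by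
      rw [hCcomm _ (hAC (hsqA z)) x hx, mul_inv_cancel_right]
    calc ⁅z, ⁅z, x⁆⁆ * (⁅z, x⁆ * ⁅z, x⁆) = z * z * x * (z * z)⁻¹ * x⁻¹ := by
          simp only [commutatorElement_def]; group
      _ = 1 := by rw [h1, mul_inv_cancel]
  have hCA : ∀ i ≤ M, ∀ x ∈ C, x ^ 2 ^ i = 1 → x ∈ A := by
    intro i
    induction i with
    | zero => intro _ x _ hx; rw [pow_zero, pow_one] at hx; rw [hx]; exact A.one_mem
    | succ i ihi =>
      intro hi x hx hxi
      obtain ⟨a, ha, hae⟩ := hAroot i (by omega) (x ^ 2 ^ i) (h.mem_invols.2 (by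
        rw [← pow_two, ← pow_mul, ← pow_succ, hxi]))
      have h1 := ihi (by omega) (x * a⁻¹) (C.mul_mem hx (C.inv_mem (hAC ha))) (by
        rw [(show Commute x a⁻¹ from hCcomm x hx _ (C.inv_mem (hAC ha))).mul_pow, inv_pow, hae,
          mul_inv_cancel])
      simpa using A.mul_mem h1 ha
  -- the displacement on the involutions
  have hsqC : ∀ l, ∃ x ∈ C, x * x = e l := fun l => by
    obtain ⟨x, hx, hxe⟩ := hCroot 1 (by omega) _ (hWe l)
    exact ⟨x, hx, by rwa [pow_one, pow_two] at hxe⟩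
  choose sC hsC hsCe using hsqC
  have hDsW : ∀ z l, ⁅z, sC l⁆ ∈ invols P := fun z l => h.mem_invols.2 (by
    rw [← hDmul z (hsC l) (hsC l), hsCe, hDW z (hWe l)])
  choose ec hec using fun z l => (hW _).1 (hDsW z l)
  have hcW4 : ∀ z, ∀ x ∈ C, ∀ l, x * x = e l → ⁅z, x⁆ = e (ec z l) := by
    intro z x hx l hl
    have hw : (sC l)⁻¹ * x ∈ invols P := h.mem_invols.2 (by
      rw [(show Commute x (sC l)⁻¹ from hCcomm _ hx _ (C.inv_mem (hsC l))).mul_mul_mul_comm,
        ← mul_inv_rev, hsCe, hl, inv_mul_cancel])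
    rw [show x = sC l * ((sC l)⁻¹ * x) by group, hDmul z (hsC l) (hWA.trans hAC hw), hDW z hw, mul_one, hec]
  let ε : P → AddMonoid.End L := fun z => AddMonoidHom.mk' (ec z) fun a b => he (by
    rw [← hcW4 z _ (C.mul_mem (hsC a) (hsC b)) (a + b) (by
        rw [(show Commute (sC b) (sC a) from hCcomm _ (hsC b) _ (hsC a)).mul_mul_mul_comm, hsCe, hsCe, hadd]),
      hDmul z (hsC a) (hsC b), hadd, hec, hec])
  have hεmul : ∀ a b, ε (a * b) = ε a + ε b := fun a b => DFunLike.ext _ _ fun l => he (by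
    show e (ec (a * b) l) = e (ec a l + ec b l)
    rw [hadd, hec, hec, hec,
      show ⁅a * b, sC l⁆ = a * ⁅b, sC l⁆ * a⁻¹ * ⁅a, sC l⁆ by simp only [commutatorElement_def]; group,
      (h.central (hDsW b l) a).eq, mul_inv_cancel_right]
    exact (h.central (hDsW b l) _).eq.symm)
  have hε0 : ∀ z, ε z = 0 → ∀ x ∈ C, x ^ 4 = 1 → ⁅z, x⁆ = 1 := by
    intro z hz x hx hx4
    obtain ⟨l, hl⟩ := (hW _).1 (h.mem_invols.2 (show x * x * (x * x) = 1 by
      rw [← hx4]; simp only [pow_succ, pow_zero, one_mul, mul_assoc]))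
    rw [hcW4 z x hx l hl.symm, show ec z l = 0 from DFunLike.congr_fun hz l, he0]
  -- the action of an operator on the coordinates
  choose π0 hπ0 using fun (a : Y) (l : L) => (hW _).1 (h.smul_mem_invols a (hWe l))
  let π : Y → (L ≃+ L) := fun a =>
    { toFun := π0 a
      invFun := π0 a⁻¹
      left_inv := fun l => he (by rw [hπ0, hπ0, inv_smul_smul])
      right_inv := fun l => he (by rw [hπ0, hπ0, smul_inv_smul])
      map_add' := fun u v => he (by rw [hπ0, hadd, hadd, smul_mul', hπ0, hπ0]) }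
  have hεk : ∀ (a : Y) z l, ε (a • z) (π0 a l) = π0 a (ε z l) := fun a z l => he (by
    show e (ec (a • z) (π0 a l)) = e (π0 a (ec z l))
    rw [hπ0, hec z l, hcomm_smul, hcW4 (a • z) _ (hCinv a _ (hsC l)) (π0 a l)
      (by rw [hπ0, ← smul_mul', hsCe])])
  have hπy : ∀ l, π0 y l = t * l := fun l => he (by rw [hπ0, hact])
  rcases Nat.lt_or_ge 2 N with hN3 | hN3
  · -- large exponent
    have hidem : ∀ z, ε z * ε z = ε z := by
      intro z
      refine DFunLike.ext _ _ fun u => he ?_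
      show e (ec z (ec z u)) = e (ec z u)
      obtain ⟨x, hx, hxe⟩ := hCroot (N - 1) (by omega) _ (hWe u)
      have hsq' : ∀ w : P, w ^ 2 ^ (N - 2) * w ^ 2 ^ (N - 2) = w ^ 2 ^ (N - 1) := fun w => by
        rw [← pow_two, ← pow_mul, ← pow_succ, show N - 2 + 1 = N - 1 by omega]
      obtain ⟨v, hv, hve⟩ := hCrt (N - 1) (by omega) ⁅z, x⁆ (hDC z hx) (by
        rw [← hDpow z hx, hxe, hDW z (hWe u)])
      rw [show N - (N - 1) = 1 by omega, pow_one] at hve
      have e1 : v ^ 2 ^ (N - 1) = e (ec z u) := by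
        rw [← hcW4 z _ (C.pow_mem hx _) u (by rw [hsq', hxe]), hDpow z hx, ← hve, ← pow_mul, ← pow_succ',
          show N - 2 + 1 = N - 1 by omega]
      have hdd' : ⁅z, v⁆ ^ 2 * (v ^ 2 * v ^ 2) = 1 := by
        rw [← hDpow z hv, hve]; exact hdd z hx
      have hw : ⁅z, v⁆ * v ^ 2 ∈ invols P := h.mem_invols.2 (by
        rw [(show Commute (v ^ 2) ⁅z, v⁆ from hCcomm _ (C.pow_mem hv 2) _ (hDC z hv)).mul_mul_mul_comm,
          ← pow_two, hdd'])
      have h3 := hWpow _ hw (N - 2) (by omega)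
      rw [(show Commute ⁅z, v⁆ (v ^ 2) from hCcomm _ (hDC z hv) _ (C.pow_mem hv 2)).mul_pow, ← pow_mul,
        ← pow_succ', show N - 2 + 1 = N - 1 by omega, e1, ← hDpow z hv,
        hcW4 z _ (C.pow_mem hv _) (ec z u) (by rw [hsq', e1]), ← hadd] at h3
      rw [← he0] at h3
      have h4 := he h3
      congr 1
      calc ec z (ec z u) = ec z (ec z u) + (ec z u + ec z u) := by rw [h2, add_zero]
        _ = ec z u := by rw [← add_assoc, h4, zero_add]
    have htriv := idempotent_trivial h2 (Set.range ε)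
      (by rintro _ ⟨z, rfl⟩; exact hidem z)
      (by rintro _ ⟨a, rfl⟩ _ ⟨b, rfl⟩; exact ⟨a * b, hεmul a b⟩)
      (fun u w hu hw => by
        obtain ⟨a, ha⟩ := h.trans (e u) (e w) (fun e1 => hu (he (e1.trans he0.symm)))
          (h.mem_invols.1 (hWe u)) (fun e1 => hw (he (e1.trans he0.symm))) (h.mem_invols.1 (hWe w))
        refine ⟨π a, he (by show e (π0 a u) = e w; rw [hπ0, ha]), ?_⟩
        rintro _ ⟨z, rfl⟩
        exact ⟨ε (a • z), ⟨_, rfl⟩, fun l => hεk a z l⟩)
    have hεone : ε 1 = 0 := by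
      have := hεmul 1 1
      rw [one_mul] at this
      exact left_eq_add.1 this
    have hεzero : ∀ z, ε z = 0 := by
      let Z0 : Subgroup P :=
        { carrier := {z | ε z = 0}
          one_mem' := hεone
          mul_mem' := fun {a b} ha hb => by
            show ε (a * b) = 0
            rw [hεmul, show ε a = 0 from ha, show ε b = 0 from hb, add_zero]
          inv_mem' := fun {a} ha => by
            show ε a⁻¹ = 0
            have := hεmul a⁻¹ a
            rw [inv_mul_cancel, hεone, show ε a = 0 from ha, add_zero] at this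
            exact this.symm }
      have hZinv : ∀ k : Y, ∀ z ∈ Z0, k • z ∈ Z0 := fun k z hz => DFunLike.ext _ _ fun l => by
        obtain ⟨l', rfl⟩ : ∃ l', π0 k l' = l := ⟨(π k).symm l, (π k).apply_symm_apply l⟩
        rw [hεk, show ε z = 0 from hz]
        exact map_zero (π k)
      intro z
      by_contra hz
      refine hz (h.mem_of_smul_coset he hadd hW hact hodd ht0 hZinv (j := 1)
        (fun hd => by have := hS.lt_ord; have := Nat.le_of_dvd one_pos hd; have := hS.two_le; omega) ?_)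
      show ε (z⁻¹ * y ^ 1 • z) = 0
      have h1 : ε z = 1 := (htriv _ ⟨z, rfl⟩).resolve_left hz
      have h3 : ε (y ^ 1 • z) = 1 := by
        refine (htriv _ ⟨_, rfl⟩).resolve_left fun h0 => hz (DFunLike.ext _ _ fun l => ?_)
        have h5 := hεk y z l
        rw [pow_one] at h0
        rw [h0] at h5
        exact (π y).injective (h5.symm.trans (map_zero (π y)).symm)
      have h6 : ε z⁻¹ = ε z := by
        have := hεmul z⁻¹ z
        rw [inv_mul_cancel, hεone] at this
        have h7 : ∀ r : AddMonoid.End L, r + r = 0 := fun r => DFunLike.ext _ _ fun l => h2 _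
        calc ε z⁻¹ = ε z⁻¹ + (ε z + ε z) := by rw [h7, add_zero]
          _ = ε z := by rw [← add_assoc, ← this, zero_add]
      rw [hεmul, h6, h1, h3]
      exact DFunLike.ext _ _ fun l => h2 _
    have hDinv : ∀ z : P, ∀ x ∈ C, ⁅z, x⁆ ∈ invols P := by
      intro z
      suffices hs : ∀ i, ∀ x ∈ C, x ^ 2 ^ i = 1 → ⁅z, x⁆ ∈ invols P from fun x hx => hs N x hx (hN x hx)
      intro i
      induction i with
      | zero => intro x _ hx; rw [pow_zero, pow_one] at hx; rw [hx, commutatorElement_one_right]; exact one_mem _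
      | succ i ihi =>
        intro x hx hxi
        have h1 := ihi (x * x) (C.mul_mem hx hx) (by rw [← pow_two, ← pow_mul, ← pow_succ', hxi])
        rw [hDmul z hx hx] at h1
        have h4 : ⁅z, x⁆ ^ 4 = 1 := by
          rw [← h.mem_invols.1 h1]; simp only [pow_succ, pow_zero, one_mul, mul_assoc]
        have h5 := hdd z hx
        rw [hε0 z (hεzero z) _ (hDC z hx) h4, one_mul] at h5
        exact h.mem_invols.2 h5
    have hCleA : C ≤ A := by
      rcases Nat.lt_or_ge M N with hMN | hMN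
      · exfalso
        refine hCtop (eq_top_iff.2 fun z _ => Subgroup.mem_centralizer_iff.2 fun a ha => ?_)
        obtain ⟨b, hb, hbe⟩ := hCrt M hMN.le a (hAC ha) (hM a ha)
        obtain ⟨i, hi⟩ : ∃ i, N - M = i + 1 := ⟨N - M - 1, by omega⟩
        refine (commutatorElement_eq_one_iff_mul_comm.1 ?_).symm
        rw [← hbe, hDpow z hb]
        exact hWpow _ (hDinv z b hb) _ (by omega)
      · intro x hx
        refine hCA M le_rfl x hx ?_
        obtain ⟨i, hi⟩ := Nat.exists_eq_add_of_le hMN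
        rw [hi, pow_add, pow_mul, hN x hx, one_pow]
    have hc4 : ∀ a b : P, ⁅a, b⁆ ^ 4 = 1 := by
      intro a b
      have e1 : ⁅a * a, b⁆ = ⁅a, ⁅a, b⁆⁆ * (⁅a, b⁆ * ⁅a, b⁆) := by simp only [commutatorElement_def]; group
      have e2 : ⁅a * a, b⁆ ∈ invols P := by
        rw [← commutatorElement_inv]; exact inv_mem (hDinv b _ (hAC (hsqA a)))
      have e3 : ⁅a, b⁆ * ⁅a, b⁆ ∈ invols P := by
        have := (invols P).mul_mem ((invols P).inv_mem (hDinv a _ (hAC (hcmA a b)))) e2
        rwa [e1, inv_mul_cancel_left] at this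
      rw [← h.mem_invols.1 e3]; simp only [pow_succ, pow_zero, one_mul, mul_assoc]
    let q : P → P := fun a => (a * a) ^ 2 ^ (N - 1)
    have hqmul : ∀ a b, q (a * b) = q a * q b := fun a b => by
      show (a * b * (a * b)) ^ 2 ^ (N - 1) = (a * a) ^ 2 ^ (N - 1) * (b * b) ^ 2 ^ (N - 1)
      rw [square_mul, (show Commute (a * a) (⁅a⁻¹, b⁆ * (b * b)) from
          hAcomm _ (hsqA a) _ (A.mul_mem (hcmA _ _) (hsqA b))).mul_pow,
        (show Commute ⁅a⁻¹, b⁆ (b * b) from hAcomm _ (hcmA _ _) _ (hsqA b)).mul_pow,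
        show N - 1 = 2 + (N - 3) by omega, pow_add, pow_mul ⁅a⁻¹, b⁆,
        show (2 : ℕ) ^ 2 = 4 by norm_num, hc4, one_pow, one_mul]
    have hqW : ∀ a, q a ∈ invols P := fun a => h.mem_invols.2 (by
      show (a * a) ^ 2 ^ (N - 1) * (a * a) ^ 2 ^ (N - 1) = 1
      rw [← pow_two, ← pow_mul, ← pow_succ, show N - 1 + 1 = N by omega, hN _ (hAC (hsqA a))])
    have hqeq : ∀ (k : Y) a, q (k • a) = k • q a := fun k a => by
      show (k • a * k • a) ^ _ = k • (a * a) ^ _
      rw [smul_pow', smul_mul']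
    have hqne : ∃ a, q a ≠ 1 := by
      have hMN : N ≤ M := by
        by_contra hlt
        obtain ⟨w, hw, hw1⟩ := hW1
        obtain ⟨a, ha, hae⟩ := hCroot M (by omega) w hw
        exact hw1 (by rw [← hae, hM a (hCleA ha)])
      have hNM : M ≤ N := by
        by_contra hlt
        obtain ⟨w, hw, hw1⟩ := hW1
        obtain ⟨a, ha, hae⟩ := hAroot N (by omega) w hw
        exact hw1 (by rw [← hae, hN a (hAC ha)])
      rw [show M = N by omega] at hnk
      exact hnk
    choose sP hsP using surj q hqmul hqW hqeq hqne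
    choose r hr hre using fun l => hCroot (N - 1) (by omega) _ (hWe l)
    choose δ hδ using fun z l => (hW _).1 (hDinv z _ (hr l))
    have hδx : ∀ z, ∀ x ∈ C, ∀ l, x ^ 2 ^ (N - 1) = e l → ⁅z, x⁆ = e (δ z l) := by
      intro z x hx l hl
      obtain ⟨b, hb, hbe⟩ := hCrt (N - 1) (by omega) ((r l)⁻¹ * x) (C.mul_mem (C.inv_mem (hr l)) hx) (by
        rw [(show Commute (r l)⁻¹ x from hCcomm _ (C.inv_mem (hr l)) _ hx).mul_pow, inv_pow, hre, hl,
          inv_mul_cancel])
      rw [show N - (N - 1) = 1 by omega, pow_one] at hbe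
      rw [show x = r l * ((r l)⁻¹ * x) by group, hDmul z (hr l) (C.mul_mem (C.inv_mem (hr l)) hx), ← hbe,
        hDpow z hb, pow_two, h.mem_invols.1 (hDinv z b hb), mul_one, hδ]
    have hδmul : ∀ a b l, δ (a * b) l = δ a l + δ b l := fun a b l => he (by
      rw [hadd, hδ, hδ, hδ,
        show ⁅a * b, r l⁆ = a * ⁅b, r l⁆ * a⁻¹ * ⁅a, r l⁆ by simp only [commutatorElement_def]; group,
        (h.central (hDinv b _ (hr l)) a).eq, mul_inv_cancel_right]
      exact (h.central (hDinv b _ (hr l)) _).eq.symm)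
    choose qc hqc using fun a => (hW _).1 (hqW a)
    have hself0 : ∀ z, δ z (qc z) = 0 := fun z => he (by
      have h1 := hδx z (z * z) (hAC (hsqA z)) (qc z) (hqc z).symm
      rw [commutatorElement_eq_one_iff_mul_comm.2 (by group)] at h1
      rw [he0, ← h1])
    have hker : ∀ w, q w = 1 → w ∈ C := by
      intro w hw
      refine hself w fun x hx => ?_
      obtain ⟨l, hl⟩ := (hW _).1 (h.mem_invols.2 (show x ^ 2 ^ (N - 1) * x ^ 2 ^ (N - 1) = 1 by
        rw [← pow_two, ← pow_mul, ← pow_succ, show N - 1 + 1 = N by omega, hN x hx]))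
      obtain ⟨z, hz⟩ : ∃ z, qc z = l := ⟨sP l, he ((hqc _).trans (hsP l))⟩
      have h1 := hself0 (z * w)
      have h3 : qc (z * w) = qc z := he (by rw [hqc, hqc, hqmul, hw, mul_one])
      rw [h3, hδmul, hself0, zero_add, hz] at h1
      exact (commutatorElement_eq_one_iff_mul_comm.1 (by rw [hδx w x hx l hl.symm, h1, he0])).symm
    have hp : ∀ a u l, q a = e u → δ a l = δ (sP u) l := by
      intro a u l hu
      have hm : (sP u)⁻¹ * a ∈ C := hker _ (by
        rw [hqmul, show q (sP u)⁻¹ = (q (sP u))⁻¹ from map_inv (MonoidHom.mk' q hqmul) (sP u), hsP, hu,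
          inv_mul_cancel])
      have h0 : δ ((sP u)⁻¹ * a) l = 0 := he (by
        rw [he0, hδ, commutatorElement_eq_one_iff_mul_comm]
        exact hCcomm _ hm _ (hr l))
      have := hδmul (sP u) ((sP u)⁻¹ * a) l
      rwa [mul_inv_cancel_left, h0, add_zero] at this
    have hz := CfsgLib.Weights.pairing_zero hS (b := fun u v => δ (sP u) v)
      (fun u u' v => by
        show δ (sP (u + u')) v = _
        rw [← hp (sP u * sP u') (u + u') v (by rw [hqmul, hsP, hsP, hadd]), hδmul])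
      (fun u v v' => he (by
        rw [hadd, hδ _ v, hδ _ v', ← hDmul _ (hr v) (hr v')]
        exact (hδx _ _ (C.mul_mem (hr v) (hr v')) _ (by
          rw [(show Commute (r v) (r v') from hCcomm _ (hr v) _ (hr v')).mul_pow, hre, hre, hadd])).symm))
      (fun u => by
        show δ (sP u) u = 0
        have := hself0 (sP u)
        rwa [show qc (sP u) = u from he ((hqc _).trans (hsP u))] at this)
      (fun u v => he (by
        show e (δ (sP (t * u)) (t * v)) = e (t * δ (sP u) v)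
        rw [← hp (y • sP u) (t * u) (t * v) (by rw [hqeq, hsP, hact]), ← hact, hδ _ v, hcomm_smul]
        exact (hδx _ _ (hCinv y _ (hr v)) _ (by rw [← smul_pow', hre, hact])).symm))
    refine hCtop (eq_top_iff.2 fun z _ => hself z fun x hx => ?_)
    obtain ⟨l, hl⟩ := (hW _).1 (h.mem_invols.2 (show x ^ 2 ^ (N - 1) * x ^ 2 ^ (N - 1) = 1 by
      rw [← pow_two, ← pow_mul, ← pow_succ, show N - 1 + 1 = N by omega, hN x hx]))
    refine (commutatorElement_eq_one_iff_mul_comm.1 ?_).symm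
    rw [hδx z x hx l hl.symm, hp z (qc z) l (hqc z).symm, hz, he0]
  -- exponent four
  have hN4 : ∀ x ∈ C, x ^ 4 = 1 := fun x hx => by
    obtain ⟨d', hd'⟩ := Nat.exists_eq_add_of_le (show N ≤ 2 by omega)
    calc x ^ 4 = (x ^ 2 ^ N) ^ 2 ^ d' := by rw [← pow_mul, ← pow_add, ← hd']; norm_num
      _ = 1 := by rw [hN x hx, one_pow]
  have hεker : ∀ z, ε z = 0 → z ∈ C := fun z hz => hself z fun x hx =>
    (commutatorElement_eq_one_iff_mul_comm.1 (hε0 z hz x hx (hN4 x hx))).symm
  have hεC : ∀ z ∈ C, ε z = 0 := fun z hz => DFunLike.ext _ _ fun l => he (by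
    show e (ec z l) = e 0
    rw [he0, hec, commutatorElement_eq_one_iff_mul_comm]
    exact hCcomm z hz _ (hsC l))
  have hsqW : ∀ x ∈ C, x * x ∈ invols P := fun x hx => h.mem_invols.2 (by
    rw [← hN4 x hx]; simp only [pow_succ, pow_zero, one_mul, mul_assoc])
  choose q hq using fun a : P => (hW _).1 (hsqW _ (hAC (hsqA a)))
  choose bb hbb using fun (a b : P) => (hW _).1 (hsqW _ (hAC (hcmA a b)))
  have hbx : ∀ (x w : P), x ∈ C → ⁅w, x⁆ ∈ invols P := fun x w hx => by
    obtain ⟨l, hl⟩ := (hW _).1 (hsqW x hx)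
    rw [hcW4 w x hx l hl.symm]; exact hWe _
  have hkey : ∀ a b : P, ε b (q a) = bb a b + ε a (bb a b) := fun a b => he (by
    show e (ec b (q a)) = e (bb a b + ec a (bb a b))
    rw [hadd, ← hcW4 b _ (hAC (hsqA a)) _ (hq a).symm, hbb,
      ← hcW4 a _ (hAC (hcmA a b)) _ (hbb a b).symm,
      ← commutatorElement_inv, inv_eq_of_mul_eq_one_right (h.mem_invols.1 (by
        rw [← commutatorElement_inv]; exact inv_mem (hbx _ b (hAC (hsqA a)))))]
    have h1 : ⁅a * a, b⁆ = ⁅a, ⁅a, b⁆⁆ * (⁅a, b⁆ * ⁅a, b⁆) := by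
      simp only [commutatorElement_def]; group
    rw [h1]
    exact ((h.central (hbx _ a (hAC (hcmA a b)))) _).eq.symm)
  have hconjsq : ∀ g : P, ∀ x ∈ C, g * x * g⁻¹ * (g * x * g⁻¹) = x * x := fun g x hx => by
    calc g * x * g⁻¹ * (g * x * g⁻¹) = g * (x * x) * g⁻¹ := by group
      _ = x * x := by rw [(h.central (hsqW x hx) g).eq, mul_inv_cancel_right]
  have hCmulsq : ∀ a ∈ C, ∀ b ∈ C, a * b * (a * b) = a * a * (b * b) := fun a ha b hb =>
    (show Commute b a from hCcomm b hb a ha).mul_mul_mul_comm a b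
  have hbbl : ∀ a a' b, bb (a * a') b = bb a b + bb a' b := fun a a' b => he (by
    rw [hadd, hbb, hbb, hbb, show ⁅a * a', b⁆ = a * ⁅a', b⁆ * a⁻¹ * ⁅a, b⁆ by
      simp only [commutatorElement_def]; group, hCmulsq _ (hCn a _ (hAC (hcmA a' b))) _ (hAC (hcmA a b)),
      hconjsq a _ (hAC (hcmA a' b))]
    exact ((h.central (hsqW _ (hAC (hcmA a b)))) _).eq)
  have hbbr : ∀ a b b', bb a (b * b') = bb a b + bb a b' := fun a b b' => he (by
    rw [hadd, hbb, hbb, hbb, show ⁅a, b * b'⁆ = ⁅a, b⁆ * (b * ⁅a, b'⁆ * b⁻¹) by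
      simp only [commutatorElement_def]; group, hCmulsq _ (hAC (hcmA a b)) _ (hCn b _ (hAC (hcmA a b'))),
      hconjsq b _ (hAC (hcmA a b'))])
  have hbbself : ∀ a, bb a a = 0 := fun a => he (by
    rw [hbb, he0, commutatorElement_self, one_mul])
  have hbb1 : ∀ b, bb 1 b = 0 := fun b => he (by
    rw [hbb, he0, commutatorElement_one_left, one_mul])
  have hbbinv : ∀ a b, bb a⁻¹ b = bb a b := fun a b => by
    have := hbbl a⁻¹ a b
    rw [inv_mul_cancel, hbb1] at this
    calc bb a⁻¹ b = bb a⁻¹ b + (bb a b + bb a b) := by rw [h2, add_zero]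
      _ = bb a b := by rw [← add_assoc, ← this, zero_add]
  have hqmul : ∀ a b, q (a * b) = q a + q b + bb a b := fun a b => he (by
    rw [hadd, hadd, hq, hq, hq, ← hbbinv a b, hbb, square_mul a b,
      hCmulsq _ (hAC (hsqA a)) _ (C.mul_mem (hAC (hcmA _ _)) (hAC (hsqA b))),
      hCmulsq _ (hAC (hcmA _ _)) _ (hAC (hsqA b))]
    rw [(h.central (hsqW _ (hAC (hsqA b))) (⁅a⁻¹, b⁆ * ⁅a⁻¹, b⁆)).eq]
    simp only [mul_assoc])
  have hbbC : ∀ c ∈ C, ∀ b, bb b c = 0 := fun c hc b => he (by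
    rw [hbb, he0, h.mem_invols.1 (hbx c b hc)])
  have hqC : ∀ c ∈ C, q c = 0 := fun c hc => he (by
    rw [hq, he0, ← hN4 c hc]; simp only [pow_succ, pow_zero, one_mul, mul_assoc])
  -- the space `E = ε(P)`
  let E : AddSubgroup (AddMonoid.End L) :=
    { carrier := Set.range ε
      zero_mem' := ⟨1, hεC 1 (one_mem C)⟩
      add_mem' := by rintro _ _ ⟨a, rfl⟩ ⟨b, rfl⟩; exact ⟨a * b, hεmul a b⟩
      neg_mem' := by
        rintro _ ⟨a, rfl⟩
        exact ⟨a, DFunLike.ext _ _ fun l => (neg_eq_of_add_eq_zero_left (h2 (ε a l))).symm⟩ }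
  choose sE hsE using fun φ : E => φ.2
  have hεinj : ∀ a b, ε a = ε b → ∃ c ∈ C, b = a * c := by
    intro a b hab
    refine ⟨a⁻¹ * b, hεker _ ?_, by group⟩
    have := hεmul a (a⁻¹ * b)
    rw [mul_inv_cancel_left, ← hab] at this
    exact left_eq_add.1 this
  have hqwd : ∀ a (φ : E), ε a = (φ : AddMonoid.End L) → q (sE φ) = q a := by
    intro a φ hφ
    obtain ⟨c, hc, e1⟩ := hεinj a (sE φ) (hφ.trans (hsE φ).symm)
    rw [e1, hqmul, hqC c hc, hbbC c hc, add_zero, add_zero]
  have hbbwd : ∀ a b (φ ψ : E), ε a = (φ : AddMonoid.End L) → ε b = (ψ : AddMonoid.End L) →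
      bb (sE φ) (sE ψ) = bb a b := by
    intro a b φ ψ hφ hψ
    obtain ⟨c, hc, e1⟩ := hεinj a (sE φ) (hφ.trans (hsE φ).symm)
    obtain ⟨c', hc', e2⟩ := hεinj b (sE ψ) (hψ.trans (hsE ψ).symm)
    have hsy : ∀ w, bb c w = 0 := fun w => he (by
      rw [hbb, he0]
      refine h.mem_invols.1 ?_
      rw [← commutatorElement_inv]; exact inv_mem (hbx c w hc))
    rw [e1, e2, hbbl, hbbr, hbbr, hbbC c' hc', hbbC c' hc', hsy]
    simp
  have hπinv : ∀ l, π0 y⁻¹ l = t⁻¹ * l := fun l => he (by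
    rw [hπ0]
    refine inv_smul_eq_iff.mpr ?_
    rw [hact, ← mul_assoc, mul_inv_cancel₀ ht0, one_mul])
  let conjT : AddMonoid.End L →+ AddMonoid.End L :=
    AddMonoidHom.mk' (fun φ => (AddMonoidHom.mulLeft t).comp (φ.comp (AddMonoidHom.mulLeft t⁻¹)))
      fun φ ψ => DFunLike.ext _ _ fun l => mul_add t (φ (t⁻¹ * l)) (ψ (t⁻¹ * l))
  have hgv : ∀ φ l, (conjT φ : AddMonoid.End L) l = t * φ (t⁻¹ * l) := fun φ l => rfl
  have hgε : ∀ a, conjT (ε a) = ε (y • a) := fun a => DFunLike.ext _ _ fun l => by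
    rw [hgv, ← hπy (ε a (t⁻¹ * l)), ← hεk, hπy, ← mul_assoc, mul_inv_cancel₀ ht0, one_mul]
  let g : E →+ E := (conjT.comp E.subtype).codRestrict E fun φ => by
    obtain ⟨a, ha⟩ := φ.2
    exact ⟨y • a, by rw [← hgε, ha]; rfl⟩
  have hgit : ∀ (j : ℕ) (φ : E), ((g^[j] φ : E) : AddMonoid.End L) = ε (y ^ j • sE φ) := by
    intro j
    induction j with
    | zero => intro φ; simp [hsE]
    | succ j ih =>
      intro φ
      rw [Function.iterate_succ_apply']
      show conjT ((g^[j] φ : E) : AddMonoid.End L) = _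
      rw [ih, hgε, pow_succ', mul_smul]
  have hgitv : ∀ (j : ℕ) (φ : E) l,
      ((g^[j] φ : E) : AddMonoid.End L) l = t ^ j * (φ : AddMonoid.End L) (t⁻¹ ^ j * l) := by
    intro j
    induction j with
    | zero => intro φ l; simp
    | succ j ih =>
      intro φ l
      rw [Function.iterate_succ_apply']
      show (conjT ((g^[j] φ : E) : AddMonoid.End L)) l = _
      rw [hgv, ih, ← mul_assoc, ← mul_assoc, ← pow_succ', ← pow_succ]
  have hgN : ∀ φ : E, g^[orderOf t] φ = φ := fun φ => Subtype.ext (DFunLike.ext _ _ fun l => by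
    rw [hgitv, pow_orderOf_eq_one, inv_pow, pow_orderOf_eq_one, inv_one, one_mul, one_mul])
  have hfree : ∀ j, ¬ orderOf t ∣ j → ∀ φ : E, g^[j] φ = φ → φ = 0 := by
    intro j hj φ hφ
    refine Subtype.ext ?_
    rw [← hsE φ]
    refine hεC _ (h.mem_of_smul_coset he hadd hW hact hodd ht0 hCinv hj ?_)
    have h1 : ε (y ^ j • sE φ) = ε (sE φ) := by rw [← hgit, hφ, hsE]
    obtain ⟨c, hc, e1⟩ := hεinj (sE φ) (y ^ j • sE φ) h1.symm
    rw [e1, inv_mul_cancel_left]
    exact hc
  -- coordinates of `ε`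
  choose coef hcoef using fun φ : E => hS.expansion (φ : AddMonoid.End L)
  have huniq : ∀ a b : Fin n → L, (∀ l, ∑ i, a i * l ^ 2 ^ (i : ℕ) = ∑ i, b i * l ^ 2 ^ (i : ℕ)) → a = b := by
    intro a b hab
    let mo : Fin n → (L →* L) := fun i => powMonoidHom (2 ^ (i : ℕ))
    have hmo : Function.Injective mo := fun i j e1 => by
      have := hS.pow_inj_iff.mp (DFunLike.congr_fun e1 t)
      rw [Nat.mod_eq_of_lt i.2, Nat.mod_eq_of_lt j.2] at this
      exact Fin.ext this
    funext i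
    have := Fintype.linearIndependent_iff.1 ((linearIndependent_monoidHom L L).comp mo hmo) (a - b) (funext fun l => by
      simp [mo, sub_mul, Finset.sum_sub_distrib, hab l]) i
    exact sub_eq_zero.mp this
  let α : Fin n → (E →+ L) := fun k => AddMonoidHom.mk' (fun φ => coef φ k) fun φ ψ => by
    refine congrFun (huniq (coef (φ + ψ)) (coef φ + coef ψ) fun l => ?_) k
    rw [← hcoef]
    simp only [Pi.add_apply, add_mul, Finset.sum_add_distrib, ← hcoef]
    rfl
  have hαv : ∀ (φ : E) l, (φ : AddMonoid.End L) l = ∑ k, α k φ * l ^ 2 ^ (k : ℕ) := fun φ l => hcoef φ l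
  have hαg : ∀ k φ, α k (g φ) = t * (t ^ 2 ^ (k : ℕ))⁻¹ * α k φ := by
    intro k φ
    refine congrFun (huniq (coef (g φ)) (fun k => t * (t ^ 2 ^ (k : ℕ))⁻¹ * α k φ) fun l => ?_) k
    rw [← hcoef]
    show conjT (φ : AddMonoid.End L) l = _
    rw [hgv, hαv, Finset.mul_sum]
    refine Finset.sum_congr rfl fun i _ => ?_
    rw [mul_pow, inv_pow]
    ring
  -- the quadratic map
  have hE2 : ∀ φ : E, 2 • φ = 0 := fun φ => Subtype.ext (DFunLike.ext _ _ fun l => by
    rw [two_nsmul]; exact h2 _)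
  letI : Module (ZMod 2) E := AddCommGroup.zmodModule hE2
  haveI := hS.charP
  letI : Algebra (ZMod 2) L := ZMod.algebra L 2
  let qE : E → L := fun φ => q (sE φ)
  let bE : E → E → L := fun φ ψ => bb (sE φ) (sE ψ)
  have hqEadd : ∀ φ ψ, qE (φ + ψ) = qE φ + qE ψ + bE φ ψ := fun φ ψ => by
    show q (sE (φ + ψ)) = _
    rw [hqwd (sE φ * sE ψ) (φ + ψ) (by rw [hεmul, hsE, hsE]; rfl), hqmul]
  have hbEl : ∀ φ φ' ψ, bE (φ + φ') ψ = bE φ ψ + bE φ' ψ := fun φ φ' ψ => by
    show bb (sE (φ + φ')) (sE ψ) = _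
    rw [hbbwd (sE φ * sE φ') (sE ψ) (φ + φ') ψ (by rw [hεmul, hsE, hsE]; rfl) (hsE ψ), hbbl]
  have hbEr : ∀ φ ψ ψ', bE φ (ψ + ψ') = bE φ ψ + bE φ ψ' := fun φ ψ ψ' => by
    show bb (sE φ) (sE (ψ + ψ')) = _
    rw [hbbwd (sE φ) (sE ψ * sE ψ') φ (ψ + ψ') (hsE φ) (by rw [hεmul, hsE, hsE]; rfl), hbbr]
  have hqE0 : qE 0 = 0 := by
    show q (sE 0) = 0
    rw [hqwd 1 0 (hεC 1 (one_mem C)), hqC 1 (one_mem C)]
  have hpol : ∀ φ ψ, QuadraticMap.polar qE φ ψ = bE φ ψ := fun φ ψ => by
    simp only [QuadraticMap.polar, hqEadd]; abel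
  have hzero : ∀ a : ZMod 2, a = 0 ∨ a = 1 := zmod_two_cases
  let Q : QuadraticMap (ZMod 2) E L := QuadraticMap.ofPolar qE
    (fun a φ => by rcases hzero a with rfl | rfl <;> simp [hqE0, zero_smul (ZMod 2) φ])
    (fun φ φ' ψ => by simp only [hpol, hbEl])
    (fun a φ ψ => by
      rcases hzero a with rfl | rfl
      · rw [zero_smul (ZMod 2) φ, hpol, zero_smul (ZMod 2) (QuadraticMap.polar qE φ ψ)]
        have := hbEl 0 0 ψ
        rw [add_zero, h2] at this
        exact this
      · simp)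
  haveI : Finite E := Finite.of_injective (fun φ : E => sE φ) fun a b e1 => Subtype.ext (by
    rw [← hsE a, ← hsE b]; exact congrArg ε e1)
  haveI : Module.Finite (ZMod 2) E := Module.Finite.of_finite
  let B0 : E → E → L := fun φ ψ => Q.toBilin (Module.finBasis (ZMod 2) E) φ ψ
  have hB0 : ∀ φ, B0 φ φ = qE φ := fun φ => by
    have h1 : (Q.toBilin (Module.finBasis (ZMod 2) E)).toQuadraticMap = Q := Q.toQuadraticMap_toBilin _
    exact DFunLike.congr_fun h1 φ
  let gg : E × E →+ E × E := g.prodMap g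
  have hggit : ∀ (j : ℕ) (p : E × E), gg^[j] p = (g^[j] p.1, g^[j] p.2) := by
    intro j
    induction j with
    | zero => intro p; rfl
    | succ j ih =>
      intro p
      rw [Function.iterate_succ_apply', ih, Function.iterate_succ_apply', Function.iterate_succ_apply']
      rfl
  have hggN : ∀ p : E × E, gg^[orderOf t] p = p := fun p => by rw [hggit, hgN, hgN]
  let B : E → E → L := fun φ ψ =>
    CfsgLib.Weights.P1 t gg (fun p => B0 p.1 p.2) t (φ, ψ)
  have hqg : ∀ φ, qE (g φ) = t * qE φ := fun φ => he (by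
    show e (q (sE (g φ))) = e (t * q (sE φ))
    rw [hqwd (y • sE φ) (g φ) (by rw [← hgε, hsE]; rfl), ← hact, hq, hq, ← smul_mul', ← smul_mul'])
  have hqgit : ∀ (j : ℕ) φ, qE (g^[j] φ) = t ^ j * qE φ := by
    intro j
    induction j with
    | zero => intro φ; simp
    | succ j ih => intro φ; rw [Function.iterate_succ_apply', hqg, ih, pow_succ', mul_assoc]
  have hBdiag : ∀ φ, B φ φ = qE φ := fun φ => by
    show CfsgLib.Weights.P1 t gg (fun p => B0 p.1 p.2) t (φ, φ) = _
    rw [CfsgLib.Weights.P1]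
    simp only [hggit, hB0, hqgit, ← mul_assoc, ← mul_pow, inv_mul_cancel₀ ht0, one_pow, one_mul,
      Finset.sum_const, Finset.card_range, nsmul_eq_mul]
    rw [hS.ord_cast, one_mul]
  have hbg : ∀ φ ψ, bE (g φ) (g ψ) = t * bE φ ψ := fun φ ψ => he (by
    show e (bb (sE (g φ)) (sE (g ψ))) = e (t * bb (sE φ) (sE ψ))
    rw [hbbwd (y • sE φ) (y • sE ψ) (g φ) (g ψ) (by rw [← hgε, hsE]; rfl) (by rw [← hgε, hsE]; rfl),
      ← hact, hbb, hbb, ← hcomm_smul, ← smul_mul'])
  have hb0 := CfsgLib.Weights.exponent_four hS g hgN α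
    (fun φ hφ => Subtype.ext (DFunLike.ext _ _ fun l => by
      rw [hαv]; simp [hφ]))
    hαg hfree (b := bE) (B := B) hbEl hbEr (fun φ => hbbself (sE φ)) hbg
    (fun x x' z => by
      simp only [B, CfsgLib.Weights.P1, hggit, B0, iterate_map_add, map_add, LinearMap.add_apply, mul_add,
        Finset.sum_add_distrib])
    (fun x z z' => by
      simp only [B, CfsgLib.Weights.P1, hggit, B0, iterate_map_add, map_add, mul_add,
        Finset.sum_add_distrib])
    (fun φ ψ => CfsgLib.Weights.P1_eigen hS gg hggN _ (pow_orderOf_eq_one t) (φ, ψ))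
    (fun φ ψ => by
      rw [hBdiag, ← hαv, ← hαv]
      have h1 := hkey (sE φ) (sE ψ)
      rw [hsE φ, hsE ψ] at h1
      show bb (sE φ) (sE ψ) = (ψ : AddMonoid.End L) (q (sE φ)) + (φ : AddMonoid.End L) (bb (sE φ) (sE ψ))
      rw [h1, add_assoc, h2, add_zero])
  have hbb0 : ∀ a b, bb a b = 0 := fun a b => by
    rw [← hbbwd a b ⟨ε a, a, rfl⟩ ⟨ε b, b, rfl⟩ rfl rfl]
    exact hb0 _ _
  obtain ⟨aw, haw⟩ : ∃ a, q a ≠ 0 := by
    by_contra hall
    push Not at hall
    refine hx0 (h.mem_invols.2 ?_)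
    rw [← hq, hall x0, he0]
  have hsurjq := surj (fun a => e (q a)) (fun a b => by rw [hqmul, hbb0, add_zero, hadd]) (fun a => hWe _)
    (fun k a => by rw [hq, hq, ← smul_mul', ← smul_mul'])
    ⟨aw, fun e1 => haw (he (e1.trans he0.symm))⟩
  refine hCtop (eq_top_iff.2 fun z _ => hεker z (DFunLike.ext _ _ fun l => ?_))
  obtain ⟨a, ha⟩ := hsurjq l
  rw [← show q a = l from he ha, hkey, hbb0, map_zero, add_zero]
  rfl

end Hyp

theorem main_aux : ∀ (N : ℕ) (P : Type u) [Group P] [Finite P] (Y : Type v) [Group Y] [Finite Y]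
    [MulDistribMulAction Y P], Nat.card P = N → Hyp P Y → (∃ x y : P, x * y ≠ y * x) →
    (∀ x : P, x * x ∈ invols P) ∧ ∀ z ∈ Subgroup.center P, z * z = 1 := by
  intro N
  induction N using Nat.strong_induction_on with
  | _ N ih =>
    intro P _ _ Y _ _ _ hcard h hna
    have hsq := h.sq_step (fun C hC hne hW hnaC z hz hzc => by
      letI := subAction C hC
      have hlt : Nat.card C < N := hcard ▸ lt_of_le_of_ne
        (Nat.le_of_dvd Nat.card_pos C.card_subgroup_dvd_card) fun e => hne (Subgroup.eq_top_of_card_eq C e)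
      obtain ⟨a, ha, b, hb, hab⟩ := hnaC
      obtain ⟨x, y, hxy, hx1, hxx, hy1, hyy⟩ := h.two
      have hC' : Hyp C Y := ⟨h.isTwo.to_subgroup C,
        ⟨⟨x, hW (h.mem_invols.2 hxx)⟩, ⟨y, hW (h.mem_invols.2 hyy)⟩, fun e => hxy (congrArg Subtype.val e),
          fun e => hx1 (congrArg Subtype.val e), Subtype.ext hxx, fun e => hy1 (congrArg Subtype.val e),
          Subtype.ext hyy⟩,
        fun u v hu huu hv hvv => by
          obtain ⟨k, hk⟩ := h.trans (u : P) v (fun e => hu (Subtype.ext e)) (congrArg Subtype.val huu)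
            (fun e => hv (Subtype.ext e)) (congrArg Subtype.val hvv)
          exact ⟨k, Subtype.ext hk⟩,
        h.sol⟩
      exact congrArg Subtype.val ((ih _ hlt C Y rfl hC' ⟨⟨a, ha⟩, ⟨b, hb⟩, fun e => hab (congrArg Subtype.val e)⟩).2
        ⟨z, hz⟩ (Subgroup.mem_center_iff.2 fun w => Subtype.ext (hzc w w.2)))) hna
    refine ⟨hsq, fun z hz => ?_⟩
    by_contra hzz
    obtain ⟨xa, xb, hab⟩ := hna
    let S : Subgroup P :=
      { carrier := {w | ∃ c ∈ Subgroup.center P, c * c = w}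
        one_mem' := ⟨1, one_mem _, one_mul 1⟩
        mul_mem' := by
          rintro _ _ ⟨c, hc, rfl⟩ ⟨c', hc', rfl⟩
          exact ⟨c * c', mul_mem hc hc',
            (show Commute c' c from (Subgroup.mem_center_iff.1 hc' c).symm).mul_mul_mul_comm c c'⟩
        inv_mem' := by
          rintro _ ⟨c, hc, rfl⟩
          exact ⟨c⁻¹, inv_mem hc, (mul_inv_rev c c).symm⟩ }
    have hSW : invols P ≤ S := by
      refine h.invols_le (fun k w hw => ?_) (fun e => hzz ?_)
      · obtain ⟨c, hc, rfl⟩ := hw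
        refine ⟨k • c, Subgroup.mem_center_iff.2 fun g => ?_, (smul_mul' k c c).symm⟩
        calc g * k • c = k • (k⁻¹ • g * c) := by rw [smul_mul', smul_inv_smul]
          _ = k • (c * k⁻¹ • g) := by rw [Subgroup.mem_center_iff.1 hc]
          _ = _ := by rw [smul_mul', smul_inv_smul]
      · have : z * z ∈ S := ⟨z, hz, rfl⟩
        rw [e, Subgroup.mem_bot] at this
        exact this
    have hall : ∀ v : P, v ∈ Subgroup.center P := by
      intro v
      obtain ⟨c, hc, hcv⟩ := hSW (hsq v)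
      have h1 : v * c⁻¹ * (v * c⁻¹) = 1 := by
        rw [(show Commute c⁻¹ v from (Subgroup.mem_center_iff.1 (inv_mem hc) v).symm).mul_mul_mul_comm v c⁻¹,
          ← mul_inv_rev, hcv, mul_inv_cancel]
      simpa using mul_mem (h.invols_le_center (h.mem_invols.2 h1)) hc
    exact hab (Subgroup.mem_center_iff.1 (hall xb) xa)

/-- squares are central involutions and the centre is elementary abelian -/
theorem main {P : Type u} [Group P] [Finite P] {Y : Type v} [Group Y] [Finite Y]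
    [MulDistribMulAction Y P] (h : Hyp P Y) (hna : ∃ x y : P, x * y ≠ y * x) :
    (∀ x : P, x * x ∈ invols P) ∧ ∀ z ∈ Subgroup.center P, z * z = 1 :=
  main_aux _ P Y rfl h hna

end CfsgLib.SuzukiSolvable
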