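import Cfsg.Prelude.Def_Transfer
import Cfsg.Agent.Lib.PGroup.Class2
import Cfsg.Agent.Lib.PGroup.Frattini
import Cfsg.Agent.Lib.PGroup.Critical

/-!
Tools for P. Hall's theorem on `p`-groups whose characteristic abelian subgroups are cyclic:
subgroups `K` with `K' ≤ ⟨z⟩` and `x^p ∈ ⟨c⟩ = K ⊓ C(K)`, and the extraspecial factor inside them.
-/

set_option autoImplicit false

namespace CfsgLib.SymplecticHall

open Subgroup
open scoped commutatorElement

variable {G : Type*} [Group G] {p : ℕ}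

/-- `K` has centre `⟨c⟩`, commutators in the central subgroup `⟨z⟩` and `p`-th powers in `⟨c⟩`. -/
structure Narrow (p : ℕ) (K : Subgroup G) (c z : G) : Prop where
  zpow : z ^ p = 1
  zc : z ∈ zpowers c
  zcent : z ∈ center G
  cent : K ⊓ centralizer (K : Set G) = zpowers c
  comm : ∀ x ∈ K, ∀ y ∈ K, ⁅x, y⁆ ∈ zpowers z
  pow : ∀ x ∈ K, x ^ p ∈ zpowers c

theorem mem_of_zpow_mem_of_pow_mem (hp : p.Prime) {x : G} {i : ℤ} (hi : ¬ (p : ℤ) ∣ i)
    {L : Subgroup G} (h1 : x ^ i ∈ L) (h2 : x ^ p ∈ L) : x ∈ L := by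
  obtain ⟨a, b, hab⟩ := ((Nat.prime_iff_prime_int.mp hp).coprime_iff_not_dvd.mpr hi).symm
  have : x = (x ^ i) ^ a * (x ^ p) ^ b := by
    rw [← zpow_natCast x p, ← zpow_mul, ← zpow_mul, ← zpow_add,
      show i * a + (p : ℤ) * b = 1 by linarith, zpow_one]
  rw [this]
  exact mul_mem (zpow_mem h1 a) (zpow_mem h2 b)

theorem notMem_zpowers_pow (hp : p.Prime) (hG : IsPGroup p G) {c : G} (hc : c ≠ 1) :
    c ∉ zpowers (c ^ p) := by
  intro h
  obtain ⟨i, hi⟩ := mem_zpowers_iff.mp h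
  rw [← zpow_natCast, ← zpow_mul] at hi
  haveI := Fact.mk hp
  obtain ⟨k, hk⟩ := IsPGroup.iff_orderOf.mp hG c
  have h1 : ((orderOf c : ℕ) : ℤ) ∣ (p : ℤ) * i - 1 := by
    rw [orderOf_dvd_iff_zpow_eq_one, zpow_sub, hi, zpow_one, mul_inv_cancel]
  have hk0 : k ≠ 0 := by
    rintro rfl
    exact hc (orderOf_eq_one_iff.mp (by simpa using hk))
  rw [hk, Nat.cast_pow] at h1
  have h2 : (p : ℤ) ∣ (p : ℤ) * i - 1 := (dvd_pow_self _ hk0).trans h1
  have h3 : (p : ℤ) ∣ 1 := by simpa using dvd_sub (dvd_mul_right (p : ℤ) i) h2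
  have := Int.le_of_dvd one_pos h3
  have := hp.two_le
  omega

/-- In a cyclic `p`-group the elements killed by `p` form a single subgroup of order `p`. -/
theorem torsion_mem (hp : p.Prime) (hG : IsPGroup p G) {c w z : G} (hw : w ∈ zpowers c)
    (hwp : w ^ p = 1) (hz : z ∈ zpowers c) (hzp : z ^ p = 1) (hz1 : z ≠ 1) :
    w ∈ zpowers z := by
  haveI := Fact.mk hp
  obtain ⟨k, hk⟩ := IsPGroup.iff_orderOf.mp hG c
  have hc1 : k ≠ 0 := by
    rintro rfl
    rw [pow_zero, orderOf_eq_one_iff] at hk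
    rw [hk, zpowers_one_eq_bot, mem_bot] at hz
    exact hz1 hz
  obtain ⟨l, rfl⟩ : ∃ l, k = l + 1 := ⟨k - 1, by omega⟩
  have key : ∀ {v : G}, v ∈ zpowers c → v ^ p = 1 → v ∈ zpowers (c ^ p ^ l) := by
    intro v hv hvp
    obtain ⟨i, rfl⟩ := mem_zpowers_iff.mp hv
    rw [← zpow_natCast, ← zpow_mul, ← orderOf_dvd_iff_zpow_eq_one, hk, Nat.cast_pow, pow_succ,
      mul_dvd_mul_iff_right (by exact_mod_cast hp.ne_zero)] at hvp
    obtain ⟨j, rfl⟩ := hvp
    rw [← Nat.cast_pow, zpow_mul, zpow_natCast]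
    exact zpow_mem (mem_zpowers _) j
  have hord : orderOf (c ^ p ^ l) = p := by
    rw [orderOf_pow_of_dvd (pow_ne_zero _ hp.ne_zero) (hk ▸ pow_dvd_pow p l.le_succ), hk,
      Nat.pow_div l.le_succ hp.pos, Nat.succ_sub (le_refl l), Nat.sub_self, pow_one]
  have hoz : orderOf z = p := orderOf_eq_prime hzp hz1
  haveI : Finite (zpowers (c ^ p ^ l)) :=
    Nat.finite_of_card_ne_zero (by rw [Nat.card_zpowers, hord]; exact hp.ne_zero)
  rw [eq_of_le_of_card_ge (zpowers_le.mpr (key hz hzp))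
    (by rw [Nat.card_zpowers, Nat.card_zpowers, hord, hoz])]
  exact key hw hwp

namespace Narrow

variable {K : Subgroup G} {c z : G}

theorem cK (h : Narrow p K c z) : c ∈ K := (h.cent.ge (mem_zpowers c)).1

theorem zK (h : Narrow p K c z) : z ∈ K := (h.cent.ge h.zc).1

theorem commute_c (h : Narrow p K c z) {x : G} (hx : x ∈ K) : Commute x c :=
  mem_centralizer_iff.mp (h.cent.ge (mem_zpowers c)).2 x hx

theorem comm_center (h : Narrow p K c z) {x y : G} (hx : x ∈ K) (hy : y ∈ K) :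
    ⁅x, y⁆ ∈ center G := zpowers_le.mpr h.zcent (h.comm x hx y hy)

/-- `p`-th powers are multiplicative modulo any subgroup containing `z`. -/
theorem mul_pow_mem (h : Narrow p K c z) {L : Subgroup G} (hz : z ∈ L) {x y : G} (hx : x ∈ K)
    (hy : y ∈ K) (hxp : x ^ p ∈ L) (hyp : y ^ p ∈ L) : (x * y) ^ p ∈ L := by
  rw [CfsgLib.PGroup.mul_pow_of_central (h.comm_center hy hx)]
  exact mul_mem (mul_mem hxp hyp) (pow_mem (zpowers_le.mpr hz (h.comm y hy x hx)) _)

theorem relIndex_centralizer_le (h : Narrow p K c z) (hp : p.Prime) {a : G} (ha : a ∈ K) :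
    (centralizer ({a} : Set G)).relIndex K ≤ p := by
  let f : K →* zpowers z :=
    { toFun := fun x => ⟨⁅(x : G), a⁆, h.comm x x.2 a ha⟩
      map_one' := by ext; simp [commutatorElement_def]
      map_mul' := fun x y => by
        ext
        exact CfsgLib.PGroup.commutatorElement_mul_left_of_central _ _ _ (h.comm_center y.2 ha) }
  have hker : f.ker = (centralizer ({a} : Set G)).subgroupOf K := by
    ext x
    rw [MonoidHom.mem_ker, mem_subgroupOf, mem_centralizer_iff, Subtype.ext_iff]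
    show ⁅(x : G), a⁆ = 1 ↔ _
    rw [commutatorElement_eq_one_iff_mul_comm]
    simp [eq_comm]
  rw [relIndex, ← hker, index_ker]
  have hzc : Nat.card (zpowers z) ≤ p := by
    rw [Nat.card_zpowers]
    exact Nat.le_of_dvd hp.pos (orderOf_dvd_of_pow_eq_one h.zpow)
  haveI : Finite (zpowers z) := Nat.finite_of_card_ne_zero (by
    rw [Nat.card_zpowers]
    intro h0
    have := orderOf_dvd_of_pow_eq_one h.zpow
    rw [h0, zero_dvd_iff] at this
    exact hp.ne_zero this)
  exact (Nat.card_le_card_of_injective (Subgroup.subtype f.range) f.range.subtype_injective).trans hzc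

/-- A subgroup `L` between the centre and `K` has a centralizer of index at most `|L : Z(K)|`. -/
theorem relIndex_mul_le [Finite G] (h : Narrow p K c z) (hp : p.Prime) (hG : IsPGroup p G) :
    ∀ L : Subgroup G, zpowers c ≤ L → L ≤ K →
      (centralizer (L : Set G)).relIndex K * Nat.card (zpowers c) ≤ Nat.card L := by
  intro L
  induction L using WellFoundedLT.induction with
  | _ L ih =>
    intro h1 h2
    rcases eq_or_lt_of_le h1 with rfl | hlt
    · rw [relIndex_eq_one.mpr, one_mul]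
      intro x hx
      rw [mem_centralizer_iff]
      intro y hy
      obtain ⟨i, rfl⟩ := mem_zpowers_iff.mp hy
      exact ((h.commute_c hx).zpow_right i).eq.symm
    · obtain ⟨L0, h0, ⟨hL0, hc0⟩, hmax⟩ := Finite.exists_le_maximal
        (p := fun L0 : Subgroup G => L0 < L ∧ zpowers c ≤ L0) (a := zpowers c) ⟨hlt, le_rfl⟩
      obtain ⟨a, haL, ha0⟩ := SetLike.exists_of_lt hL0
      have hgen : L0 ⊔ zpowers a = L := by
        refine (sup_le hL0.le (zpowers_le.mpr haL)).eq_or_lt.resolve_right fun hl => ?_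
        exact ha0 (hmax ⟨hl, hc0.trans le_sup_left⟩ le_sup_left (mem_sup_right (mem_zpowers a)))
      have hle : centralizer (L0 : Set G) ⊓ centralizer ({a} : Set G) ≤ centralizer (L : Set G) := by
        rw [← le_centralizer_iff, ← hgen]
        refine sup_le ?_ (zpowers_le.mpr ?_)
        · exact le_trans (le_centralizer_iff.mp le_rfl) (centralizer_le inf_le_left)
        · rw [mem_centralizer_iff]
          exact fun y hy => (mem_centralizer_iff.mp hy.2 a rfl).symm
      have hcard : Nat.card L0 * p ≤ Nat.card L := by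
        haveI := Fact.mk hp
        obtain ⟨i, hi⟩ := IsPGroup.iff_card.mp (hG.to_subgroup L0)
        obtain ⟨j, hj⟩ := IsPGroup.iff_card.mp (hG.to_subgroup L)
        have hlt' : Nat.card L0 < Nat.card L :=
          Set.Finite.card_lt_card (Set.toFinite _) (SetLike.coe_ssubset_coe.mpr hL0)
        rw [hi, hj] at hlt' ⊢
        rw [← pow_succ]
        exact Nat.pow_le_pow_right hp.pos ((Nat.pow_lt_pow_iff_right hp.one_lt).mp hlt')
      calc (centralizer (L : Set G)).relIndex K * Nat.card (zpowers c)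
          ≤ ((centralizer (L0 : Set G)).relIndex K * p) * Nat.card (zpowers c) := by
            refine Nat.mul_le_mul_right _ ?_
            refine le_trans ?_ (relIndex_inf_le.trans
              (Nat.mul_le_mul_left _ (h.relIndex_centralizer_le hp (h2 haL))))
            exact Nat.le_of_dvd (Nat.pos_of_ne_zero (by rw [relIndex]; exact index_ne_zero_of_finite))
              (relIndex_dvd_of_le_left K hle)
        _ = (centralizer (L0 : Set G)).relIndex K * Nat.card (zpowers c) * p := by ring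
        _ ≤ Nat.card L0 * p := Nat.mul_le_mul_right _ (ih L0 hL0 hc0 (hL0.le.trans h2))
        _ ≤ Nat.card L := hcard

/-- If `Ω₁(Z(K)) ≤ Z(K)^p` then all `p`-th powers in the characteristic `K` lie in `Z(K)^p`. -/
theorem pow_mem_pow [Finite G] (h : Narrow p K c z) (hp : p.Prime) (hG : IsPGroup p G)
    (hK : K.Characteristic) (hzc : z ∈ zpowers (c ^ p)) (hc1 : c ≠ 1)
    (hsymp : ∀ A : Subgroup G, A.Characteristic → IsMulCommutative A → IsCyclic A) :
    ∀ x ∈ K, x ^ p ∈ zpowers (c ^ p) := by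
  have hmap : ∀ φ : G ≃* G, φ c ∈ zpowers c := fun φ => by
    have hc := h.cent.ge (mem_zpowers c)
    rw [← h.cent]
    refine ⟨(characteristic_iff_le_comap.mp hK φ) hc.1, mem_centralizer_iff.mpr fun y hy => ?_⟩
    have hy' : φ.symm y ∈ K := (characteristic_iff_le_comap.mp hK φ.symm) hy
    simpa using congrArg φ (mem_centralizer_iff.mp hc.2 _ hy')
  have hcp : zpowers (c ^ p) ≤ zpowers c := zpowers_le.mpr (pow_mem (mem_zpowers c) p)
  let K1 : Subgroup G :=
    { carrier := {x | x ∈ K ∧ x ^ p ∈ zpowers (c ^ p)}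
      one_mem' := ⟨one_mem K, by rw [one_pow]; exact one_mem _⟩
      mul_mem' := fun {x y} hx hy => ⟨mul_mem hx.1 hy.1, h.mul_pow_mem hzc hx.1 hy.1 hx.2 hy.2⟩
      inv_mem' := fun {x} hx => ⟨inv_mem hx.1, by rw [inv_pow]; exact inv_mem hx.2⟩ }
  have hK1 : K1.Characteristic := by
    rw [characteristic_iff_le_comap]
    intro φ x hx
    refine ⟨(characteristic_iff_le_comap.mp hK φ) hx.1, ?_⟩
    obtain ⟨j, hj⟩ := mem_zpowers_iff.mp (hmap φ)
    obtain ⟨i, hi⟩ := mem_zpowers_iff.mp hx.2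
    show φ x ^ p ∈ _
    rw [← map_pow, ← hi, map_zpow, map_pow, ← hj]
    refine zpow_mem ?_ i
    rw [← zpow_natCast (c ^ j) p, ← zpow_mul, mul_comm, zpow_mul, zpow_natCast]
    exact zpow_mem (mem_zpowers _) j
  by_contra hcon
  push Not at hcon
  obtain ⟨x0, hx0, hx0'⟩ := hcon
  have hK1le : K1 < K := by
    refine lt_of_le_of_ne (fun x hx => hx.1) fun e => hx0' ?_
    have : x0 ∈ K1 := by rw [e]; exact hx0
    exact this.2
  have hcK1 : zpowers c ≤ K1 := zpowers_le.mpr ⟨h.cK, mem_zpowers _⟩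
  -- an element outside the centre centralizing `K1`
  obtain ⟨y, hy, hyc⟩ : ∃ y, y ∈ K ⊓ centralizer (K1 : Set G) ∧ y ∉ zpowers c := by
    by_contra hall
    push Not at hall
    have h1 := h.relIndex_mul_le hp hG K1 hcK1 hK1le.le
    have h2 : Nat.card ↥(K ⊓ centralizer (K1 : Set G)) ≤ Nat.card (zpowers c) :=
      Nat.le_of_dvd Nat.card_pos (card_dvd_of_le hall)
    have h3 : (centralizer (K1 : Set G)).relIndex K * Nat.card ↥(K ⊓ centralizer (K1 : Set G)) =
        Nat.card K := by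
      rw [inf_comm, ← inf_relIndex_right (centralizer (K1 : Set G)) K, relIndex, mul_comm,
        ← Nat.card_congr (subgroupOfEquivOfLe (inf_le_right :
          centralizer (K1 : Set G) ⊓ K ≤ K)).toEquiv, card_mul_index]
    have h4 : Nat.card K1 < Nat.card K :=
      Set.Finite.card_lt_card (Set.toFinite _) (SetLike.coe_ssubset_coe.mpr hK1le)
    have h5 := Nat.mul_le_mul_left ((centralizer (K1 : Set G)).relIndex K) h2
    omega
  have hyK1 : y ∉ K1 := by
    intro hy1
    let A := K1 ⊓ centralizer (K1 : Set G)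
    have hAc : A.Characteristic := by
      rw [characteristic_iff_le_comap]
      intro φ a ha
      refine ⟨(characteristic_iff_le_comap.mp hK1 φ) ha.1, mem_centralizer_iff.mpr fun b hb => ?_⟩
      have hb' : φ.symm b ∈ K1 := (characteristic_iff_le_comap.mp hK1 φ.symm) hb
      simpa using congrArg φ (mem_centralizer_iff.mp ha.2 _ hb')
    have hcyc : IsCyclic A := hsymp A hAc
      ⟨⟨fun a b => Subtype.ext (mem_centralizer_iff.mp b.2.2 a a.2.1)⟩⟩
    obtain ⟨w, hw⟩ := (Subgroup.isCyclic_iff_exists_zpowers_eq_top A).1 hcyc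
    have hwA : w ∈ A := by rw [← hw]; exact mem_zpowers w
    have hcA : c ∈ zpowers w := by
      rw [hw]
      exact ⟨hcK1 (mem_zpowers c),
        mem_centralizer_iff.mpr fun b hb => (h.commute_c hb.1).eq⟩
    have hwc : w ∈ zpowers c := by
      obtain ⟨i, hi⟩ := mem_zpowers_iff.mp hcA
      refine mem_of_zpow_mem_of_pow_mem hp (i := i) ?_ (by rw [hi]; exact mem_zpowers c) (hcp hwA.1.2)
      rintro ⟨j, rfl⟩
      refine notMem_zpowers_pow hp hG hc1 ?_
      have := zpow_mem hwA.1.2 j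
      rwa [← zpow_natCast w p, ← zpow_mul, hi] at this
    have hy' : y ∈ zpowers w := by rw [hw]; exact ⟨hy1, hy.2⟩
    exact hyc (zpowers_le.mpr hwc hy')
  apply hyc
  rw [← h.cent]
  refine ⟨hy.1, mem_centralizer_iff.mpr fun x hx => ?_⟩
  obtain ⟨l, hl⟩ := mem_zpowers_iff.mp (h.pow y hy.1)
  have hl' : ¬ (p : ℤ) ∣ l := by
    rintro ⟨j, rfl⟩
    refine hyK1 ⟨hy.1, ?_⟩
    rw [← hl, zpow_mul, zpow_natCast]
    exact zpow_mem (mem_zpowers _) j
  obtain ⟨m, hm⟩ := mem_zpowers_iff.mp (h.pow x hx)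
  obtain ⟨a, b, hab⟩ := ((Nat.prime_iff_prime_int.mp hp).coprime_iff_not_dvd.mpr hl').symm
  have hk : x * (y ^ (a * m))⁻¹ ∈ K1 := by
    refine ⟨K.mul_mem hx (K.inv_mem (K.zpow_mem hy.1 _)), ?_⟩
    show (x * (y ^ (a * m))⁻¹) ^ p ∈ _
    rw [CfsgLib.PGroup.mul_pow_of_central
      (h.comm_center (K.inv_mem (K.zpow_mem hy.1 _)) hx)]
    refine mul_mem ?_ (pow_mem (zpowers_le.mpr hzc
      (h.comm _ (K.inv_mem (K.zpow_mem hy.1 _)) x hx)) _)
    have e : (y ^ (a * m)) ^ p = c ^ (l * (a * m)) := by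
      rw [← zpow_natCast, ← zpow_mul, mul_comm, zpow_mul, zpow_natCast, ← hl, ← zpow_mul]
    rw [inv_pow, e, ← hm, ← zpow_neg, ← zpow_add,
      show m + -(l * (a * m)) = (p : ℤ) * (b * m) by linear_combination (-m) * hab, zpow_mul,
      zpow_natCast]
    exact zpow_mem (mem_zpowers _) _
  have h1 : Commute (x * (y ^ (a * m))⁻¹) y := mem_centralizer_iff.mp hy.2 _ hk
  have h2 := h1.mul_left ((Commute.refl y).zpow_left (a * m))
  rw [inv_mul_cancel_right] at h2
  exact h2.eq

/-- A complement: `E` with `p`-th powers in `⟨z⟩`, meeting `Z(K)` in `⟨z⟩`, and `E Z(K) = K`. -/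
theorem exists_factor [Finite G] (h : Narrow p K c z) (hp : p.Prime)
    (hadj : ∀ x ∈ K, ∃ w ∈ zpowers c, (x * w) ^ p ∈ zpowers z) :
    ∃ E : Subgroup G, z ∈ E ∧ E ≤ K ∧ (∀ e ∈ E, e ^ p ∈ zpowers z) ∧
      E ⊓ zpowers c ≤ zpowers z ∧ K ≤ E ⊔ zpowers c := by
  obtain ⟨E, -, ⟨hzE, hEK, hEp, hEc⟩, hmax⟩ := Finite.exists_le_maximal
    (p := fun E : Subgroup G => z ∈ E ∧ E ≤ K ∧ (∀ e ∈ E, e ^ p ∈ zpowers z) ∧
      E ⊓ zpowers c ≤ zpowers z) (a := zpowers z)
    ⟨mem_zpowers z, zpowers_le.mpr h.zK, fun e he => pow_mem he p, inf_le_left⟩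
  refine ⟨E, hzE, hEK, hEp, hEc, fun x hx => ?_⟩
  obtain ⟨w, hw, hxw⟩ := hadj x hx
  suffices hs : x * w ∈ E ⊔ zpowers c by
    have := mul_mem hs (inv_mem (mem_sup_right (S := E) hw))
    rwa [mul_inv_cancel_right] at this
  have hx' : x * w ∈ K := mul_mem hx (h.cent.ge hw).1
  generalize hgen : x * w = v at hxw hx' ⊢
  clear hgen hx x hw w
  by_contra hv
  have hnorm : zpowers v ≤ normalizer (E : Set G) := by
    refine le_trans (zpowers_le.mpr hx') fun g hg => mem_normalizer_iff.mpr fun e => ?_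
    constructor
    · intro he
      rw [show g * e * g⁻¹ = ⁅g, e⁆ * e by rw [commutatorElement_def]; group]
      exact mul_mem (zpowers_le.mpr hzE (h.comm g hg e (hEK he))) he
    · intro he
      rw [show e = ⁅g⁻¹, g * e * g⁻¹⁆ * (g * e * g⁻¹) by rw [commutatorElement_def]; group]
      exact mul_mem (zpowers_le.mpr hzE (h.comm _ (inv_mem hg) _ (hEK he))) he
  have hdec : ∀ u ∈ E ⊔ zpowers v, ∃ e ∈ E, ∃ i : ℤ, e * v ^ i = u := by
    intro u hu
    rw [← SetLike.mem_coe, coe_mul_of_right_le_normalizer_left E _ hnorm] at hu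
    obtain ⟨e, he, q, hq, rfl⟩ := Set.mem_mul.mp hu
    obtain ⟨i, rfl⟩ := mem_zpowers_iff.mp hq
    exact ⟨e, he, i, rfl⟩
  refine hv (mem_sup_left ((hmax ?_ (le_sup_left : E ≤ E ⊔ zpowers v))
    (mem_sup_right (mem_zpowers v))))
  refine ⟨mem_sup_left hzE, sup_le hEK (zpowers_le.mpr hx'), ?_, ?_⟩
  · intro u hu
    obtain ⟨e, he, i, rfl⟩ := hdec u hu
    refine h.mul_pow_mem (mem_zpowers z) (hEK he) (zpow_mem hx' i) (hEp e he) ?_
    rw [← zpow_natCast, ← zpow_mul, mul_comm, zpow_mul, zpow_natCast]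
    exact zpow_mem hxw i
  · rintro u ⟨hu, huc⟩
    obtain ⟨e, he, i, rfl⟩ := hdec u hu
    by_cases hi : (p : ℤ) ∣ i
    · obtain ⟨j, rfl⟩ := hi
      refine hEc ⟨mul_mem he ?_, huc⟩
      rw [zpow_mul, zpow_natCast]
      exact zpow_mem (zpowers_le.mpr hzE hxw) j
    · refine absurd (mem_of_zpow_mem_of_pow_mem hp hi ?_
        (mem_sup_left (zpowers_le.mpr hzE hxw))) hv
      have := mul_mem (inv_mem (mem_sup_left (T := zpowers c) he)) (mem_sup_right (S := E) huc)
      rwa [inv_mul_cancel_left] at this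

end Narrow

/-- A non-abelian subgroup with centre, commutators and `p`-th powers in `⟨z⟩` is extraspecial. -/
theorem isExtraspecial_of [Finite G] (hp : p.Prime) (hG : IsPGroup p G) (E : Subgroup G) {z : G}
    (hz : orderOf z = p) (hzE : z ∈ E) (hzc : ∀ e ∈ E, Commute e z)
    (hcomm : ∀ x ∈ E, ∀ y ∈ E, ⁅x, y⁆ ∈ zpowers z) (hpow : ∀ e ∈ E, e ^ p ∈ zpowers z)
    (hcent : E ⊓ centralizer (E : Set G) ≤ zpowers z)
    (hne : ∃ x ∈ E, ∃ y ∈ E, x * y ≠ y * x) : Cfsg.IsExtraspecial p E := by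
  haveI := Fact.mk hp
  have hE : IsPGroup p E := hG.to_subgroup E
  have hZ : center E = (zpowers z).subgroupOf E := by
    ext e
    rw [mem_center_iff, mem_subgroupOf]
    refine ⟨fun he => hcent ⟨e.2, mem_centralizer_iff.mpr fun y hy =>
      congrArg Subtype.val (he ⟨y, hy⟩)⟩, fun he y => ?_⟩
    obtain ⟨i, hi⟩ := mem_zpowers_iff.mp he
    apply Subtype.ext
    show (y : G) * e = e * y
    rw [← hi]
    exact ((hzc y y.2).zpow_right i).eq
  have hZc : Nat.card (center E) = p := by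
    rw [hZ, Nat.card_congr (subgroupOfEquivOfLe (zpowers_le.mpr hzE)).toEquiv, Nat.card_zpowers, hz]
  have hle : commutator E ≤ center E := by
    rw [commutator_def, commutator_le, hZ]
    intro x _ y _
    exact hcomm x x.2 y y.2
  have heq : commutator E = center E := by
    refine eq_of_le_of_card_ge hle ?_
    rw [hZc]
    rcases (Nat.dvd_prime hp).1 (hZc ▸ card_dvd_of_le hle) with h1 | h1
    · exfalso
      obtain ⟨x, hx, y, hy, hxy⟩ := hne
      have hm : ⁅(⟨x, hx⟩ : E), (⟨y, hy⟩ : E)⁆ ∈ commutator E := by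
        rw [commutator_def]
        exact commutator_mem_commutator (mem_top _) (mem_top _)
      rw [eq_bot_of_card_eq _ h1] at hm
      have := mem_bot.mp hm
      rw [commutatorElement_eq_one_iff_mul_comm] at this
      exact hxy (congrArg Subtype.val this)
    · exact h1.ge
  refine ⟨⟨hE, le_antisymm ?_ ?_, heq⟩, hZc⟩
  · refine CfsgLib.PGroup.frattini_le_of (p := p) _ hle fun x => ?_
    rw [hZ, mem_subgroupOf]
    exact hpow x x.2
  · rw [← heq]
    exact CfsgLib.PGroup.commutator_le_frattini hE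

end CfsgLib.SymplecticHall
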