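import Cfsg.Agent.Lib.Structure.Radicals
import Cfsg.Agent.Lib.Solvable.Fitting

/-!
Subgroups of nilpotent groups are subnormal; consequences for subgroups of the Fitting subgroup.
-/

set_option autoImplicit false
set_option linter.style.haveILetI false

open Subgroup

namespace CfsgLib.Structure

variable {G : Type*} [Group G]

theorem isSubnormal_of_isNilpotent [Finite G] [Group.IsNilpotent G] (H : Subgroup G) :
    H.IsSubnormal := by
  suffices ∀ n, ∀ H : Subgroup G, Nat.card G - Nat.card H = n → H.IsSubnormal from this _ H rfl
  intro n
  induction n using Nat.strong_induction_on with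
  | _ n ih =>
    intro H hn
    rcases eq_or_ne H ⊤ with rfl | hne
    · exact IsSubnormal.top
    have hlt : H < normalizer (H : Set G) :=
      Group.normalizerCondition_of_isNilpotent H hne.lt_top
    have hc : Nat.card H < Nat.card (normalizer (H : Set G) : Subgroup G) :=
      lt_of_le_of_ne (card_le_of_le hlt.le) fun he => hlt.ne (eq_of_le_of_card_ge hlt.le he.ge)
    have hle := card_le_card_group (normalizer (H : Set G) : Subgroup G)
    refine IsSubnormal.step H (normalizer (H : Set G)) hlt.le (ih _ ?_ _ rfl) ?_
    · omega
    · exact (normal_subgroupOf_iff_le_normalizer hlt.le).mpr le_rfl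

theorem isSubnormal_of_le_nilpotent_subnormal [Finite G] {F H : Subgroup G} (hF : F.IsSubnormal)
    (hn : Group.IsNilpotent F) (hle : H ≤ F) : H.IsSubnormal :=
  IsSubnormal.trans hle (isSubnormal_of_isNilpotent _) hF

theorem isSubnormal_of_le_fittingSubgroup [Finite G] {H : Subgroup G}
    (hle : H ≤ Cfsg.fittingSubgroup G) : H.IsSubnormal :=
  isSubnormal_of_le_nilpotent_subnormal CfsgLib.Fitting.fitting_normal.isSubnormal
    CfsgLib.Fitting.fitting_isNilpotent hle

end CfsgLib.Structure
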