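import Mathlib
import Cfsg.Agent.Lib.Frobenius.FPFThompson
import Cfsg.Agent.Lib.PLocal.Thompson
import Cfsg.Agent.Lib.Transfer.NormalComplement
import Cfsg.Agent.Lib.Structure.NilpotentMaximal
import Cfsg.Agent.Lib.Structure.IndexPowers

/-!
The theorem of Hughes and Thompson (with Kegel's nilpotency theorem): if all elements outside a
proper normal subgroup `H` satisfy `g ^ p = 1` and the group is not a `p`-group, then `H` is
nilpotent of index `p`.
-/

set_option autoImplicit false
set_option linter.style.haveILetI false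

namespace CfsgLib.HughesThompson

open scoped Pointwise IsMulCommutative

section Ring

variable {R : Type*} [Ring R]

theorem sum_pow_eq_natCast {p : ℕ} (hp : p.Prime) {y z : R} (hyz : Commute y z) (hz : z ^ p = 1)
    (h : ∀ a < p, ∑ i ∈ Finset.range p, (y * z ^ a) ^ i = 0) :
    ∑ a ∈ Finset.range p, z ^ a = (p : R) := by
  have hper : ∀ a : ℕ, z ^ a = z ^ (a % p) := fun a => by
    conv_lhs => rw [← Nat.mod_add_div a p, pow_add, pow_mul, hz, one_pow, mul_one]
  have hperm : ∀ i, 1 ≤ i → i < p →
      ∑ a ∈ Finset.range p, z ^ (a * i) = ∑ a ∈ Finset.range p, z ^ a := by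
    intro i hi hip
    have hcop : ¬ p ∣ i := Nat.not_dvd_of_pos_of_lt hi hip
    have hinj : Set.InjOn (fun a => a * i % p) (Finset.range p) := by
      intro a ha b hb hab
      simp only [Finset.coe_range, Set.mem_Iio] at ha hb
      have h1 : a ≡ b [MOD p] := Nat.ModEq.cancel_right_of_coprime
        ((hp.coprime_iff_not_dvd).mpr hcop) hab
      exact Nat.ModEq.eq_of_lt_of_lt h1 ha hb
    have himg : (Finset.range p).image (fun a => a * i % p) = Finset.range p := by
      apply Finset.eq_of_subset_of_card_le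
      · intro x hx
        simp only [Finset.mem_image, Finset.mem_range] at hx ⊢
        obtain ⟨a, -, rfl⟩ := hx
        exact Nat.mod_lt _ hp.pos
      · rw [Finset.card_image_of_injOn hinj]
    conv_rhs => rw [← himg, Finset.sum_image hinj]
    exact Finset.sum_congr rfl fun a _ => hper _
  have hy : ∑ i ∈ Finset.range p, y ^ i = 0 := by simpa using h 0 hp.pos
  have h1 : ∑ a ∈ Finset.range p, ∑ i ∈ Finset.range p, (y * z ^ a) ^ i = 0 :=
    Finset.sum_eq_zero fun a ha => h a (Finset.mem_range.mp ha)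
  rw [Finset.sum_comm] at h1
  have h2 : ∀ i ∈ Finset.range p, ∑ a ∈ Finset.range p, (y * z ^ a) ^ i =
      (if i = 0 then (p : R) - ∑ a ∈ Finset.range p, z ^ a else 0) +
        y ^ i * ∑ a ∈ Finset.range p, z ^ a := by
    intro i hi
    by_cases h0 : i = 0
    · subst h0; simp
    · rw [if_neg h0, zero_add, Finset.mul_sum]
      have h3 := hperm i (Nat.one_le_iff_ne_zero.mpr h0) (Finset.mem_range.mp hi)
      rw [← Finset.mul_sum, ← h3, Finset.mul_sum]
      exact Finset.sum_congr rfl fun a _ => by rw [(hyz.pow_right a).mul_pow, ← pow_mul]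
  rw [Finset.sum_congr rfl h2, Finset.sum_add_distrib, ← Finset.sum_mul, hy, zero_mul, add_zero,
    Finset.sum_ite_eq', if_pos (Finset.mem_range.mpr hp.pos), sub_eq_zero] at h1
  exact h1.symm

end Ring

variable {G : Type*} [Group G]

section Action

variable (V : Subgroup G) [V.Normal]

/-- Conjugation as endomorphisms of a normal subgroup written additively. -/
noncomputable def conjEnd [IsMulCommutative V] :
    G →* AddMonoid.End (Additive V) where
  toFun g := MonoidHom.toAdditive (MulAut.conjNormal g : MulAut V).toMonoidHom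
  map_one' := AddMonoidHom.ext fun v => Additive.toMul.injective (Subtype.ext
    (show (1 : G) * (v.toMul : G) * (1 : G)⁻¹ = (v.toMul : G) by simp))
  map_mul' g h := AddMonoidHom.ext fun v => Additive.toMul.injective (Subtype.ext
    (show g * h * (v.toMul : G) * (g * h)⁻¹ = g * (h * (v.toMul : G) * h⁻¹) * g⁻¹ by group))

theorem conjEnd_apply [IsMulCommutative V] (g : G) (v : Additive V) :
    ((conjEnd V g v).toMul : G) = g * (v.toMul : G) * g⁻¹ := rfl

theorem sum_conj_eq (g : G) [IsMulCommutative V] (v : Additive V) (n : ℕ) :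
    (((∑ i ∈ Finset.range n, conjEnd V g ^ i) v).toMul : G) =
      ((v.toMul : G) * g) ^ n * (g ^ n)⁻¹ := by
  induction n with
  | zero => simp
  | succ n ih =>
    rw [Finset.sum_range_succ]
    change (((∑ i ∈ Finset.range n, conjEnd V g ^ i) v).toMul : G) *
      (((conjEnd V g ^ n) v).toMul : G) = _
    rw [ih, ← map_pow, conjEnd_apply, pow_succ, pow_succ]
    group

theorem sum_pow_eq_zero [IsMulCommutative V] {H : Subgroup G} (hV : V ≤ H) {p : ℕ}
    (hH : ∀ g : G, g ∉ H → g ^ p = 1) {g : G} (hg : g ∉ H) :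
    ∑ i ∈ Finset.range p, conjEnd V g ^ i = 0 := by
  refine AddMonoidHom.ext fun v => ?_
  apply Additive.toMul.injective
  apply Subtype.ext
  refine (sum_conj_eq V g v p).trans ?_
  rw [hH g hg, hH _ (fun h => hg ((H.mul_mem_cancel_left (hV v.toMul.2)).mp h))]
  show (1 : G) * 1⁻¹ = 1
  simp

theorem conjEnd_eq_one_of_sum [IsMulCommutative V] [Finite V] {p : ℕ} (hp : p.Prime)
    (hpV : ¬ p ∣ Nat.card V) (z : AddMonoid.End (Additive V)) (hz : z ^ p = 1)
    (h : ∑ a ∈ Finset.range p, z ^ a = (p : AddMonoid.End (Additive V))) : z = 1 := by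
  have h1 := mul_geom_sum z p
  rw [h, hz, sub_self] at h1
  refine AddMonoidHom.ext fun v => ?_
  have h2 := DFunLike.congr_fun h1 v
  have h3 : (p : AddMonoid.End (Additive V)) v = p • v := AddMonoid.End.natCast_apply p v
  change (z - 1) ((p : AddMonoid.End (Additive V)) v) = (0 : Additive V) at h2
  rw [h3, map_nsmul] at h2
  have h4 : addOrderOf ((z - 1) v) ∣ p := addOrderOf_dvd_of_nsmul_eq_zero h2
  have h5 : addOrderOf ((z - 1) v) ∣ Nat.card (Additive V) := addOrderOf_dvd_natCard _
  have h6 : (z - 1) v = 0 := by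
    rcases (Nat.dvd_prime hp).mp h4 with h | h
    · exact AddMonoid.addOrderOf_eq_one_iff.mp h
    · rw [h] at h5; exact absurd h5 hpV
  exact sub_eq_zero.mp h6

/-- `p'`-modules: the part of a `p`-group inside `H` acts trivially. -/
theorem acts_trivially [Finite G] [IsMulCommutative V] {H : Subgroup G} [H.Normal] (hV : V ≤ H)
    {p : ℕ} [hp : Fact p.Prime] (hH : ∀ g : G, g ∉ H → g ^ p = 1) (hpV : ¬ p ∣ Nat.card V)
    {P : Subgroup G} (hP : IsPGroup p P) (hPH : ¬ P ≤ H) :
    P ⊓ H ≤ Subgroup.centralizer (V : Set G) := by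
  classical
  let ρ := (conjEnd V).comp P.subtype
  obtain ⟨y, hyP, hyH⟩ := SetLike.not_le_iff_exists.mp hPH
  let S : Subgroup P := H.subgroupOf P
  suffices h : S ≤ ρ.ker by
    intro x hx
    rw [Subgroup.mem_centralizer_iff]
    intro v hv
    replace hv : v ∈ V := hv
    have h1 : ρ ⟨x, hx.1⟩ = 1 := MonoidHom.mem_ker.mp (h (Subgroup.mem_subgroupOf.mpr hx.2))
    have h3 := DFunLike.congr_fun h1 (Additive.ofMul (⟨v, hv⟩ : V))
    have h2 : x * v * x⁻¹ = v := congrArg (fun w : Additive V => (w.toMul : G)) h3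
    exact (mul_inv_eq_iff_eq_mul.mp h2).symm
  by_contra hnle
  let f := QuotientGroup.mk' ρ.ker
  have hne : S.map f ≠ ⊥ := by
    rw [ne_eq, Subgroup.map_eq_bot_iff, QuotientGroup.ker_mk']
    exact hnle
  haveI : (S.map f).Normal :=
    (inferInstance : S.Normal).map f (QuotientGroup.mk'_surjective _)
  have hQ : IsPGroup p (P ⧸ ρ.ker) := hP.to_quotient _
  -- a central element of order `p` of the image of `S`
  obtain ⟨z, hzS, hzne, hzc⟩ : ∃ z : P ⧸ ρ.ker, z ∈ S.map f ∧ z ≠ 1 ∧
      z ∈ Subgroup.center (P ⧸ ρ.ker) := by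
    haveI : Nontrivial (S.map f) := (Subgroup.nontrivial_iff_ne_bot _).mpr hne
    let act : MulAction (ConjAct (P ⧸ ρ.ker)) (S.map f) := inferInstance
    have hpd : p ∣ Nat.card (S.map f) := by
      obtain ⟨k, hk⟩ := IsPGroup.iff_card.mp (hQ.to_subgroup (S.map f))
      rw [hk]
      refine dvd_pow_self p fun hk0 => ?_
      have := Finite.one_lt_card (α := S.map f)
      rw [hk, hk0, pow_zero] at this
      exact lt_irrefl 1 this
    have hPc : IsPGroup p (ConjAct (P ⧸ ρ.ker)) := hQ.of_equiv ConjAct.toConjAct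
    obtain ⟨w, hw, hw1⟩ := hPc.exists_fixed_point_of_prime_dvd_card_of_fixed_point
      (α := S.map f) hpd (a := 1) (fun g => smul_one g)
    refine ⟨w, w.2, fun h => hw1 (Subtype.ext h.symm), Subgroup.mem_center_iff.mpr fun g => ?_⟩
    have h1 := congrArg Subtype.val (hw (ConjAct.toConjAct g))
    rw [ConjAct.Subgroup.val_conj_smul, ConjAct.smul_def, ConjAct.ofConjAct_toConjAct] at h1
    exact mul_inv_eq_iff_eq_mul.mp h1
  obtain ⟨k, hk⟩ : ∃ k, orderOf z = p ^ (k + 1) := by
    obtain ⟨k, hk⟩ := IsPGroup.iff_orderOf.mp hQ z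
    cases k with
    | zero => rw [pow_zero, orderOf_eq_one_iff] at hk; exact absurd hk hzne
    | succ k => exact ⟨k, hk⟩
  set z' := z ^ p ^ k with hz'
  have hz'o : orderOf z' = p := by
    rw [hz', orderOf_pow_of_dvd (pow_ne_zero _ hp.out.ne_zero) (hk ▸ pow_dvd_pow p k.le_succ), hk,
      pow_succ', Nat.mul_div_cancel _ (pow_pos hp.out.pos _)]
  obtain ⟨s, hsS, hs⟩ := pow_mem hzS (p ^ k)
  have hsH : ((s : P) : G) ∈ H := hsS
  have hsK : s ∉ ρ.ker := fun h => by
    have : z' = 1 := hs.symm.trans ((QuotientGroup.eq_one_iff s).mpr h)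
    rw [this, orderOf_one] at hz'o
    exact hp.out.one_lt.ne hz'o
  have hsp : ρ s ^ p = 1 := by
    rw [← map_pow, ← MonoidHom.mem_ker, ← QuotientGroup.eq_one_iff, QuotientGroup.mk_pow]
    show (f s) ^ p = 1
    rw [hs]
    exact orderOf_dvd_iff_pow_eq_one.mp hz'o.dvd
  have hcomm : Commute (ρ ⟨y, hyP⟩) (ρ s) := by
    have h1 : f ⟨y, hyP⟩ * f s = f s * f ⟨y, hyP⟩ := by
      rw [hs]; exact (Subgroup.mem_center_iff.mp (pow_mem hzc _) _)
    rw [← map_mul, ← map_mul, QuotientGroup.mk'_eq_mk'] at h1
    obtain ⟨c, hc, hceq⟩ := h1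
    show _ = _
    rw [← map_mul, ← map_mul, ← hceq, map_mul ρ _ c, MonoidHom.mem_ker.mp hc, mul_one]
  have hsum := sum_pow_eq_natCast hp.out hcomm hsp (fun a _ => by
    rw [← map_pow, ← map_mul]
    refine sum_pow_eq_zero V hV hH fun h => hyH ?_
    exact (H.mul_mem_cancel_right (pow_mem hsH a)).mp h)
  exact hsK (MonoidHom.mem_ker.mpr (conjEnd_eq_one_of_sum V hp.out hpV _ hsp hsum))

/-- Index at most `p`. -/
theorem relIndex_le [Finite G] [IsMulCommutative V] [Nontrivial V] {H : Subgroup G} [H.Normal]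
    (hV : V ≤ H) {p : ℕ} [hp : Fact p.Prime] (hH : ∀ g : G, g ∉ H → g ^ p = 1)
    (hpV : ¬ p ∣ Nat.card V) {P : Subgroup G} (hP : IsPGroup p P) :
    H.relIndex P ≤ p := by
  classical
  by_contra hgt
  push Not at hgt
  by_cases hPH : P ≤ H
  · rw [Subgroup.relIndex_eq_one.mpr hPH] at hgt
    exact absurd hgt (by have := hp.out.one_lt; omega)
  have htriv := acts_trivially V hV hH hpV hP hPH
  let S : Subgroup P := H.subgroupOf P
  haveI : Nontrivial (P ⧸ S) := by
    rw [← Finite.one_lt_card_iff_nontrivial]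
    exact lt_trans hp.out.one_lt hgt
  haveI := (hP.to_quotient S).center_nontrivial
  obtain ⟨z, hz⟩ := exists_ne (1 : Subgroup.center (P ⧸ S))
  obtain ⟨s, hs⟩ := QuotientGroup.mk_surjective (z : P ⧸ S)
  have hsH : (s : G) ∉ H := fun h => hz (Subtype.ext (hs.symm.trans ((QuotientGroup.eq_one_iff s).mpr h)))
  obtain ⟨w, hw⟩ : ∃ w : P ⧸ S, w ∉ Subgroup.zpowers (z : P ⧸ S) := by
    by_contra h
    push Not at h
    have h1 : Nat.card (P ⧸ S) = orderOf (z : P ⧸ S) := by
      rw [← Nat.card_zpowers, ← Subgroup.card_top (G := P ⧸ S),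
        (Subgroup.eq_top_iff' _).mpr h]
    have h2 : orderOf (z : P ⧸ S) ∣ p := by
      refine orderOf_dvd_of_pow_eq_one ?_
      rw [← hs, ← QuotientGroup.mk_pow, QuotientGroup.eq_one_iff]
      show ((s : P) : G) ^ p ∈ H
      rw [hH _ hsH]
      exact one_mem H
    exact absurd (lt_of_lt_of_eq hgt h1) (not_lt.mpr (Nat.le_of_dvd hp.out.pos h2))
  obtain ⟨y, rfl⟩ := QuotientGroup.mk_surjective w
  let ρ := (conjEnd V).comp P.subtype
  have hker : ∀ c ∈ S, ρ c = 1 := by
    intro c hc
    refine AddMonoidHom.ext fun v => Additive.toMul.injective (Subtype.ext ?_)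
    show (c : G) * (v.toMul : G) * (c : G)⁻¹ = (v.toMul : G)
    rw [mul_inv_eq_iff_eq_mul]
    exact (Subgroup.mem_centralizer_iff.mp (htriv ⟨c.2, hc⟩) _ v.toMul.2).symm
  have hcomm : Commute (ρ y) (ρ s) := by
    have h1 : QuotientGroup.mk' S (s * y) = QuotientGroup.mk' S (y * s) := by
      rw [map_mul, map_mul]
      show (s : P ⧸ S) * (y : P ⧸ S) = _
      rw [hs]; exact (Subgroup.mem_center_iff.mp z.2 _).symm.trans (by rw [← hs]; rfl)
    obtain ⟨c, hc, hceq⟩ := QuotientGroup.mk'_eq_mk' (N := S) |>.mp h1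
    show _ = _
    rw [← map_mul, ← map_mul, ← hceq, map_mul ρ _ c, hker c hc, mul_one]
  have hsp : ρ s ^ p = 1 := by
    rw [← map_pow]
    exact hker _ (by show ((s : P) : G) ^ p ∈ H; rw [hH _ hsH]; exact one_mem H)
  have hsum := sum_pow_eq_natCast hp.out hcomm hsp (fun a _ => by
    rw [← map_pow, ← map_mul]
    refine sum_pow_eq_zero V hV hH fun h => hw ?_
    have h2 : ((y * s ^ a : P) : P ⧸ S) = 1 := (QuotientGroup.eq_one_iff _).mpr h
    rw [QuotientGroup.mk_mul, QuotientGroup.mk_pow, hs, mul_eq_one_iff_eq_inv] at h2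
    rw [h2]
    exact inv_mem (pow_mem (Subgroup.mem_zpowers _) a))
  have hzero : ∑ a ∈ Finset.range p, ρ s ^ a = 0 := sum_pow_eq_zero V hV hH hsH
  rw [hzero] at hsum
  obtain ⟨v, hv⟩ := exists_ne (0 : Additive V)
  have h3 : p • v = 0 := by
    have := DFunLike.congr_fun hsum v
    rw [AddMonoid.End.natCast_apply] at this
    exact this.symm
  have h4 : addOrderOf v ∣ p := addOrderOf_dvd_of_nsmul_eq_zero h3
  rcases (Nat.dvd_prime hp.out).mp h4 with h | h
  · exact hv (AddMonoid.addOrderOf_eq_one_iff.mp h)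
  · exact hpV (h ▸ addOrderOf_dvd_natCard v)

/-- A `q`-group normalised by `y` with trivial centraliser centralises `V`. -/
theorem centralizes_of_fpf [Finite G] [IsMulCommutative V] {H : Subgroup G} [H.Normal]
    (hV : V ≤ H) {p : ℕ} [hp : Fact p.Prime] (hH : ∀ g : G, g ∉ H → g ^ p = 1)
    {Q : Subgroup G} (hQH : Q ≤ H) (hcop : (Nat.card Q).Coprime (Nat.card V)) {y : G} (hy : y ∉ H)
    (hyQ : ∀ k ∈ Q, y * k * y⁻¹ ∈ Q) (hfpf : ∀ g ∉ H, ∀ k ∈ Q, g * k = k * g → k = 1) :
    Q ≤ Subgroup.centralizer (V : Set G) := by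
  classical
  haveI := Fintype.ofFinite Q
  let ρ := conjEnd V
  have hsumk : ∀ i ∈ Finset.range p, ∑ c : Q, (ρ ((c : G) * y * (c : G)⁻¹)) ^ i =
      (if i = 0 then (Fintype.card Q : AddMonoid.End (Additive V)) - ∑ k : Q, ρ k else 0) +
        (∑ k : Q, ρ k) * ρ y ^ i := by
    intro i hi
    by_cases h0 : i = 0
    · subst h0; simp
    rw [if_neg h0, zero_add]
    have hyi : y ^ i ∉ H := by
      intro hmem
      apply hy
      have hcop : i.Coprime (orderOf y) := by
        have h1 : orderOf y ∣ p := orderOf_dvd_of_pow_eq_one (hH y hy)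
        refine Nat.Coprime.coprime_dvd_right h1 ?_
        exact ((hp.out.coprime_iff_not_dvd).mpr
          (Nat.not_dvd_of_pos_of_lt (Nat.pos_of_ne_zero h0) (Finset.mem_range.mp hi))).symm
      obtain ⟨m, hm⟩ := exists_pow_eq_self_of_coprime (x := y) hcop
      rw [← hm]
      exact pow_mem hmem m
    have hyiQ : ∀ n : ℕ, ∀ k ∈ Q, y ^ n * k * (y ^ n)⁻¹ ∈ Q := by
      intro n
      induction n with
      | zero => intro k hk; simpa using hk
      | succ n ih =>
        intro k hk
        have := hyQ _ (ih k hk)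
        convert this using 1
        rw [pow_succ']
        group
    let φ : Q → Q := fun c => ⟨(c : G) * (y ^ i * (c : G)⁻¹ * (y ^ i)⁻¹),
      Q.mul_mem c.2 (hyiQ i _ (Q.inv_mem c.2))⟩
    have hφ : Function.Bijective φ := by
      rw [← Finite.injective_iff_bijective]
      intro a b hab
      have h1 : (a : G) * (y ^ i * (a : G)⁻¹ * (y ^ i)⁻¹) = (b : G) * (y ^ i * (b : G)⁻¹ * (y ^ i)⁻¹) :=
        congrArg Subtype.val hab
      have h2 : y ^ i * ((b : G)⁻¹ * (a : G)) = ((b : G)⁻¹ * (a : G)) * y ^ i := by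
        simp only [← mul_assoc, mul_left_inj] at h1
        calc y ^ i * ((b : G)⁻¹ * (a : G))
            = (b : G)⁻¹ * ((b : G) * y ^ i * (b : G)⁻¹) * (a : G) := by group
          _ = (b : G)⁻¹ * ((a : G) * y ^ i * (a : G)⁻¹) * (a : G) := by rw [h1]
          _ = _ := by group
      exact (Subtype.ext (inv_mul_eq_one.mp (hfpf _ hyi _ (Q.mul_mem (Q.inv_mem b.2) a.2) h2))).symm
    rw [Finset.sum_mul, ← hφ.sum_comp (fun k : Q => ρ k * ρ y ^ i)]
    refine Finset.sum_congr rfl fun c _ => ?_
    rw [← map_pow, ← map_pow, ← map_mul, conj_pow]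
    congr 1
    show (c : G) * y ^ i * (c : G)⁻¹ = (c : G) * (y ^ i * (c : G)⁻¹ * (y ^ i)⁻¹) * y ^ i
    group
  have h1 : ∑ c : Q, ∑ i ∈ Finset.range p, (ρ ((c : G) * y * (c : G)⁻¹)) ^ i = 0 :=
    Finset.sum_eq_zero fun c _ => sum_pow_eq_zero V hV hH fun h => hy <|
      (H.mul_mem_cancel_left (hQH c.2)).mp
        ((H.mul_mem_cancel_right (H.inv_mem (hQH c.2))).mp h)
  rw [Finset.sum_comm, Finset.sum_congr rfl hsumk, Finset.sum_add_distrib, ← Finset.mul_sum,
    sum_pow_eq_zero V hV hH hy, mul_zero, add_zero, Finset.sum_ite_eq',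
    if_pos (Finset.mem_range.mpr hp.out.pos), sub_eq_zero] at h1
  intro k hk
  rw [Subgroup.mem_centralizer_iff]
  intro v hv
  have h2 : ρ k * ∑ c : Q, ρ c = ∑ c : Q, ρ c := by
    rw [Finset.mul_sum]
    exact Fintype.sum_equiv (Equiv.mulLeft (⟨k, hk⟩ : Q)) _ _ fun c => (map_mul ρ k c).symm
  rw [← h1] at h2
  have h3 := DFunLike.congr_fun h2 (Additive.ofMul ⟨v, hv⟩)
  have h4 : Fintype.card Q • ρ k (Additive.ofMul ⟨v, hv⟩) =
      Fintype.card Q • (Additive.ofMul ⟨v, hv⟩ : Additive V) := by
    have h5 : ρ k ((Fintype.card Q : AddMonoid.End (Additive V)) (Additive.ofMul ⟨v, hv⟩)) =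
        (Fintype.card Q : AddMonoid.End (Additive V)) (Additive.ofMul ⟨v, hv⟩) := h3
    rwa [AddMonoid.End.natCast_apply, map_nsmul] at h5
  have h6 : ρ k (Additive.ofMul ⟨v, hv⟩) = Additive.ofMul ⟨v, hv⟩ := by
    have h7 : (Fintype.card Q).Coprime (Nat.card (Additive V)) := by
      rw [← Nat.card_eq_fintype_card]; exact hcop
    exact (nsmulCoprime h7.symm).injective h4
  have h8 : k * v * k⁻¹ = v := congrArg (fun w : Additive V => (w.toMul : G)) h6
  exact (mul_inv_eq_iff_eq_mul.mp h8).symm

end Action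

/-- An element outside `H` centralises no nontrivial element of `H` of order prime to `p`. -/
theorem eq_one_of_commute {H : Subgroup G} {p : ℕ} (hH : ∀ g : G, g ∉ H → g ^ p = 1)
    {g k : G} (hg : g ∉ H) (hk : k ∈ H) (hkp : (orderOf k).Coprime p) (hc : g * k = k * g) :
    k = 1 := by
  have h := hH (g * k) (fun h => hg ((H.mul_mem_cancel_right hk).mp h))
  rw [(show Commute g k from hc).mul_pow, hH g hg, one_mul] at h
  exact orderOf_eq_one_iff.mp (Nat.eq_one_of_dvd_coprimes hkp dvd_rfl (orderOf_dvd_of_pow_eq_one h))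

/-- A subgroup containing a Sylow subgroup for every prime. -/
theorem eq_top_of_sylow {K : Type*} [Group K] [Finite K] (C : Subgroup K)
    (h : ∀ (q : ℕ) [Fact q.Prime], q ∣ Nat.card K → ∃ P : Sylow q K, (P : Subgroup K) ≤ C) :
    C = ⊤ := by
  apply Subgroup.eq_top_of_card_eq
  apply Nat.eq_of_factorization_eq Nat.card_pos.ne' Nat.card_pos.ne'
  intro q
  by_cases hq : q.Prime
  swap
  · simp [Nat.factorization_eq_zero_of_not_prime _ hq]
  haveI := Fact.mk hq
  refine le_antisymm ((Nat.factorization_le_iff_dvd Nat.card_pos.ne' Nat.card_pos.ne').mpr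
    (Subgroup.card_subgroup_dvd_card C) q) ?_
  by_cases hqd : q ∣ Nat.card K
  swap
  · simp [Nat.factorization_eq_zero_of_not_dvd hqd]
  obtain ⟨P, hP⟩ := h q hqd
  have h2 := Subgroup.card_dvd_of_le hP
  rw [P.card_eq_multiplicity] at h2
  exact (hq.pow_dvd_iff_le_factorization Nat.card_pos.ne').mp h2

theorem isNilpotent_of_injective_hom {A B : Type*} [Group A] [Group B] [Group.IsNilpotent B]
    (f : A →* B) (hf : Function.Injective f) : Group.IsNilpotent A :=
  Group.nilpotent_of_mulEquiv (MonoidHom.ofInjective hf).symm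

/-- Lifting nilpotency over a central subgroup. -/
theorem isNilpotent_of_central (H V : Subgroup G) [V.Normal] (hc : H ≤ Subgroup.centralizer (V : Set G))
    (hq : Group.IsNilpotent (H.map (QuotientGroup.mk' V))) : Group.IsNilpotent H := by
  haveI := hq
  refine Subgroup.isNilpotent_of_ker_le_center ((QuotientGroup.mk' V).subgroupMap H) ?_
  intro h hh
  rw [Subgroup.mem_center_iff]
  intro a
  have hv : (h : G) ∈ V := (QuotientGroup.eq_one_iff (h : G)).mp (congrArg Subtype.val hh)
  exact Subtype.ext (Subgroup.mem_centralizer_iff.mp (hc a.2) _ hv).symm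

/-- Kegel's theorem. -/
theorem isNilpotent_of_index_prime {p : ℕ} [hp : Fact p.Prime] :
    ∀ (n : ℕ) (G : Type*) [Group G] [Finite G], Nat.card G ≤ n → ∀ (H : Subgroup G), H.Normal →
      H.index = p → (∀ g : G, g ∉ H → g ^ p = 1) → Group.IsNilpotent H := by
  intro n
  induction n with
  | zero => intro G _ _ h; have := Nat.card_pos (α := G); omega
  | succ n ih =>
    intro G _ _ hn H hHn hidx hH
    haveI := hHn
    -- consequence of the induction for quotients
    have hquot : ∀ V : Subgroup G, V.Normal → V ≤ H → V ≠ ⊥ → ∀ [V.Normal],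
        Group.IsNilpotent (H.map (QuotientGroup.mk' V)) := by
      intro V _ hVH hVne _
      have hker : (QuotientGroup.mk' V).ker ≤ H := by rwa [QuotientGroup.ker_mk']
      refine ih (G ⧸ V) ?_ (H.map (QuotientGroup.mk' V))
        (hHn.map _ (QuotientGroup.mk'_surjective V)) ?_ ?_
      · rw [← Subgroup.index_eq_card]
        have h1 := V.card_mul_index
        have h2 := V.one_lt_card_iff_ne_bot.mpr hVne
        nlinarith
      · rw [Subgroup.index_map_eq H (QuotientGroup.mk'_surjective V) hker, hidx]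
      · intro q hq
        obtain ⟨g, rfl⟩ := QuotientGroup.mk'_surjective V q
        rw [← map_pow, hH g (fun h => hq (Subgroup.mem_map_of_mem _ h)), map_one]
    have hHtop : H ≠ ⊤ := fun h => by
      rw [h, Subgroup.index_top] at hidx; exact hp.out.one_lt.ne hidx
    obtain ⟨x, -, hxH⟩ := SetLike.exists_of_lt hHtop.lt_top
    by_cases hpH : p ∣ Nat.card H
    swap
    · refine CfsgLib.Frobenius.Thompson.isNilpotent_of_element H (h := x)
        (by rw [Subgroup.normalizer_eq_top]; trivial) hp.out (hH x hxH) fun k hk hc => ?_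
      refine eq_one_of_commute hH hxH hk ?_ hc
      refine Nat.coprime_comm.mp (hp.out.coprime_iff_not_dvd.mpr fun h => hpH (h.trans ?_))
      exact Subgroup.orderOf_dvd_natCard H hk
    by_cases hO : ∃ O : Subgroup G, O.Normal ∧ O ≤ H ∧ O ≠ ⊥ ∧ IsPGroup p O
    · obtain ⟨O, hOn, hOH, hOne, hOp⟩ := hO
      haveI := hOn
      haveI := hquot O hOn hOH hOne
      -- the Sylow subgroup of `H` is normal
      let S : Sylow p H := default
      have hOS : O.subgroupOf H ≤ (S : Subgroup H) := by
        obtain ⟨T, hT⟩ := IsPGroup.exists_le_sylow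
          (hOp.of_equiv (Subgroup.subgroupOfEquivOfLe hOH).symm)
        obtain ⟨g, hg⟩ := MulAction.exists_smul_eq H T S
        intro o ho
        rw [← hg, Sylow.coe_subgroup_smul, Subgroup.mem_pointwise_smul_iff_inv_smul_mem,
          MulAut.smul_def, MulAut.conj_inv_apply]
        exact hT (by simpa using
          (inferInstance : (O.subgroupOf H).Normal).conj_mem o ho g⁻¹)
      have hSn : (S : Subgroup H).Normal := by
        let f := (QuotientGroup.mk' O).subgroupMap H
        have hf : Function.Surjective f := (QuotientGroup.mk' O).subgroupMap_surjective H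
        let S' : Sylow p (H.map (QuotientGroup.mk' O)) := S.mapSurjective hf
        haveI : (S' : Subgroup (H.map (QuotientGroup.mk' O))).Normal := inferInstance
        have hcomap : ((S : Subgroup H).map f).comap f = (S : Subgroup H) := by
          refine Subgroup.comap_map_eq_self ?_
          intro h hh
          exact hOS ((QuotientGroup.eq_one_iff (h : G)).mp (congrArg Subtype.val hh))
        rw [← hcomap]
        exact Subgroup.Normal.comap (‹(S' : Subgroup (H.map (QuotientGroup.mk' O))).Normal› :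
          ((S : Subgroup H).map f).Normal) f
      haveI : (S : Subgroup H).Characteristic := Sylow.characteristic_of_normal S hSn
      let P₁ : Subgroup G := (S : Subgroup H).map H.subtype
      haveI : P₁.Normal := ConjAct.normal_of_characteristic_of_normal
      let V : Subgroup G := (Subgroup.center P₁).map P₁.subtype
      haveI : V.Normal := ConjAct.normal_of_characteristic_of_normal
      have hP₁p : IsPGroup p P₁ := S.isPGroup'.map _
      have hVP : V ≤ P₁ := Subgroup.map_subtype_le _
      have hP₁H : P₁ ≤ H := Subgroup.map_subtype_le _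
      haveI : IsMulCommutative V := ⟨⟨by
        rintro ⟨_, a, ha, rfl⟩ ⟨_, b, hb, rfl⟩
        exact Subtype.ext (congrArg Subtype.val (Subgroup.mem_center_iff.mp hb a) :)⟩⟩
      have hVne : V ≠ ⊥ := by
        haveI : Nontrivial P₁ := (Subgroup.nontrivial_iff_ne_bot _).mpr (by
          rw [ne_eq, Subgroup.map_eq_bot_iff_of_injective _ H.subtype_injective]
          exact S.ne_bot_of_dvd_card hpH)
        rw [ne_eq, Subgroup.map_eq_bot_iff_of_injective _ P₁.subtype_injective]
        exact (ne_of_gt hP₁p.bot_lt_center)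
      refine isNilpotent_of_central H V ?_ (hquot V inferInstance (hVP.trans hP₁H) hVne)
      rw [← Subgroup.subgroupOf_eq_top]
      refine eq_top_of_sylow _ fun q _ hq => ?_
      by_cases hqp : q = p
      · subst hqp
        refine ⟨S, fun s hs => ?_⟩
        rw [Subgroup.mem_subgroupOf, Subgroup.mem_centralizer_iff]
        rintro _ ⟨v, hv, rfl⟩
        exact (congrArg Subtype.val
          (Subgroup.mem_center_iff.mp hv ⟨(s : G), ⟨s, hs, rfl⟩⟩)).symm
      · let T : Sylow q H := default
        refine ⟨T, ?_⟩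
        let T' : Subgroup G := (T : Subgroup H).map H.subtype
        have htop : Subgroup.normalizer (T' : Set G) ⊔ H = ⊤ := Sylow.normalizer_sup_eq_top T
        obtain ⟨y, hyN, hyH⟩ : ∃ y ∈ Subgroup.normalizer (T' : Set G), y ∉ H := by
          by_contra hcon
          push Not at hcon
          exact hHtop (by rw [← htop, sup_eq_right.mpr hcon])
        have hTq : IsPGroup q T' := T.isPGroup'.map _
        have hcopT : (Nat.card T').Coprime (Nat.card V) := by
          obtain ⟨i, hi⟩ := IsPGroup.iff_card.mp hTq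
          obtain ⟨j, hj⟩ := IsPGroup.iff_card.mp (hP₁p.to_le hVP)
          rw [hi, hj]
          exact Nat.Coprime.pow i j ((Nat.coprime_primes Fact.out hp.out).mpr hqp)
        have hle := centralizes_of_fpf V (hVP.trans hP₁H) hH (Subgroup.map_subtype_le _) hcopT hyH
          (fun k hk => (Subgroup.mem_normalizer_iff.mp hyN k).mp hk)
          (fun g hg k hk hc => by
            refine eq_one_of_commute hH hg (Subgroup.map_subtype_le _ hk) ?_ hc
            obtain ⟨i, hi⟩ := IsPGroup.iff_card.mp hTq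
            refine Nat.Coprime.coprime_dvd_left (Subgroup.orderOf_dvd_natCard T' hk) ?_
            rw [hi]
            exact Nat.Coprime.pow_left i ((Nat.coprime_primes Fact.out hp.out).mpr hqp))
        intro t ht
        exact Subgroup.mem_subgroupOf.mpr (hle ⟨t, ht, rfl⟩)
    push Not at hO
    by_cases hp2 : p = 2
    · subst hp2
      have hinv : ∀ h ∈ H, x * h * x⁻¹ = h⁻¹ := by
        intro h hh
        have h1 := hH (h * x) (fun hmem => hxH ((H.mul_mem_cancel_left hh).mp hmem))
        have h2 := hH x hxH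
        rw [pow_two] at h1 h2
        rw [inv_eq_of_mul_eq_one_right h2]
        refine eq_inv_of_mul_eq_one_right ?_
        calc h * (x * h * x) = (h * x) * (h * x) := by group
          _ = 1 := h1
      haveI : IsMulCommutative H := ⟨⟨fun a b => Subtype.ext (by
        have ha := hinv a a.2
        have hb := hinv b b.2
        have hab := hinv _ (H.mul_mem a.2 b.2)
        show (a : G) * (b : G) = (b : G) * (a : G)
        apply inv_injective
        rw [← hab, mul_inv_rev, ← ha, ← hb]
        group)⟩⟩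
      exact Group.isNilpotent_of_finite_tfae.out 3 0 rfl rfl |>.mp fun q hq S => inferInstance
    -- odd `p`, no normal `p`-subgroup
    obtain ⟨P, hxP⟩ := (IsPGroup.of_card (n := 1) (by
      rw [Nat.card_zpowers, pow_one]
      exact orderOf_eq_prime (hH x hxH) (fun h => hxH (h ▸ one_mem H)))
        : IsPGroup p (Subgroup.zpowers x)).exists_le_sylow
    have hxP' : x ∈ (P : Subgroup G) := hxP (Subgroup.mem_zpowers x)
    have hPH : ¬ (P : Subgroup G) ≤ H := fun h => hxH (h hxP')
    let P₁ : Sylow p H := (P.isPGroup'.comap_subtype (K := H)).toSylow (by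
      show ¬ p ∣ (P : Subgroup G).relIndex H
      intro hd
      exact P.not_dvd_index (hd.trans
        (CfsgLib.IndexPowers.relIndex_dvd_index_of_isSubnormal hHn.isSubnormal (P : Subgroup G))))
    have hP₁map : (P₁ : Subgroup H).map H.subtype = (P : Subgroup G) ⊓ H := by
      show ((P : Subgroup G).subgroupOf H).map H.subtype = _
      rw [Subgroup.subgroupOf_map_subtype]
    have hP₁ne : (P₁ : Subgroup H) ≠ ⊥ := P₁.ne_bot_of_dvd_card hpH
    -- the normalizer of `Z(J)` has a normal complement
    set Z : Subgroup H := Cfsg.centerThompsonAOf (P₁ : Subgroup H) with hZdef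
    have hZmap : Z.map H.subtype = CfsgLib.PLocal.centerJ 0 ((P : Subgroup G) ⊓ H) := by
      rw [hZdef, CfsgLib.PLocal.centerThompsonAOf_eq, ← CfsgLib.PLocal.centerJ_map H.subtype_injective,
        hP₁map]
    set Z' : Subgroup G := Z.map H.subtype with hZ'
    have hxN : x ∈ Subgroup.normalizer (Z' : Set G) := by
      rw [hZmap]
      refine CfsgLib.PLocal.normalizer_le_normalizer_centerJ 0 _ ?_
      refine CfsgLib.NilpotentMaximal.mem_normalizer_of_conj _ x fun a ha => ⟨?_, hHn.conj_mem a ha.2 x⟩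
      exact (P : Subgroup G).mul_mem ((P : Subgroup G).mul_mem hxP' ha.1) ((P : Subgroup G).inv_mem hxP')
    have hNtop : Subgroup.normalizer (Z' : Set G) ≠ ⊤ := fun h => by
      haveI : Z'.Normal := Subgroup.normalizer_eq_top_iff.mp h
      refine hO Z' inferInstance (Subgroup.map_subtype_le _) ?_ ?_
      · rw [ne_eq, Subgroup.map_eq_bot_iff_of_injective _ H.subtype_injective, hZdef,
          CfsgLib.PLocal.centerThompsonAOf_eq]
        exact CfsgLib.PLocal.centerJ_zero_ne_bot P₁.isPGroup' hP₁ne
      · refine (P₁.isPGroup'.to_le ?_).map _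
        rw [hZdef, CfsgLib.PLocal.centerThompsonAOf_eq]
        exact CfsgLib.PLocal.centerJ_le 0 _
    set N := Subgroup.normalizer (Z' : Set G) with hN
    haveI : Group.IsNilpotent (H.subgroupOf N) := by
      refine ih N ?_ (H.subgroupOf N) inferInstance ?_ ?_
      · have h1 := N.card_mul_index
        have h2 : 2 ≤ N.index := by
          have := mt Subgroup.index_eq_one.mp hNtop
          have := Subgroup.index_ne_zero_of_finite (H := N)
          omega
        have := Nat.card_pos (α := N)
        nlinarith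
      · rcases (Nat.dvd_prime hp.out).mp (hidx ▸ Subgroup.relIndex_dvd_index_of_normal H N) with h | h
        · exact absurd (Subgroup.relIndex_eq_one.mp h hxN) hxH
        · exact h
      · intro g hg
        refine Subtype.ext ?_
        rw [Subgroup.coe_pow, Subgroup.coe_one]
        exact hH g hg
    haveI : Group.IsNilpotent (Subgroup.normalizer (Z : Set H)) := by
      refine isNilpotent_of_injective_hom
        ((((H.subtype.comp (Subgroup.normalizer (Z : Set H)).subtype).codRestrict N ?_)).codRestrict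
          (H.subgroupOf N) ?_) ?_
      · intro a
        refine CfsgLib.NilpotentMaximal.mem_normalizer_of_conj Z' _ ?_
        rintro _ ⟨z, hz, rfl⟩
        exact ⟨(a : H) * z * (a : H)⁻¹, (Subgroup.mem_normalizer_iff.mp a.2 z).mp hz, rfl⟩
      · intro a
        exact (a : H).2
      · intro a b hab
        exact Subtype.ext (Subtype.ext
          (congrArg (fun c : H.subgroupOf N => ((c : N) : G)) hab :))
    have hcompl : Cfsg.HasNormalPComplement p H :=
      CfsgLib.Frobenius.ZJComp.hasNormalPComplement_of_centerThompsonAOf hp2 P₁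
        (CfsgLib.NilpotentMaximal.hasNormalPComplement_of_isNilpotent p)
    obtain ⟨S, K, hKn, hKc⟩ := hcompl
    haveI := hKn
    obtain ⟨hKres, hKp⟩ := CfsgLib.Transfer.eq_pResidual_of_isComplement' S K hKc
    have hKhall : (Nat.card K).Coprime K.index := by
      rw [hKc.symm.index_eq_card]
      obtain ⟨i, hi⟩ := IsPGroup.iff_card.mp S.isPGroup'
      rw [hi]
      exact Nat.Coprime.pow_right i (Nat.coprime_comm.mp (hp.out.coprime_iff_not_dvd.mpr hKp))
    haveI : K.Characteristic := by
      rw [hKres]; exact CfsgLib.Transfer.pResidual_characteristic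
    let K' : Subgroup G := K.map H.subtype
    haveI : K'.Normal := ConjAct.normal_of_characteristic_of_normal
    have hK'p : ¬ p ∣ Nat.card K' := by
      rwa [Subgroup.card_map_of_injective H.subtype_injective]
    have hK'ne : K' ≠ ⊥ := by
      rw [ne_eq, Subgroup.map_eq_bot_iff_of_injective _ H.subtype_injective]
      intro hb
      refine hO H hHn le_rfl (by
        intro h; rw [h, Subgroup.card_bot] at hpH; exact hp.out.one_lt.ne' (Nat.dvd_one.mp hpH)) ?_
      rw [hb] at hKc
      have := Subgroup.isComplement'_bot_left.mp hKc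
      exact (this ▸ S.isPGroup' : IsPGroup p (⊤ : Subgroup H)).of_equiv Subgroup.topEquiv
    haveI : Group.IsNilpotent K' := by
      refine CfsgLib.Frobenius.Thompson.isNilpotent_of_element K' (h := x)
        (by rw [Subgroup.normalizer_eq_top]; trivial) hp.out (hH x hxH) fun k hk hc => ?_
      refine eq_one_of_commute hH hxH (Subgroup.map_subtype_le _ hk) ?_ hc
      refine Nat.coprime_comm.mp (hp.out.coprime_iff_not_dvd.mpr fun h => hK'p (h.trans ?_))
      exact Subgroup.orderOf_dvd_natCard K' hk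
    let V : Subgroup G := (Subgroup.center K').map K'.subtype
    haveI : V.Normal := ConjAct.normal_of_characteristic_of_normal
    haveI : IsMulCommutative V := ⟨⟨by
      rintro ⟨_, a, ha, rfl⟩ ⟨_, b, hb, rfl⟩
      exact Subtype.ext (congrArg Subtype.val (Subgroup.mem_center_iff.mp hb a) :)⟩⟩
    have hVK : V ≤ K' := Subgroup.map_subtype_le _
    have hVH : V ≤ H := hVK.trans (Subgroup.map_subtype_le _)
    have hVne : V ≠ ⊥ := by
      haveI : Nontrivial K' := (Subgroup.nontrivial_iff_ne_bot _).mpr hK'ne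
      rw [ne_eq, Subgroup.map_eq_bot_iff_of_injective _ K'.subtype_injective]
      exact Group.IsNilpotent.center_ne_bot _
    have hPc := acts_trivially V hVH hH (fun h => hK'p (h.trans (Subgroup.card_dvd_of_le hVK)))
      P.isPGroup' hPH
    refine isNilpotent_of_central H V ?_ (hquot V inferInstance hVH hVne)
    rw [← Subgroup.subgroupOf_eq_top]
    refine eq_top_of_sylow _ fun q _ hq => ?_
    by_cases hqp : q = p
    · subst hqp
      exact ⟨P₁, fun s hs => Subgroup.mem_subgroupOf.mpr (hPc ⟨hs, s.2⟩)⟩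
    · let T : Sylow q H := default
      refine ⟨T, fun t ht => ?_⟩
      have htK : t ∈ K := by
        rw [← QuotientGroup.eq_one_iff]
        obtain ⟨i, hi⟩ := IsPGroup.iff_card.mp T.isPGroup'
        obtain ⟨j, hj⟩ := IsPGroup.iff_card.mp S.isPGroup'
        have h1 : orderOf (t : H ⧸ K) ∣ q ^ i :=
          (orderOf_map_dvd (QuotientGroup.mk' K) t).trans (hi ▸ Subgroup.orderOf_dvd_natCard _ ht)
        have h2 : orderOf (t : H ⧸ K) ∣ p ^ j := by
          refine (orderOf_dvd_natCard _).trans (dvd_of_eq ?_)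
          rw [← Subgroup.index_eq_card, hKc.symm.index_eq_card, hj]
        exact orderOf_eq_one_iff.mp (Nat.eq_one_of_dvd_coprimes
          (Nat.Coprime.pow i j ((Nat.coprime_primes Fact.out hp.out).mpr hqp)) h1 h2)
      rw [Subgroup.mem_subgroupOf, Subgroup.mem_centralizer_iff]
      rintro _ ⟨v, hv, rfl⟩
      exact (congrArg Subtype.val (Subgroup.mem_center_iff.mp hv ⟨(t : G), ⟨t, htK, rfl⟩⟩)).symm

end CfsgLib.HughesThompson
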