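import Mathlib

/-!
A finite abelian group of odd order with two anticommuting automorphisms has square order.
-/

set_option autoImplicit false
set_option linter.style.haveILetI false

namespace CfsgLib.AnticommutingSquare

theorem even_finrank {p : ℕ} [Fact p.Prime] (hp : p ≠ 2) {W : Type*} [AddCommGroup W]
    [Module (ZMod p) W] [Module.Finite (ZMod p) W] (I J : W →ₗ[ZMod p] W)
    (hI : Function.Injective I) (hJ : Function.Injective J) (h : ∀ w, J (I w) = -I (J w)) :
    Even (Module.finrank (ZMod p) W) := by
  by_contra hodd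
  rw [Nat.not_even_iff_odd] at hodd
  have hne : ∀ L : W →ₗ[ZMod p] W, Function.Injective L → LinearMap.det L ≠ 0 := by
    intro L hL h0
    exact (LinearMap.det_eq_zero_iff_ker_ne_bot.mp h0) (LinearMap.ker_eq_bot.mpr hL)
  have heq : J ∘ₗ I = (-1 : ZMod p) • (I ∘ₗ J) := LinearMap.ext fun w => by simp [h]
  have hd := congrArg LinearMap.det heq
  rw [LinearMap.det_comp, LinearMap.det_smul, LinearMap.det_comp, hodd.neg_one_pow,
    mul_comm (LinearMap.det J), neg_one_mul] at hd
  haveI : NeZero (2 : ZMod p) := ⟨by
    intro h2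
    have : p ∣ 2 := (ZMod.natCast_eq_zero_iff 2 p).mp (by exact_mod_cast h2)
    exact hp ((Nat.prime_dvd_prime_iff_eq Fact.out Nat.prime_two).mp this)⟩
  have h2 : (2 : ZMod p) * (LinearMap.det I * LinearMap.det J) = 0 := by linear_combination hd
  rcases mul_eq_zero.mp h2 with h3 | h3
  · exact two_ne_zero h3
  rcases mul_eq_zero.mp h3 with h4 | h4
  · exact hne I hI h4
  · exact hne J hJ h4

theorem isSquare_card_torsion {p : ℕ} [Fact p.Prime] (hp : p ≠ 2) {W : Type*} [AddCommGroup W]
    [Module (ZMod p) W] [Finite W] (I J : W →+ W)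
    (hI : Function.Injective I) (hJ : Function.Injective J) (h : ∀ w, J (I w) = -I (J w)) :
    IsSquare (Nat.card W) := by
  haveI : Module.Finite (ZMod p) W := Module.Finite.of_finite
  obtain ⟨k, hk⟩ := even_finrank hp (I.toZModLinearMap p) (J.toZModLinearMap p) hI hJ h
  rw [Module.natCard_eq_pow_finrank (K := ZMod p) (V := W), Nat.card_zmod, hk, pow_add]
  exact ⟨p ^ k, rfl⟩

theorem isSquare_card_aux : ∀ (n : ℕ) (V : Type*) [AddCommGroup V] [Finite V], Nat.card V ≤ n →
    Odd (Nat.card V) → ∀ I J : V →+ V, Function.Injective I → Function.Injective J →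
      (∀ v, J (I v) = -I (J v)) → IsSquare (Nat.card V) := by
  intro n
  induction n with
  | zero => intro V _ _ h; have := Nat.card_pos (α := V); omega
  | succ n ih =>
    intro V _ _ hn hodd I J hI hJ hIJ
    rcases eq_or_ne (Nat.card V) 1 with h1 | h1
    · rw [h1]; exact IsSquare.one
    obtain ⟨p, hp, hpd⟩ := Nat.exists_prime_and_dvd h1
    haveI := Fact.mk hp
    have hp2 : p ≠ 2 := fun h => (Nat.not_even_iff_odd.mpr hodd) (even_iff_two_dvd.mpr (h ▸ hpd))
    let μ : V →+ V := nsmulAddMonoidHom p
    have hcard : Nat.card V = Nat.card μ.ker * Nat.card μ.range := by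
      rw [AddSubgroup.card_eq_card_quotient_mul_card_addSubgroup μ.ker, mul_comm]
      congr 1
      exact Nat.card_congr (QuotientAddGroup.quotientKerEquivRange μ).toEquiv
    -- the `p`-torsion
    have hWp : ∀ w : μ.ker, p • w = 0 := fun w => Subtype.ext w.2
    have hres : ∀ L : V →+ V, ∀ w : μ.ker, L w ∈ μ.ker := by
      intro L w
      have hw : p • (w : V) = 0 := w.2
      show p • L (w : V) = 0
      rw [← map_nsmul, hw, map_zero]
    have hkersq : IsSquare (Nat.card μ.ker) :=
      @isSquare_card_torsion p _ hp2 μ.ker _ (AddCommGroup.zmodModule hWp) _ ((I.comp μ.ker.subtype).codRestrict μ.ker (hres I))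
        ((J.comp μ.ker.subtype).codRestrict μ.ker (hres J))
        (fun a b hab => Subtype.ext (hI (congrArg Subtype.val hab)))
        (fun a b hab => Subtype.ext (hJ (congrArg Subtype.val hab)))
        (fun w => Subtype.ext (hIJ w))
    have hkne : 1 < Nat.card μ.ker := by
      obtain ⟨x, hx⟩ := exists_prime_addOrderOf_dvd_card' p hpd
      rw [Finite.one_lt_card_iff_nontrivial]
      refine ⟨⟨⟨x, ?_⟩, 0, fun h => ?_⟩⟩
      · show p • x = 0
        rw [← hx]
        exact addOrderOf_nsmul_eq_zero x
      · have : x = 0 := congrArg Subtype.val h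
        rw [this, addOrderOf_zero] at hx
        exact hp.one_lt.ne hx
    -- the image
    have him : ∀ L : V →+ V, ∀ w : μ.range, L w ∈ μ.range := by
      rintro L ⟨_, y, rfl⟩
      exact ⟨L y, (map_nsmul L p y).symm⟩
    have hsq : IsSquare (Nat.card μ.range) := by
      refine ih μ.range ?_ ?_ ((I.comp μ.range.subtype).codRestrict μ.range (him I))
        ((J.comp μ.range.subtype).codRestrict μ.range (him J))
        (fun a b hab => Subtype.ext (hI (congrArg Subtype.val hab)))
        (fun a b hab => Subtype.ext (hJ (congrArg Subtype.val hab)))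
        (fun w => Subtype.ext (hIJ w))
      · have := Nat.card_pos (α := μ.range)
        nlinarith
      · exact Odd.of_dvd_nat hodd (hcard ▸ Dvd.intro_left _ rfl)
    rw [hcard]
    exact IsSquare.mul hkersq hsq

/-- A finite abelian group of odd order with anticommuting injective endomorphisms has square
order. -/
theorem isSquare_card {V : Type*} [AddCommGroup V] [Finite V] (hodd : Odd (Nat.card V))
    (I J : V →+ V) (hI : Function.Injective I) (hJ : Function.Injective J)
    (h : ∀ v, J (I v) = -I (J v)) : IsSquare (Nat.card V) :=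
  isSquare_card_aux _ V le_rfl hodd I J hI hJ h

end CfsgLib.AnticommutingSquare
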