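import Mathlib
import Cfsg.Agent.Lib.Structure.ClassGraph

/-!
A connected prime graph on class sizes has diameter at most three.
-/

set_option autoImplicit false
set_option linter.style.haveILetI false

namespace CfsgLib.ClassDiameter

open Subgroup CfsgLib.ClassGraph

variable {G : Type*} [Group G] [Finite G]

/-- Some class size is divisible by both. -/
def Adj (G : Type*) [Group G] (r s : ℕ) : Prop := ∃ g : G, r * s ∣ idx g

/-- The primes at distance at most one. -/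
def ball (G : Type*) [Group G] (p : ℕ) : Set ℕ := {r | r = p ∨ Adj G p r}

omit [Finite G] in
theorem adj_of_dvd {r s : ℕ} (hr : r.Prime) (hs : s.Prime) (hne : r ≠ s) {g : G}
    (h1 : r ∣ idx g) (h2 : s ∣ idx g) : Adj G r s :=
  ⟨g, ((Nat.coprime_primes hr hs).mpr hne).mul_dvd_of_dvd_of_dvd h1 h2⟩

omit [Finite G] in
theorem tnum_ball_of_dvd {p : ℕ} (hp : p.Prime) {g : G} (h : p ∣ idx g) : TNum (ball G p) (idx g) := by
  intro r hr hrd
  by_cases e : r = p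
  · exact Or.inl e
  · exact Or.inr (adj_of_dvd hp hr (fun e' => e e'.symm) h hrd)

/-- The situation of two distant primes `p`, `q`, with the larger class near `p`, and a prime `m` near neither. -/
theorem false_of_distant {p q m : ℕ} (hp : p.Prime) (hq : q.Prime) (hm : m.Prime)
    (hsep : ∀ (g : G) (a b : ℕ), a.Prime → b.Prime → a ∈ ball G p → b ∈ ball G q → a ∣ idx g → b ∣ idx g → False)
    (hmA : m ∉ ball G p) (hmB : m ∉ ball G q) (hmv : ∃ g : G, m ∣ idx g) (hqv : ∃ g : G, q ∣ idx g)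
    (y : G) (hy : TNum (ball G p) (idx y)) (hy1 : 1 < idx y)
    (hmax : ∀ g : G, TNum (ball G p) (idx g) ∨ TNum (ball G q) (idx g) → idx g ≤ idx y) : False := by
  classical
  haveI := Fact.mk hm
  obtain ⟨N, hNn, hNT, hN⟩ := exists_translation_group' y hy hy1
  haveI := hNn
  have hco : ∀ x : G, TNum (ball G q) (idx x) → (idx y).Coprime (idx x) := fun x hx =>
    Nat.coprime_of_dvd fun r hr h1 h2 => hsep y r r hr hr (hy r hr h1) (hx r hr h2) h1 h1
  have hmod : ∀ x g : G, TNum (ball G q) (idx x) → x⁻¹ * (g * x * g⁻¹) ∈ N := by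
    intro x g hx
    refine hN x g (hco x hx) ?_
    have hdvd : idx (x * y) ∣ idx x * idx y :=
      (index_dvd_of_le (H := centralizer ({x} : Set G) ⊓ centralizer ({y} : Set G))
        fun c hc => mem_cent_mul hc.1 hc.2).trans (dvd_of_eq (le_antisymm index_inf_le
          (Nat.le_of_dvd (Nat.pos_of_ne_zero index_ne_zero_of_finite)
            ((hco x hx).symm.mul_dvd_of_dvd_of_dvd (index_dvd_of_le inf_le_left)
              (index_dvd_of_le inf_le_right)))))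
    have hprimes : ∀ r : ℕ, r.Prime → r ∣ idx (x * y) → r ∈ ball G p ∨ r ∈ ball G q := fun r hr h =>
      ((hr.dvd_mul.mp (h.trans hdvd)).imp (hx r hr) (hy r hr)).symm
    refine hmax _ ?_
    by_contra h
    simp only [TNum, not_or, not_forall] at h
    obtain ⟨⟨a, ha, had, haA⟩, ⟨b, hb, hbd, hbB⟩⟩ := h
    exact hsep (x * y) b a hb ha ((hprimes b hb hbd).resolve_right hbB) ((hprimes a ha had).resolve_left haA) hbd had
  -- `m`-elements with class size near `q` are central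
  have hcent : ∀ (x : G) (k : ℕ), TNum (ball G q) (idx x) → orderOf x = m ^ k → x ∈ center G := by
    intro x k hx hxk
    exact central_of_prime_power (T := ball G p) N (fun r hr hrd => hNT r hr hrd)
      (fun r hr hrd hrA => hsep x r r hr hr hrA (hx r hr hrd) hrd hrd) (fun g => hmod x g hx) (p := m) hmA hxk
  obtain ⟨x₀, hx₀⟩ := hqv
  have hx₀B : TNum (ball G q) (idx x₀) := tnum_ball_of_dvd hq hx₀
  obtain ⟨k, r, hmr, hkr⟩ := Nat.exists_eq_pow_mul_and_not_dvd (orderOf_pos x₀).ne' m hm.ne_one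
  have hr0 : r ≠ 0 := fun e => hmr (e ▸ dvd_zero m)
  have hcop : (m ^ k).Coprime r := ((hm.coprime_iff_not_dvd).mpr hmr).pow_left k
  set v := x₀ ^ (m ^ k) with hv
  have hvo : orderOf v = r := by
    rw [hv, orderOf_pow' x₀ (pow_ne_zero _ hm.ne_zero), hkr, Nat.gcd_eq_right (dvd_mul_right _ _),
      Nat.mul_div_cancel_left _ (pow_pos hm.pos k)]
  have ho1 : orderOf (x₀ ^ r) = m ^ k := by
    rw [orderOf_pow' x₀ hr0, hkr, Nat.gcd_eq_right (dvd_mul_left _ _), Nat.mul_div_cancel _ (by omega)]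
  have hz : x₀ ^ r ∈ center G := hcent _ k (hx₀B.dvd (idx_pow_dvd x₀ r)) ho1
  have hvdvd : idx x₀ ∣ idx v := index_dvd_of_le fun c hc => by
    rw [mem_cent] at hc ⊢
    have e : x₀ = v ^ Nat.gcdA (m ^ k) r * (x₀ ^ r) ^ Nat.gcdB (m ^ k) r := by
      rw [hv, ← zpow_natCast x₀, ← zpow_natCast x₀, ← zpow_mul, ← zpow_mul, ← zpow_add, ← Nat.gcd_eq_gcd_ab,
        Nat.Coprime.gcd_eq_one hcop]
      simp
    rw [e]
    exact (show Commute c v from hc).zpow_right _ |>.mul_right ((show Commute c (x₀ ^ r) from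
      mem_center_iff.mp hz c).zpow_right _)
  have hvm : ¬ m ∣ idx v := fun h => hmB (hx₀B m hm (h.trans (idx_pow_dvd x₀ _)))
  obtain ⟨M, hM⟩ := CfsgLib.KnownSimple51.Pronormal.exists_sylow_le_of_not_dvd_index
    (H := centralizer ({v} : Set G)) hvm
  obtain ⟨g, hg⟩ := hmv
  have hMZ : ¬ (M : Subgroup G) ≤ center G := fun h => M.not_dvd_index
    (hg.trans (index_dvd_of_le fun a ha => mem_cent.mpr (mem_center_iff.mp (h ha) g).symm))
  obtain ⟨a, haM, haZ⟩ := SetLike.not_le_iff_exists.mp hMZ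
  obtain ⟨l, hl⟩ := (IsPGroup.iff_orderOf.mp M.isPGroup') ⟨a, haM⟩
  rw [Subgroup.orderOf_mk] at hl
  obtain ⟨t, ht, htd, htB⟩ : ∃ t : ℕ, t.Prime ∧ t ∣ idx a ∧ t ∉ ball G q := by
    by_contra h
    push Not at h
    exact haZ (hcent a l h hl)
  obtain ⟨d1, d2⟩ := idx_dvd_mul (a := a) (b := v) (mem_cent.mp (hM haM))
    (by rw [hl, hvo]; exact ((hm.coprime_iff_not_dvd).mpr hmr).pow_left l)
  refine htB (Or.inr (adj_of_dvd hq ht (fun e => htB (Or.inl e.symm)) ?_ (htd.trans d1)))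
  exact hx₀.trans (hvdvd.trans d2)

/-- Connected graph: any two vertices have distance at most three. -/
theorem distance_le_three
    (hconn : ∀ S : Set ℕ, (∃ p ∈ S, p.Prime ∧ ∃ g : G, p ∣ idx g) → (∃ q ∉ S, q.Prime ∧ ∃ g : G, q ∣ idx g) →
      ∃ a b : ℕ, (a.Prime ∧ ∃ g : G, a ∣ idx g) ∧ (b.Prime ∧ ∃ g : G, b ∣ idx g) ∧ a ∈ S ∧ b ∉ S ∧ Adj G a b)
    (p q : ℕ) (hp : p.Prime ∧ ∃ g : G, p ∣ idx g) (hq : q.Prime ∧ ∃ g : G, q ∣ idx g) (hpq : p ≠ q) :
    Adj G p q ∨ (∃ r : ℕ, (r.Prime ∧ ∃ g : G, r ∣ idx g) ∧ r ≠ p ∧ r ≠ q ∧ Adj G p r ∧ Adj G r q) ∨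
      (∃ r s : ℕ, (r.Prime ∧ ∃ g : G, r ∣ idx g) ∧ (s.Prime ∧ ∃ g : G, s ∣ idx g) ∧ r ≠ p ∧ s ≠ q ∧ r ≠ s ∧
        r ≠ q ∧ s ≠ p ∧ Adj G p r ∧ Adj G r s ∧ Adj G s q) := by
  by_contra hneg
  simp only [not_or] at hneg
  obtain ⟨hn1, hn2, hn3⟩ := hneg
  have symm : ∀ {a b : ℕ}, Adj G a b → Adj G b a := fun ⟨g, hg⟩ => ⟨g, by rwa [mul_comm]⟩
  have hsep : ∀ (g : G) (a b : ℕ), a.Prime → b.Prime → a ∈ ball G p → b ∈ ball G q → a ∣ idx g → b ∣ idx g → False := by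
    intro g a b ha hb haA hbB had hbd
    by_cases haq : a = q
    · rcases haA with e | h
      · exact hpq (e.symm.trans haq)
      · exact hn1 (haq ▸ h)
    by_cases hbp : b = p
    · rcases hbB with e | h
      · exact hpq (hbp.symm.trans e)
      · exact hn1 (symm (hbp ▸ h))
    by_cases hap : a = p
    · by_cases hbq : b = q
      · exact hn1 (adj_of_dvd hp.1 hq.1 hpq (hap ▸ had) (hbq ▸ hbd))
      · exact hn2 ⟨b, ⟨hb, g, hbd⟩, hbp, hbq, adj_of_dvd hp.1 hb (fun e => hbp e.symm) (hap ▸ had) hbd,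
          symm (hbB.resolve_left hbq)⟩
    by_cases hbq : b = q
    · exact hn2 ⟨a, ⟨ha, g, had⟩, hap, haq, haA.resolve_left hap, adj_of_dvd ha hq.1 haq had (hbq ▸ hbd)⟩
    by_cases hab : a = b
    · exact hn2 ⟨a, ⟨ha, g, had⟩, hap, haq, haA.resolve_left hap, symm (hab ▸ hbB.resolve_left hbq)⟩
    exact hn3 ⟨a, b, ⟨ha, g, had⟩, ⟨hb, g, hbd⟩, hap, hbq, hab, haq, hbp, haA.resolve_left hap,
      adj_of_dvd ha hb hab had hbd, symm (hbB.resolve_left hbq)⟩
  obtain ⟨a, m, ha, hm, haA, hmA, g, hg⟩ := hconn (ball G p) ⟨p, Or.inl rfl, hp⟩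
    ⟨q, fun h => h.elim (fun e => hpq e.symm) hn1, hq⟩
  have hmB : m ∉ ball G q := fun h =>
    hsep g a m ha.1 hm.1 haA h ((dvd_mul_right _ _).trans hg) ((dvd_mul_left _ _).trans hg)
  let good : Set G := {u | TNum (ball G p) (idx u) ∨ TNum (ball G q) (idx u)}
  obtain ⟨gp, hgp⟩ := hp.2
  haveI : Nonempty good := ⟨⟨gp, Or.inl (tnum_ball_of_dvd hp.1 hgp)⟩⟩
  obtain ⟨⟨y, hy⟩, hmax⟩ := Finite.exists_max (fun u : good => idx (u : G))
  have hy1 : 1 < idx y := (hp.1.one_lt.trans_le (Nat.le_of_dvd (Nat.pos_of_ne_zero (idx_ne_zero gp)) hgp)).trans_le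
    (hmax ⟨gp, Or.inl (tnum_ball_of_dvd hp.1 hgp)⟩)
  rcases hy with h | h
  · exact false_of_distant hp.1 hq.1 hm.1 hsep hmA hmB hm.2 hq.2 y h hy1 (fun u hu => hmax ⟨u, hu⟩)
  · exact false_of_distant hq.1 hp.1 hm.1 (fun u a b ha hb h1 h2 h3 h4 => hsep u b a hb ha h2 h1 h4 h3)
      hmB hmA hm.2 hp.2 y h hy1 (fun u hu => hmax ⟨u, hu.symm⟩)

end CfsgLib.ClassDiameter
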