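import Cfsg.Agent.Lib.Coprime.Action
import Cfsg.Agent.Lib.Coprime.Commutator
import Cfsg.Agent.Lib.Frobenius.Action
import Cfsg.Agent.Lib.PGroup.Frattini
import Cfsg.Agent.Lib.Solvable.Fitting

/-!
Coprime action of an abelian group `A` on `G`: the centralizers in `G` of the subgroups `B ≤ A`
with cyclic `A/B` generate `G`, and their commutators with `A` generate `[G,A]`.
-/

set_option autoImplicit false
set_option linter.style.haveILetI false

open Subgroup

namespace CfsgLib.Structure

universe u

variable {X : Type u} [Group X]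

/-- `B ≤ A` with `A/B` cyclic. -/
def IsCocyclicIn (A B : Subgroup X) : Prop := B ≤ A ∧ ∃ a ∈ A, B ⊔ Subgroup.zpowers a = A

/-- The join of the centralizers in `V` of the cocyclic subgroups of `A`. -/
def cocyclicJoin (A V : Subgroup X) : Subgroup X :=
  ⨆ B ∈ {B : Subgroup X | IsCocyclicIn A B}, V ⊓ centralizer (B : Set X)

theorem cocyclicJoin_le (A V : Subgroup X) : cocyclicJoin A V ≤ V :=
  iSup₂_le fun _ _ => inf_le_left

theorem cocyclicJoin_mono (A : Subgroup X) {V W : Subgroup X} (h : V ≤ W) :
    cocyclicJoin A V ≤ cocyclicJoin A W :=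
  iSup₂_mono fun _ _ => inf_le_inf_right _ h

theorem le_normalizer_centralizer_of_normalizes {A B : Subgroup X}
    (h : A ≤ normalizer (B : Set X)) : A ≤ normalizer ((centralizer (B : Set X)) : Set X) := by
  rw [le_normalizer_iff]
  intro a ha x hx
  rw [mem_centralizer_iff]
  intro b hb
  have h1 : a⁻¹ * b * a ∈ B := by simpa using le_normalizer_iff.mp h a⁻¹ (inv_mem ha) b hb
  have h2 := mem_centralizer_iff.mp hx _ h1
  calc b * (a * x * a⁻¹) = a * ((a⁻¹ * b * a) * x) * a⁻¹ := by group
    _ = a * (x * (a⁻¹ * b * a)) * a⁻¹ := by rw [h2]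
    _ = a * x * a⁻¹ * b := by group

theorem le_normalizer_of_abelian {A B : Subgroup X} [IsMulCommutative A] (h : B ≤ A) :
    A ≤ normalizer (B : Set X) := by
  rw [le_normalizer_iff]
  intro a ha b hb
  have := congrArg Subtype.val (Std.Commutative.comm (op := ((· * ·) : A → A → A)) ⟨a, ha⟩ ⟨b, h hb⟩)
  rw [show a * b = b * a from this, mul_inv_cancel_right]
  exact hb

theorem le_cocyclicJoin_of_abelian [Finite X] (A : Subgroup X) [IsMulCommutative A] :
    ∀ n, ∀ V : Subgroup X, Nat.card V = n → IsMulCommutative V → A ≤ normalizer (V : Set X) →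
      (Nat.card A).Coprime (Nat.card V) → V ≤ cocyclicJoin A V := by
  intro n
  induction n using Nat.strong_induction_on with
  | _ n ih =>
    intro V hn hVab hAV hcop
    haveI := hVab
    by_cases hsplit : ∃ a ∈ A, ¬ (V ⊓ centralizer (zpowers a : Set X) = ⊥) ∧
        ¬ (V ⊓ centralizer (zpowers a : Set X) = V)
    · obtain ⟨a, ha, h1, h2⟩ := hsplit
      have hza : zpowers a ≤ A := zpowers_le.mpr ha
      have hzV : zpowers a ≤ normalizer (V : Set X) := hza.trans hAV
      have hcopa : (Nat.card (zpowers a)).Coprime (Nat.card V) :=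
        hcop.coprime_dvd_left (card_dvd_of_le hza)
      have hcomm := CfsgLib.Coprime.commutator_sup_centralizer (zpowers a) V hzV hcopa (Or.inl inferInstance)
      have hinf := CfsgLib.Coprime.commutator_inf_centralizer_eq_bot (zpowers a) V hzV hcopa
      have hW1 : V ⊓ centralizer (zpowers a : Set X) < V := lt_of_le_of_ne inf_le_left h2
      have hW2le : ⁅V, zpowers a⁆ ≤ V := CfsgLib.Coprime.commutator_le_of_normalizes hzV
      have hW2 : ⁅V, zpowers a⁆ < V := by
        refine lt_of_le_of_ne hW2le fun he => h1 (le_bot_iff.mp ?_)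
        rw [← hinf, he]
      have hlt : ∀ W : Subgroup X, W < V → Nat.card W < n := fun W hW => hn ▸
        lt_of_le_of_ne (card_le_of_le hW.le) fun he => hW.ne (eq_of_le_of_card_ge hW.le he.ge)
      have hsub : ∀ W : Subgroup X, W < V → A ≤ normalizer (W : Set X) → W ≤ cocyclicJoin A V := by
        intro W hW hAW
        haveI : IsMulCommutative W := ⟨⟨fun x y => Subtype.ext (
          (congrArg Subtype.val (Std.Commutative.comm (op := ((· * ·) : V → V → V))
            (⟨(x : X), hW.le x.2⟩ : V) ⟨(y : X), hW.le y.2⟩) : (x : X) * y = y * x))⟩⟩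
        exact (ih _ (hlt W hW) W rfl inferInstance hAW
          (hcop.coprime_dvd_right (card_dvd_of_le hW.le))).trans (cocyclicJoin_mono A hW.le)
      calc V = ⁅V, zpowers a⁆ ⊔ (V ⊓ centralizer (zpowers a : Set X)) := hcomm.symm
        _ ≤ cocyclicJoin A V := by
          refine sup_le (hsub _ hW2 ?_) (hsub _ hW1 ?_)
          · rw [le_normalizer_iff]
            intro b hb x hx
            have hmem := mem_map_of_mem (MulAut.conj b).toMonoidHom hx
            have hV' : V.map (MulAut.conj b).toMonoidHom = V := mem_normalizer_iff_map_conj_eq.mp (hAV hb)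
            have hZ' : (zpowers a).map (MulAut.conj b).toMonoidHom = zpowers a :=
              mem_normalizer_iff_map_conj_eq.mp (le_normalizer_of_abelian hza hb)
            rwa [map_commutator, hV', hZ'] at hmem
          · exact (le_inf hAV (le_normalizer_centralizer_of_normalizes
              (le_normalizer_of_abelian hza))).trans inf_normalizer_le_normalizer_inf
    · push Not at hsplit
      rcases eq_or_ne V ⊥ with rfl | hne
      · exact bot_le
      haveI : Nontrivial V := V.nontrivial_iff_ne_bot.mpr hne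
      let φ : A →* MulAut V := (V.normalizerMonoidHom).comp (inclusion hAV)
      have hmem : ∀ a : A, φ a = 1 ↔ (a : X) ∈ centralizer (V : Set X) := by
        intro a
        rw [mem_centralizer_iff]
        constructor
        · intro h v hv
          have h' : (a : X) * v * (a : X)⁻¹ = v := by
            simpa [φ] using congrArg Subtype.val (DFunLike.congr_fun h ⟨v, hv⟩)
          exact (mul_inv_eq_iff_eq_mul.mp h').symm
        · intro h
          ext v
          show (a : X) * v * (a : X)⁻¹ = v
          rw [mul_inv_eq_iff_eq_mul, ← h v v.2]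
      letI : MulDistribMulAction φ.range V := MulDistribMulAction.compHom V φ.range.subtype
      have hfpf : CfsgLib.Frobenius.IsFPF φ.range V := by
        rintro ⟨_, a, rfl⟩ hne' v hv
        have hv' : (a : X) * v * (a : X)⁻¹ = v := congrArg Subtype.val hv
        have hvc : (v : X) ∈ V ⊓ centralizer (zpowers (a : X) : Set X) := by
          refine ⟨v.2, ?_⟩
          have : zpowers (a : X) ≤ centralizer ({(v : X)} : Set X) :=
            zpowers_le.mpr (mem_centralizer_singleton_iff.mpr (mul_inv_eq_iff_eq_mul.mp hv'))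
          exact fun z hz => mem_centralizer_singleton_iff.mp (this hz)
        by_contra hv1
        have hV := hsplit a a.2 fun h => hv1 (Subtype.ext (mem_bot.mp (h.le hvc)))
        refine hne' (Subtype.ext ((hmem a).mpr ?_))
        intro w hw
        exact ((inf_eq_left.mp hV) hw (a : X) (mem_zpowers _)).symm
      haveI : IsMulCommutative φ.range := by
        refine ⟨⟨?_⟩⟩
        rintro ⟨_, a, rfl⟩ ⟨_, b, rfl⟩
        apply Subtype.ext
        show φ a * φ b = φ b * φ a
        rw [← map_mul, ← map_mul, Std.Commutative.comm (op := ((· * ·) : A → A → A)) a b]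
      haveI : IsCyclic φ.range := hfpf.isCyclic_of_commutative
      obtain ⟨⟨_, a₀, rfl⟩, hg⟩ := IsCyclic.exists_generator (α := φ.range)
      have hB : IsCocyclicIn A (A ⊓ centralizer (V : Set X)) := by
        refine ⟨inf_le_left, a₀, a₀.2, le_antisymm (sup_le inf_le_left (zpowers_le.mpr a₀.2)) ?_⟩
        intro x hx
        obtain ⟨k, hk⟩ := mem_zpowers_iff.mp (hg ⟨φ ⟨x, hx⟩, ⟨x, hx⟩, rfl⟩)
        have hk' : φ ⟨x, hx⟩ = φ (a₀ ^ k) := by
          rw [map_zpow]
          exact (congrArg Subtype.val hk).symm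
        have h1 : φ ((⟨x, hx⟩ : A) * (a₀ ^ k)⁻¹) = 1 := by rw [map_mul, map_inv, hk', mul_inv_cancel]
        have h2 : x * ((a₀ : X) ^ k)⁻¹ ∈ A ⊓ centralizer (V : Set X) :=
          ⟨A.mul_mem hx (A.inv_mem (A.zpow_mem a₀.2 k)), by simpa using (hmem _).mp h1⟩
        rw [show x = x * ((a₀ : X) ^ k)⁻¹ * (a₀ : X) ^ k by group]
        exact mul_mem (mem_sup_left h2) (mem_sup_right (Subgroup.zpow_mem _ (mem_zpowers _) k))
      refine le_trans ?_ (le_biSup _ hB)
      exact le_inf le_rfl (le_centralizer_iff.mp inf_le_right)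

/-- The generation statement in a group where the `p`-group `P` is normal. -/
theorem le_cocyclicJoin_of_normal_pgroup [Finite X] {p : ℕ} [Fact p.Prime] (A P : Subgroup X)
    [IsMulCommutative A] [P.Normal] (hP : IsPGroup p P) (hcop : (Nat.card A).Coprime (Nat.card P)) :
    P ≤ cocyclicJoin A P := by
  set N := (_root_.commutator P).map P.subtype with hN
  haveI : N.Normal := inferInstance
  set f := QuotientGroup.mk' N with hf
  set T := cocyclicJoin A P with hT
  have hab : IsMulCommutative (P.map f) := by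
    rw [← commutator_self_eq_bot_iff, ← map_commutator, Subgroup.map_eq_bot_iff, hf,
      QuotientGroup.ker_mk', hN, map_subtype_commutator]
  haveI : IsMulCommutative (A.map f) := by
    rw [← commutator_self_eq_bot_iff, ← map_commutator,
      commutator_self_eq_bot_iff.mpr (inferInstance : IsMulCommutative A), Subgroup.map_bot]
  haveI : (P.map f).Normal := Normal.map inferInstance _ (QuotientGroup.mk'_surjective N)
  have hcop' : (Nat.card (A.map f)).Coprime (Nat.card (P.map f)) :=
    (hcop.coprime_dvd_left (card_map_dvd A f)).coprime_dvd_right (card_map_dvd P f)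
  have hgen := le_cocyclicJoin_of_abelian (A.map f) _ (P.map f) rfl hab le_normalizer_of_normal hcop'
  have hTf : P.map f ≤ T.map f := by
    refine hgen.trans (iSup₂_le fun B hB => ?_)
    obtain ⟨hBA, _, ⟨a, ha, rfl⟩, hsup⟩ := hB
    have hmap : (A ⊓ B.comap f).map f = B := by
      refine le_antisymm ((map_mono inf_le_right).trans (map_comap_le _ _)) fun x hx => ?_
      obtain ⟨y, hy, rfl⟩ := hBA hx
      exact mem_map_of_mem f ⟨hy, hx⟩
    have hB' : IsCocyclicIn A (A ⊓ B.comap f) := by
      refine ⟨inf_le_left, a, ha, le_antisymm (sup_le inf_le_left (zpowers_le.mpr ha)) fun x hx => ?_⟩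
      have hx' : f x ∈ B ⊔ zpowers (f a) := hsup.ge (mem_map_of_mem f hx)
      rw [sup_comm] at hx'
      obtain ⟨z, hz, b, hb, hzb⟩ := CfsgLib.Coprime.exists_mul_of_mem_sup (show zpowers (f a) ≤ normalizer (B : Set _) from
        (zpowers_le.mpr (le_normalizer_of_abelian hBA (mem_map_of_mem f ha)))) hx'
      obtain ⟨k, rfl⟩ := mem_zpowers_iff.mp hz
      have h2 : (a ^ k)⁻¹ * x ∈ A ⊓ B.comap f := by
        refine ⟨A.mul_mem (A.inv_mem (A.zpow_mem ha k)) hx, ?_⟩
        show f ((a ^ k)⁻¹ * x) ∈ B
        rw [map_mul, map_inv, map_zpow, hzb, inv_mul_cancel_left]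
        exact hb
      rw [show x = a ^ k * ((a ^ k)⁻¹ * x) by group]
      exact mul_mem (mem_sup_right (Subgroup.zpow_mem _ (mem_zpowers a) k)) (mem_sup_left h2)
    have hBn : A ⊓ B.comap f ≤ normalizer (P : Set X) := le_normalizer_of_normal
    have hm := CfsgLib.Coprime.map_inf_centralizer f (A ⊓ B.comap f) P hBn
      (hcop.coprime_dvd_left (card_dvd_of_le inf_le_left))
      (Or.inr (haveI := hP.isNilpotent; inferInstance))
    rw [hmap] at hm
    rw [← hm]
    refine map_mono ?_
    exact le_biSup (fun C : Subgroup X => P ⊓ centralizer (C : Set X)) (s := {C : Subgroup X | IsCocyclicIn A C}) hB'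
  have hle : P ≤ T ⊔ N := by
    have := comap_mono (f := f) hTf
    rw [comap_map_eq, comap_map_eq, hf, QuotientGroup.ker_mk'] at this
    exact le_sup_left.trans this
  have htop : T.subgroupOf P = ⊤ := by
    refine frattini_nongenerating (top_le_iff.mp ?_)
    intro x _
    have hx := hle x.2
    rw [← SetLike.mem_coe, mul_normal] at hx
    obtain ⟨t, ht, n, ⟨n', hn', rfl⟩, htn⟩ := hx
    have e : x = (⟨t, cocyclicJoin_le A P ht⟩ : P) * n' := Subtype.ext htn.symm
    rw [e]
    exact mul_mem (mem_sup_left ht) (mem_sup_right (CfsgLib.PGroup.commutator_le_frattini hP hn'))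
  exact subgroupOf_eq_top.mp htop

theorem isSolvable_of_isMulCommutative (A : Subgroup X) [IsMulCommutative A] : Group.IsSolvable A :=
  Group.isSolvable_of_comm fun a b => Std.Commutative.comm (op := ((· * ·) : A → A → A)) a b

/-- The generation theorem for a normalized `p`-group. -/
theorem le_cocyclicJoin_of_pgroup [Finite X] {p : ℕ} [Fact p.Prime] (A P : Subgroup X)
    [IsMulCommutative A] (hAP : A ≤ normalizer (P : Set X)) (hP : IsPGroup p P)
    (hcop : (Nat.card A).Coprime (Nat.card P)) : P ≤ cocyclicJoin A P := by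
  set M : Subgroup X := normalizer (P : Set X) with hM
  have hPM : P ≤ M := le_normalizer
  haveI : (P.subgroupOf M).Normal := (normal_subgroupOf_iff_le_normalizer hPM).mpr le_rfl
  haveI : IsMulCommutative (A.subgroupOf M) := ⟨⟨fun a b => Subtype.ext (Subtype.ext (
    (congrArg Subtype.val (Std.Commutative.comm (op := ((· * ·) : A → A → A))
      (⟨((a : M) : X), a.2⟩ : A) ⟨((b : M) : X), b.2⟩) : ((a : M) : X) * (b : M) = (b : M) * (a : M))))⟩⟩
  have h := map_mono (f := M.subtype) (le_cocyclicJoin_of_normal_pgroup (p := p) (A.subgroupOf M) (P.subgroupOf M)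
    hP.comap_subtype (by
      rwa [Nat.card_congr (subgroupOfEquivOfLe hAP).toEquiv, Nat.card_congr (subgroupOfEquivOfLe hPM).toEquiv]))
  rw [map_subgroupOf_eq_of_le hPM] at h
  refine h.trans ?_
  simp only [cocyclicJoin, Subgroup.map_iSup]
  refine iSup₂_le fun B hB => ?_
  obtain ⟨hBA, a, ha, hsup⟩ := hB
  have hB' : IsCocyclicIn A (B.map M.subtype) := by
    refine ⟨(map_mono hBA).trans (map_comap_le _ _), a, ha, ?_⟩
    rw [show zpowers (a : X) = (zpowers a).map M.subtype from (MonoidHom.map_zpowers M.subtype a).symm,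
      ← Subgroup.map_sup, hsup, map_subgroupOf_eq_of_le hAP]
  refine le_trans ?_ (le_biSup (fun C : Subgroup X => P ⊓ centralizer (C : Set X))
    (s := {C : Subgroup X | IsCocyclicIn A C}) hB')
  rintro _ ⟨x, ⟨hx, hxc⟩, rfl⟩
  refine ⟨hx, ?_⟩
  rintro _ ⟨b, hb, rfl⟩
  exact congrArg Subtype.val (hxc b hb)

/-- The generation theorem. -/
theorem le_cocyclicJoin [Finite X] (A G : Subgroup X) [IsMulCommutative A]
    (hAG : A ≤ normalizer (G : Set X)) (hcop : (Nat.card A).Coprime (Nat.card G)) :
    G ≤ cocyclicJoin A G := by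
  refine subgroupOf_eq_top.mp (CfsgLib.Fitting.eq_top_of_forall_sylow_le fun p hp _ => ?_)
  haveI := Fact.mk hp
  obtain ⟨P, hPA⟩ := CfsgLib.Coprime.exists_invariant_sylow A G hAG hcop
    (Or.inl (isSolvable_of_isMulCommutative A)) p
  refine ⟨P, map_le_iff_le_comap.mp ?_⟩
  exact (le_cocyclicJoin_of_pgroup A ((P : Subgroup G).map G.subtype) hPA (P.isPGroup'.map _)
    (hcop.coprime_dvd_right (card_dvd_of_le (map_subtype_le _)))).trans
    (cocyclicJoin_mono A (map_subtype_le _))

/-- The commutator form of the generation theorem. -/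
theorem commutator_eq_iSup_cocyclic [Finite X] (A G : Subgroup X) [IsMulCommutative A]
    (hAG : A ≤ normalizer (G : Set X)) (hcop : (Nat.card A).Coprime (Nat.card G)) :
    (⨆ B ∈ {B : Subgroup X | IsCocyclicIn A B}, ⁅G ⊓ centralizer (B : Set X), A⁆) = ⁅G, A⁆ := by
  set K := ⨆ B ∈ {B : Subgroup X | IsCocyclicIn A B}, ⁅G ⊓ centralizer (B : Set X), A⁆ with hK
  set C := G ⊓ centralizer (A : Set X) with hC
  have hsolv : Group.IsSolvable A := isSolvable_of_isMulCommutative A
  refine le_antisymm (iSup₂_le fun B _ => commutator_mono inf_le_left le_rfl) ?_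
  have hinv : ∀ B : Subgroup X, B ≤ A → A ≤ normalizer ((G ⊓ centralizer (B : Set X) : Subgroup X) : Set X) :=
    fun B hB => (le_inf hAG (le_normalizer_centralizer_of_normalizes (le_normalizer_of_abelian hB))).trans
      inf_normalizer_le_normalizer_inf
  -- `C` normalizes every generator
  have hCK : C ≤ normalizer (K : Set X) := by
    rw [le_normalizer_iff]
    intro c hc x hx
    have hle : K ≤ K.comap (MulAut.conj c).toMonoidHom := by
      refine iSup₂_le fun B hB => ?_
      rw [← map_le_iff_le_comap, map_commutator]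
      have hA' : A.map (MulAut.conj c).toMonoidHom = A := mem_normalizer_iff_map_conj_eq.mp
        (centralizer_le_normalizer _ hc.2)
      have hcB : c ∈ G ⊓ centralizer (B : Set X) := ⟨hc.1, centralizer_le (fun b hb => hB.1 hb) hc.2⟩
      have hG' : (G ⊓ centralizer (B : Set X)).map (MulAut.conj c).toMonoidHom = G ⊓ centralizer (B : Set X) :=
        mem_normalizer_iff_map_conj_eq.mp (le_normalizer hcB)
      rw [hA', hG']
      exact le_biSup (fun B : Subgroup X => ⁅G ⊓ centralizer (B : Set X), A⁆)
        (s := {B : Subgroup X | IsCocyclicIn A B}) hB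
    exact hle hx
  have hGC : G ≤ C ⊔ K := by
    refine (le_cocyclicJoin A G hAG hcop).trans (iSup₂_le fun B hB => ?_)
    rw [← CfsgLib.Coprime.commutator_sup_centralizer A _ (hinv B hB.1)
      (hcop.coprime_dvd_right (card_dvd_of_le inf_le_left)) (Or.inl hsolv)]
    refine sup_le (le_trans ?_ le_sup_right) (le_trans (inf_le_inf_right _ inf_le_left) le_sup_left)
    exact le_biSup (fun B : Subgroup X => ⁅G ⊓ centralizer (B : Set X), A⁆)
      (s := {B : Subgroup X | IsCocyclicIn A B}) hB
  have hAK : A ≤ normalizer (K : Set X) := by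
    rw [le_normalizer_iff]
    intro a ha x hx
    have hle : K ≤ K.comap (MulAut.conj a).toMonoidHom := by
      refine iSup₂_le fun B hB => ?_
      rw [← map_le_iff_le_comap, map_commutator]
      have hA' : A.map (MulAut.conj a).toMonoidHom = A := mem_normalizer_iff_map_conj_eq.mp (le_normalizer ha)
      have hG' : (G ⊓ centralizer (B : Set X)).map (MulAut.conj a).toMonoidHom = G ⊓ centralizer (B : Set X) :=
        mem_normalizer_iff_map_conj_eq.mp (hinv B hB.1 ha)
      rw [hA', hG']
      exact le_biSup (fun B : Subgroup X => ⁅G ⊓ centralizer (B : Set X), A⁆)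
        (s := {B : Subgroup X | IsCocyclicIn A B}) hB
    exact hle hx
  rw [commutator_le]
  intro g hg a ha
  obtain ⟨c, hc, k, hk, rfl⟩ := CfsgLib.Coprime.exists_mul_of_mem_sup hCK (hGC hg)
  have hca : c * a * c⁻¹ = a := by
    rw [mul_inv_eq_iff_eq_mul, mem_centralizer_iff.mp hc.2 a ha]
  have e : (c * k) * a * (c * k)⁻¹ * a⁻¹ = c * (k * (a * k⁻¹ * a⁻¹)) * c⁻¹ := by
    calc (c * k) * a * (c * k)⁻¹ * a⁻¹ = c * (k * (a * k⁻¹ * a⁻¹)) * (a * c⁻¹ * a⁻¹) := by group
      _ = c * (k * (a * k⁻¹ * a⁻¹)) * c⁻¹ := by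
        congr 1
        conv_rhs => rw [← inv_inv c⁻¹]
        rw [mul_inv_eq_iff_eq_mul, inv_inv]
        calc a * c⁻¹ = c⁻¹ * (c * a * c⁻¹) := by group
          _ = c⁻¹ * a := by rw [hca]
  show (c * k) * a * (c * k)⁻¹ * a⁻¹ ∈ K
  rw [e]
  exact le_normalizer_iff.mp hCK c hc _ (mul_mem hk (le_normalizer_iff.mp hAK a ha _ (inv_mem hk)))

end CfsgLib.Structure
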