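import Mathlib
import Cfsg.Prelude.Def_Solvable

/-!
Frobenius groups from fixed-point-free actions; finite subgroups of division rings are
Frobenius complements.
-/

set_option autoImplicit false
set_option linter.style.haveILetI false

namespace CfsgLib.FrobConstruct

open scoped Pointwise

/-- `H` is (abstractly) a Frobenius complement of a finite group living in `Type`. -/
def IsAbstractComplement (H : Type*) [Group H] : Prop :=
  ∃ (L : Type) (_ : Group L) (_ : Finite L) (C : Subgroup L),
    Cfsg.IsFrobeniusComplement C ∧ Nonempty (H ≃* C)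

theorem isAbstractComplement_congr {H K : Type*} [Group H] [Group K] (e : H ≃* K)
    (h : IsAbstractComplement K) : IsAbstractComplement H := by
  obtain ⟨L, i1, i2, C, hC, ⟨f⟩⟩ := h
  exact ⟨L, i1, i2, C, hC, ⟨e.trans f⟩⟩

theorem isFrobeniusComplement_map {L M : Type*} [Group L] [Group M] (e : L ≃* M) {C : Subgroup L}
    (hC : Cfsg.IsFrobeniusComplement C) :
    Cfsg.IsFrobeniusComplement (C.map e.toMonoidHom) := by
  obtain ⟨h1, h2, h3⟩ := hC
  refine ⟨?_, ?_, ?_⟩
  · rwa [ne_eq, Subgroup.map_eq_bot_iff_of_injective C e.injective]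
  · intro h
    apply h2
    rw [← Subgroup.comap_map_eq_self_of_injective (f := e.toMonoidHom) (fun a b h => e.injective h) C]
    exact (congrArg (Subgroup.comap e.toMonoidHom) h).trans (Subgroup.comap_top _)
  · intro g hg
    obtain ⟨x, rfl⟩ := e.surjective g
    have hx : x ∉ C := fun h => hg (Subgroup.mem_map_of_mem e.toMonoidHom h)
    rw [Subgroup.eq_bot_iff_forall]
    rintro _ ⟨⟨y, hy, rfl⟩, hy'⟩
    replace hy' : e y ∈ MulAut.conj (e x) • C.map e.toMonoidHom := hy'
    rw [Subgroup.mem_pointwise_smul_iff_inv_smul_mem] at hy'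
    obtain ⟨z, hz, hze⟩ := hy'
    have hzy : z = x⁻¹ * y * x := e.injective (by simpa [MulAut.smul_def] using hze)
    have : y ∈ C ⊓ MulAut.conj x • C := by
      refine ⟨hy, ?_⟩
      show y ∈ MulAut.conj x • C
      rw [Subgroup.mem_pointwise_smul_iff_inv_smul_mem, MulAut.smul_def, MulAut.conj_inv_apply,
        ← hzy]
      exact hz
    rw [h3 x hx, Subgroup.mem_bot] at this
    simp [this]

/-- Moving a finite Frobenius group to `Type`. -/
theorem isAbstractComplement_of_isFrobeniusComplement {L : Type*} [Group L] [Finite L]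
    (C : Subgroup L) (hC : Cfsg.IsFrobeniusComplement C) : IsAbstractComplement C := by
  haveI : Small.{0} L := Countable.toSmall L
  let f : L ≃* Shrink.{0} L := Shrink.mulEquiv.symm
  haveI : Finite (Shrink.{0} L) := Finite.of_equiv L (equivShrink L)
  exact ⟨Shrink.{0} L, inferInstance, inferInstance, C.map f.toMonoidHom,
    isFrobeniusComplement_map f hC,
    ⟨Subgroup.equivMapOfInjective C f.toMonoidHom (fun a b h => f.injective h)⟩⟩

/-- Frobenius groups as semidirect products. -/
theorem isFrobeniusComplement_inr {N H : Type*} [Group N] [Group H] [Nontrivial N] [Nontrivial H]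
    (φ : H →* MulAut N) (hfpf : ∀ h : H, h ≠ 1 → ∀ x : N, φ h x = x → x = 1) :
    Cfsg.IsFrobeniusComplement (SemidirectProduct.inr (φ := φ)).range := by
  refine ⟨?_, ?_, ?_⟩
  · intro h
    obtain ⟨a, ha⟩ := exists_ne (1 : H)
    have h1 : SemidirectProduct.inr (φ := φ) a ∈ (SemidirectProduct.inr (φ := φ)).range := ⟨a, rfl⟩
    rw [h, Subgroup.mem_bot] at h1
    exact ha (SemidirectProduct.inr_injective (by rw [h1, map_one]))
  · intro h
    obtain ⟨n, hn⟩ := exists_ne (1 : N)
    obtain ⟨a, ha⟩ : SemidirectProduct.inl (φ := φ) n ∈ (SemidirectProduct.inr (φ := φ)).range :=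
      h ▸ Subgroup.mem_top _
    have := congrArg (fun x => SemidirectProduct.left x) ha
    simp at this
    exact hn this.symm
  · intro g hg
    have hn : g.left ≠ 1 := fun h => hg ⟨g.right, SemidirectProduct.ext (by simp [h]) (by simp)⟩
    rw [Subgroup.eq_bot_iff_forall]
    rintro x ⟨⟨k, rfl⟩, hk'⟩
    replace hk' : SemidirectProduct.inr k ∈ MulAut.conj g • (SemidirectProduct.inr (φ := φ)).range :=
      hk'
    rw [Subgroup.mem_pointwise_smul_iff_inv_smul_mem, MulAut.smul_def,
      MulAut.conj_inv_apply] at hk'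
    obtain ⟨k', hk'⟩ := hk'
    have h2 : SemidirectProduct.inr (φ := φ) k * g = g * SemidirectProduct.inr k' := by
      rw [hk']; group
    have h3 := congrArg (fun z => SemidirectProduct.left z) h2
    simp at h3
    by_cases hk : k = 1
    · simp [hk]
    · exact absurd (hfpf k hk _ h3) hn

theorem isAbstractComplement_of_fpf {N H : Type*} [Group N] [Group H] [Finite N] [Finite H]
    [Nontrivial N] [Nontrivial H] (φ : H →* MulAut N)
    (hfpf : ∀ h : H, h ≠ 1 → ∀ x : N, φ h x = x → x = 1) : IsAbstractComplement H := by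
  haveI : Finite (N ⋊[φ] H) := Finite.of_equiv (N × H) SemidirectProduct.equivProd.symm
  exact isAbstractComplement_congr
    (MonoidHom.ofInjective (f := SemidirectProduct.inr (φ := φ)) SemidirectProduct.inr_injective)
    (isAbstractComplement_of_isFrobeniusComplement _ (isFrobeniusComplement_inr φ hfpf))

/-- A representation by additive endomorphisms as a map to `MulAut`. -/
def endToMulAut {H V : Type*} [Group H] [AddCommGroup V] (ρ : H →* AddMonoid.End V) :
    H →* MulAut (Multiplicative V) where
  toFun h :=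
    { toFun := fun x => Multiplicative.ofAdd (ρ h x.toAdd)
      invFun := fun x => Multiplicative.ofAdd (ρ h⁻¹ x.toAdd)
      left_inv := fun x => by
        show Multiplicative.ofAdd ((ρ h⁻¹ * ρ h) x.toAdd) = x
        rw [← map_mul, inv_mul_cancel, map_one]
        rfl
      right_inv := fun x => by
        show Multiplicative.ofAdd ((ρ h * ρ h⁻¹) x.toAdd) = x
        rw [← map_mul, mul_inv_cancel, map_one]
        rfl
      map_mul' := fun x y => by
        simp only [toAdd_mul, map_add, ofAdd_add] }
  map_one' := by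
    refine MulEquiv.ext fun x => ?_
    show Multiplicative.ofAdd (ρ 1 x.toAdd) = x
    rw [map_one]
    rfl
  map_mul' a b := by
    refine MulEquiv.ext fun x => ?_
    show Multiplicative.ofAdd (ρ (a * b) x.toAdd) = Multiplicative.ofAdd (ρ a (ρ b x.toAdd))
    rw [map_mul]
    rfl

theorem isAbstractComplement_of_rep {H V : Type*} [Group H] [Finite H] [Nontrivial H]
    [AddCommGroup V] [Finite V] [Nontrivial V] (ρ : H →* AddMonoid.End V)
    (hfpf : ∀ h : H, h ≠ 1 → ∀ v : V, ρ h v = v → v = 0) : IsAbstractComplement H := by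
  haveI : Finite (Multiplicative V) := ‹Finite V›
  refine isAbstractComplement_of_fpf (endToMulAut ρ) fun h hh x hx => ?_
  have := hfpf h hh x.toAdd (congrArg Multiplicative.toAdd hx)
  exact Multiplicative.toAdd.injective (by simpa using this)

section DivisionRing

variable {D : Type*} [DivisionRing D] {H : Type*} [Group H] [Finite H]

/-- Action of a finite subgroup on the lattice it spans, modulo a prime. -/
theorem isAbstractComplement_of_injective [Nontrivial H] (f : H →* D)
    (hf : Function.Injective f) : IsAbstractComplement H := by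
  classical
  haveI := Fintype.ofFinite H
  -- the lattice
  let Λ : Submodule ℤ D := Submodule.span ℤ (Set.range f)
  have hΛ : ∀ (h : H) (x : D), x ∈ Λ → f h * x ∈ Λ := by
    intro h x hx
    induction hx using Submodule.span_induction with
    | mem x hx =>
      obtain ⟨k, rfl⟩ := hx
      exact Submodule.subset_span ⟨h * k, map_mul f h k⟩
    | zero => simp
    | add x y _ _ hx hy => rw [mul_add]; exact Λ.add_mem hx hy
    | smul a x _ hx => rw [mul_smul_comm]; exact Λ.smul_mem a hx
  have hone : (1 : D) ∈ Λ := Submodule.subset_span ⟨1, map_one f⟩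
  -- a prime not dividing the order, compatible with the characteristic
  obtain ⟨l, hl, hlcop, hlne⟩ : ∃ l : ℕ, l.Prime ∧ l.Coprime (Nat.card H) ∧
      ∀ y ∈ Λ, (l : ℤ) • y ≠ 1 := by
    rcases CharP.exists' D with hD | ⟨p, hp, hD⟩
    · haveI := hD
      obtain ⟨l, hl, hlp⟩ := Nat.exists_infinite_primes (Nat.card H + 1)
      have hcop : l.Coprime (Nat.card H) :=
        hlp.coprime_iff_not_dvd.mpr (Nat.not_dvd_of_pos_of_lt Nat.card_pos (by omega))
      refine ⟨l, hlp, hcop, ?_⟩
      haveI : Module.Finite ℤ Λ := Module.Finite.span_of_finite ℤ (Set.finite_range f)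
      intro y hy h1
      -- `Λ = l Λ` is impossible
      let I : Ideal ℤ := Ideal.span {(l : ℤ)}
      have hle : Λ ≤ I • Λ := by
        refine Submodule.span_le.mpr ?_
        rintro _ ⟨k, rfl⟩
        have h2 : f k = (l : ℤ) • (f k * y) := by rw [← mul_smul_comm, h1, mul_one]
        rw [SetLike.mem_coe, h2]
        exact Submodule.smul_mem_smul (Ideal.mem_span_singleton_self _) (hΛ k y hy)
      obtain ⟨r, hr, hr0⟩ := Submodule.exists_sub_one_mem_and_smul_eq_zero_of_fg_of_le_smul I Λ
        (Submodule.fg_span (Set.finite_range f)) hle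
      have h3 := hr0 1 hone
      rw [zsmul_eq_mul, mul_one, Int.cast_eq_zero] at h3
      subst h3
      rw [Ideal.mem_span_singleton] at hr
      have := Int.eq_one_of_dvd_one (Int.natCast_nonneg l) (by simpa using hr)
      exact hlp.one_lt.ne' (by exact_mod_cast this)
    · haveI := hD
      refine ⟨p, hp.out, ?_, fun y _ h1 => ?_⟩
      · refine hp.out.coprime_iff_not_dvd.mpr fun hdvd => ?_
        obtain ⟨x, hx⟩ := exists_prime_orderOf_dvd_card' (hp := hp) p hdvd
        have h1 : f x ^ p = 1 := by rw [← map_pow, ← hx, pow_orderOf_eq_one, map_one]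
        have h2 : (f x - 1) ^ p = 0 := by
          rw [sub_pow_char_of_commute _ (Commute.one_right _), h1, one_pow, sub_self]
        have h3 : x = 1 := hf (by rw [map_one]; exact sub_eq_zero.mp (pow_eq_zero_iff hp.out.ne_zero |>.mp h2))
        rw [h3, orderOf_one] at hx
        exact hp.out.one_lt.ne hx
      · rw [zsmul_eq_mul, Int.cast_natCast, CharP.cast_eq_zero, zero_mul] at h1
        exact zero_ne_one h1
  haveI : Module.Finite ℤ Λ := Module.Finite.span_of_finite ℤ (Set.finite_range f)
  let S : Submodule ℤ Λ := (Ideal.span {(l : ℤ)}) • ⊤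
  have hS : ∀ x : Λ, x ∈ S ↔ ∃ y : Λ, (l : ℤ) • y = x := by
    intro x
    constructor
    · intro hx
      refine Submodule.smul_induction_on hx (fun r hr y _ => ?_) (fun y z hy hz => ?_)
      · obtain ⟨c, rfl⟩ := Ideal.mem_span_singleton.mp hr
        exact ⟨c • y, by rw [smul_smul]⟩
      · obtain ⟨y', rfl⟩ := hy
        obtain ⟨z', rfl⟩ := hz
        exact ⟨y' + z', smul_add _ _ _⟩
    · rintro ⟨y, rfl⟩
      exact Submodule.smul_mem_smul (Ideal.mem_span_singleton_self _) Submodule.mem_top
  let mulL : H →* Module.End ℤ Λ :=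
    { toFun := fun h =>
        { toFun := fun x => ⟨f h * x, hΛ h x x.2⟩
          map_add' := fun x y => Subtype.ext (mul_add _ _ _)
          map_smul' := fun a x => Subtype.ext (mul_smul_comm _ _ _) }
      map_one' := LinearMap.ext fun x => Subtype.ext (by simp)
      map_mul' := fun a b => LinearMap.ext fun x => Subtype.ext (by simp [mul_assoc]) }
  have hstab : ∀ h, S ≤ S.comap (mulL h) := by
    intro h x hx
    obtain ⟨y, rfl⟩ := (hS x).mp hx
    exact (hS _).mpr ⟨mulL h y, (map_zsmul (mulL h) _ _).symm⟩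
  let ρ : H →* AddMonoid.End (Λ ⧸ S) :=
    { toFun := fun h => (S.mapQ S (mulL h) (hstab h)).toAddMonoidHom
      map_one' := by
        refine AddMonoidHom.ext fun v => ?_
        obtain ⟨x, rfl⟩ := S.mkQ_surjective v
        show S.mkQ (mulL 1 x) = S.mkQ x
        rw [map_one]
        rfl
      map_mul' := fun a b => by
        refine AddMonoidHom.ext fun v => ?_
        obtain ⟨x, rfl⟩ := S.mkQ_surjective v
        show S.mkQ (mulL (a * b) x) = S.mkQ (mulL a (mulL b x))
        rw [map_mul]
        rfl }
  haveI : Nontrivial (Λ ⧸ S) := by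
    rw [Submodule.Quotient.nontrivial_iff]
    intro htop
    obtain ⟨y, hy⟩ := (hS ⟨1, hone⟩).mp (htop ▸ Submodule.mem_top)
    exact hlne y y.2 (congrArg Subtype.val hy)
  haveI : Finite (Λ ⧸ S) := by
    refine Module.finite_of_fg_torsion _ ?_
    intro v
    obtain ⟨x, rfl⟩ := S.mkQ_surjective v
    refine ⟨⟨(l : ℤ), mem_nonZeroDivisors_of_ne_zero (by exact_mod_cast hl.ne_zero)⟩, ?_⟩
    show (l : ℤ) • S.mkQ x = 0
    rw [← map_zsmul, Submodule.mkQ_apply, Submodule.Quotient.mk_eq_zero, hS]
    exact ⟨x, rfl⟩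
  refine isAbstractComplement_of_rep ρ fun h hh v hv => ?_
  obtain ⟨x, rfl⟩ := S.mkQ_surjective v
  have hfix : ∀ i : ℕ, ρ (h ^ i) (S.mkQ x) = S.mkQ x := by
    intro i
    induction i with
    | zero => rw [pow_zero, map_one]; rfl
    | succ i ih =>
      rw [pow_succ, map_mul]
      exact (congrArg (ρ (h ^ i)) hv).trans ih
  have hsum : ∑ i ∈ Finset.range (orderOf h), mulL (h ^ i) x = 0 := by
    have hne : f h ≠ 1 := fun h' => hh (hf (by rw [h', map_one]))
    have hg : (∑ i ∈ Finset.range (orderOf h), f h ^ i) = 0 := by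
      have := geom_sum_mul (f h) (orderOf h)
      rw [← map_pow, pow_orderOf_eq_one, map_one, sub_self] at this
      exact (mul_eq_zero.mp this).resolve_right (sub_ne_zero.mpr hne)
    apply Subtype.ext
    rw [Submodule.coe_sum]
    show ∑ i ∈ Finset.range (orderOf h), f (h ^ i) * (x : D) = 0
    simp only [map_pow, ← Finset.sum_mul, hg, zero_mul]
  have ho : (orderOf h : ℤ) • S.mkQ x = 0 := by
    have h1 := congrArg S.mkQ hsum
    rw [map_sum, map_zero] at h1
    have h2 : ∀ i ∈ Finset.range (orderOf h), S.mkQ (mulL (h ^ i) x) = S.mkQ x := fun i _ => hfix i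
    rw [Finset.sum_congr rfl h2, Finset.sum_const, Finset.card_range] at h1
    rw [natCast_zsmul]
    exact h1
  have hl0 : (l : ℤ) • S.mkQ x = 0 := by
    rw [← map_zsmul, Submodule.mkQ_apply, Submodule.Quotient.mk_eq_zero, hS]
    exact ⟨x, rfl⟩
  obtain ⟨a, b, hab⟩ := Int.isCoprime_iff_gcd_eq_one.mpr
    (show Int.gcd (orderOf h : ℤ) (l : ℤ) = 1 by
      simpa using Nat.Coprime.coprime_dvd_left (orderOf_dvd_natCard h) hlcop.symm)
  rw [← one_zsmul (S.mkQ x), ← hab, add_zsmul, mul_zsmul, mul_zsmul, ho, hl0, smul_zero, smul_zero,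
    add_zero]

end DivisionRing

end CfsgLib.FrobConstruct
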