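import Mathlib
import Cfsg.Prelude.Def_Solvable
import Cfsg.Agent.Lib.Structure.FrobeniusConstruct
import Cfsg.Agent.Lib.Frobenius.Theorem
import Cfsg.Agent.Lib.Frobenius.Action

/-!
An intrinsic criterion for being a Frobenius complement: a nonzero integer function on the group
whose sums along all cosets `⟨z⟩a`, `z` of prime order, vanish.
-/

set_option autoImplicit false
set_option linter.style.haveILetI false

namespace CfsgLib.ComplementProduct

open Matrix

/-- Sums along the right cosets of all subgroups of prime order vanish. -/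
def SumZero {A R : Type*} [Monoid A] [AddCommMonoid R] (f : A → R) : Prop :=
  ∀ z : A, (orderOf z).Prime → ∀ a : A, ∑ i ∈ Finset.range (orderOf z), f (z ^ i * a) = 0

theorem isAbstractComplement_of_sumZero {A : Type*} [Group A] [Finite A] [Nontrivial A]
    (f : A → ℤ) (hf : SumZero f) (hne : f ≠ 0) : CfsgLib.FrobConstruct.IsAbstractComplement A := by
  classical
  obtain ⟨a₀, ha₀⟩ : ∃ a, f a ≠ 0 := Function.ne_iff.mp hne
  obtain ⟨l, hl, hlp⟩ := Nat.exists_infinite_primes (Nat.card A + (f a₀).natAbs + 1)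
  haveI := Fact.mk hlp
  let M : AddSubgroup (A → ZMod l) :=
    { carrier := {g | SumZero g}
      zero_mem' := fun z _ a => by simp
      add_mem' := fun {g h} hg hh z hz a => by
        simp only [Pi.add_apply, Finset.sum_add_distrib, hg z hz a, hh z hz a, add_zero]
      neg_mem' := fun {g} hg z hz a => by
        simp only [Pi.neg_apply, Finset.sum_neg_distrib, hg z hz a, neg_zero] }
  have hinv : ∀ (x : A) (g : A → ZMod l), g ∈ M → (fun a => g (a * x)) ∈ M := by
    intro x g hg z hz a
    simp only [mul_assoc]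
    exact hg z hz (a * x)
  let ρ : A →* AddMonoid.End M :=
    { toFun := fun x =>
        { toFun := fun g => ⟨fun a => (g : A → ZMod l) (a * x), hinv x g g.2⟩
          map_zero' := rfl
          map_add' := fun g h => rfl }
      map_one' := AddMonoidHom.ext fun g => Subtype.ext (funext fun a => by
        show (g : A → ZMod l) (a * 1) = (g : A → ZMod l) a
        rw [mul_one])
      map_mul' := fun x y => AddMonoidHom.ext fun g => Subtype.ext (funext fun a => by
        show (g : A → ZMod l) (a * (x * y)) = (g : A → ZMod l) (a * x * y)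
        rw [mul_assoc]) }
  haveI : Nontrivial M := by
    refine ⟨⟨⟨fun a => (f a : ZMod l), fun z hz a => ?_⟩, 0, fun h => ?_⟩⟩
    · rw [← Int.cast_sum, hf z hz a, Int.cast_zero]
    · have h0 : ((f a₀ : ℤ) : ZMod l) = 0 := congrFun (congrArg Subtype.val h) a₀
      rw [ZMod.intCast_zmod_eq_zero_iff_dvd] at h0
      have h1 : l ∣ (f a₀).natAbs := Int.natCast_dvd.mp h0
      exact absurd (Nat.le_of_dvd (Int.natAbs_pos.mpr ha₀) h1) (by omega)
  refine CfsgLib.FrobConstruct.isAbstractComplement_of_rep ρ fun x hx g hg => ?_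
  have hfix : ∀ a, (g : A → ZMod l) (a * x) = (g : A → ZMod l) a := fun a =>
    congrFun (congrArg Subtype.val hg) a
  have hpow : ∀ (i : ℕ) (a : A), (g : A → ZMod l) (a * x ^ i) = (g : A → ZMod l) a := by
    intro i
    induction i with
    | zero => simp
    | succ i ih => intro a; rw [pow_succ, ← mul_assoc, hfix, ih]
  obtain ⟨q, hq, hqd⟩ := Nat.exists_prime_and_dvd (mt orderOf_eq_one_iff.mp hx)
  set y := x ^ (orderOf x / q) with hy
  have hyq : orderOf y = q := orderOf_pow_orderOf_div (orderOf_pos x).ne' hqd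
  refine Subtype.ext (funext fun a => ?_)
  have hz : orderOf (a * y * a⁻¹) = q := by
    rw [show a * y * a⁻¹ = MulAut.conj a y from rfl, MulEquiv.orderOf_eq, hyq]
  have h := g.2 (a * y * a⁻¹) (hz.symm ▸ hq) a
  rw [hz, Finset.sum_congr rfl (fun i _ => show (g : A → ZMod l) ((a * y * a⁻¹) ^ i * a) =
    (g : A → ZMod l) a by rw [conj_pow, inv_mul_cancel_right, hy, ← pow_mul, hpow]),
    Finset.sum_const, Finset.card_range, nsmul_eq_mul] at h
  have hqne : (q : ZMod l) ≠ 0 := by
    rw [Ne, ZMod.natCast_eq_zero_iff]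
    intro hd
    have h1 : l = q := (Nat.prime_dvd_prime_iff_eq hlp hq).mp hd
    have h2 := Nat.le_of_dvd Nat.card_pos (hqd.trans (orderOf_dvd_natCard x))
    omega
  exact (mul_eq_zero.mp h).resolve_left hqne

theorem isPGroup_ker_reduction {r : ℕ} [hr : Fact r.Prime] (k d : ℕ) :
    IsPGroup r (Matrix.GeneralLinearGroup.map (n := Fin d)
      (ZMod.castHom (dvd_pow_self r k.succ_ne_zero) (ZMod r))).ker := by
  classical
  let π := ZMod.castHom (dvd_pow_self r k.succ_ne_zero) (ZMod r)
  haveI : NeZero (r ^ (k + 1)) := ⟨pow_ne_zero _ hr.out.ne_zero⟩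
  intro g
  refine ⟨k + 1, ?_⟩
  have hg : ∀ i j, π ((g.1.1) i j) = (1 : Matrix (Fin d) (Fin d) (ZMod r)) i j := fun i j => by
    have h := congrArg (fun u : GL (Fin d) (ZMod r) => (u : Matrix (Fin d) (Fin d) (ZMod r)) i j) g.2
    exact h
  have hdiv : ∀ i j, ∃ c : ZMod (r ^ (k + 1)),
      (g.1.1) i j - (1 : Matrix (Fin d) (Fin d) (ZMod (r ^ (k + 1)))) i j = r • c := by
    intro i j
    have h : π ((g.1.1) i j - (1 : Matrix (Fin d) (Fin d) (ZMod (r ^ (k + 1)))) i j) = 0 := by
      rw [map_sub, hg, Matrix.one_apply, Matrix.one_apply, apply_ite π, map_one, map_zero, sub_self]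
    rw [ZMod.castHom_apply, ZMod.cast_eq_val, ZMod.natCast_eq_zero_iff] at h
    obtain ⟨c, hc⟩ := h
    exact ⟨c, by rw [nsmul_eq_mul, ← Nat.cast_mul, ← hc, ZMod.natCast_zmod_val]⟩
  choose C hC using hdiv
  have hbase : ∃ Z : Matrix (Fin d) (Fin d) (ZMod (r ^ (k + 1))), g.1.1 - 1 = r • Z :=
    ⟨Matrix.of C, by ext i j; simp [hC i j]⟩
  obtain ⟨X, hX⟩ := hbase
  have key : ∀ m : ℕ, ∃ Z, g.1.1 ^ r ^ m - 1 = (r ^ (m + 1)) • Z := by
    intro m
    induction m with
    | zero => exact ⟨X, by rw [pow_zero, pow_one, zero_add, pow_one, hX]⟩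
    | succ m ih =>
      obtain ⟨Z, hZ⟩ := ih
      set Y := g.1.1 ^ r ^ m
      refine ⟨(∑ i ∈ Finset.range r, (r ^ m) • ((∑ j ∈ Finset.range i, Y ^ j) * Z) + 1) * Z, ?_⟩
      have hsum : ∑ i ∈ Finset.range r, Y ^ i =
          r • (∑ i ∈ Finset.range r, (r ^ m) • ((∑ j ∈ Finset.range i, Y ^ j) * Z) + 1) := by
        have h1 : ∀ i, Y ^ i = (r * r ^ m) • ((∑ j ∈ Finset.range i, Y ^ j) * Z) + 1 := fun i => by
          rw [← mul_smul_comm, ← pow_succ' r m, ← hZ, geom_sum_mul, sub_add_cancel]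
        rw [Finset.sum_congr rfl fun i _ => h1 i, Finset.sum_add_distrib, Finset.sum_const,
          Finset.card_range, smul_add, Finset.smul_sum]
        congr 1
        exact Finset.sum_congr rfl fun i _ => by rw [smul_smul]
      rw [pow_succ r m, pow_mul, ← geom_sum_mul Y r, hsum, hZ, smul_mul_smul_comm,
        ← pow_succ' r (m + 1)]
  obtain ⟨Z, hZ⟩ := key (k + 1)
  refine Subtype.ext (Units.ext ?_)
  rw [Subgroup.coe_pow, Units.val_pow_eq_pow_val, ← sub_eq_zero]
  refine hZ.trans ?_
  have h0 : ((r ^ (k + 1 + 1) : ℕ) : ZMod (r ^ (k + 1))) = 0 := by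
    rw [ZMod.natCast_eq_zero_iff]
    exact pow_dvd_pow r (by omega)
  rw [← Nat.cast_smul_eq_nsmul (ZMod (r ^ (k + 1))), h0, zero_smul]

theorem exists_lift {A : Type*} [Group A] [Finite A] {r : ℕ} [hr : Fact r.Prime]
    (hA : ¬ r ∣ Nat.card A) {d : ℕ} (ρ : A →* GL (Fin d) (ZMod r)) (k : ℕ) :
    ∃ σ : A →* GL (Fin d) (ZMod (r ^ (k + 1))),
      ∀ a, Matrix.GeneralLinearGroup.map
        (ZMod.castHom (dvd_pow_self r k.succ_ne_zero) (ZMod r)) (σ a) = ρ a := by
  classical
  haveI : NeZero (r ^ (k + 1)) := ⟨pow_ne_zero _ hr.out.ne_zero⟩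
  let π := ZMod.castHom (dvd_pow_self r k.succ_ne_zero) (ZMod r)
  let red := Matrix.GeneralLinearGroup.map (n := Fin d) π
  have hsurj : ∀ u, ∃ v, red v = u := by
    intro u
    choose s hs using ZMod.castHom_surjective (dvd_pow_self r k.succ_ne_zero) (n := r ^ (k + 1)) (m := r)
    let M : Matrix (Fin d) (Fin d) (ZMod (r ^ (k + 1))) :=
      Matrix.of fun i j => s ((u : Matrix _ _ _) i j)
    have hM : M.map π = (u : Matrix (Fin d) (Fin d) (ZMod r)) := by ext i j; exact hs _
    have hdet : IsUnit M.det := by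
      have h1 : π M.det = ((u : Matrix (Fin d) (Fin d) (ZMod r))).det := by
        rw [RingHom.map_det, RingHom.mapMatrix_apply, hM]
      have h2 : π M.det ≠ 0 := by
        rw [h1]
        exact ((Matrix.isUnit_iff_isUnit_det _).mp u.isUnit).ne_zero
      rw [← ZMod.natCast_zmod_val M.det, ZMod.isUnit_iff_coprime]
      refine Nat.Coprime.pow_right _ (Nat.coprime_comm.mp (hr.out.coprime_iff_not_dvd.mpr ?_))
      intro hd
      apply h2
      rw [← ZMod.natCast_zmod_val M.det, map_natCast, ZMod.natCast_eq_zero_iff]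
      exact hd
    exact ⟨(Matrix.GeneralLinearGroup.mk'' M hdet), Units.ext hM⟩
  -- the pullback
  let E : Subgroup (A × GL (Fin d) (ZMod (r ^ (k + 1)))) :=
    { carrier := {x | red x.2 = ρ x.1}
      one_mem' := by simp
      mul_mem' := fun {x y} hx hy => by
        show red (x.2 * y.2) = ρ (x.1 * y.1)
        rw [map_mul, map_mul, hx, hy]
      inv_mem' := fun {x} hx => by
        show red x.2⁻¹ = ρ x.1⁻¹
        rw [map_inv, map_inv, hx] }
  let p : E →* A := (MonoidHom.fst _ _).comp E.subtype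
  have hp : Function.Surjective p := fun a => by
    obtain ⟨v, hv⟩ := hsurj (ρ a)
    exact ⟨⟨(a, v), hv⟩, rfl⟩
  have hker : IsPGroup r p.ker := by
    intro x
    have hx1 : ((x : E) : A × GL (Fin d) (ZMod (r ^ (k + 1)))).1 = 1 := x.2
    have hx2 : red ((x : E) : A × GL (Fin d) (ZMod (r ^ (k + 1)))).2 = 1 := by
      rw [(x : E).2, hx1, map_one]
    obtain ⟨m, hm⟩ := isPGroup_ker_reduction (r := r) k d ⟨_, hx2⟩
    refine ⟨m, Subtype.ext (Subtype.ext (Prod.ext ?_ ?_))⟩
    · simp [hx1]
    · simpa using congrArg Subtype.val hm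
  have hidx : p.ker.index = Nat.card A := by
    rw [Subgroup.index_ker, MonoidHom.range_eq_top.mpr hp, Subgroup.card_top]
  obtain ⟨c, hc⟩ := hker.exists_card_eq
  obtain ⟨C, hC⟩ := Subgroup.exists_right_complement'_of_coprime (N := p.ker) (by
    rw [hidx, hc]
    exact Nat.Coprime.pow_left c (hr.out.coprime_iff_not_dvd.mpr hA))
  have hbij : Function.Bijective (p.comp C.subtype) := by
    refine (Nat.bijective_iff_injective_and_card _).mpr ⟨?_, by rw [← hC.symm.index_eq_card, hidx]⟩
    rw [← MonoidHom.ker_eq_bot_iff, Subgroup.eq_bot_iff_forall]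
    intro x hx
    exact Subtype.ext (Subgroup.disjoint_def.mp hC.disjoint hx x.2)
  let e := MulEquiv.ofBijective _ hbij
  refine ⟨((MonoidHom.snd _ _).comp E.subtype).comp (C.subtype.comp e.symm.toMonoidHom), fun a => ?_⟩
  have h1 : p (e.symm a : C) = a := e.apply_symm_apply a
  have h2 := ((e.symm a : C) : E).2
  exact h2.trans (congrArg ρ h1)

theorem exists_sumZero_of_matrix {A : Type*} [Group A] [Finite A] {r : ℕ} [hr : Fact r.Prime]
    (hA : ¬ r ∣ Nat.card A) {d : ℕ} [NeZero d] (ρ : A →* GL (Fin d) (ZMod r))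
    (hfpf : ∀ a, a ≠ 1 → ∀ v, (ρ a : Matrix (Fin d) (Fin d) (ZMod r)).mulVec v = v → v = 0) :
    ∃ f : A → ℤ, SumZero f ∧ f ≠ 0 := by
  classical
  haveI := Fintype.ofFinite A
  by_contra hcon
  push Not at hcon
  let S := {z : A // (orderOf z).Prime} × A
  let Φ : Matrix S A ℤ := Matrix.of fun s b =>
    ∑ i ∈ Finset.range (orderOf s.1.1), if s.1.1 ^ i * s.2 = b then 1 else 0
  have hΦ : ∀ {R : Type} [CommRing R] (f : A → R) (s : S),
      (Φ.map (Int.castRingHom R)).mulVec f s =
        ∑ i ∈ Finset.range (orderOf s.1.1), f (s.1.1 ^ i * s.2) := by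
    intro R _ f s
    simp only [Matrix.mulVec, dotProduct, Matrix.map_apply, Φ, Matrix.of_apply, map_sum,
      Finset.sum_mul]
    rw [Finset.sum_comm]
    simp [apply_ite]
  let G := Φ.transpose * Φ
  have hdet : G.det ≠ 0 := by
    intro h0
    obtain ⟨v, hv, hGv⟩ := Matrix.exists_mulVec_eq_zero_iff.mpr h0
    have h1 : dotProduct (Φ.mulVec v) (Φ.mulVec v) = 0 := by
      rw [Matrix.dotProduct_mulVec, ← Matrix.mulVec_transpose, Matrix.mulVec_mulVec, hGv,
        zero_dotProduct]
    rw [dotProduct_self_eq_zero] at h1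
    refine hv (hcon v fun z hz a => ?_)
    have h2 := hΦ (R := ℤ) v ⟨⟨z, hz⟩, a⟩
    rw [← h2]
    have h3 := congrFun h1 ⟨⟨z, hz⟩, a⟩
    simpa using h3
  obtain ⟨k, hk⟩ : ∃ k : ℕ, G.det.natAbs < r ^ (k + 1) :=
    ⟨G.det.natAbs, lt_of_lt_of_le (Nat.lt_pow_self hr.out.one_lt)
      (Nat.pow_le_pow_right hr.out.pos (Nat.le_succ _))⟩
  haveI : NeZero (r ^ (k + 1)) := ⟨pow_ne_zero _ hr.out.ne_zero⟩
  obtain ⟨σ, hσ⟩ := exists_lift hA ρ k
  let π := ZMod.castHom (dvd_pow_self r k.succ_ne_zero) (ZMod r)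
  -- sums along cyclic subgroups vanish
  have hsum : ∀ z : A, (orderOf z).Prime →
      ∑ i ∈ Finset.range (orderOf z),
        (σ (z ^ i) : Matrix (Fin d) (Fin d) (ZMod (r ^ (k + 1)))) = 0 := by
    intro z hz
    have hz1 : z ≠ 1 := fun h => Nat.not_prime_one (by rwa [h, orderOf_one] at hz)
    set S := ∑ i ∈ Finset.range (orderOf z),
      (σ (z ^ i) : Matrix (Fin d) (Fin d) (ZMod (r ^ (k + 1)))) with hS
    have hzS : (σ z : Matrix (Fin d) (Fin d) (ZMod (r ^ (k + 1)))) * S = S := by
      have h1 := geom_sum_mul (σ z : Matrix (Fin d) (Fin d) (ZMod (r ^ (k + 1)))) (orderOf z)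
      have h2 : (σ z : Matrix (Fin d) (Fin d) (ZMod (r ^ (k + 1)))) ^ orderOf z = 1 := by
        rw [← Units.val_pow_eq_pow_val, ← map_pow, pow_orderOf_eq_one, map_one, Units.val_one]
      have h3 : S = ∑ i ∈ Finset.range (orderOf z),
          (σ z : Matrix (Fin d) (Fin d) (ZMod (r ^ (k + 1)))) ^ i := by
        rw [hS]
        exact Finset.sum_congr rfl fun i _ => by rw [map_pow, Units.val_pow_eq_pow_val]
      have h4 := mul_geom_sum (σ z : Matrix (Fin d) (Fin d) (ZMod (r ^ (k + 1)))) (orderOf z)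
      rw [h2, sub_self, ← h3, sub_mul, one_mul, sub_eq_zero] at h4
      exact h4
    -- a vector fixed by `σ z` is zero
    have hker : ∀ v : Fin d → ZMod (r ^ (k + 1)),
        (σ z : Matrix (Fin d) (Fin d) (ZMod (r ^ (k + 1)))).mulVec v = v →
        ∀ j ≤ k + 1, ∀ i, ((r : ZMod (r ^ (k + 1))) ^ j ∣ v i) := by
      intro v hv j hj
      induction j with
      | zero => intro i; simp
      | succ j ih =>
        choose w hw using ih (by omega)
        have hvw : v = ((r : ZMod (r ^ (k + 1))) ^ j) • w := funext fun i => by simp [hw i]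
        intro i
        have hfix : (r : ZMod (r ^ (k + 1))) ^ j •
            ((σ z : Matrix (Fin d) (Fin d) (ZMod (r ^ (k + 1)))).mulVec w - w) = 0 := by
          rw [smul_sub, ← Matrix.mulVec_smul, ← hvw, hv, sub_self]
        have hred : ∀ i, π ((σ z : Matrix (Fin d) (Fin d) (ZMod (r ^ (k + 1)))).mulVec w i) =
            π (w i) := by
          intro i
          have h := congrFun hfix i
          simp only [Pi.smul_apply, Pi.sub_apply, smul_eq_mul, Pi.zero_apply] at h
          set c := (σ z : Matrix (Fin d) (Fin d) (ZMod (r ^ (k + 1)))).mulVec w i - w i with hc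
          have : π c = 0 := by
            rw [← ZMod.natCast_zmod_val c, map_natCast, ZMod.natCast_eq_zero_iff]
            rw [← ZMod.natCast_zmod_val c, ← Nat.cast_pow, ← Nat.cast_mul,
              ZMod.natCast_eq_zero_iff] at h
            have h' : r ^ j * r ^ (k + 1 - j) ∣ r ^ j * c.val := by
              rw [← pow_add, show j + (k + 1 - j) = k + 1 by omega]
              exact h
            have h5 := Nat.dvd_of_mul_dvd_mul_left (pow_pos hr.out.pos _) h'
            exact dvd_trans (dvd_pow_self r (by omega)) h5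
          rw [hc, map_sub, sub_eq_zero] at this
          exact this
        have hw0 : (fun i => π (w i)) = 0 := by
          refine hfpf z hz1 _ ?_
          rw [← hσ z]
          funext i
          rw [← hred i]
          exact (RingHom.map_mulVec π _ _ i).symm
        have h6 := congrFun hw0 i
        simp only [Pi.zero_apply] at h6
        rw [← ZMod.natCast_zmod_val (w i), map_natCast, ZMod.natCast_eq_zero_iff] at h6
        obtain ⟨c, hc⟩ := h6
        refine ⟨(c : ZMod (r ^ (k + 1))), ?_⟩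
        rw [hw i, pow_succ (r : ZMod (r ^ (k + 1))) j, mul_assoc]
        congr 1
        conv_lhs => rw [← ZMod.natCast_zmod_val (w i), hc]
        rw [Nat.cast_mul]
    ext a b
    have hv : (σ z : Matrix (Fin d) (Fin d) (ZMod (r ^ (k + 1)))).mulVec (fun i => S i b) =
        fun i => S i b := by
      funext i
      conv_rhs => rw [← hzS]
      rfl
    have h := hker _ hv (k + 1) le_rfl a
    rwa [← Nat.cast_pow, ZMod.natCast_self, zero_dvd_iff] at h
  -- a coefficient function
  let f : A → ZMod (r ^ (k + 1)) :=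
    fun a => (σ a : Matrix (Fin d) (Fin d) (ZMod (r ^ (k + 1)))) 0 0
  have hf : (Φ.map (Int.castRingHom (ZMod (r ^ (k + 1))))).mulVec f = 0 := by
    funext s
    rw [hΦ f s, Pi.zero_apply]
    simp only [f, map_mul, Units.val_mul]
    rw [← Matrix.sum_apply, ← Finset.sum_mul, hsum _ s.1.2, Matrix.zero_mul, Matrix.zero_apply]
  have hGf : (G.map (Int.castRingHom (ZMod (r ^ (k + 1))))).mulVec f = 0 := by
    rw [Matrix.map_mul, ← Matrix.mulVec_mulVec, hf, Matrix.mulVec_zero]
  have h1 := congrArg ((G.map (Int.castRingHom (ZMod (r ^ (k + 1))))).adjugate.mulVec) hGf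
  rw [Matrix.mulVec_mulVec, Matrix.adjugate_mul, Matrix.mulVec_zero, Matrix.smul_mulVec,
    Matrix.one_mulVec] at h1
  have h2 := congrFun h1 1
  simp only [Pi.smul_apply, f, map_one, Units.val_one, Matrix.one_apply_eq, smul_eq_mul, mul_one,
    Pi.zero_apply] at h2
  rw [← RingHom.mapMatrix_apply, ← RingHom.map_det, eq_intCast,
    ZMod.intCast_zmod_eq_zero_iff_dvd] at h2
  have h3 : r ^ (k + 1) ∣ G.det.natAbs := Int.natCast_dvd.mp h2
  exact absurd (Nat.le_of_dvd (Int.natAbs_pos.mpr hdet) h3) (by omega)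

theorem exists_sumZero_of_module {A : Type*} [Group A] [Finite A] {r : ℕ} [Fact r.Prime]
    (hA : ¬ r ∣ Nat.card A) {V : Type*} [AddCommGroup V] [Module (ZMod r) V] [Finite V]
    [Nontrivial V] (ρ : A →* AddMonoid.End V) (hfpf : ∀ a, a ≠ 1 → ∀ v, ρ a v = v → v = 0) :
    ∃ f : A → ℤ, SumZero f ∧ f ≠ 0 := by
  haveI : Module.Finite (ZMod r) V := Module.Finite.of_finite
  haveI : NeZero (Module.finrank (ZMod r) V) := ⟨(Module.finrank_pos).ne'⟩
  let b := Module.finBasis (ZMod r) V
  let τ : A →* Module.End (ZMod r) V :=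
    { toFun := fun a => AddMonoidHom.toZModLinearMap r (ρ a)
      map_one' := LinearMap.ext fun v => by
        show ρ 1 v = v
        rw [map_one]
        rfl
      map_mul' := fun a c => LinearMap.ext fun v => by
        show ρ (a * c) v = ρ a (ρ c v)
        rw [map_mul]
        rfl }
  let σ := ((LinearMap.toMatrixAlgEquiv b).toRingEquiv.toMulEquiv.toMonoidHom.comp τ).toHomUnits
  refine exists_sumZero_of_matrix hA σ fun a ha v hv => ?_
  have h1 : τ a (b.equivFun.symm v) = b.equivFun.symm v := by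
    apply b.equivFun.injective
    rw [LinearEquiv.apply_symm_apply]
    have h2 := LinearMap.toMatrix_mulVec_repr b b (τ a) (b.equivFun.symm v)
    have h3 : (⇑(b.repr (b.equivFun.symm v)) : Fin _ → ZMod r) = v := b.equivFun.apply_symm_apply v
    rw [h3] at h2
    exact h2.symm.trans hv
  have h4 := hfpf a ha _ h1
  rw [LinearEquiv.map_eq_zero_iff] at h4
  exact h4

theorem exists_sumZero_of_complement {L : Type*} [Group L] [Finite L] {H : Subgroup L}
    (hH : Cfsg.IsFrobeniusComplement H) : ∃ f : H → ℤ, SumZero f ∧ f ≠ 0 := by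
  classical
  obtain ⟨K, hKset, hKn, hKc⟩ := CfsgLib.Frobenius.exists_normal_kernel hH
  haveI := hKn
  letI act : MulDistribMulAction H K :=
    MulDistribMulAction.compHom K ((MulAut.conjNormal (H := K)).comp H.subtype)
  have hfpf : CfsgLib.Frobenius.IsFPF H K := CfsgLib.Frobenius.fpf_of_complement hH hKc.disjoint
  have hKne : K ≠ ⊥ := by
    intro h
    have h1 := hKc.index_eq_card
    rw [h, Subgroup.card_bot] at h1
    exact (CfsgLib.Frobenius.one_lt_index hH).ne' h1
  haveI : Nontrivial K := (Subgroup.nontrivial_iff_ne_bot K).mpr hKne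
  obtain ⟨r, hr, hrK⟩ := Nat.exists_prime_and_dvd (Finite.one_lt_card (α := K)).ne'
  haveI := Fact.mk hr
  have hrA : ¬ r ∣ Nat.card H := fun h =>
    Nat.not_coprime_of_dvd_of_dvd hr.one_lt h hrK hfpf.coprime_card
  obtain ⟨R, hR⟩ := hfpf.exists_invariant_sylow r
  -- elementary abelian invariant subgroup
  let W : Subgroup K :=
    { carrier := {x | x ∈ R ∧ (∀ y ∈ R, y * x = x * y) ∧ x ^ r = 1}
      one_mem' := ⟨one_mem _, fun y _ => by simp, one_pow r⟩
      mul_mem' := fun {x y} hx hy => ⟨mul_mem hx.1 hy.1, fun z hz => by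
          rw [← mul_assoc, hx.2.1 z hz, mul_assoc, hy.2.1 z hz, mul_assoc],
        by rw [Commute.mul_pow (hy.2.1 x hx.1), hx.2.2, hy.2.2, one_mul]⟩
      inv_mem' := fun {x} hx => ⟨inv_mem hx.1, fun z hz => (Commute.inv_right (hx.2.1 z hz)).eq,
        by rw [inv_pow, hx.2.2, inv_one]⟩ }
  letI : CommGroup W :=
    { (inferInstance : Group W) with mul_comm := fun a b => Subtype.ext (b.2.2.1 a a.2.1) }
  have hWinv : ∀ (a : H) (x : K), x ∈ W → a • x ∈ W := by
    intro a x hx
    refine ⟨hR a x hx.1, fun y hy => ?_, by rw [← smul_pow', hx.2.2, smul_one]⟩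
    have h := congrArg (fun t => a • t) (hx.2.1 (a⁻¹ • y) (hR a⁻¹ y hy))
    simpa [smul_mul', smul_inv_smul] using h
  haveI : Nontrivial (Additive W) := by
    haveI : Nontrivial (R : Subgroup K) := (Subgroup.nontrivial_iff_ne_bot _).2
      (R.ne_bot_of_dvd_card hrK)
    haveI := R.isPGroup'.center_nontrivial
    obtain ⟨z, hz⟩ := exists_prime_orderOf_dvd_card' r (G := Subgroup.center (R : Subgroup K)) (by
      obtain ⟨c, hc⟩ := IsPGroup.iff_card.mp (R.isPGroup'.to_subgroup (Subgroup.center (R : Subgroup K)))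
      rw [hc]
      refine dvd_pow_self r fun hc0 => ?_
      have := Finite.one_lt_card (α := Subgroup.center (R : Subgroup K))
      rw [hc, hc0, pow_zero] at this
      exact lt_irrefl 1 this)
    have hzW : ((z : (R : Subgroup K)) : K) ∈ W := by
      refine ⟨(z : (R : Subgroup K)).2, fun y hy => ?_, ?_⟩
      · exact congrArg Subtype.val (Subgroup.mem_center_iff.mp z.2 ⟨y, hy⟩)
      · have h := pow_orderOf_eq_one z
        rw [hz] at h
        exact congrArg (fun t : Subgroup.center (R : Subgroup K) => ((t : (R : Subgroup K)) : K)) h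
    refine ⟨⟨Additive.ofMul ⟨_, hzW⟩, 0, fun h => ?_⟩⟩
    have h' : ((z : (R : Subgroup K)) : K) = 1 := congrArg Subtype.val (Additive.ofMul.injective h :)
    have h'' : z = 1 := Subtype.ext (Subtype.ext h')
    rw [h'', orderOf_one] at hz
    exact hr.one_lt.ne hz
  let ρ : H →* AddMonoid.End (Additive W) :=
    { toFun := fun a =>
        { toFun := fun x => Additive.ofMul ⟨a • (x.toMul : K), hWinv a _ x.toMul.2⟩
          map_zero' := congrArg Additive.ofMul (Subtype.ext (smul_one a))
          map_add' := fun x y => congrArg Additive.ofMul (Subtype.ext (smul_mul' a _ _)) }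
      map_one' := AddMonoidHom.ext fun x => congrArg Additive.ofMul (Subtype.ext (one_smul H _))
      map_mul' := fun a b => AddMonoidHom.ext fun x =>
        congrArg Additive.ofMul (Subtype.ext (mul_smul a b _)) }
  refine @exists_sumZero_of_module H _ _ r _ hrA (Additive W) _
    (AddCommGroup.zmodModule fun x => congrArg Additive.ofMul
      (Subtype.ext (show (x.toMul : K) ^ r = 1 from x.toMul.2.2.2))) _ _ ρ fun a ha x hx => ?_
  refine Additive.toMul.injective (Subtype.ext ?_)
  exact hfpf a ha _ (congrArg (fun t : Additive W => (t.toMul : K)) hx)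

theorem exists_sumZero_of_isAbstractComplement {A : Type*} [Group A]
    (h : CfsgLib.FrobConstruct.IsAbstractComplement A) : ∃ f : A → ℤ, SumZero f ∧ f ≠ 0 := by
  obtain ⟨L, _, _, C, hC, ⟨e⟩⟩ := h
  obtain ⟨f, hf, hne⟩ := exists_sumZero_of_complement hC
  refine ⟨fun a => f (e a), fun z hz a => ?_, fun h => hne (funext fun c => ?_)⟩
  · have hez : orderOf (e z) = orderOf z := e.orderOf_eq z
    have := hf (e z) (hez.symm ▸ hz) (e a)
    rw [hez] at this
    simpa [map_mul, map_pow] using this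
  · simpa using congrFun h (e.symm c)

theorem sumZero_prod {A B : Type*} [Group A] [Group B] [Finite A] [Finite B]
    (hcop : (Nat.card A).Coprime (Nat.card B)) {f : A → ℤ} {g : B → ℤ} (hf : SumZero f)
    (hg : SumZero g) : SumZero fun x : A × B => f x.1 * g x.2 := by
  intro z hz x
  have ho := Prod.orderOf z
  have h1 : orderOf z.1 ∣ orderOf z := ho ▸ Nat.dvd_lcm_left _ _
  have h2 : orderOf z.2 ∣ orderOf z := ho ▸ Nat.dvd_lcm_right _ _
  rcases (Nat.dvd_prime hz).mp h1 with e1 | e1
  · rw [orderOf_eq_one_iff] at e1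
    have e2 : orderOf z.2 = orderOf z := by rw [ho, e1, orderOf_one, Nat.lcm_one_left]
    simp only [Prod.fst_mul, Prod.snd_mul, Prod.pow_fst, Prod.pow_snd, e1, one_pow, one_mul,
      ← Finset.mul_sum]
    rw [← e2, hg z.2 (e2.symm ▸ hz) x.2, mul_zero]
  · rcases (Nat.dvd_prime hz).mp h2 with e2 | e2
    · rw [orderOf_eq_one_iff] at e2
      simp only [Prod.fst_mul, Prod.snd_mul, Prod.pow_fst, Prod.pow_snd, e2, one_pow, one_mul,
        ← Finset.sum_mul]
      rw [← e1, hf z.1 (e1.symm ▸ hz) x.1, zero_mul]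
    · exact absurd hcop (Nat.not_coprime_of_dvd_of_dvd hz.one_lt
        (e1 ▸ orderOf_dvd_natCard z.1) (e2 ▸ orderOf_dvd_natCard z.2))

end CfsgLib.ComplementProduct
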