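import Cfsg.Agent.Lib.Frobenius.Action
import Cfsg.Agent.Lib.Recognition.ComplementNonsolvable
import Cfsg.Agent.Lib.TwoGroups.OneInvolution
import Cfsg.Agent.Lib.Fusion.DihedralTop
import Cfsg.Agent.Lib.InvChar.SolvableTwo
import Cfsg.Agent.Lib.PSL2.Recognition
import Cfsg.Agent.Lib.Schur.AutAlternating
import Cfsg.Agent.Lib.Structure.IndexPowers

/-!
The quotient of a group acting without fixed points by its largest normal subgroup with cyclic
Sylow subgroups.
-/

set_option autoImplicit false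
set_option linter.style.haveILetI false

open scoped commutatorElement

namespace CfsgLib.ComplementQuotient

open Subgroup

/-- All involutions are equal. -/
def OneInv (G : Type*) [Group G] : Prop := ∀ a b : G, orderOf a = 2 → orderOf b = 2 → a = b

/-- All 2-subgroups inside `H` are cyclic. -/
def TwoCyclic {G : Type*} [Group G] (H : Subgroup G) : Prop :=
  ∀ T : Subgroup G, T ≤ H → IsPGroup 2 T → IsCyclic T

/-- Two distinct commuting involutions inside `M`. -/
def HasFour {G : Type*} [Group G] (M : Subgroup G) : Prop :=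
  ∃ a ∈ M, ∃ b ∈ M, a ≠ 1 ∧ b ≠ 1 ∧ a ≠ b ∧ a * a = 1 ∧ b * b = 1 ∧ a * b = b * a

/-- Every nontrivial normal subgroup contains a four-group. -/
def NormalFours (Q : Type*) [Group Q] : Prop :=
  ∀ M : Subgroup Q, M.Normal → M ≠ ⊥ → HasFour M

/-- The five nontrivial quotient types. -/
def FiveQuot {G : Type*} [Group G] (N : Subgroup G) : Prop :=
  (∃ f : G →* DihedralGroup 2, Function.Surjective f ∧ f.ker = N) ∨
    (∃ f : G →* alternatingGroup (Fin 4), Function.Surjective f ∧ f.ker = N) ∨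
    (∃ f : G →* Equiv.Perm (Fin 4), Function.Surjective f ∧ f.ker = N) ∨
    (∃ f : G →* alternatingGroup (Fin 5), Function.Surjective f ∧ f.ker = N) ∨
    (∃ f : G →* Equiv.Perm (Fin 5), Function.Surjective f ∧ f.ker = N)

theorem isPGroup_two_of_fours {Q : Type*} [Group Q] {a b : Q} (ha : a * a = 1) (hb : b * b = 1)
    (hab : a * b = b * a) : IsPGroup 2 (zpowers a ⊔ zpowers b : Subgroup Q) := by
  have hp : ∀ c : Q, c * c = 1 → IsPGroup 2 (zpowers c) := fun c hc => by
    rintro ⟨_, k, rfl⟩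
    refine ⟨1, Subtype.ext ?_⟩
    show (c ^ k) ^ (2 ^ 1) = 1
    rw [pow_one, pow_two, ← (Commute.refl c).mul_zpow, hc, one_zpow]
  refine (hp a ha).to_sup_of_normal_right' (hp b hb) (zpowers_le.mpr ?_)
  rw [mem_normalizer_iff]
  intro x
  constructor
  · rintro ⟨k, rfl⟩
    exact ⟨k, by
      show b ^ k = a * b ^ k * a⁻¹
      rw [((show Commute a b from hab).zpow_right k).eq, mul_inv_cancel_right]⟩
  · rintro ⟨k, hk⟩
    refine ⟨k, ?_⟩
    show b ^ k = x
    have h1 : a⁻¹ * b ^ k * a = x := by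
      show a⁻¹ * b ^ k * a = x
      rw [show b ^ k = a * x * a⁻¹ from hk]; group
    rw [← h1, mul_assoc, ← ((show Commute a b from hab).zpow_right k).eq, inv_mul_cancel_left]

theorem twoCyclic_iff {G : Type*} [Group G] (H : Subgroup G)
    (hS : ∀ P : Sylow 2 H, IsCyclic P) : TwoCyclic H := by
  intro T hT hTp
  obtain ⟨P, hP⟩ := (hTp.of_equiv (subgroupOfEquivOfLe hT).symm).exists_le_sylow
  haveI := hS P
  haveI : IsCyclic (T.subgroupOf H) := isCyclic_of_injective (inclusion hP) (inclusion_injective hP)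
  exact isCyclic_of_surjective (subgroupOfEquivOfLe hT).toMonoidHom (subgroupOfEquivOfLe hT).surjective

/-- Images of subgroups with cyclic Sylow 2-subgroups contain no four-group. -/
theorem not_hasFour_map {G Q : Type*} [Group G] [Finite G] [Group Q] (f : G →* Q) {H : Subgroup G}
    (hH : TwoCyclic H) : ¬ HasFour (H.map f) := by
  rintro ⟨a, ha, b, hb, ha1, hb1, hne, ha2, hb2, hab⟩
  haveI : Fact (Nat.Prime 2) := ⟨Nat.prime_two⟩
  set V := zpowers a ⊔ zpowers b with hV
  have hVM : V ≤ H.map f := sup_le (zpowers_le.mpr ha) (zpowers_le.mpr hb)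
  let φ := f.subgroupMap H
  have hφ : Function.Surjective φ := f.subgroupMap_surjective H
  let P : Sylow 2 H := default
  haveI : IsCyclic P := by
    haveI := hH _ (map_subtype_le (P : Subgroup H)) (P.2.map _)
    exact isCyclic_of_surjective ((P : Subgroup H).equivMapOfInjective _ H.subtype_injective).symm.toMonoidHom
      ((P : Subgroup H).equivMapOfInjective _ H.subtype_injective).symm.surjective
  let S := P.mapSurjective hφ
  haveI : IsCyclic S :=
    isCyclic_of_surjective (φ.subgroupMap (P : Subgroup H)) (φ.subgroupMap_surjective _)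
  haveI : Finite (H.map f) := Finite.of_surjective φ hφ
  obtain ⟨S', hS'⟩ := ((isPGroup_two_of_fours ha2 hb2 hab).of_equiv (subgroupOfEquivOfLe hVM).symm).exists_le_sylow
  haveI : IsCyclic S' := isCyclic_of_surjective (S.equiv S').toMonoidHom (S.equiv S').surjective
  classical
  haveI := Fintype.ofFinite S'
  have hle := IsCyclic.card_pow_eq_one_le (α := S') two_pos
  let a' : S' := ⟨⟨a, ha⟩, hS' (show a ∈ V from mem_sup_left (mem_zpowers a))⟩
  let b' : S' := ⟨⟨b, hb⟩, hS' (show b ∈ V from mem_sup_right (mem_zpowers b))⟩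
  have hsub : ({1, a', b'} : Finset S') ⊆ Finset.univ.filter fun u => u ^ 2 = 1 := by
    intro u hu
    simp only [Finset.mem_insert, Finset.mem_singleton] at hu
    rw [Finset.mem_filter]
    refine ⟨Finset.mem_univ _, ?_⟩
    rcases hu with rfl | rfl | rfl
    · exact one_pow 2
    · exact Subtype.ext (Subtype.ext (by simpa [pow_two, a'] using ha2))
    · exact Subtype.ext (Subtype.ext (by simpa [pow_two, b'] using hb2))
  have h3 : ({1, a', b'} : Finset S').card = 3 := by
    refine Finset.card_eq_three.mpr ⟨_, _, _, ?_, ?_, ?_, rfl⟩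
    · exact fun e => ha1 (congrArg (fun u : S' => ((u : H.map f) : Q)) e).symm
    · exact fun e => hb1 (congrArg (fun u : S' => ((u : H.map f) : Q)) e).symm
    · exact fun e => hne (congrArg (fun u : S' => ((u : H.map f) : Q)) e)
  exact absurd ((Finset.card_le_card hsub).trans (le_of_eq_of_le (by congr!) hle)) (by omega)

/-- The commutator test. -/
theorem normalFours_of_test {Q : Type*} [Group Q]
    (h : ∀ g : Q, g ≠ 1 → ∃ a, g * a * g⁻¹ * a⁻¹ ≠ 1 ∧ (g * a * g⁻¹ * a⁻¹) * (g * a * g⁻¹ * a⁻¹) = 1 ∧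
      ∃ b, (g * a * g⁻¹ * a⁻¹) * b * (g * a * g⁻¹ * a⁻¹)⁻¹ * b⁻¹ ≠ 1 ∧
        (g * a * g⁻¹ * a⁻¹) * b * (g * a * g⁻¹ * a⁻¹)⁻¹ * b⁻¹ ≠ g * a * g⁻¹ * a⁻¹ ∧
        ((g * a * g⁻¹ * a⁻¹) * b * (g * a * g⁻¹ * a⁻¹)⁻¹ * b⁻¹) *
          ((g * a * g⁻¹ * a⁻¹) * b * (g * a * g⁻¹ * a⁻¹)⁻¹ * b⁻¹) = 1 ∧
        (g * a * g⁻¹ * a⁻¹) * ((g * a * g⁻¹ * a⁻¹) * b * (g * a * g⁻¹ * a⁻¹)⁻¹ * b⁻¹) =
          ((g * a * g⁻¹ * a⁻¹) * b * (g * a * g⁻¹ * a⁻¹)⁻¹ * b⁻¹) * (g * a * g⁻¹ * a⁻¹)) :
    NormalFours Q := by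
  intro M hM hne
  obtain ⟨⟨g, hg⟩, hg1⟩ := ne_bot_iff_exists_ne_one.mp hne
  obtain ⟨a, hx1, hx2, b, hy1, hyx, hy2, hxy⟩ := h g fun e => hg1 (Subtype.ext e)
  have key : ∀ u ∈ M, ∀ v : Q, u * v * u⁻¹ * v⁻¹ ∈ M := fun u hu v => by
    rw [show u * v * u⁻¹ * v⁻¹ = u * (v * u⁻¹ * v⁻¹) by group]
    exact mul_mem hu (hM.conj_mem _ (inv_mem hu) v)
  exact ⟨_, key g hg a, _, key _ (key g hg a) b, hx1, hy1, Ne.symm hyx, hx2, hy2, hxy⟩

theorem normalFours_perm_four : NormalFours (Equiv.Perm (Fin 4)) :=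
  normalFours_of_test (by decide +kernel)

theorem normalFours_alt_four : NormalFours (alternatingGroup (Fin 4)) :=
  normalFours_of_test (by decide +kernel)

theorem normalFours_alt_five : NormalFours (alternatingGroup (Fin 5)) := by
  intro M hM hne
  haveI := alternatingGroup.isSimpleGroup_five
  rw [(IsSimpleGroup.eq_bot_or_eq_top_of_normal M hM).resolve_left hne]
  exact ⟨⟨Equiv.swap 0 1 * Equiv.swap 2 3, Equiv.Perm.mem_alternatingGroup.mpr (by decide +kernel)⟩, mem_top _,
    ⟨Equiv.swap 0 2 * Equiv.swap 1 3, Equiv.Perm.mem_alternatingGroup.mpr (by decide +kernel)⟩, mem_top _, by decide +kernel⟩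

theorem center_perm_five : ∀ g : Equiv.Perm (Fin 5),
    (g * Equiv.swap 0 1 = Equiv.swap 0 1 * g ∧ g * Equiv.swap 1 2 = Equiv.swap 1 2 * g ∧
      g * Equiv.swap 2 3 = Equiv.swap 2 3 * g ∧ g * Equiv.swap 3 4 = Equiv.swap 3 4 * g) → g = 1 := by
  decide +kernel

theorem normalFours_perm_five : NormalFours (Equiv.Perm (Fin 5)) := by
  intro M hM hne
  haveI := hM
  set A := alternatingGroup (Fin 5) with hA
  by_cases hd : M.subgroupOf A = ⊥
  · exfalso
    obtain ⟨⟨g, hg⟩, hg1⟩ := ne_bot_iff_exists_ne_one.mp hne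
    have hcen : ∀ s : Equiv.Perm (Fin 5), g * s = s * g := fun s => by
      have hmem : g * s * g⁻¹ * s⁻¹ ∈ M := by
        rw [show g * s * g⁻¹ * s⁻¹ = g * (s * g⁻¹ * s⁻¹) by group]
        exact mul_mem hg (hM.conj_mem _ (inv_mem hg) s)
      have hA' : g * s * g⁻¹ * s⁻¹ ∈ A := by
        rw [hA, Equiv.Perm.mem_alternatingGroup]
        simp only [map_mul, map_inv, Int.units_inv_eq_self]
        rcases Int.units_eq_one_or (Equiv.Perm.sign g) with e | e <;>
          rcases Int.units_eq_one_or (Equiv.Perm.sign s) with e' | e' <;> simp [e, e']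
      have := (Subgroup.ext_iff.mp hd ⟨_, hA'⟩).mp hmem
      rw [mem_bot] at this
      have e : g * s * g⁻¹ * s⁻¹ = 1 := congrArg Subtype.val this
      rwa [mul_inv_eq_one, mul_inv_eq_iff_eq_mul] at e
    exact hg1 (Subtype.ext (center_perm_five g ⟨hcen _, hcen _, hcen _, hcen _⟩))
  · obtain ⟨a, ha, b, hb, h1, h2, h3, h4, h5, h6⟩ := normalFours_alt_five (M.subgroupOf A) inferInstance hd
    exact ⟨a, ha, b, hb, fun e => h1 (Subtype.ext e), fun e => h2 (Subtype.ext e),
      fun e => h3 (Subtype.ext e), congrArg Subtype.val h4, congrArg Subtype.val h5, congrArg Subtype.val h6⟩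

theorem hasFour_dihedral_two : HasFour (⊤ : Subgroup (DihedralGroup 2)) :=
  ⟨.sr 0, mem_top _, .sr 1, mem_top _, by decide +kernel⟩

variable {G : Type*} [Group G] [Finite G]

theorem index_eq_card_of_surjective {Q : Type*} [Group Q] {f : G →* Q} (hf : Function.Surjective f) :
    f.ker.index = Nat.card Q := by
  rw [index_ker, MonoidHom.range_eq_top.mpr hf, card_top]

theorem eq_or_four_of_fiveQuot {N : Subgroup G} (h : FiveQuot N) :
    (∃ (Q : Type) (_ : Group Q) (f : G →* Q), Function.Surjective f ∧ f.ker = N ∧ NormalFours Q ∧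
      HasFour (⊤ : Subgroup Q) ∧ 12 ≤ Nat.card Q) ∨
      ∃ f : G →* DihedralGroup 2, Function.Surjective f ∧ f.ker = N := by
  have four : ∀ (Q : Type) [Group Q] [Finite Q], 12 ≤ Nat.card Q → NormalFours Q → HasFour (⊤ : Subgroup Q) :=
    fun Q _ _ hc hQ => hQ ⊤ inferInstance fun e => by
      have := congrArg (fun H : Subgroup Q => Nat.card H) e
      simp only [card_top, card_bot] at this
      omega
  have c4 : 12 ≤ Nat.card (alternatingGroup (Fin 4)) := by rw [Nat.card_eq_fintype_card]; decide +kernel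
  have s4 : 12 ≤ Nat.card (Equiv.Perm (Fin 4)) := by rw [Nat.card_perm, Nat.card_fin]; decide
  have s5 : 12 ≤ Nat.card (Equiv.Perm (Fin 5)) := by rw [Nat.card_perm, Nat.card_fin]; decide
  have a5 : 12 ≤ Nat.card (alternatingGroup (Fin 5)) := by
    rw [nat_card_alternatingGroup, Nat.card_fin]; decide
  rcases h with h | ⟨f, hf⟩ | ⟨f, hf⟩ | ⟨f, hf⟩ | ⟨f, hf⟩
  · exact Or.inr h
  · exact Or.inl ⟨_, _, f, hf.1, hf.2, normalFours_alt_four, four _ c4 normalFours_alt_four, c4⟩
  · exact Or.inl ⟨_, _, f, hf.1, hf.2, normalFours_perm_four, four _ s4 normalFours_perm_four, s4⟩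
  · exact Or.inl ⟨_, _, f, hf.1, hf.2, normalFours_alt_five, four _ a5 normalFours_alt_five, a5⟩
  · exact Or.inl ⟨_, _, f, hf.1, hf.2, normalFours_perm_five, four _ s5 normalFours_perm_five, s5⟩

theorem not_fiveQuot_of_twoCyclic (h : TwoCyclic (⊤ : Subgroup G)) (N : Subgroup G) : ¬ FiveQuot N := by
  intro hN
  rcases eq_or_four_of_fiveQuot hN with ⟨Q, _, f, hf, -, -, hQ, -⟩ | ⟨f, hf, -⟩
  · exact not_hasFour_map f h (by rwa [map_top_of_surjective f hf])
  · exact not_hasFour_map f h (by rw [map_top_of_surjective f hf]; exact hasFour_dihedral_two)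

/-- A Sylow 2-subgroup with one involution has an element whose square generates a subgroup of index at most four. -/
theorem exists_sq_index_le (h1 : OneInv G) (P : Sylow 2 G) :
    ∃ c : (P : Subgroup G), (zpowers (c ^ 2)).index ≤ 4 := by
  haveI : Fact (Nat.Prime 2) := ⟨Nat.prime_two⟩
  rcases CfsgLib.TwoGroups.OneInvolution.isCyclic_or_quaternion P.2 (fun a b ha hb => Subtype.ext
    (h1 a b (by rw [Subgroup.orderOf_coe, ha]) (by rw [Subgroup.orderOf_coe, hb]))) with h | ⟨n, hn, ⟨e⟩⟩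
  · obtain ⟨c, hc⟩ := IsCyclic.exists_generator (α := (P : Subgroup G))
    refine ⟨c, ?_⟩
    have h := (zpowers (c ^ 2)).card_mul_index
    have hco : orderOf c = Nat.card (P : Subgroup G) := orderOf_eq_card_of_forall_mem_zpowers hc
    rw [Nat.card_zpowers, orderOf_pow, hco] at h
    have hg : Nat.gcd (Nat.card (P : Subgroup G)) 2 ≤ 2 := Nat.gcd_le_right _ two_pos
    have hd : Nat.gcd (Nat.card (P : Subgroup G)) 2 ∣ Nat.card (P : Subgroup G) := Nat.gcd_dvd_left _ _
    obtain ⟨m, hm⟩ := hd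
    have hgpos : 0 < Nat.gcd (Nat.card (P : Subgroup G)) 2 := Nat.gcd_pos_of_pos_right _ two_pos
    rw [hm] at h
    have : (Nat.gcd (Nat.card (P : Subgroup G)) 2 * m) / Nat.gcd (Nat.card (P : Subgroup G)) 2 = m :=
      Nat.mul_div_cancel_left m hgpos
    rw [← hm] at h this
    rw [this] at h
    have hm0 : 0 < m := Nat.pos_of_ne_zero fun e0 => by
      rw [e0, mul_zero] at hm; exact Nat.card_pos.ne' hm
    nlinarith
  · refine ⟨e.symm (QuaternionGroup.a 1), ?_⟩
    haveI : NeZero (2 ^ n) := ⟨(pow_pos two_pos n).ne'⟩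
    haveI : NeZero (2 * 2 ^ n) := ⟨by positivity⟩
    have h := (zpowers ((e.symm (QuaternionGroup.a 1)) ^ 2)).card_mul_index
    rw [Nat.card_zpowers, ← map_pow, MulEquiv.orderOf_eq, orderOf_pow, QuaternionGroup.orderOf_a_one,
      Nat.gcd_eq_right (dvd_mul_right 2 _), Nat.mul_div_cancel_left _ two_pos, Nat.card_congr e.toEquiv,
      Nat.card_eq_fintype_card, QuaternionGroup.card] at h
    rw [mul_comm 4] at h
    rw [← map_pow]; exact (Nat.eq_of_mul_eq_mul_left (pow_pos two_pos n) h).le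

/-- At most one normal subgroup with cyclic Sylow 2-subgroups has one of the six quotient types. -/
theorem unique (h1 : OneInv G) {N₁ N₂ : Subgroup G} (hn1 : N₁.Normal) (hn2 : N₂.Normal)
    (hc1 : TwoCyclic N₁) (hc2 : TwoCyclic N₂)
    (hq1 : N₁ = ⊤ ∨ FiveQuot N₁) (hq2 : N₂ = ⊤ ∨ FiveQuot N₂) : N₁ = N₂ := by
  haveI : Fact (Nat.Prime 2) := ⟨Nat.prime_two⟩
  have bigLe : ∀ {A B : Subgroup G}, B.Normal → TwoCyclic B →
      (∃ (Q : Type) (_ : Group Q) (f : G →* Q), Function.Surjective f ∧ f.ker = A ∧ NormalFours Q ∧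
        HasFour (⊤ : Subgroup Q) ∧ 12 ≤ Nat.card Q) → B ≤ A ∧ 12 ≤ A.index := by
    rintro A B hB hcB ⟨Q, _, f, hf, hk, hQ, -, h12⟩
    refine ⟨?_, by rw [← hk, index_eq_card_of_surjective hf]; exact h12⟩
    by_contra hle
    refine not_hasFour_map f hcB (hQ _ (hB.map f hf) fun e => hle ?_)
    rw [← hk]; exact (map_eq_bot_iff B).mp e
  have four : ∀ {A : Subgroup G} (f : G →* DihedralGroup 2), Function.Surjective f → f.ker = A →
      A.index = 4 ∧ ∀ g : G, g * g ∈ A := by
    intro A f hf hk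
    refine ⟨by rw [← hk, index_eq_card_of_surjective hf, DihedralGroup.nat_card], fun g => ?_⟩
    rw [← hk, MonoidHom.mem_ker, map_mul]
    exact (show ∀ x : DihedralGroup 2, x * x = 1 by decide +kernel) _
  rcases hq1 with rfl | hq1
  · rcases hq2 with rfl | hq2
    · rfl
    · exact absurd hq2 (not_fiveQuot_of_twoCyclic hc1 _)
  rcases hq2 with rfl | hq2
  · exact absurd hq1 (not_fiveQuot_of_twoCyclic hc2 _)
  rcases eq_or_four_of_fiveQuot hq1 with hb1 | ⟨f1, hf1, hk1⟩ <;>
    rcases eq_or_four_of_fiveQuot hq2 with hb2 | ⟨f2, hf2, hk2⟩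
  · exact le_antisymm (bigLe hn1 hc1 hb2).1 (bigLe hn2 hc2 hb1).1
  · obtain ⟨hle, h12⟩ := bigLe hn2 hc2 hb1
    have := Nat.le_of_dvd (by rw [(four f2 hf2 hk2).1]; norm_num) (index_dvd_of_le hle)
    rw [(four f2 hf2 hk2).1] at this
    omega
  · obtain ⟨hle, h12⟩ := bigLe hn1 hc1 hb2
    have := Nat.le_of_dvd (by rw [(four f1 hf1 hk1).1]; norm_num) (index_dvd_of_le hle)
    rw [(four f1 hf1 hk1).1] at this
    omega
  · obtain ⟨hi1, hs1⟩ := four f1 hf1 hk1
    obtain ⟨hi2, hs2⟩ := four f2 hf2 hk2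
    set D := N₁ ⊓ N₂ with hD
    haveI : D.Normal := inferInstance
    let P : Sylow 2 G := default
    obtain ⟨c, hc⟩ := exists_sq_index_le h1 P
    have hsup : (P : Subgroup G) ⊔ D = ⊤ := by
      refine Subgroup.index_eq_one.mp ?_
      have hDp : IsPGroup 2 (G ⧸ D) := fun q => by
        induction q using QuotientGroup.induction_on with
        | H g => exact ⟨1, (QuotientGroup.eq_one_iff _).mpr (by show g ^ (2 ^ 1) ∈ D; rw [pow_one, pow_two]; exact mem_inf.mpr ⟨hs1 g, hs2 g⟩)⟩
      obtain ⟨k, hk⟩ := IsPGroup.iff_card.mp hDp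
      have d1 : ((P : Subgroup G) ⊔ D).index ∣ 2 ^ k := by
        rw [← hk, ← index_eq_card]; exact index_dvd_of_le le_sup_right
      have d2 : ((P : Subgroup G) ⊔ D).index ∣ (P : Subgroup G).index := index_dvd_of_le le_sup_left
      exact Nat.eq_one_of_dvd_coprimes
        (((Nat.prime_two.coprime_iff_not_dvd).mpr P.not_dvd_index).pow_left k) d1 d2
    have hDi : D.index ≤ 4 := by
      have h2 : D.relIndex (P : Subgroup G) = D.index := by
        rw [← relIndex_sup_right, hsup, relIndex_top_right]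
      rw [← h2]
      refine (Nat.le_of_dvd ?_ (index_dvd_of_le (H := zpowers (c ^ 2)) (K := D.subgroupOf P) ?_)).trans hc
      · exact Nat.pos_of_ne_zero index_ne_zero_of_finite
      · rw [zpowers_le, mem_subgroupOf, SubmonoidClass.coe_pow, pow_two]
        exact ⟨hs1 _, hs2 _⟩
    have e1 : D = N₁ := eq_of_le_of_card_ge inf_le_left (by
      have h3 := D.card_mul_index
      have h4 := N₁.card_mul_index
      rw [hi1] at h4
      nlinarith [(Nat.card_pos : 0 < Nat.card D)])
    have e2 : D = N₂ := eq_of_le_of_card_ge inf_le_right (by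
      have h3 := D.card_mul_index
      have h4 := N₂.card_mul_index
      rw [hi2] at h4
      nlinarith [(Nat.card_pos : 0 < Nat.card D)])
    exact e1.symm.trans e2

omit [Finite G] in
theorem comap_twoCyclic_of_coprime {X : Type*} [Group X] [Finite X] (φ : G →* X) {M : Subgroup X}
    [IsCyclic M] (hker : (Nat.card φ.ker).Coprime 2) : TwoCyclic (M.comap φ) := by
  intro T hT hTp
  let ψ : T →* M := (φ.comp T.subtype).codRestrict M fun t => hT t.2
  refine isCyclic_of_injective ψ ((injective_iff_map_eq_one ψ).mpr fun t ht => ?_)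
  obtain ⟨k, hk⟩ := hTp t
  have h1 : orderOf (t : G) ∣ 2 ^ k := by rw [Subgroup.orderOf_coe]; exact orderOf_dvd_of_pow_eq_one hk
  have h2 : orderOf (t : G) ∣ Nat.card φ.ker :=
    Subgroup.orderOf_dvd_natCard _ (show φ t = 1 from congrArg Subtype.val ht)
  exact Subtype.ext (orderOf_eq_one_iff.mp (Nat.eq_one_of_dvd_coprimes ((hker.symm).pow_left k) h1 h2))

omit [Finite G] in
theorem fiveQuot_comap {X : Type*} [Group X] (φ : G →* X) (hφ : Function.Surjective φ) {M : Subgroup X}
    (h : FiveQuot M) : FiveQuot (M.comap φ) := by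
  rcases h with ⟨f, hf⟩ | ⟨f, hf⟩ | ⟨f, hf⟩ | ⟨f, hf⟩ | ⟨f, hf⟩
  · exact Or.inl ⟨f.comp φ, hf.1.comp hφ, by rw [← MonoidHom.comap_ker, hf.2]⟩
  · exact Or.inr (Or.inl ⟨f.comp φ, hf.1.comp hφ, by rw [← MonoidHom.comap_ker, hf.2]⟩)
  · exact Or.inr (Or.inr (Or.inl ⟨f.comp φ, hf.1.comp hφ, by rw [← MonoidHom.comap_ker, hf.2]⟩))
  · exact Or.inr (Or.inr (Or.inr (Or.inl ⟨f.comp φ, hf.1.comp hφ, by rw [← MonoidHom.comap_ker, hf.2]⟩)))
  · exact Or.inr (Or.inr (Or.inr (Or.inr ⟨f.comp φ, hf.1.comp hφ, by rw [← MonoidHom.comap_ker, hf.2]⟩)))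

theorem fiveQuot_of_card_four (N : Subgroup G) [N.Normal] (hi : N.index = 4) (hsq : ∀ g : G, g * g ∈ N) :
    FiveQuot N := by
  have hc : Nat.card (G ⧸ N) = 4 := by rw [← index_eq_card]; exact hi
  have hsq' : ∀ q : G ⧸ N, q * q = 1 := fun q => by
    induction q using QuotientGroup.induction_on with
    | H g => exact (QuotientGroup.eq_one_iff _).mpr (hsq g)
  haveI : Nontrivial (G ⧸ N) := Finite.one_lt_card_iff_nontrivial.mp (by omega)
  obtain ⟨q, hq⟩ := exists_ne (1 : G ⧸ N)
  have hq2 : orderOf q = 2 := orderOf_eq_prime (by rw [pow_two]; exact hsq' q) hq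
  have hC2 : Nat.card (zpowers q) = 2 := by rw [Nat.card_zpowers, hq2]
  have hidx : (zpowers q).index = 2 := by
    have := (zpowers q).card_mul_index
    rw [hC2, hc] at this
    omega
  obtain ⟨e⟩ := CfsgLib.PSL2.nonempty_mulEquiv_dihedral (zpowers q) hidx fun g _ => hsq' g
  rw [hC2] at e
  refine Or.inl ⟨e.toMonoidHom.comp (QuotientGroup.mk' N), e.surjective.comp (QuotientGroup.mk'_surjective N), ?_⟩
  exact (MonoidHom.ker_mulEquiv_comp _ _).trans (QuotientGroup.ker_mk' _)

theorem oneInv_quotient (h1 : OneInv G) (N : Subgroup G) [N.Normal] (hN : (Nat.card N).Coprime 2) :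
    OneInv (G ⧸ N) := by
  haveI : Fact (Nat.Prime 2) := ⟨Nat.prime_two⟩
  have key : ∀ a : G ⧸ N, orderOf a = 2 → ∃ t : G, orderOf t = 2 ∧ (t : G ⧸ N) = a := by
    intro a ha
    induction a using QuotientGroup.induction_on with
    | H g =>
      have h2 : g ^ 2 ∈ N := by
        rw [← QuotientGroup.eq_one_iff, QuotientGroup.mk_pow, ← ha, pow_orderOf_eq_one]
      set o := Nat.card N with ho
      have hodd : Odd o := Nat.coprime_two_right.mp hN
      obtain ⟨k, hk⟩ := hodd
      refine ⟨g ^ o, orderOf_eq_prime ?_ ?_, ?_⟩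
      · rw [← pow_mul, mul_comm, pow_mul]
        exact congrArg Subtype.val (pow_card_eq_one' (G := N) (x := ⟨_, h2⟩))
      · intro e
        have : ((g : G ⧸ N)) ^ o = 1 := by rw [← QuotientGroup.mk_pow, e]; rfl
        have hd := orderOf_dvd_of_pow_eq_one this
        rw [ha] at hd
        omega
      · rw [QuotientGroup.mk_pow, hk, pow_succ, pow_mul, show ((g : G ⧸ N)) ^ 2 = 1 by
          rw [← ha, pow_orderOf_eq_one], one_pow, one_mul]
  intro a b ha hb
  obtain ⟨s, hs, rfl⟩ := key a ha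
  obtain ⟨t, ht, rfl⟩ := key b hb
  rw [h1 s t hs ht]

theorem two_group_case (h1 : OneInv G) (hp : IsPGroup 2 G) (hnc : ¬ TwoCyclic (⊤ : Subgroup G)) :
    ∃ M : Subgroup G, M.Normal ∧ IsCyclic M ∧ FiveQuot M := by
  haveI : Fact (Nat.Prime 2) := ⟨Nat.prime_two⟩
  rcases CfsgLib.TwoGroups.OneInvolution.isCyclic_or_quaternion hp h1 with h | ⟨n, hn, ⟨e⟩⟩
  · exact absurd (fun T _ _ => Subgroup.isCyclic T) hnc
  haveI : NeZero (2 ^ n) := ⟨(pow_pos two_pos n).ne'⟩
  haveI : NeZero (2 * 2 ^ n) := ⟨by positivity⟩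
  set c := e.symm (QuaternionGroup.a 1) with hc
  set M := zpowers (c ^ 2) with hM
  have hsq : ∀ g : G, g * g ∈ M := by
    intro g
    obtain ⟨q, rfl⟩ := e.symm.surjective g
    rcases q with i | i
    · refine ⟨(i.val : ℤ), ?_⟩
      show (c ^ 2) ^ (i.val : ℤ) = _
      rw [zpow_natCast, ← pow_mul, hc, ← map_pow, ← map_mul, QuaternionGroup.a_one_pow, QuaternionGroup.a_mul_a]
      congr 2
      push_cast [ZMod.natCast_zmod_val]
      ring
    · refine ⟨((2 ^ (n - 1) : ℕ) : ℤ), ?_⟩
      show (c ^ 2) ^ ((2 ^ (n - 1) : ℕ) : ℤ) = _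
      rw [zpow_natCast, ← pow_mul, ← pow_succ', Nat.sub_add_cancel hn, hc, ← map_pow, ← map_mul,
        QuaternionGroup.a_one_pow, QuaternionGroup.xa_mul_xa]
      congr 2
      ring
  haveI hMn : M.Normal := ⟨fun m hm g => by
    rw [show g * m * g⁻¹ = (g * g) * ((g⁻¹ * m) * (g⁻¹ * m)) * m⁻¹ by group]
    exact mul_mem (mul_mem (hsq g) (hsq _)) (inv_mem hm)⟩
  refine ⟨M, hMn, inferInstance, fiveQuot_of_card_four M ?_ hsq⟩
  have h := M.card_mul_index
  rw [hM, Nat.card_zpowers, hc, ← map_pow, MulEquiv.orderOf_eq, orderOf_pow, QuaternionGroup.orderOf_a_one,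
    Nat.gcd_eq_right (dvd_mul_right 2 _), Nat.mul_div_cancel_left _ two_pos, Nat.card_congr e.toEquiv,
    Nat.card_eq_fintype_card, QuaternionGroup.card, mul_comm 4] at h
  rw [hM, hc, ← map_pow]
  exact Nat.eq_of_mul_eq_mul_left (pow_pos two_pos n) h

theorem quat_eight_table :
    (∀ q : QuaternionGroup 2, ∃ k : Fin 4, ∃ l : Fin 2,
      q = QuaternionGroup.a 1 ^ k.val * QuaternionGroup.xa 0 ^ l.val) ∧
    (∀ q r : QuaternionGroup 2, q * r * q⁻¹ * r⁻¹ = 1 ∨ q * r * q⁻¹ * r⁻¹ = QuaternionGroup.a 1 ^ 2) ∧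
    (∀ q : QuaternionGroup 2, q * q = 1 ∨ q * q = QuaternionGroup.a 1 ^ 2) ∧
    (∀ s t : Fin 2, ∃ q : QuaternionGroup 2,
      q * QuaternionGroup.a 1 * q⁻¹ = QuaternionGroup.a 1 * (QuaternionGroup.a 1 ^ 2) ^ s.val ∧
        q * QuaternionGroup.xa 0 * q⁻¹ = QuaternionGroup.xa 0 * (QuaternionGroup.a 1 ^ 2) ^ t.val) := by
  decide +kernel

theorem perm_three : ∀ π : Equiv.Perm (Fin 3),
    (π * π = 1 ∨ π * π * π = 1) ∧ (∀ i, π * π * π = 1 → π i = i → π = 1) := by
  decide +kernel

theorem isPGroup_of_top_card {k : ℕ} (h : Nat.card G ∣ 2 ^ k) : IsPGroup 2 G := by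
  haveI : Fact (Nat.Prime 2) := ⟨Nat.prime_two⟩
  obtain ⟨j, -, hj⟩ := (Nat.dvd_prime_pow Nat.prime_two).mp h
  exact IsPGroup.of_card hj

/-- The solvable case with trivial odd core. -/
theorem solvable_core_case [Group.IsSolvable G] (h1 : OneInv G) (hO : Cfsg.pPrimeCore 2 G = ⊥)
    (hnc : ¬ TwoCyclic (⊤ : Subgroup G)) :
    ∃ M : Subgroup G, M.Normal ∧ IsCyclic M ∧ FiveQuot M := by
  haveI : Fact (Nat.Prime 2) := ⟨Nat.prime_two⟩
  by_cases hp : IsPGroup 2 G
  · exact two_group_case h1 hp hnc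
  set R := Cfsg.pCore 2 G with hR
  haveI hRn : R.Normal := CfsgLib.IndexPowers.normal_pCore 2
  have hRp : IsPGroup 2 R := CfsgLib.PCore.pCore_isPGroup
  have hCR := CfsgLib.InvChar.centralizer_pCore_le (G := G) (p := 2) hO
  have h1R : ∀ a b : R, orderOf a = 2 → orderOf b = 2 → a = b := fun a b ha hb =>
    Subtype.ext (h1 a b (by rw [Subgroup.orderOf_coe, ha]) (by rw [Subgroup.orderOf_coe, hb]))
  have autCase : IsPGroup 2 (MulAut R) → False := by
    intro hA
    refine hp ?_
    have hk : IsPGroup 2 (MulAut.conjNormal (H := R) : G →* MulAut R).ker := hRp.to_le fun g hg => hCR (by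
      rw [mem_centralizer_iff]
      intro r hr
      have := congrArg Subtype.val (DFunLike.congr_fun (MonoidHom.mem_ker.mp hg) ⟨r, hr⟩)
      simp only [MulAut.conjNormal_apply, MulAut.one_apply] at this
      exact (mul_inv_eq_iff_eq_mul.mp this).symm)
    have := (hA.to_subgroup ⊤).comap_of_ker_isPGroup (MulAut.conjNormal (H := R)) hk
    rw [comap_top] at this
    exact this.of_equiv topEquiv
  rcases CfsgLib.TwoGroups.OneInvolution.isCyclic_or_quaternion hRp h1R with h | ⟨n, hn, ⟨e⟩⟩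
  · exfalso
    obtain ⟨k, hk⟩ := IsPGroup.iff_card.mp hRp
    refine autCase (isPGroup_of_top_card (k := k - 1) ?_)
    rw [IsCyclic.card_mulAut, hk]
    rcases k with _ | k
    · simp
    · rw [Nat.totient_prime_pow_succ Nat.prime_two, show 2 - 1 = 1 from rfl, mul_one, Nat.add_sub_cancel]
  by_cases hn2 : 2 ≤ n
  · exact ((autCase ((CfsgLib.Fusion.isPGroup_mulAut_quaternion n hn2).of_equiv
      (MulAut.congr e).symm))).elim
  obtain rfl : n = 1 := by omega
  obtain ⟨hgen, hcomm, hsqR, hinner⟩ := quat_eight_table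
  set i : R := e.symm (QuaternionGroup.a 1) with hi
  set j : R := e.symm (QuaternionGroup.xa 0) with hj
  set z : R := i ^ 2 with hz
  have hze : z = e.symm (QuaternionGroup.a 1 ^ 2) := by rw [hz, hi, map_pow]
  have hzo : orderOf (z : G) = 2 := by
    rw [Subgroup.orderOf_coe, hze, MulEquiv.orderOf_eq]
    exact orderOf_eq_prime (by decide +kernel) (by decide +kernel)
  have hzc : ∀ g : G, g * (z : G) * g⁻¹ = z := fun g =>
    h1 _ _ ((orderOf_injective (MulAut.conj g).toMonoidHom (MulAut.conj g).injective (z : G)).trans hzo) hzo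
  set Z := zpowers (z : G) with hZ
  haveI hZn : Z.Normal := ⟨fun m ⟨k, hk⟩ g => by
    refine ⟨k, ?_⟩
    show (z : G) ^ k = g * m * g⁻¹
    rw [← hk]
    show (z : G) ^ k = g * (z : G) ^ k * g⁻¹
    rw [← conj_zpow, hzc]⟩
  have hZR : Z ≤ R := zpowers_le.mpr z.2
  have hZmem : ∀ u : R, (u = 1 ∨ u = z) → (u : G) ∈ Z := by
    rintro u (rfl | rfl)
    · exact one_mem _
    · exact mem_zpowers _
  have hcommR : ∀ a ∈ R, ∀ b ∈ R, a * b * a⁻¹ * b⁻¹ ∈ Z := by
    intro a ha b hb
    refine hZmem (⟨a, ha⟩ * ⟨b, hb⟩ * (⟨a, ha⟩ : R)⁻¹ * (⟨b, hb⟩ : R)⁻¹) ?_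
    rcases hcomm (e ⟨a, ha⟩) (e ⟨b, hb⟩) with h | h
    · exact Or.inl (e.injective (by rw [map_one, map_mul, map_mul, map_mul, map_inv, map_inv, h]))
    · exact Or.inr (e.injective (by rw [hze, e.apply_symm_apply, map_mul, map_mul, map_mul, map_inv, map_inv, h]))
  have hsqZ : ∀ a ∈ R, a * a ∈ Z := by
    intro a ha
    refine hZmem (⟨a, ha⟩ * ⟨a, ha⟩) ?_
    rcases hsqR (e ⟨a, ha⟩) with h | h
    · exact Or.inl (e.injective (by rw [map_one, map_mul, h]))
    · exact Or.inr (e.injective (by rw [hze, e.apply_symm_apply, map_mul, h]))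
  -- elements centralising `R ⧸ Z`
  have hK : ∀ g : G, (∀ r ∈ R, g * r * g⁻¹ * r⁻¹ ∈ Z) → g ∈ R := by
    intro g hg
    have hpow : ∀ r : R, ∃ s : Fin 2, g * (r : G) * g⁻¹ = (r : G) * (z : G) ^ s.val := by
      intro r
      obtain ⟨k, hk⟩ : g * (r : G) * g⁻¹ * (r : G)⁻¹ ∈ Z := hg r r.2
      have hk' : g * (r : G) * g⁻¹ = (z : G) ^ k * (r : G) := by rw [show (z : G) ^ k = _ from hk]; group
      refine ⟨⟨(k % 2).toNat, by omega⟩, ?_⟩
      rw [hk']
      have hcz : Commute (z : G) (r : G) := by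
        have := hzc (r : G)
        rw [mul_inv_eq_iff_eq_mul] at this
        exact this.symm
      rw [(hcz.zpow_left k).eq]
      congr 1
      rw [← zpow_natCast, Int.toNat_of_nonneg (by omega)]
      conv_lhs => rw [← zpow_mod_orderOf, hzo]
      rfl
    obtain ⟨s, hs⟩ := hpow i
    obtain ⟨t, ht⟩ := hpow j
    obtain ⟨q, hqi, hqj⟩ := hinner s t
    set r : R := e.symm q
    have hri : (r : G) * (i : G) * (r : G)⁻¹ = (i : G) * (z : G) ^ s.val := by
      have := congrArg (fun u : R => (u : G)) (congrArg e.symm hqi)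
      simpa [map_mul, map_pow, map_inv, hi, hze, r] using this
    have hrj : (r : G) * (j : G) * (r : G)⁻¹ = (j : G) * (z : G) ^ t.val := by
      have := congrArg (fun u : R => (u : G)) (congrArg e.symm hqj)
      simpa [map_mul, map_pow, map_inv, hj, hze, r] using this
    have hu : ∀ w : G, g * w * g⁻¹ = (r : G) * w * (r : G)⁻¹ → Commute ((r : G)⁻¹ * g) w := by
      intro w hw
      show (r : G)⁻¹ * g * w = w * ((r : G)⁻¹ * g)
      calc (r : G)⁻¹ * g * w = (r : G)⁻¹ * (g * w * g⁻¹) * g := by group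
        _ = w * ((r : G)⁻¹ * g) := by rw [hw]; group
    have hui := hu i (hs.trans hri.symm)
    have huj := hu j (ht.trans hrj.symm)
    have hmem : (r : G)⁻¹ * g ∈ centralizer (R : Set G) := by
      rw [mem_centralizer_iff]
      intro w hw
      obtain ⟨k, l, hkl⟩ := hgen (e ⟨w, hw⟩)
      have hw' : (⟨w, hw⟩ : R) = i ^ k.val * j ^ l.val := by
        apply e.injective
        rw [hkl, map_mul, map_pow, map_pow, hi, hj, e.apply_symm_apply, e.apply_symm_apply]
      have hw'' : w = (i : G) ^ k.val * (j : G) ^ l.val := congrArg Subtype.val hw'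
      rw [hw'']
      exact ((hui.pow_right _).mul_right (huj.pow_right _)).eq.symm
    have := mul_mem r.2 (hCR hmem)
    rwa [mul_inv_cancel_left] at this
  -- the quotient by `Z`
  let π := QuotientGroup.mk' Z
  have hπ : Function.Surjective π := QuotientGroup.mk'_surjective Z
  set R' := R.map π with hR'
  haveI : R'.Normal := hRn.map π hπ
  have hmk : ∀ w : G, π w = 1 ↔ w ∈ Z := fun w => QuotientGroup.eq_one_iff w
  have hcardR : Nat.card R = 8 := by
    rw [Nat.card_congr e.toEquiv, Nat.card_eq_fintype_card, QuaternionGroup.card]; norm_num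
  have hcZ : Nat.card Z = 2 := by rw [hZ, Nat.card_zpowers, hzo]
  have hR'card : Nat.card R' = 4 := by
    have h := (π.subgroupMap R).ker.card_mul_index
    rw [index_ker, MonoidHom.range_eq_top.mpr (π.subgroupMap_surjective R), card_top, hcardR] at h
    have hk : Nat.card (π.subgroupMap R).ker = 2 := by
      rw [← hcZ]
      refine Nat.card_congr (((Equiv.subtypeEquivRight fun r : R => ?_).trans
        (subgroupOfEquivOfLe hZR).toEquiv))
      show r ∈ (π.subgroupMap R).ker ↔ r ∈ Z.subgroupOf R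
      rw [MonoidHom.mem_ker, mem_subgroupOf, ← hmk]
      exact ⟨fun h => congrArg Subtype.val h, fun h => Subtype.ext h⟩
    rw [hk] at h
    show Nat.card (R.map π) = 4
    omega
  classical
  haveI : Fintype R' := Fintype.ofFinite _
  let X := {x : R' // x ≠ 1}
  have hX : Nat.card X = 3 := by
    rw [Nat.card_eq_fintype_card, Fintype.card_subtype_compl, Fintype.card_subtype_eq, ← Nat.card_eq_fintype_card, hR'card]
  let ex : X ≃ Fin 3 := Finite.equivFinOfCardEq hX
  let act : (G ⧸ Z) →* Equiv.Perm X :=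
    { toFun := fun γ => (MulAut.conjNormal γ : MulAut R').toEquiv.subtypeEquiv fun x => by simp
      map_one' := by ext x; simp
      map_mul' := fun a b => by ext x; simp [mul_assoc] }
  have hact : ∀ γ, γ ∈ act.ker ↔ ∀ x ∈ R', γ * x * γ⁻¹ = x := by
    intro γ
    constructor
    · intro h x hx
      by_cases hx1 : x = 1
      · subst hx1; group
      have := Equiv.ext_iff.mp (MonoidHom.mem_ker.mp h) ⟨⟨x, hx⟩, fun e => hx1 (congrArg Subtype.val e)⟩
      exact congrArg (fun y : X => ((y : R') : G ⧸ Z)) this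
    · intro h
      rw [MonoidHom.mem_ker]
      exact Equiv.ext fun x => Subtype.ext (Subtype.ext (h _ x.1.2))
  have hker : act.ker = R' := by
    ext γ
    rw [hact]
    constructor
    · intro h
      obtain ⟨g, rfl⟩ := hπ γ
      refine mem_map_of_mem π (hK g fun r hr => ?_)
      rw [← hmk, map_mul, map_mul, map_mul, map_inv, map_inv, h _ (mem_map_of_mem π hr), mul_inv_cancel]
    · rintro ⟨a, ha, rfl⟩ x ⟨b, hb, rfl⟩
      rw [← map_inv, ← map_mul, ← map_mul, ← mul_inv_eq_one, ← map_inv, ← map_mul, hmk]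
      exact hcommR a ha b hb
  have hsq' : ∀ x ∈ R', x * x = 1 := by
    rintro _ ⟨a, ha, rfl⟩
    rw [← map_mul, hmk]; exact hsqZ a ha
  have hΓ : Nat.card (G ⧸ Z) = 12 ∨ Nat.card (G ⧸ Z) = 24 := by
    have h := act.ker.card_mul_index
    rw [index_ker, hker, hR'card] at h
    have hd : Nat.card act.range ∣ 6 := by
      have := card_subgroup_dvd_card act.range
      rwa [Nat.card_perm, hX] at this
    have hle := Nat.le_of_dvd (by norm_num) hd
    have hnp : ∀ k, Nat.card (G ⧸ Z) ≠ 2 ^ k := by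
      intro k hk
      refine hp (IsPGroup.of_card (n := k + 1) ?_)
      rw [Subgroup.card_eq_card_quotient_mul_card_subgroup Z, hk, hcZ, pow_succ]
    have h4 := hnp 2
    have h8 := hnp 3
    have hpos : 0 < Nat.card act.range := Nat.card_pos
    interval_cases hc : Nat.card act.range <;> omega
  have h6 : ∀ γ : G ⧸ Z, orderOf γ ≠ 6 := by
    intro γ hγ
    have hdvd : ∀ m, γ ^ m = 1 → 6 ∣ m := fun m hm => hγ ▸ orderOf_dvd_of_pow_eq_one hm
    let π3 : Equiv.Perm (Fin 3) := ex.permCongrHom (act γ)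
    have hinR : ∀ m, π3 ^ m = 1 → γ ^ m ∈ R' := fun m hm => by
      rw [← hker, MonoidHom.mem_ker, map_pow]
      exact ex.permCongrHom.injective (by rw [map_pow, map_one]; exact hm)
    obtain ⟨hcase, hfix⟩ := perm_three π3
    rcases hcase with h | h
    · have h4 := hsq' _ (hinR 2 (by rw [pow_two]; exact h))
      rw [← pow_add] at h4
      have := hdvd _ h4
      omega
    · have hγ3 := hinR 3 (by rw [pow_succ, pow_two]; exact h)
      have hne : (⟨γ ^ 3, hγ3⟩ : R') ≠ 1 := fun e => by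
        have := hdvd 3 (congrArg Subtype.val e)
        omega
      let x : X := ⟨⟨γ ^ 3, hγ3⟩, hne⟩
      have hfx : act γ x = x := by
        apply Subtype.ext; apply Subtype.ext
        show γ * γ ^ 3 * γ⁻¹ = γ ^ 3
        group
      have hone : π3 = 1 := hfix (ex x) h (by simp [π3, hfx])
      have h2 := hsq' _ (hinR 1 (by rw [pow_one]; exact hone))
      rw [pow_one, ← pow_two] at h2
      have := hdvd 2 h2
      omega
  refine ⟨Z, hZn, inferInstance, ?_⟩
  rcases hΓ with h | h
  · obtain ⟨f⟩ := CfsgLib.PSL2.nonempty_mulEquiv_alternating_four h h6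
    exact Or.inr (Or.inl ⟨f.toMonoidHom.comp π, f.surjective.comp hπ, by
      exact (MonoidHom.ker_mulEquiv_comp _ _).trans (QuotientGroup.ker_mk' _)⟩)
  · obtain ⟨f⟩ := CfsgLib.PSL2.nonempty_mulEquiv_symm_four h h6
    exact Or.inr (Or.inr (Or.inl ⟨f.toMonoidHom.comp π, f.surjective.comp hπ, by
      exact (MonoidHom.ker_mulEquiv_comp _ _).trans (QuotientGroup.ker_mk' _)⟩))

/-- The solvable case. -/
theorem exists_solvable [Group.IsSolvable G] (h1 : OneInv G) (hnc : ¬ TwoCyclic (⊤ : Subgroup G)) :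
    ∃ N : Subgroup G, N.Normal ∧ TwoCyclic N ∧ FiveQuot N := by
  haveI : Fact (Nat.Prime 2) := ⟨Nat.prime_two⟩
  set O := Cfsg.pPrimeCore 2 G with hO
  haveI : O.Normal := Cfsg.pPrimeCore_normal _ _
  have hcop : (Nat.card O).Coprime 2 := CfsgLib.PCore.pPrimeCore_coprime
  let φ := QuotientGroup.mk' O
  have hker : (Nat.card φ.ker).Coprime 2 := by rw [QuotientGroup.ker_mk']; exact hcop
  have hnc' : ¬ TwoCyclic (⊤ : Subgroup (G ⧸ O)) := by
    intro h
    apply hnc
    intro T _ hT
    let ψ : T →* (T.map φ : Subgroup (G ⧸ O)) := φ.subgroupMap T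
    haveI : IsCyclic (T.map φ) := h _ le_top (hT.map φ)
    refine isCyclic_of_injective ψ ((injective_iff_map_eq_one ψ).mpr fun t ht => ?_)
    have hb := CfsgLib.PCore.inf_eq_bot_of_isPGroup_coprime (p := 2) hT hcop
    have : (t : G) ∈ T ⊓ O := ⟨t.2, (QuotientGroup.eq_one_iff _).mp (congrArg Subtype.val ht)⟩
    rw [hb, mem_bot] at this
    exact Subtype.ext this
  obtain ⟨M, hMn, hMc, hMq⟩ := solvable_core_case (oneInv_quotient h1 O hcop)
    CfsgLib.PCore.pPrimeCore_quotient_pPrimeCore hnc'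
  exact ⟨M.comap φ, hMn.comap φ, comap_twoCyclic_of_coprime φ hker,
    fiveQuot_comap φ (QuotientGroup.mk'_surjective O) hMq⟩

theorem sl25_spectrum : ∀ g ∈ Cfsg.Agent.S3378.elts,
    [g ^ 2, g ^ 3, g ^ 5].any (fun u => decide (Cfsg.Agent.S3378.quad u = Cfsg.Agent.S3378.quad 1) ||
      decide (Cfsg.Agent.S3378.quad u = Cfsg.Agent.S3378.quad Cfsg.Agent.S3378.gz)) = true := by
  decide +kernel

theorem gx_gy_closure : Subgroup.closure ({Cfsg.Agent.S3378.gx, Cfsg.Agent.S3378.gy} : Set CfsgLib.Recognition.SL25.SL25) = ⊤ := by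
  rw [eq_top_iff]
  intro g _
  open Cfsg.Agent.S3378 in
  set H : Subgroup CfsgLib.Recognition.SL25.SL25 := Subgroup.closure {gx, gy}
  have hx : Cfsg.Agent.S3378.gx ∈ H := subset_closure (Or.inl rfl)
  have hy : Cfsg.Agent.S3378.gy ∈ H := subset_closure (Or.inr rfl)
  have hz : Cfsg.Agent.S3378.gz ∈ H := by
    rw [← Cfsg.Agent.S3378.gens_check.2.2.2.2.2]; exact pow_mem (mul_mem hx hy) 2
  have hg := Cfsg.Agent.S3378.mem_elts g
  simp only [Cfsg.Agent.S3378.elts, List.mem_flatMap, List.mem_map] at hg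
  obtain ⟨a, -, b, -, w, -, rfl⟩ := hg
  refine mul_mem (pow_mem hz a) (mul_mem (pow_mem hy b) (list_prod_mem ?_))
  intro u hu
  obtain ⟨i, -, rfl⟩ := List.mem_map.mp hu
  split
  · exact hx
  · exact hy

/-- The centralizer of a normal `SL(2,5)` of index at most two modulo what centralizes it. -/
theorem centralizer_sl25 (h1 : OneInv G) (S M G₀ : Subgroup G) (hSn : S.Normal) (hG₀n : G₀.Normal)
    (hG₀i : G₀.index = 1 ∨ G₀.index = 2) (hSM : S ⊔ M = G₀) (hcomm : ∀ s ∈ S, ∀ x ∈ M, s * x = x * s)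
    (e : S ≃* Matrix.SpecialLinearGroup (Fin 2) (ZMod 5)) :
    TwoCyclic (centralizer (S : Set G)) ∧ FiveQuot (centralizer (S : Set G)) := by
  haveI : Fact (Nat.Prime 2) := ⟨Nat.prime_two⟩
  haveI := hSn
  haveI := hG₀n
  set z : S := e.symm Cfsg.Agent.S3378.gz with hz
  have hzo : orderOf (z : G) = 2 := by
    rw [Subgroup.orderOf_coe, hz, MulEquiv.orderOf_eq]
    exact orderOf_eq_prime Cfsg.Agent.S3378.gens_check.2.2.1 fun e0 =>
      CfsgLib.Recognition.SL25.ai_check.2.1 (by rw [e0])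
  set C := centralizer (S : Set G) with hC
  haveI : C.Normal := inferInstance
  have hCc : ∀ c ∈ C, ∀ s ∈ S, s * c = c * s := fun c hc s hs => mem_centralizer_iff.1 hc s hs
  have hCS : ∀ w ∈ C, w ∈ S → w = 1 ∨ w = z := by
    intro w hwC hwS
    rcases CfsgLib.Recognition.SL25.eq_one_or_gz_of_commute (g := e ⟨w, hwS⟩) (fun x => by
      obtain ⟨u, rfl⟩ := e.surjective x
      rw [← map_mul, ← map_mul]
      exact congrArg e (Subtype.ext (hCc w hwC u u.2).symm)) with h2 | h2
    · exact Or.inl (congrArg Subtype.val (e.injective (h2.trans (map_one e).symm)))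
    · refine Or.inr ?_
      rw [hz, ← h2, e.symm_apply_apply]
  have hzC : (z : G) ∈ C := by
    rw [hC, mem_centralizer_iff]
    intro s hs
    have h2 : orderOf (s * (z : G) * s⁻¹) = 2 :=
      (orderOf_injective (MulAut.conj s).toMonoidHom (MulAut.conj s).injective (z : G)).trans hzo
    exact mul_inv_eq_iff_eq_mul.mp (h1 _ _ h2 hzo)
  have sqEq : ∀ u : G, u ^ 2 = 1 → u = 1 ∨ u = z := fun u hu => by
    by_cases hu1 : u = 1
    · exact Or.inl hu1
    · exact Or.inr (h1 _ _ (orderOf_eq_prime hu hu1) hzo)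
  -- the quotient
  let π := QuotientGroup.mk' C
  have hπ : Function.Surjective π := QuotientGroup.mk'_surjective C
  have hmk : ∀ w : G, π w = 1 ↔ w ∈ C := fun w => QuotientGroup.eq_one_iff w
  set A := S.map π with hA
  haveI : A.Normal := hSn.map π hπ
  have hAcard : Nat.card A = 60 := by
    have hh := (π.subgroupMap S).ker.card_mul_index
    rw [index_ker, MonoidHom.range_eq_top.mpr (π.subgroupMap_surjective S), card_top,
      Nat.card_congr e.toEquiv, CfsgLib.Recognition.SL25.card_sl25] at hh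
    have hk : Nat.card (π.subgroupMap S).ker = 2 := by
      have : (π.subgroupMap S).ker = zpowers z := by
        ext w
        rw [MonoidHom.mem_ker, Subtype.ext_iff]
        show π (w : G) = 1 ↔ _
        rw [hmk]
        constructor
        · intro hw
          rcases hCS w hw w.2 with h2 | h2
          · rw [show w = 1 from Subtype.ext h2]; exact one_mem _
          · rw [show w = z from Subtype.ext h2]; exact mem_zpowers _
        · rintro ⟨k, rfl⟩
          simpa using zpow_mem hzC k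
      rw [this, Nat.card_zpowers, ← Subgroup.orderOf_coe, hzo]
    rw [hk] at hh
    show Nat.card (S.map π) = 60
    omega
  have hA5 : Nonempty (A ≃* alternatingGroup (Fin 5)) := by
    refine CfsgLib.PSL2.nonempty_mulEquiv_alternating_five_of_spectrum hAcard ?_
    rintro ⟨_, s, hs, rfl⟩
    have h2 := sl25_spectrum _ (Cfsg.Agent.S3378.mem_elts (e ⟨s, hs⟩))
    simp only [List.any_cons, List.any_nil, Bool.or_false, Bool.or_eq_true, decide_eq_true_eq,
      Cfsg.Agent.S3378.quad_injective.eq_iff] at h2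
    have key : ∀ m : ℕ, ((e ⟨s, hs⟩) ^ m = 1 ∨ (e ⟨s, hs⟩) ^ m = Cfsg.Agent.S3378.gz) → π s ^ m = 1 := by
      intro m hm
      rw [← map_pow, hmk]
      rcases hm with hm | hm
      · have : (⟨s, hs⟩ : S) ^ m = 1 := e.injective (by rw [map_pow, hm, map_one])
        rw [show s ^ m = 1 from congrArg Subtype.val this]
        exact one_mem _
      · have : (⟨s, hs⟩ : S) ^ m = z := e.injective (by rw [map_pow, hm, hz, e.apply_symm_apply])
        rw [show s ^ m = z from congrArg Subtype.val this]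
        exact hzC
    rcases h2 with h2 | h2 | h2
    · exact Or.inl (Subtype.ext (key 2 h2))
    · exact Or.inr (Or.inl (Subtype.ext (key 3 h2)))
    · exact Or.inr (Or.inr (Subtype.ext (key 5 h2)))
  obtain ⟨eA⟩ := hA5
  have hAG₀ : A = G₀.map π := by
    refine le_antisymm (map_mono (hSM ▸ le_sup_left)) ?_
    rw [← hSM, Subgroup.map_sup]
    refine sup_le le_rfl ?_
    rintro _ ⟨m, hm, rfl⟩
    rw [(hmk m).mpr (mem_centralizer_iff.mpr fun s hs => hcomm s hs m hm)]
    exact one_mem _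
  have hAi : A.index ∣ 2 := by
    rw [hAG₀]
    refine (index_map_dvd G₀ hπ).trans ?_
    rcases hG₀i with h2 | h2 <;> rw [h2] <;> norm_num
  refine ⟨?_, ?_⟩
  · intro T hT hTp
    have hall : ∀ t ∈ T, t = 1 ∨ t = (z : G) := by
      intro t ht
      by_contra hne
      obtain ⟨k, hk⟩ := hTp ⟨t, ht⟩
      obtain ⟨j, -, hj⟩ := (Nat.dvd_prime_pow Nat.prime_two).mp
        (orderOf_dvd_of_pow_eq_one (show t ^ 2 ^ k = 1 from congrArg Subtype.val hk))
      have h2j : 2 ≤ j := by
        rcases j with _ | _ | j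
        · exact absurd (Or.inl (orderOf_eq_one_iff.mp hj)) hne
        · exact absurd (sqEq t (by rw [show (2:ℕ) = orderOf t by rw [hj]; rfl, pow_orderOf_eq_one])) hne
        · omega
      set c := t ^ 2 ^ (j - 2) with hc
      have hco : orderOf c = 4 := by
        rw [hc, orderOf_pow, hj, Nat.gcd_eq_right (pow_dvd_pow 2 (Nat.sub_le j 2)),
          Nat.pow_div (Nat.sub_le j 2) two_pos, show j - (j - 2) = 2 by omega]
        rfl
      have hcC : c ∈ C := pow_mem (hT ht) _
      let s : S := e.symm CfsgLib.Recognition.SL25.ai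
      have hso : orderOf (s : G) = 4 := by
        rw [Subgroup.orderOf_coe, e.symm.orderOf_eq, CfsgLib.Recognition.SL25.orderOf_ai]
      have sq : ∀ u : G, orderOf u = 4 → u ^ 2 = z := fun u hu => h1 _ _ (by
        rw [orderOf_pow, hu]; rfl) hzo
      have hcs : Commute (s : G) c := hCc c hcC s s.2
      have hsc : ((s : G) * c) ^ 2 = 1 := by
        rw [hcs.mul_pow, sq _ hso, sq _ hco, ← pow_two, ← hzo, pow_orderOf_eq_one]
      have hcS : c ∈ S := by
        rcases sqEq _ hsc with h2 | h2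
        · rw [eq_inv_of_mul_eq_one_right h2]; exact inv_mem s.2
        · rw [show c = (s : G)⁻¹ * z by rw [← h2]; group]; exact mul_mem (inv_mem s.2) z.2
      rcases hCS c hcC hcS with h2 | h2
      · rw [h2, orderOf_one] at hco; omega
      · rw [h2, hzo] at hco; omega
    have hle : T ≤ zpowers (z : G) := fun t ht => by
      rcases hall t ht with h2 | h2 <;> rw [h2]
      · exact one_mem _
      · exact mem_zpowers _
    exact isCyclic_of_injective (inclusion hle) (inclusion_injective hle)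
  · rcases (Nat.dvd_prime Nat.prime_two).mp hAi with h2 | h2
    · have htop : A = ⊤ := index_eq_one.mp h2
      let f : (G ⧸ C) ≃* alternatingGroup (Fin 5) :=
        (topEquiv.symm.trans (MulEquiv.subgroupCongr htop.symm)).trans eA
      exact Or.inr (Or.inr (Or.inr (Or.inl ⟨f.toMonoidHom.comp π, f.surjective.comp hπ, by
        exact (MonoidHom.ker_mulEquiv_comp π f).trans (QuotientGroup.ker_mk' C)⟩)))
    · let act : (G ⧸ C) →* MulAut A := MulAut.conjNormal
      have hbij := CfsgLib.Schur.conjNormal_bijective (n := 5) (by norm_num) (by norm_num)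
      let toPerm : MulAut A →* Equiv.Perm (Fin 5) :=
        (MulEquiv.ofBijective _ hbij).symm.toMonoidHom.comp (MulAut.congr eA).toMonoidHom
      have hinj : Function.Injective act := by
        rw [injective_iff_map_eq_one]
        intro γ hγ
        obtain ⟨g, rfl⟩ := hπ γ
        rw [hmk, hC, mem_centralizer_iff]
        have hmod : ∀ s ∈ S, g * s * g⁻¹ * s⁻¹ = 1 ∨ g * s * g⁻¹ * s⁻¹ = (z : G) := by
          intro s hs
          refine hCS _ ((hmk _).mp ?_) (mul_mem (hSn.conj_mem s hs g) (inv_mem hs))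
          have := congrArg (fun u : A => (u : G ⧸ C)) (DFunLike.congr_fun hγ ⟨π s, s, hs, rfl⟩)
          simp only [act, MulAut.conjNormal_apply, MulAut.one_apply] at this
          rw [map_mul, map_mul, map_mul, map_inv, map_inv, this, mul_inv_cancel]
        have hodd : ∀ (s : S) (m : ℕ), Odd m → s ^ m = 1 → g * (s : G) * g⁻¹ = s := by
          intro s m hm hs
          rcases hmod s s.2 with h3 | h3
          · exact mul_inv_eq_one.mp h3
          · exfalso
            have e1 : g * (s : G) * g⁻¹ = (z : G) * s := by rw [← h3]; group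
            have e2 : (g * (s : G) * g⁻¹) ^ m = 1 := by
              rw [conj_pow, ← Subgroup.coe_pow, hs, Subgroup.coe_one, mul_one, mul_inv_cancel]
            have hczs : Commute (z : G) (s : G) := (hCc z hzC s s.2).symm
            rw [e1, hczs.mul_pow, show (s : G) ^ m = 1 from congrArg Subtype.val hs, mul_one] at e2
            have := orderOf_dvd_of_pow_eq_one e2
            rw [hzo] at this
            obtain ⟨k, rfl⟩ := hm
            omega
        intro s hs
        suffices hcl : ∀ w : S, g * (w : G) * g⁻¹ = w by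
          exact (mul_inv_eq_iff_eq_mul.mp (hcl ⟨s, hs⟩)).symm
        intro w
        have hw : e w ∈ Subgroup.closure ({Cfsg.Agent.S3378.gx, Cfsg.Agent.S3378.gy} : Set CfsgLib.Recognition.SL25.SL25) := by
          rw [gx_gy_closure]; trivial
        let F : Subgroup CfsgLib.Recognition.SL25.SL25 :=
          { carrier := {q | g * ((e.symm q : S) : G) * g⁻¹ = ((e.symm q : S) : G)}
            mul_mem' := by
              intro a b ha hb
              simp only [Set.mem_setOf_eq, map_mul, Subgroup.coe_mul] at ha hb ⊢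
              rw [← conj_mul, ha, hb]
            one_mem' := by simp
            inv_mem' := by
              intro a ha
              simp only [Set.mem_setOf_eq, map_inv, Subgroup.coe_inv] at ha ⊢
              rw [← conj_inv, ha] }
        have hF : e w ∈ F := (closure_le F).mpr (by
          rintro q (rfl | rfl)
          · exact hodd _ 3 (by decide) (by rw [← map_pow, Cfsg.Agent.S3378.gens_check.1, map_one])
          · exact hodd _ 5 (by decide) (by rw [← map_pow, Cfsg.Agent.S3378.gens_check.2.1, map_one])) hw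
        simpa [F] using hF
      have hfinj : Function.Injective (toPerm.comp act) :=
        ((MulEquiv.ofBijective _ hbij).symm.injective.comp (MulAut.congr eA).injective).comp hinj
      have hcard : Nat.card (G ⧸ C) = 120 := by
        rw [← A.card_mul_index, hAcard, h2]
      have hfbij : Function.Bijective (toPerm.comp act) :=
        (Nat.bijective_iff_injective_and_card _).mpr ⟨hfinj, by rw [hcard, Nat.card_perm, Nat.card_fin]; rfl⟩
      exact Or.inr (Or.inr (Or.inr (Or.inr ⟨(toPerm.comp act).comp π, hfbij.2.comp hπ, by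
        rw [← MonoidHom.comap_ker, (MonoidHom.ker_eq_bot_iff _).mpr hfinj, MonoidHom.comap_bot,
          QuotientGroup.ker_mk']⟩)))

/-- The non-solvable case. -/
theorem exists_nonsolvable {N : Type*} [Group N] [Finite N] [Nontrivial N] [MulDistribMulAction G N]
    (h : CfsgLib.Frobenius.IsFPF G N) (h1 : OneInv G) (hns : ¬ Group.IsSolvable G) :
    ∃ M : Subgroup G, M.Normal ∧ TwoCyclic M ∧ FiveQuot M := by
  obtain ⟨G₀, hG₀n, hG₀i, S, M, hSM, -, hSn, -, hcomm, ⟨e⟩, -, -⟩ :=
    CfsgLib.Recognition.Complement.structure_of_fpf h hns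
  haveI := hSn
  exact ⟨centralizer (S : Set G), inferInstance, centralizer_sl25 h1 S M G₀ hSn hG₀n hG₀i hSM hcomm e⟩

/-- Existence and uniqueness of the normal subgroup. -/
theorem existsUnique_core {N : Type*} [Group N] [Finite N] [Nontrivial N] [MulDistribMulAction G N]
    (h : CfsgLib.Frobenius.IsFPF G N) :
    ∃! M : Subgroup G, M.Normal ∧ (∀ (p : ℕ) [Fact p.Prime] (P : Sylow p M), IsCyclic P) ∧
      (M = ⊤ ∨ FiveQuot M) := by
  haveI : Fact (Nat.Prime 2) := ⟨Nat.prime_two⟩
  have h1 : OneInv G := fun a b ha hb =>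
    h.involution_unique (fun e => by rw [e, orderOf_one] at ha; omega)
      (by rw [← pow_two, ← ha, pow_orderOf_eq_one]) (fun e => by rw [e, orderOf_one] at hb; omega)
      (by rw [← pow_two, ← hb, pow_orderOf_eq_one])
  have hsyl : ∀ M : Subgroup G, TwoCyclic M → ∀ (p : ℕ) [Fact p.Prime] (P : Sylow p M), IsCyclic P := by
    intro M hM p _ P
    have hc : IsCyclic ((P : Subgroup M).map M.subtype) := by
      by_cases hp2 : p = 2
      · subst hp2; exact hM _ (map_subtype_le _) (P.2.map _)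
      · exact CfsgLib.Recognition.Complement.isCyclic_odd_pgroup h hp2 _ (P.2.map _)
    exact isCyclic_of_surjective ((P : Subgroup M).equivMapOfInjective _ M.subtype_injective).symm.toMonoidHom
      ((P : Subgroup M).equivMapOfInjective _ M.subtype_injective).symm.surjective
  obtain ⟨M, hMn, hMc, hMq⟩ : ∃ M : Subgroup G, M.Normal ∧ TwoCyclic M ∧ (M = ⊤ ∨ FiveQuot M) := by
    by_cases hc : TwoCyclic (⊤ : Subgroup G)
    · exact ⟨⊤, inferInstance, hc, Or.inl rfl⟩
    by_cases hsol : Group.IsSolvable G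
    · haveI := hsol
      obtain ⟨M, a, b, c⟩ := exists_solvable h1 hc
      exact ⟨M, a, b, Or.inr c⟩
    · obtain ⟨M, a, b, c⟩ := exists_nonsolvable h h1 hsol
      exact ⟨M, a, b, Or.inr c⟩
  refine ⟨M, ⟨hMn, hsyl M hMc, hMq⟩, ?_⟩
  rintro M' ⟨hn', hc', hq'⟩
  exact unique h1 hn' hMn (twoCyclic_iff M' (hc' 2)) hMc hq' hMq

end CfsgLib.ComplementQuotient
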