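import Cfsg.Agent.Lib.Structure.GaussSplit
import Cfsg.Agent.Lib.Structure.ComplementQuotient
import Cfsg.Agent.Lib.Structure.FrobeniusConstruct
import Cfsg.Agent.Lib.Frobenius.Theorem

/-!
Non-solvable finite subgroups of division rings are `SL(2,5)`.
-/

set_option autoImplicit false
set_option linter.style.haveILetI false

namespace CfsgLib.DivisionSL25

open Subgroup CfsgLib.ComplementQuotient
open Cfsg.Agent.S3378 (gx gy gz)
open CfsgLib.Recognition.SL25 (ai aj)

variable {G : Type*} [Group G] [Finite G] {D : Type*} [DivisionRing D]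

/-- In positive characteristic the group is commutative. -/
theorem commute_of_charP (φ : G →* D) (hφ : Function.Injective φ) (p : ℕ) [Fact p.Prime] [CharP D p] :
    ∀ a b : G, a * b = b * a := by
  let Λ : Submodule ℤ D := Submodule.span ℤ (Set.range φ)
  haveI : Module.Finite ℤ Λ := Module.Finite.span_of_finite ℤ (Set.finite_range φ)
  haveI : Finite Λ := Module.finite_of_fg_torsion _ fun x =>
    ⟨⟨(p : ℤ), mem_nonZeroDivisors_of_ne_zero (by exact_mod_cast (Fact.out : p.Prime).ne_zero)⟩, Subtype.ext (by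
      show ((p : ℤ) • (x : D)) = 0
      rw [zsmul_eq_mul, Int.cast_natCast, CharP.cast_eq_zero, zero_mul])⟩
  have hmul : ∀ x ∈ Λ, ∀ y ∈ Λ, x * y ∈ Λ := by
    intro x hx y hy
    induction hx using Submodule.span_induction with
    | mem x hx =>
      obtain ⟨a, rfl⟩ := hx
      induction hy using Submodule.span_induction with
      | mem y hy =>
        obtain ⟨b, rfl⟩ := hy
        exact Submodule.subset_span ⟨a * b, map_mul φ a b⟩
      | zero => simp
      | add u v _ _ hu hv => rw [mul_add]; exact add_mem hu hv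
      | smul c u _ hu => rw [mul_smul_comm]; exact Λ.smul_mem c hu
    | zero => simp
    | add u v _ _ hu hv => rw [add_mul]; exact add_mem hu hv
    | smul c u _ hu => rw [smul_mul_assoc]; exact Λ.smul_mem c hu
  let R : Subring D :=
    { carrier := Λ
      one_mem' := Submodule.subset_span ⟨1, map_one φ⟩
      mul_mem' := fun {x y} hx hy => hmul x hx y hy
      zero_mem' := zero_mem Λ
      add_mem' := fun {x y} hx hy => add_mem hx hy
      neg_mem' := fun {x} hx => neg_mem hx }
  haveI : Finite R := ‹Finite Λ›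
  have hF : IsField R := Finite.isDomain_to_isField R
  intro a b
  apply hφ
  rw [map_mul, map_mul]
  exact congrArg Subtype.val (hF.mul_comm (⟨φ a, Submodule.subset_span ⟨a, rfl⟩⟩ : R)
    ⟨φ b, Submodule.subset_span ⟨b, rfl⟩⟩)

theorem sl25_table : ai ^ 2 = gz ∧ aj ^ 2 = gz ∧ ai * aj = gz * (aj * ai) ∧ gz ≠ 1 ∧ gz ^ 2 = 1 ∧
    (gx * gy) ^ 2 = gz ∧ gx ^ 3 = 1 ∧ gy ^ 5 = 1 ∧ gx ≠ 1 ∧ gy ≠ 1 := by
  have h : ∀ a b : CfsgLib.Recognition.SL25.SL25,
      Cfsg.Agent.S3378.quad a = Cfsg.Agent.S3378.quad b → a = b := fun _ _ h => Cfsg.Agent.S3378.quad_injective h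
  have hn : ∀ a b : CfsgLib.Recognition.SL25.SL25,
      Cfsg.Agent.S3378.quad a ≠ Cfsg.Agent.S3378.quad b → a ≠ b := fun _ _ h e => h (congrArg _ e)
  refine ⟨h _ _ ?_, h _ _ ?_, h _ _ ?_, hn _ _ ?_, h _ _ ?_, h _ _ ?_, h _ _ ?_, h _ _ ?_, hn _ _ ?_, hn _ _ ?_⟩ <;>
    decide +kernel

theorem five_cycle_square : ∀ c : Equiv.Perm (Fin 5), c ^ 5 = 1 → ∃ h : Equiv.Perm (Fin 5),
    Equiv.Perm.sign h = 1 ∧ Equiv.swap 0 1 * c * Equiv.swap 0 1 = h * c ^ 2 * h⁻¹ := by
  decide +kernel

/-- A finite non-solvable subgroup of a division ring is `SL(2,5)`. -/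
theorem nonempty_mulEquiv (φ : G →* D) (hφ : Function.Injective φ) (hns : ¬ Group.IsSolvable G) :
    Nonempty (G ≃* Matrix.SpecialLinearGroup (Fin 2) (ZMod 5)) := by
  classical
  haveI : Fact (Nat.Prime 2) := ⟨Nat.prime_two⟩
  haveI : CharZero D := by
    rcases CharP.exists' D with h | ⟨p, hp, h⟩
    · exact h
    · haveI := hp
      haveI := h
      exact absurd (Group.isSolvable_of_comm (commute_of_charP φ hφ p)) hns
  haveI : Nontrivial G := by
    by_contra h
    rw [not_nontrivial_iff_subsingleton] at h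
    exact hns inferInstance
  obtain ⟨L, _, _, H, hH, ⟨eH⟩⟩ := CfsgLib.FrobConstruct.isAbstractComplement_of_injective φ hφ
  obtain ⟨K, -, hKn, hK⟩ := CfsgLib.Frobenius.exists_normal_kernel hH
  letI : MulDistribMulAction G K := MulDistribMulAction.compHom K
    ((MulAut.conjNormal (H := K)).comp (H.subtype.comp eH.toMonoidHom))
  have hval : ∀ (g : G) (k : K), ((g • k : K) : L) = (eH g : L) * k * (eH g : L)⁻¹ := fun g k => rfl
  have hfpf : CfsgLib.Frobenius.IsFPF G K := by
    intro g hg k hk
    have hc : (eH g : L) * k * (eH g : L)⁻¹ = k := by rw [← hval, hk]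
    refine Subtype.ext (CfsgLib.Frobenius.eq_one_of_commute hH hK.disjoint k.2 (eH g).2 ?_
      (mul_inv_eq_iff_eq_mul.1 hc))
    exact fun h => hg (eH.injective (by rw [map_one]; exact Subtype.ext h))
  haveI : Nontrivial K := by
    rw [← Finite.one_lt_card_iff_nontrivial, ← hK.index_eq_card]
    exact CfsgLib.Frobenius.one_lt_index hH
  obtain ⟨G₀, hG₀n, hG₀i, S, M, hSM, -, hSn, -, hcomm, ⟨e⟩, -, hM30⟩ :=
    CfsgLib.Recognition.Complement.structure_of_fpf hfpf hns
  haveI := hSn
  obtain ⟨t1, t2, t3, t4, t5, t6, t7, t8, t9, t10⟩ := sl25_table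
  -- the elements in `D`
  let ψ : CfsgLib.Recognition.SL25.SL25 →* D := φ.comp (S.subtype.comp e.symm.toMonoidHom)
  have hψ : Function.Injective ψ := hφ.comp (S.subtype_injective.comp e.symm.injective)
  have hneg : ψ gz = -1 := by
    have h2 : ψ gz * ψ gz = 1 := by rw [← map_mul, ← pow_two, t5, map_one]
    rcases mul_self_eq_one_iff.mp h2 with h | h
    · exact absurd (hψ (h.trans (map_one ψ).symm)) t4
    · exact h
  set i := ψ ai with hi
  set j := ψ aj with hj
  have hii : i * i = -1 := by rw [hi, ← map_mul, ← pow_two, t1, hneg]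
  have hjj : j * j = -1 := by rw [hj, ← map_mul, ← pow_two, t2, hneg]
  have hij : i * j = -(j * i) := by
    rw [hi, hj, ← map_mul, t3, map_mul, hneg, neg_one_mul, map_mul]
  set s := ψ gy with hs
  set si := ψ gy⁻¹ with hsi
  set w := ψ gx with hw
  set wi := ψ gx⁻¹ with hwi
  have hssi : s * si = 1 := by rw [hs, hsi, ← map_mul, mul_inv_cancel, map_one]
  have hsis : si * s = 1 := by rw [hs, hsi, ← map_mul, inv_mul_cancel, map_one]
  have hwwi : w * wi = 1 := by rw [hw, hwi, ← map_mul, mul_inv_cancel, map_one]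
  have hwsum : w * w + w + 1 = 0 := by
    have h3 : (w * w + w + 1) * (w - 1) = 0 := by
      rw [show (w * w + w + 1) * (w - 1) = w * w * w - 1 by noncomm_ring, hw, ← map_mul, ← map_mul,
        ← pow_two, ← pow_succ, t7, map_one, sub_self]
    refine (mul_eq_zero.mp h3).resolve_right fun h => t9 (hψ ?_)
    rw [← hw, map_one]; exact sub_eq_zero.mp h
  have hssum : s * s * s * s + s * s * s + s * s + s + 1 = 0 := by
    have h3 : (s * s * s * s + s * s * s + s * s + s + 1) * (s - 1) = 0 := by
      rw [show (s * s * s * s + s * s * s + s * s + s + 1) * (s - 1) = s * s * s * s * s - 1 by noncomm_ring,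
        hs, ← map_mul, ← map_mul, ← map_mul, ← map_mul, ← pow_two, ← pow_succ, ← pow_succ, ← pow_succ, t8,
        map_one, sub_self]
    refine (mul_eq_zero.mp h3).resolve_right fun h => t10 (hψ ?_)
    rw [← hs, map_one]; exact sub_eq_zero.mp h
  have hws : w * s * w * s = -1 := by
    rw [hw, hs, ← map_mul, ← map_mul, ← map_mul, mul_assoc, ← pow_two, t6, hneg]
  -- the centre
  set x := s + si with hx
  have hsws : s * w * s = 1 + w := by
    have hwinv : wi = -1 - w := by
      have h1 : w * (-1 - w) = 1 := by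
        rw [show w * (-1 - w) = -(w * w + w + 1) + 1 by noncomm_ring, hwsum, neg_zero, zero_add]
      have hwiw : wi * w = 1 := by rw [hw, hwi, ← map_mul, inv_mul_cancel, map_one]
      calc wi = wi * (w * (-1 - w)) := by rw [h1, mul_one]
        _ = -1 - w := by rw [← mul_assoc, hwiw, one_mul]
    have hwiw : wi * w = 1 := by rw [hw, hwi, ← map_mul, inv_mul_cancel, map_one]
    calc s * w * s = wi * w * s * w * s := by rw [hwiw, one_mul]
      _ = wi * (w * s * w * s) := by simp only [mul_assoc]
      _ = 1 + w := by rw [hws, mul_neg, mul_one, hwinv]; abel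
  have hsw : s * w = si + w * si := by
    calc s * w = s * w * (s * si) := by rw [hssi, mul_one]
      _ = (s * w * s) * si := by simp only [mul_assoc]
      _ = si + w * si := by rw [hsws, add_mul, one_mul]
  have hws' : w * s = si + si * w := by
    calc w * s = si * s * (w * s) := by rw [hsis, one_mul]
      _ = si * (s * w * s) := by simp only [mul_assoc]
      _ = si + si * w := by rw [hsws, mul_add, mul_one]
  have hxw : Commute x w := by
    show x * w = w * x
    rw [hx, add_mul, mul_add, hsw, hws']; abel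
  have hxs : Commute x s := by
    show x * s = s * x
    rw [hx, add_mul, mul_add, hssi, hsis]
  have hxS : ∀ u, Commute x (ψ u) := by
    intro u
    have hu : u ∈ Subgroup.closure ({gx, gy} : Set CfsgLib.Recognition.SL25.SL25) := by
      rw [CfsgLib.ComplementQuotient.gx_gy_closure]; trivial
    induction hu using Subgroup.closure_induction with
    | mem u hu =>
      rcases hu with rfl | rfl
      · exact hxw
      · exact hxs
    | one => rw [map_one]; exact Commute.one_right x
    | mul a b _ _ ha hb => rw [map_mul]; exact ha.mul_right hb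
    | inv a _ ha =>
      have h1 : ψ a * ψ a⁻¹ = 1 := by rw [← map_mul, mul_inv_cancel, map_one]
      have h2 : ψ a⁻¹ * ψ a = 1 := by rw [← map_mul, inv_mul_cancel, map_one]
      exact (show Commute x (↑(⟨ψ a, ψ a⁻¹, h1, h2⟩ : Dˣ) : D) from ha).units_inv_right
  have hxx : x * x + x - 1 = 0 := by
    have e1 : (x * x + x - 1) * (s * s) = s * s * s * s + s * s * s + s * s + s + 1 := by
      have a1 : x * s = s * s + 1 := by rw [hx, add_mul, hsis]
      calc (x * x + x - 1) * (s * s) = x * (x * s) * s + (x * s) * s - s * s := by noncomm_ring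
        _ = x * (s * s + 1) * s + (s * s + 1) * s - s * s := by rw [a1]
        _ = (x * s) * (s * s) + (x * s) + (s * s + 1) * s - s * s := by noncomm_ring
        _ = _ := by rw [a1]; noncomm_ring
    rw [hssum] at e1
    refine (mul_eq_zero.mp e1).resolve_right fun h => ?_
    have := congrArg (fun u => si * si * u) h
    simp only [mul_zero] at this
    rw [mul_assoc, ← mul_assoc si s s, hsis, one_mul, hsis] at this
    exact one_ne_zero this
  set r := 2 * x + 1 with hr
  have hr5 : r * r = 5 := by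
    calc r * r = 4 * (x * x + x - 1) + 5 := by
          rw [hr, show (5 : D) = 1 + 1 + 1 + 1 + 1 by norm_num, show (4 : D) = 1 + 1 + 1 + 1 by norm_num,
            ← one_add_one_eq_two]
          noncomm_ring
      _ = 5 := by rw [hxx, mul_zero, zero_add]
  have hrS : ∀ u, Commute r (ψ u) := fun u =>
    ((Commute.ofNat_left 2 (ψ u)).mul_left (hxS u)).add_left (Commute.one_left _)
  have h5 : (5 : D) ≠ 0 := by norm_num
  have hr0 : r ≠ 0 := fun h => by rw [h, mul_zero] at hr5; exact h5 hr5.symm
  have hmz : ∀ m ∈ M, Commute (φ m) i ∧ Commute (φ m) j ∧ Commute (φ m) s ∧ Commute (φ m) si := fun m hm => by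
    have hk : ∀ u : CfsgLib.Recognition.SL25.SL25, Commute (φ m) (ψ u) := fun u => by
      show φ m * φ ((e.symm u : S) : G) = φ ((e.symm u : S) : G) * φ m
      rw [← map_mul, ← map_mul, hcomm _ (e.symm u).2 m hm]
    exact ⟨hk ai, hk aj, hk gy, hk gy⁻¹⟩
  -- `M` is trivial
  have hM : M = ⊥ := by
    by_contra hne
    haveI : Nontrivial M := (Subgroup.nontrivial_iff_ne_bot M).mpr hne
    obtain ⟨p, hp, hpM⟩ := Nat.exists_prime_and_dvd (show Nat.card M ≠ 1 from (Finite.one_lt_card (α := M)).ne')
    haveI := Fact.mk hp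
    obtain ⟨⟨m₀, hm₀⟩, hmo⟩ := exists_prime_orderOf_dvd_card' (G := M) p hpM
    rw [Subgroup.orderOf_mk] at hmo
    have hp30 : ∀ d, d ∣ 30 → d ≠ 1 → p ≠ d := fun d hd hd1 hpd =>
      hd1 (Nat.eq_one_of_dvd_coprimes hM30 (hpd ▸ hpM) hd)
    have hp2 := hp30 2 (by norm_num) (by norm_num)
    have hp5 := hp30 5 (by norm_num) (by norm_num)
    -- a suitable prime
    have hc1 : Nat.Coprime 20 p := by
      have a2 : Nat.Coprime 2 p := (Nat.coprime_primes Nat.prime_two hp).mpr (Ne.symm hp2)
      have a5 : Nat.Coprime 5 p := (Nat.coprime_primes Nat.prime_five hp).mpr (Ne.symm hp5)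
      exact ((a2.mul_left a2).mul_left a5)
    obtain ⟨a, ha20, hap⟩ := Nat.chineseRemainder hc1 7 (p - 1)
    obtain ⟨q, -, hqprime, hqmod⟩ := Nat.forall_exists_prime_gt_and_modEq 5 (q := 20 * p) (a := a)
      (Nat.mul_ne_zero (by norm_num) hp.ne_zero) (Nat.Coprime.mul_right (by
        rw [Nat.coprime_iff_gcd_eq_one, ha20.gcd_eq]; rfl) (by
        rw [Nat.coprime_iff_gcd_eq_one, hap.gcd_eq, ← Nat.coprime_iff_gcd_eq_one,
          Nat.coprime_self_sub_left hp.one_lt.le]
        exact Nat.coprime_one_left p))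
    haveI := Fact.mk hqprime
    have hq20 : q % 20 = 7 := ((hqmod.of_mul_right p).trans ha20)
    have hqp : p ∣ q + 1 := by
      have h1 : q ≡ p - 1 [MOD p] := (hqmod.of_mul_left 20).trans hap
      have h2 : q + 1 ≡ p - 1 + 1 [MOD p] := h1.add_right 1
      rw [Nat.sub_add_cancel hp.one_lt.le] at h2
      exact Nat.modEq_zero_iff_dvd.mp (h2.trans (Nat.modEq_zero_iff_dvd.mpr dvd_rfl))
    set m := φ m₀ with hm
    obtain ⟨A, B, hAB, hAc, hBc, hABc⟩ := CfsgLib.GaussSplit.exists_norm_form q p (by omega)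
      (hp.odd_of_ne_two hp2) hqp m (by rw [hm, ← map_pow, ← hmo, pow_orderOf_eq_one, map_one])
      (fun h => by
        have : m₀ = 1 := hφ (h.trans (map_one φ).symm)
        rw [this, orderOf_one] at hmo
        exact hp.one_lt.ne hmo)
    obtain ⟨X, Y, hXY⟩ := CfsgLib.GaussSplit.exists_five_form q (by omega) (by omega)
    obtain ⟨cmi, cmj, cms, cmsi⟩ := hmz m₀ hm₀
    have cmr : Commute r m :=
      ((Commute.ofNat_left 2 m).mul_left (cms.symm.add_left cmsi.symm)).add_left (Commute.one_left _)
    obtain ⟨b, hb⟩ : ∃ b, b = algebraMap ℚ D (X / 2) + algebraMap ℚ D (Y / 2) * r := ⟨_, rfl⟩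
    obtain ⟨c, hc⟩ : ∃ c, c = algebraMap ℚ D (X / 2) - algebraMap ℚ D (Y / 2) * r := ⟨_, rfl⟩
    have hrat : ∀ (u : ℚ) (y : D), Commute (algebraMap ℚ D u) y := fun u y => Algebra.commute_algebraMap_left u y
    have comb : ∀ y, Commute r y → Commute b y ∧ Commute c y := fun y hy =>
      ⟨hb ▸ (hrat _ y).add_left ((hrat _ y).mul_left hy), hc ▸ (hrat _ y).sub_left ((hrat _ y).mul_left hy)⟩
    have cbi := (comb i (hrS ai)).1
    have cci := (comb i (hrS ai)).2
    have cbj := (comb j (hrS aj)).1
    have ccj := (comb j (hrS aj)).2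
    obtain ⟨cbm, ccm⟩ := comb m cmr
    have cbc : Commute b c := by
      rw [hb]; exact ((hrat _ c).add_left ((hrat _ c).mul_left ((comb r (Commute.refl r)).2.symm)))
    obtain ⟨k, hk⟩ : ∃ k, k = i * j := ⟨_, rfl⟩
    obtain ⟨v, hv⟩ : ∃ v, v = b * j + c * k := ⟨_, rfl⟩
    have hkk : k * k = -1 := by
      calc k * k = i * (j * i) * j := by simp only [hk, mul_assoc]
        _ = i * (-(i * j)) * j := by rw [show j * i = -(i * j) by rw [hij, neg_neg]]
        _ = -((i * i) * (j * j)) := by simp only [mul_neg, neg_mul, mul_assoc]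
        _ = -1 := by rw [hii, hjj]; simp
    have hjk : j * k = -(k * j) := by
      calc j * k = (j * i) * j := by simp only [hk, mul_assoc]
        _ = -(i * j) * j := by rw [show j * i = -(i * j) by rw [hij, neg_neg]]
        _ = -(k * j) := by rw [hk, neg_mul]
    have hbbcc : b * b + c * c = (q : D) := by
      have e1 : b * b + c * c = 2 * (algebraMap ℚ D (X / 2) * algebraMap ℚ D (X / 2)) +
          2 * (algebraMap ℚ D (Y / 2) * algebraMap ℚ D (Y / 2)) * (r * r) := by
        have hc' : r * algebraMap ℚ D (Y / 2) = algebraMap ℚ D (Y / 2) * r := (hrat _ r).symm.eq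
        have hc'' : r * algebraMap ℚ D (X / 2) = algebraMap ℚ D (X / 2) * r := (hrat _ r).symm.eq
        calc b * b + c * c = 2 * (algebraMap ℚ D (X / 2) * algebraMap ℚ D (X / 2)) +
              2 * (algebraMap ℚ D (Y / 2) * (r * algebraMap ℚ D (Y / 2)) * r) := by rw [hb, hc]; noncomm_ring
          _ = _ := by rw [hc']; noncomm_ring
      rw [e1, hr5]
      have e2 : (2 : ℚ) * ((X / 2) * (X / 2)) + 2 * ((Y / 2) * (Y / 2)) * 5 = (q : ℚ) := by
        linear_combination hXY / 2
      have := congrArg (algebraMap ℚ D) e2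
      simpa only [map_add, map_mul, map_ofNat, map_natCast] using this
    have cbk : Commute b k := hk ▸ cbi.mul_right cbj
    have cck : Commute c k := hk ▸ cci.mul_right ccj
    have hvv : v * v = -(q : D) := by
      have e1 : (b * j) * (b * j) = (b * b) * (j * j) := by
        rw [mul_assoc, ← mul_assoc j b j, ← cbj.eq, mul_assoc b j j, ← mul_assoc b b (j * j)]
      have e2 : (c * k) * (c * k) = (c * c) * (k * k) := by
        rw [mul_assoc, ← mul_assoc k c k, ← cck.eq, mul_assoc c k k, ← mul_assoc c c (k * k)]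
      have e3 : (b * j) * (c * k) + (c * k) * (b * j) = 0 := by
        rw [mul_assoc b j, ← mul_assoc j c k, ← ccj.eq, mul_assoc c j k, mul_assoc c k, ← mul_assoc k b j,
          ← cbk.eq, mul_assoc b k j, ← mul_assoc b c, ← mul_assoc c b, ← cbc.eq, ← mul_add, hjk,
          neg_add_cancel, mul_zero]
      calc v * v = (b * j) * (b * j) + (c * k) * (c * k) + ((b * j) * (c * k) + (c * k) * (b * j)) := by
            rw [hv]; noncomm_ring
        _ = -(q : D) := by rw [e1, e2, e3, hjj, hkk, ← hbbcc]; noncomm_ring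
    have hiv : i * v = -(v * i) := by
      rw [hv, mul_add, add_mul, ← mul_assoc, ← cbi.eq, mul_assoc, hij, ← mul_assoc i c, ← cci.eq, mul_assoc c i,
        show i * k = -(k * i) by
          rw [hk, ← mul_assoc, hii, mul_assoc, show j * i = -(i * j) by rw [hij, neg_neg], mul_neg, ← mul_assoc, hii]
          noncomm_ring]
      noncomm_ring
    have hmv : Commute m v := by
      rw [hv, hk]; exact (cbm.symm.mul_right cmj).add_right (ccm.symm.mul_right (cmi.mul_right cmj))
    have cAv : Commute A v := (hAc v hmv.symm).symm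
    have cBv : Commute B v := (hBc v hmv.symm).symm
    have cAi : Commute A i := (hAc i cmi.symm).symm
    have cBi : Commute B i := (hBc i cmi.symm).symm
    have cAj : Commute A j := (hAc j cmj.symm).symm
    have hq0 : (q : D) ≠ 0 := Nat.cast_ne_zero.mpr hqprime.ne_zero
    have hnorm : (A + B * v) * (A - B * v) = -1 := by
      have e1 : (B * v) * (B * v) = -((q : D) * (B * B)) := by
        rw [mul_assoc, ← mul_assoc v B v, ← cBv.eq, mul_assoc B v v, hvv, ← mul_assoc, mul_neg,
          (Nat.cast_commute q (B * B)).eq]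
      calc (A + B * v) * (A - B * v) = A * A - (B * v) * (B * v) + ((B * v) * A - A * (B * v)) := by noncomm_ring
        _ = -1 := by
          rw [e1, sub_neg_eq_add, hAB, (hABc.mul_right cAv).eq, sub_self, add_zero]
    have hconj : i * (A + B * v) = (A - B * v) * i := by
      rw [mul_add, sub_mul, ← cAi.eq, ← mul_assoc, ← cBi.eq, mul_assoc, hiv, mul_assoc]
      noncomm_ring
    have hzero : (A + B * v + i) * (A - B * v - i) = 0 := by
      calc (A + B * v + i) * (A - B * v - i)
          = (A + B * v) * (A - B * v) - (A + B * v) * i + i * (A - B * v) - i * i := by noncomm_ring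
        _ = 0 := by
          have : i * (A - B * v) = (A + B * v) * i := by
            rw [mul_sub, add_mul, ← cAi.eq, ← mul_assoc, ← cBi.eq, mul_assoc, hiv, mul_assoc]
            noncomm_ring
          rw [hnorm, this, hii]
          noncomm_ring
    have key : ∀ B' : D, Commute B' v → A + B' * v = -i → i * (B' * v) = -((B' * v) * i) → False := by
      intro B' _ he hanti
      have h2 : i * (A + B' * v) = (A + B' * v) * i := by rw [he, mul_neg, neg_mul]
      rw [mul_add, add_mul, cAi.eq, hanti, add_right_inj, eq_comm, eq_neg_iff_add_eq_zero] at h2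
      have h3 : B' * v = 0 := by
        have : (2 : D) * (B' * v * i) = 0 := by rw [two_mul]; exact h2
        rcases mul_eq_zero.mp this with h | h
        · exact absurd h two_ne_zero
        · rcases mul_eq_zero.mp h with h | h
          · exact h
          · exact absurd hii (by rw [h, mul_zero]; simp)
      rw [h3, add_zero] at he
      have h4 : A * j = j * A := cAj.eq
      rw [he, neg_mul, mul_neg, neg_inj, hij] at h4
      have : (2 : D) * (j * i) = 0 := by
        rw [two_mul]; exact neg_eq_iff_add_eq_zero.mp h4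
      rcases mul_eq_zero.mp this with h | h
      · exact two_ne_zero h
      · rcases mul_eq_zero.mp h with h | h
        · rw [h, mul_zero] at hjj; simp at hjj
        · rw [h, mul_zero] at hii; simp at hii
    have hantiB : i * (B * v) = -((B * v) * i) := by
      rw [← mul_assoc, ← cBi.eq, mul_assoc, hiv, mul_neg, mul_assoc]
    rcases mul_eq_zero.mp hzero with h | h
    · exact key B cBv (eq_neg_of_add_eq_zero_left h) hantiB
    · have he : A - B * v = i := sub_eq_zero.mp h
      have hA' : i * A = A * i := cAi.eq.symm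
      have h2 : i * (A - B * v) = (A - B * v) * i := by rw [he]
      rw [mul_sub, sub_mul, hA', hantiB, sub_right_inj, neg_eq_iff_add_eq_zero] at h2
      have h3 : B * v = 0 := by
        have : (2 : D) * (B * v * i) = 0 := by rw [two_mul]; exact h2
        rcases mul_eq_zero.mp this with h | h
        · exact absurd h two_ne_zero
        · rcases mul_eq_zero.mp h with h | h
          · exact h
          · exact absurd hii (by rw [h, mul_zero]; simp)
      rw [h3, sub_zero] at he
      have h4 : A * j = j * A := cAj.eq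
      rw [he, hij] at h4
      have : (2 : D) * (j * i) = 0 := by rw [two_mul]; exact neg_eq_iff_add_eq_zero.mp h4
      rcases mul_eq_zero.mp this with h | h
      · exact two_ne_zero h
      · rcases mul_eq_zero.mp h with h | h
        · rw [h, mul_zero] at hjj; simp at hjj
        · rw [h, mul_zero] at hii; simp at hii
  rw [hM, sup_bot_eq] at hSM
  subst hSM
  rcases hG₀i with hidx | hidx
  · exact ⟨(topEquiv.symm.trans (MulEquiv.subgroupCongr (index_eq_one.mp hidx).symm)).trans e⟩
  exfalso
  have h1 : OneInv G := fun a b ha hb =>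
    hfpf.involution_unique (fun h => by rw [h, orderOf_one] at ha; omega)
      (by rw [← pow_two, ← ha, pow_orderOf_eq_one]) (fun h => by rw [h, orderOf_one] at hb; omega)
      (by rw [← pow_two, ← hb, pow_orderOf_eq_one])
  obtain ⟨hCc, hC5⟩ := centralizer_sl25 h1 S ⊥ S hSn hSn (Or.inr hidx) (sup_bot_eq S)
    (fun a _ b hb => by rw [mem_bot.mp hb, mul_one, one_mul]) e
  set C := centralizer (S : Set G) with hC
  set z : S := e.symm gz with hz
  have hzo : orderOf (z : G) = 2 := by
    rw [Subgroup.orderOf_coe, hz, MulEquiv.orderOf_eq]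
    exact orderOf_eq_prime t5 t4
  have hφz : φ (z : G) = -1 := hneg
  have hGcard : Nat.card G = 240 := by
    rw [← S.card_mul_index, hidx, Nat.card_congr e.toEquiv, CfsgLib.Recognition.SL25.card_sl25]
  haveI : C.Normal := inferInstance
  have hzC : (z : G) ∈ C := by
    rw [hC, mem_centralizer_iff]
    intro a ha
    have h2 : orderOf (a * (z : G) * a⁻¹) = 2 :=
      (orderOf_injective (MulAut.conj a).toMonoidHom (MulAut.conj a).injective (z : G)).trans hzo
    exact mul_inv_eq_iff_eq_mul.mp (h1 _ _ h2 hzo)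
  have hCS : C ⊓ S ≤ zpowers (z : G) := by
    rintro u ⟨huC, huS⟩
    rcases CfsgLib.Recognition.SL25.eq_one_or_gz_of_commute (g := e ⟨u, huS⟩) (fun y => by
      obtain ⟨a, rfl⟩ := e.surjective y
      rw [← map_mul, ← map_mul]
      exact congrArg e (Subtype.ext (mem_centralizer_iff.mp huC a a.2).symm)) with h2 | h2
    · rw [show u = 1 from congrArg Subtype.val (e.injective (h2.trans (map_one e).symm))]
      exact one_mem _
    · rw [show u = (z : G) by rw [hz, ← h2, e.symm_apply_apply]]
      exact mem_zpowers _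
  have hCeq : C = zpowers (z : G) := by
    refine le_antisymm ?_ (zpowers_le.mpr hzC)
    intro u hu
    have hu2 : u ^ 2 ∈ zpowers (z : G) := hCS ⟨pow_mem hu 2, by rw [pow_two]; exact mul_self_mem_of_index_two hidx u⟩
    have hu4 : u ^ 4 = 1 := by
      obtain ⟨k, hk⟩ := hu2
      rw [show 4 = 2 * 2 from rfl, pow_mul, ← hk]
      show ((z : G) ^ k) ^ 2 = 1
      rw [← zpow_natCast, ← zpow_mul, mul_comm, zpow_mul, zpow_natCast, ← hzo, pow_orderOf_eq_one, one_zpow]
    have hT : IsPGroup 2 (zpowers u) := by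
      obtain ⟨n, -, hn⟩ := (Nat.dvd_prime_pow Nat.prime_two).mp (orderOf_dvd_of_pow_eq_one (show u ^ 2 ^ 2 = 1 from hu4))
      exact IsPGroup.of_card (n := n) (by rw [Nat.card_zpowers, hn])
    by_cases hu2' : u ^ 2 = 1
    · by_cases hu1 : u = 1
      · rw [hu1]; exact one_mem _
      · rw [h1 u z (orderOf_eq_prime hu2' hu1) hzo]; exact mem_zpowers _
    · have huo : orderOf u = 4 := orderOf_eq_prime_pow (p := 2) (n := 1) (by simpa using hu2') hu4
      have hu2z : u ^ 2 = (z : G) := h1 _ _ (by rw [orderOf_pow, huo]; rfl) hzo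
      have huu : φ u * φ u = -1 := by rw [← map_mul, ← pow_two, hu2z, hφz]
      have hcu : φ u * i = i * φ u := by
        show φ u * φ ((e.symm ai : S) : G) = φ ((e.symm ai : S) : G) * φ u
        rw [← map_mul, ← map_mul, mem_centralizer_iff.mp hu _ (e.symm ai).2]
      have hfac : (φ u - i) * (φ u + i) = 0 := by
        calc (φ u - i) * (φ u + i) = φ u * φ u - i * i + (φ u * i - i * φ u) := by noncomm_ring
          _ = 0 := by rw [huu, hii, hcu]; simp
      have huS : u ∈ S := by
        rcases mul_eq_zero.mp hfac with h | h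
        · rw [show u = ((e.symm ai : S) : G) from hφ (sub_eq_zero.mp h)]
          exact (e.symm ai).2
        · rw [show u = ((e.symm (gz * ai) : S) : G) from hφ (by
            show φ u = ψ (gz * ai)
            rw [map_mul, hneg, neg_one_mul]; exact eq_neg_of_add_eq_zero_left h)]
          exact (e.symm _).2
      exact hCS ⟨hu, huS⟩
  have hCi : C.index = 120 := by
    have := C.card_mul_index
    rw [hGcard, show Nat.card C = 2 by rw [hCeq, Nat.card_zpowers, hzo]] at this
    omega
  obtain ⟨f, hf, hfk⟩ : ∃ f : G →* Equiv.Perm (Fin 5), Function.Surjective f ∧ f.ker = C := by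
    rcases hC5 with ⟨f, hf, hk⟩ | ⟨f, hf, hk⟩ | ⟨f, hf, hk⟩ | ⟨f, hf, hk⟩ | ⟨f, hf, hk⟩
    · rw [← hk, index_eq_card_of_surjective hf, DihedralGroup.nat_card] at hCi; omega
    · rw [← hk, index_eq_card_of_surjective hf, nat_card_alternatingGroup, Nat.card_fin] at hCi
      norm_num [Nat.factorial] at hCi
    · rw [← hk, index_eq_card_of_surjective hf, Nat.card_perm, Nat.card_fin] at hCi
      norm_num [Nat.factorial] at hCi
    · rw [← hk, index_eq_card_of_surjective hf, nat_card_alternatingGroup, Nat.card_fin] at hCi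
      norm_num [Nat.factorial] at hCi
    · exact ⟨f, hf, hk⟩
  have hCS' : C ≤ S := by rw [hCeq]; exact zpowers_le.mpr z.2
  have hfS : S.map f = alternatingGroup (Fin 5) := by
    refine Equiv.Perm.eq_alternatingGroup_of_index_eq_two ?_
    rw [index_map_eq S hf (hfk ▸ hCS'), hidx]
  obtain ⟨g, hg⟩ := hf (Equiv.swap 0 1)
  have hgS : g ∉ S := fun hgS => by
    have : f g ∈ S.map f := mem_map_of_mem f hgS
    rw [hfS, hg, Equiv.Perm.mem_alternatingGroup, Equiv.Perm.sign_swap (by decide)] at this
    exact absurd this (by decide)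
  have hg2 : g * g ∈ C := by rw [← hfk, MonoidHom.mem_ker, map_mul, hg, Equiv.swap_mul_self]
  have hzmem : ∀ u ∈ C, u = 1 ∨ u = (z : G) := by
    intro u hu
    rw [hCeq] at hu
    obtain ⟨k, rfl⟩ := hu
    rcases Int.even_or_odd k with ⟨l, rfl⟩ | ⟨l, rfl⟩
    · left
      show (z : G) ^ (l + l) = 1
      rw [← two_mul, zpow_mul, show (z : G) ^ (2 : ℤ) = 1 by rw [zpow_two, ← pow_two, ← hzo, pow_orderOf_eq_one], one_zpow]
    · right
      show (z : G) ^ (2 * l + 1) = z
      rw [zpow_add_one, zpow_mul, show (z : G) ^ (2 : ℤ) = 1 by rw [zpow_two, ← pow_two, ← hzo, pow_orderOf_eq_one], one_zpow, one_mul]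
  have hg1 : g * g = (z : G) := by
    rcases hzmem _ hg2 with h | h
    · by_cases hge : g = 1
      · exact absurd (hge ▸ one_mem S) hgS
      · exact absurd ((h1 g z (orderOf_eq_prime (by rw [pow_two]; exact h) hge) hzo) ▸ z.2) hgS
    · exact h
  set g' := φ g with hg'
  set gi := φ g⁻¹ with hgi
  have hgg : g' * g' = -1 := by rw [hg', ← map_mul, hg1, hφz]
  -- `g` moves `r` to `-r`
  set s₀ : G := ((e.symm gy : S) : G) with hs₀
  have hs5 : s₀ ^ 5 = 1 := by
    have : (e.symm gy : S) ^ 5 = 1 := by rw [← map_pow, t8, map_one]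
    exact congrArg Subtype.val this
  obtain ⟨h, hhsign, hh⟩ := five_cycle_square (f s₀) (by rw [← map_pow, hs5, map_one])
  obtain ⟨a, haS, hfa⟩ : h ∈ S.map f := by rw [hfS]; exact Equiv.Perm.mem_alternatingGroup.mpr hhsign
  have hgs : g * s₀ * g⁻¹ = a * s₀ ^ 2 * a⁻¹ := by
    have hC' : (g * s₀ * g⁻¹) * (a * s₀ ^ 2 * a⁻¹)⁻¹ ∈ C := by
      rw [← hfk, MonoidHom.mem_ker, map_mul, map_inv, map_mul, map_mul, map_mul, map_mul, map_inv, map_inv,
        map_pow, hfa, hg, Equiv.swap_inv, hh, mul_inv_cancel]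
    rcases hzmem _ hC' with h2 | h2
    · exact mul_inv_eq_one.mp h2
    · exfalso
      have e1 : g * s₀ * g⁻¹ = (z : G) * (a * s₀ ^ 2 * a⁻¹) := by rw [← h2]; group
      have e2 : (g * s₀ * g⁻¹) ^ 5 = 1 := by rw [conj_pow, hs5, mul_one, mul_inv_cancel]
      have hzc : Commute (z : G) (a * s₀ ^ 2 * a⁻¹) := by
        have hmem : a * s₀ ^ 2 * a⁻¹ ∈ S := mul_mem (mul_mem haS (pow_mem (e.symm gy).2 2)) (inv_mem haS)
        exact ((mem_centralizer_iff.mp hzC) _ hmem).symm
      rw [e1, hzc.mul_pow, conj_pow, ← pow_mul, mul_comm 2 5, pow_mul, hs5, one_pow, mul_one, mul_inv_cancel,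
        mul_one] at e2
      have := orderOf_dvd_of_pow_eq_one e2
      rw [hzo] at this
      omega
  have hgx : g' * x * gi = -1 - x := by
    have e1 : φ (g * s₀ * g⁻¹) = φ a * (s * s) * φ a⁻¹ := by
      rw [hgs, map_mul, map_mul, pow_two, map_mul]; rfl
    have e2 : φ (g * s₀⁻¹ * g⁻¹) = φ a * (si * si) * φ a⁻¹ := by
      have : g * s₀⁻¹ * g⁻¹ = a * (s₀⁻¹ * s₀⁻¹) * a⁻¹ := by
        rw [← conj_inv, hgs, pow_two]; group
      rw [this, map_mul, map_mul, map_mul]
      have : φ s₀⁻¹ = si := by
        rw [hsi]; show φ s₀⁻¹ = φ ((e.symm gy⁻¹ : S) : G); rw [map_inv e.symm, Subgroup.coe_inv]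
      rw [this]
    have hsum : s * s + si * si = -1 - x := by
      have : x * x = s * s + si * si + 2 := by
        rw [hx, add_mul, mul_add, mul_add, hssi, hsis, ← one_add_one_eq_two]; abel
      have e3 : s * s + si * si = x * x - 2 := by rw [this]; abel
      rw [e3]
      have : x * x = 1 - x := by rw [← sub_eq_zero, ← hxx]; abel
      rw [this, ← one_add_one_eq_two]; abel
    have ha' : φ a * φ a⁻¹ = 1 := by rw [← map_mul, mul_inv_cancel, map_one]
    have hxa : Commute x (φ a) := by
      have := hxS (e ⟨a, haS⟩)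
      have hψa : ψ (e ⟨a, haS⟩) = φ a := by
        show φ ((e.symm (e ⟨a, haS⟩) : S) : G) = φ a
        rw [e.symm_apply_apply]
      rwa [hψa] at this
    calc g' * x * gi = φ (g * s₀ * g⁻¹) + φ (g * s₀⁻¹ * g⁻¹) := by
          have : φ s₀⁻¹ = si := by
            rw [hsi]; show φ s₀⁻¹ = φ ((e.symm gy⁻¹ : S) : G); rw [map_inv e.symm, Subgroup.coe_inv]
          rw [map_mul, map_mul, map_mul, map_mul, this, hx, mul_add, add_mul]; rfl
      _ = φ a * (-1 - x) * φ a⁻¹ := by rw [e1, e2, ← add_mul, ← mul_add, hsum]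
      _ = -1 - x := by rw [mul_sub, mul_neg, mul_one, ← hxa.eq, sub_mul, neg_mul, ha', mul_assoc, ha', mul_one]
  have hgir : g' * gi = 1 := by rw [hg', hgi, ← map_mul, mul_inv_cancel, map_one]
  have hgr : g' * r = -(r * g') := by
    have hgig : gi * g' = 1 := by rw [hg', hgi, ← map_mul, inv_mul_cancel, map_one]
    have e1 : g' * r * gi = -r := by
      calc g' * r * gi = (g' * x * gi) + (g' * x * gi) + g' * gi := by rw [hr]; noncomm_ring
        _ = -r := by rw [hgx, hgir, hr]; noncomm_ring
    calc g' * r = g' * r * gi * g' := by rw [mul_assoc (g' * r), hgig, mul_one]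
      _ = -(r * g') := by rw [e1, neg_mul]
  have hsq : (r + 2 * g') * (r + 2 * g') = 1 := by
    calc (r + 2 * g') * (r + 2 * g') = r * r + 2 * (r * g' + g' * r) + 4 * (g' * g') := by noncomm_ring
      _ = 1 := by rw [hr5, hgg, hgr, add_neg_cancel, mul_zero, add_zero]; norm_num
  have hcg : Commute (r + 2 * g') r := by
    rcases mul_self_eq_one_iff.mp hsq with h | h <;> rw [h]
    · exact Commute.one_left r
    · exact (Commute.one_left r).neg_left
  have h4 : 4 * (r * g') = 0 := by
    have := sub_eq_zero.mpr hcg.eq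
    calc (4 : D) * (r * g') = -((r + 2 * g') * r - r * (r + 2 * g')) + (2 * (g' * r) + 2 * (r * g')) := by noncomm_ring
      _ = 0 := by rw [this, hgr]; noncomm_ring
  rcases mul_eq_zero.mp h4 with h | h
  · norm_num at h
  · rcases mul_eq_zero.mp h with h | h
    · exact hr0 h
    · rw [h, mul_zero] at hgg; simp at hgg

end CfsgLib.DivisionSL25
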