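import Cfsg.Agent.Lib.OddOrder41.FpfHallHigman

set_option autoImplicit false
set_option linter.style.haveILetI false

/-! Operators of prime order without fixed points, all parities: the exceptional configuration is
a Fermat prime over a non-abelian `2`-group. Adapted from `Lib.OddOrder41`. -/

namespace CfsgLib.Structure

open Finset CfsgLib.OddOrder41.RootProj CfsgLib.OddOrder41.SymplecticCount TensorProduct
open scoped commutatorElement

universe u v w

/-- The symplectic configuration forces the prime to be one more than the root of the index of the centre. -/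
theorem center_index_of_fpf {k : Type*} [Field k] {W : Type*} [AddCommGroup W] [Module k W] [FiniteDimensional k W]
    [Nontrivial W] {Q : Type*} [Group Q] [Finite Q] {ρ : Q →* Module.End k W}
    (S : ScalarCentre ρ) (hQk : (Nat.card Q : k) ≠ 0)
    (hna : Subgroup.center Q ≠ ⊤) {p : ℕ} [hp : Fact p.Prime] (ζ : k) (hζ : IsPrimitiveRoot ζ p)
    (hpk : (p : k) ≠ 0) (σ : MulAut Q) (hσp : σ ^ p = 1)
    (hσfix : ∀ x, x⁻¹ * σ x ∈ Subgroup.center Q → x ∈ Subgroup.center Q)
    (U : Module.End k W) (hU : ∀ x, U * ρ x = ρ (σ x) * U)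
    (hsum : ∀ w, ∑ i ∈ range p, (U ^ i) w = 0) :
    ∃ i, (Subgroup.center Q).index = i * i ∧ 1 < i ∧ i + 1 = p := by
  classical
  haveI := Fintype.ofFinite Q
  set Z := Subgroup.center Q with hZ
  haveI := Fintype.ofFinite Z
  -- the conjugation action of `Q` on endomorphisms, and its averaging map
  let cj : Q → Module.End k W →ₗ[k] Module.End k W := fun u =>
    { toFun := fun f => ρ u * f * ρ u⁻¹
      map_add' := fun f g => by rw [mul_add, add_mul]
      map_smul' := fun a f => by rw [mul_smul_comm, smul_mul_assoc]; rfl }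
  have hcj : ∀ u f, cj u f = ρ u * f * ρ u⁻¹ := fun u f => rfl
  have hcjmul : ∀ u v f, cj u (cj v f) = cj (u * v) f := fun u v f => by
    simp only [hcj, map_mul, mul_inv_rev, mul_assoc]
  let B : Submodule k (Module.End k W) :=
    { carrier := {f | ∀ u, cj u f = f}
      add_mem' := fun {f g} hf hg u => by rw [map_add, hf u, hg u]
      zero_mem' := fun u => map_zero _
      smul_mem' := fun a f hf u => by rw [map_smul, hf u] }
  let avg : Module.End k W →ₗ[k] Module.End k W := (Nat.card Q : k)⁻¹ • ∑ u, cj u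
  have havg : ∀ f, avg f = (Nat.card Q : k)⁻¹ • ∑ u, cj u f := fun f => by
    show ((Nat.card Q : k)⁻¹ • ∑ u, cj u) f = _
    rw [LinearMap.smul_apply, LinearMap.sum_apply]
  have havgB : ∀ f, avg f ∈ B := fun f u => by
    rw [havg, map_smul, map_sum]
    congr 1
    exact Fintype.sum_equiv (Equiv.mulLeft u) _ _ fun v => by rw [hcjmul]; rfl
  have havgfix : ∀ b ∈ B, avg b = b := fun b hb => by
    rw [havg, Finset.sum_congr rfl fun u _ => hb u, Finset.sum_const, Finset.card_univ,
      ← Nat.card_eq_fintype_card, ← Nat.cast_smul_eq_nsmul k, smul_smul, inv_mul_cancel₀ hQk, one_smul]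
  have hZk : (Nat.card Z : k) ≠ 0 := fun h => hQk (by
    obtain ⟨d, hd⟩ := Z.card_subgroup_dvd_card
    rw [hd, Nat.cast_mul, h, zero_mul])
  -- components
  let M := Q ⧸ Z
  haveI := Fintype.ofFinite M
  let comp : M → Module.End k W →ₗ[k] B := fun c =>
    LinearMap.codRestrict B (avg.comp (LinearMap.mulLeft k (ρ c.out⁻¹))) fun f => havgB _
  have hcomp : ∀ c f, (comp c f : Module.End k W) = avg (ρ c.out⁻¹ * f) := fun c f => rfl
  have hterm : ∀ (x : Q) f, ρ (QuotientGroup.mk x : M).out * avg (ρ (QuotientGroup.mk x : M).out⁻¹ * f) =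
      ρ x * avg (ρ x⁻¹ * f) := by
    intro x f
    obtain ⟨⟨z, hz⟩, hzx⟩ := QuotientGroup.mk_out_eq_mul Z x
    rw [hzx]
    show ρ (x * z) * avg (ρ (x * z)⁻¹ * f) = _
    have h1 : ρ (x * z) = S.χ z • ρ x := by rw [map_mul, S.hχ z hz, mul_smul_comm, mul_one]
    have h2 : ρ (x * z)⁻¹ = S.χ z⁻¹ • ρ x⁻¹ := by
      rw [mul_inv_rev, map_mul, S.hχ z⁻¹ (Z.inv_mem hz), smul_mul_assoc, one_mul]
    have h3 : S.χ z * S.χ z⁻¹ = 1 := scalar_inj (W := W) (by
      rw [one_smul, show (S.χ z * S.χ z⁻¹) • (1 : Module.End k W) = (S.χ z • 1) * (S.χ z⁻¹ • 1) by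
        rw [smul_mul_smul_comm, one_mul], ← S.hχ z hz, ← S.hχ _ (Z.inv_mem hz), rho_cancel])
    rw [h1, h2, smul_mul_assoc, smul_mul_assoc, map_smul, mul_smul_comm, smul_smul, h3, one_smul]
  have hfib : ∀ c : M, (Finset.univ.filter fun x : Q => (QuotientGroup.mk x : M) = c).card = Nat.card Z := by
    intro c
    rw [Nat.card_eq_fintype_card, ← Finset.card_univ]
    refine Finset.card_bij' (fun x hx => ⟨c.out⁻¹ * x, ?_⟩) (fun z _ => c.out * (z : Q)) ?_ ?_ ?_ ?_
    · rw [← QuotientGroup.eq, QuotientGroup.out_eq', (Finset.mem_filter.mp hx).2]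
    · exact fun x _ => Finset.mem_univ _
    · intro z _
      refine Finset.mem_filter.mpr ⟨Finset.mem_univ _, ?_⟩
      rw [QuotientGroup.mk_mul_of_mem _ z.2, QuotientGroup.out_eq']
    · exact fun x _ => mul_inv_cancel_left _ _
    · exact fun z _ => Subtype.ext (inv_mul_cancel_left _ _)
  have hrecon : ∀ f, f = ∑ c : M, ρ c.out * (comp c f : Module.End k W) := by
    intro f
    have hall : ∑ x : Q, ρ x * avg (ρ x⁻¹ * f) = (Nat.card Z : k) • f := by
      have h1 : ∀ x : Q, ρ x * avg (ρ x⁻¹ * f) =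
          (Nat.card Q : k)⁻¹ • ∑ u, pairing S x u • cj u f := by
        intro x
        rw [havg, mul_smul_comm, Finset.mul_sum]
        congr 1
        refine Finset.sum_congr rfl fun u _ => ?_
        rw [hcj, hcj, ← smul_mul_assoc, ← smul_mul_assoc, ← conj_rho S x u]
        simp only [mul_assoc]
      rw [Finset.sum_congr rfl fun x _ => h1 x, ← Finset.smul_sum, Finset.sum_comm]
      have h2 : ∀ u : Q, ∑ x, pairing S x u • cj u f = if u ∈ Z then (Nat.card Q : k) • f else 0 := by
        intro u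
        rw [← Finset.sum_smul]
        split_ifs with hu
        · rw [Finset.sum_congr rfl fun x _ => (pairing_eq_one_iff S x u).mpr (Subgroup.mem_center_iff.mp hu x),
            Finset.sum_const, Finset.card_univ, ← Nat.card_eq_fintype_card, nsmul_one]
          congr 1
          rw [hcj, S.hχ u hu, S.hχ u⁻¹ (Z.inv_mem hu), smul_mul_assoc, one_mul, mul_smul_comm, mul_one, smul_smul]
          have : S.χ u⁻¹ * S.χ u = 1 := scalar_inj (W := W) (by
            rw [one_smul, show (S.χ u⁻¹ * S.χ u) • (1 : Module.End k W) = (S.χ u⁻¹ • 1) * (S.χ u • 1) by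
              rw [smul_mul_smul_comm, one_mul], ← S.hχ u hu, ← S.hχ _ (Z.inv_mem hu), rho_cancel'])
          rw [this, one_smul]
        · rw [sum_pairing_left S hu, zero_smul]
      rw [Finset.sum_congr rfl fun u _ => h2 u, ← Finset.sum_filter, Finset.sum_const, ← Nat.cast_smul_eq_nsmul k,
        smul_smul, smul_smul]
      congr 1
      rw [Nat.card_eq_fintype_card (α := Z), Fintype.card_subtype]
      field_simp
    rw [← Finset.sum_fiberwise Finset.univ (fun x : Q => (QuotientGroup.mk x : M))] at hall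
    have h3 : ∀ c : M, ∑ x ∈ (Finset.univ.filter fun x : Q => (QuotientGroup.mk x : M) = c), ρ x * avg (ρ x⁻¹ * f) =
        (Nat.card Z : k) • (ρ c.out * (comp c f : Module.End k W)) := by
      intro c
      rw [Finset.sum_congr rfl fun x hx => show ρ x * avg (ρ x⁻¹ * f) = ρ c.out * avg (ρ c.out⁻¹ * f) by
        rw [← hterm x f, (Finset.mem_filter.mp hx).2], Finset.sum_const, hfib, ← Nat.cast_smul_eq_nsmul k]
      rfl
    rw [Finset.sum_congr rfl fun c _ => h3 c, ← Finset.smul_sum] at hall
    exact (smul_right_injective _ hZk hall).symm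
  -- uniqueness of components
  have hdelta : ∀ (c d : M) (b : B), comp c (ρ d.out * (b : Module.End k W)) = if c = d then b else 0 := by
    intro c d b
    apply Subtype.ext
    rw [hcomp, ← mul_assoc, ← map_mul]
    set y := c.out⁻¹ * d.out with hy
    have hcjy : ∀ u, cj u (ρ y * (b : Module.End k W)) = pairing S u y • (ρ y * (b : Module.End k W)) := by
      intro u
      rw [← smul_mul_assoc, ← conj_rho S u y, hcj]
      conv_rhs => rw [← b.2 u, hcj]
      simp only [mul_assoc]
      rw [← mul_assoc (ρ u⁻¹) (ρ u), rho_cancel', one_mul]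
    rw [havg, Finset.sum_congr rfl fun u _ => hcjy u, ← Finset.sum_smul]
    split_ifs with hcd
    · subst hcd
      rw [hy, inv_mul_cancel, map_one, one_mul,
        Finset.sum_congr rfl fun u _ => pairing_one_right S u, Finset.sum_const, Finset.card_univ,
        ← Nat.card_eq_fintype_card, nsmul_one, smul_smul, inv_mul_cancel₀ hQk, one_smul]
    · have hyZ : y ∉ Z := fun h => hcd (by
        rw [← QuotientGroup.out_eq' c, ← QuotientGroup.out_eq' d]; exact QuotientGroup.eq.mpr h)
      rw [sum_pairing_left S hyZ, zero_smul, smul_zero, Submodule.coe_zero]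
  let Φ : Module.End k W ≃ₗ[k] (M → B) :=
    { toFun := fun f c => comp c f
      map_add' := fun f g => funext fun c => map_add _ _ _
      map_smul' := fun a f => funext fun c => map_smul _ _ _
      invFun := fun g => ∑ c, ρ c.out * (g c : Module.End k W)
      left_inv := fun f => (hrecon f).symm
      right_inv := fun g => funext fun c => by
        show comp c (∑ d, ρ d.out * (g d : Module.End k W)) = g c
        rw [map_sum, Finset.sum_eq_single c (fun d _ hd => by rw [hdelta, if_neg (Ne.symm hd)])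
          (fun h => absurd (Finset.mem_univ c) h), hdelta, if_pos rfl] }
  set b := Module.finrank k B with hb
  set d := Module.finrank k W with hd
  have hdim : d * d = Nat.card M * b := by
    rw [← Module.finrank_linearMap k k W W, show Module.finrank k (W →ₗ[k] W) = Module.finrank k (M → B) from
      Φ.finrank_eq, Module.finrank_pi_fintype, Finset.sum_const, Finset.card_univ, smul_eq_mul,
      Nat.card_eq_fintype_card]
  -- `U` has order `p`
  have hUp : U ^ p = 1 := by
    have h0 : ∑ i ∈ range p, U ^ i = 0 := LinearMap.ext fun w => by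
      rw [LinearMap.sum_apply]; exact hsum w
    have := mul_geom_sum U p
    rw [h0, mul_zero] at this
    exact (sub_eq_zero.mp this.symm)
  have hUinv : U * U ^ (p - 1) = 1 := by rw [← pow_succ', Nat.sub_add_cancel hp.out.pos, hUp]
  have hUinv' : U ^ (p - 1) * U = 1 := by rw [← pow_succ, Nat.sub_add_cancel hp.out.pos, hUp]
  -- the permutation induced on cosets
  have hσZ : ∀ z ∈ Z, σ z ∈ Z := fun z hz => Subgroup.mem_center_iff.mpr fun g => by
    have h := congrArg σ (Subgroup.mem_center_iff.mp hz (σ.symm g))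
    rwa [map_mul, map_mul, MulEquiv.apply_symm_apply] at h
  have hσZ' : Z.map σ.toMonoidHom = Z := by
    refine Subgroup.eq_of_le_of_card_ge ?_ ?_
    · rintro _ ⟨z, hz, rfl⟩; exact hσZ z hz
    · rw [Subgroup.card_map_of_injective σ.injective]
  let π : Equiv.Perm M := (QuotientGroup.congr Z Z σ hσZ').toEquiv
  have hπ : ∀ x : Q, π (QuotientGroup.mk x) = QuotientGroup.mk (σ x) := fun x => rfl
  have hπk : ∀ (i : ℕ) (x : Q), (π ^ i) (QuotientGroup.mk x) = QuotientGroup.mk ((σ ^ i) x) := by
    intro i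
    induction i with
    | zero => intro x; rfl
    | succ i ih => intro x; rw [pow_succ', pow_succ', Equiv.Perm.mul_apply, ih, hπ]; rfl
  have hπp : π ^ p = 1 := Equiv.ext fun c => by
    rw [← QuotientGroup.out_eq' c, hπk, hσp]; rfl
  have hπfix : ∀ c, π c = c → c = (QuotientGroup.mk (1 : Q) : M) := by
    intro c hc
    rw [← QuotientGroup.out_eq' c] at hc ⊢
    rw [hπ] at hc
    refine QuotientGroup.eq.mpr ?_
    rw [mul_one]
    exact Z.inv_mem (hσfix _ (QuotientGroup.eq.mp hc.symm))
  obtain ⟨x₁, hx₁⟩ : ∃ x, x ∉ Z := by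
    by_contra hcon
    push Not at hcon
    exact hna (eq_top_iff.mpr fun x _ => hcon x)
  have hπ1 : π ≠ 1 := fun h => hx₁ (by
    have := hπfix (QuotientGroup.mk x₁) (by rw [h]; rfl)
    have h2 := QuotientGroup.eq.mp this
    rwa [mul_one, inv_mem_iff] at h2)
  have hPcard : Nat.card (Subgroup.zpowers π) = p := by rw [Nat.card_zpowers, orderOf_eq_prime hπp hπ1]
  let P := Subgroup.zpowers π
  haveI := Fintype.ofFinite P
  let O := Quotient (MulAction.orbitRel P M)
  haveI : Fintype O := Fintype.ofFinite _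
  have horb : p * Nat.card O = Nat.card M + (p - 1) := by
    haveI : ∀ a : P, Fintype ↑(MulAction.fixedBy M a) := fun a => Fintype.ofFinite _
    have h := MulAction.sum_card_fixedBy_eq_card_orbits_mul_card_group P M
    rw [← Nat.card_eq_fintype_card, ← Nat.card_eq_fintype_card, hPcard] at h
    rw [mul_comm, ← h, ← Finset.add_sum_erase _ _ (Finset.mem_univ (1 : P))]
    congr 1
    · rw [← Nat.card_eq_fintype_card]
      refine Nat.card_congr (Equiv.subtypeUnivEquiv (p := fun c => c ∈ MulAction.fixedBy M (1 : P)) fun c => ?_)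
      exact one_smul P c
    · have hone : ∀ a ∈ Finset.univ.erase (1 : P), Fintype.card ↑(MulAction.fixedBy M a) = 1 := by
        intro a ha
        have ha1 : a ≠ 1 := (Finset.mem_erase.mp ha).1
        rw [Fintype.card_eq_one_iff]
        obtain ⟨i, hi⟩ := Subgroup.mem_zpowers_iff.mp a.2
        have hgen : π ∈ Subgroup.zpowers (a : Equiv.Perm M) := by
          have h1 : Subgroup.zpowers (a : Equiv.Perm M) = P := by
            refine Subgroup.eq_of_le_of_card_ge (Subgroup.zpowers_le.mpr a.2) ?_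
            have haord : orderOf (a : Equiv.Perm M) = p := orderOf_eq_prime (by
              rw [← hi, ← zpow_natCast, ← zpow_mul, mul_comm, zpow_mul, zpow_natCast, hπp, one_zpow])
              (fun h => ha1 (Subtype.ext h))
            rw [hPcard, Nat.card_zpowers, haord]
          rw [h1]; exact Subgroup.mem_zpowers π
        refine ⟨⟨QuotientGroup.mk 1, ?_⟩, fun c => Subtype.ext ?_⟩
        · show (a : Equiv.Perm M) _ = _
          have hfix1 : π (QuotientGroup.mk 1) = QuotientGroup.mk 1 := by rw [hπ, map_one]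
          rw [← hi]
          exact Equiv.Perm.zpow_apply_eq_self_of_apply_eq_self hfix1 i
        · obtain ⟨j, hj⟩ := Subgroup.mem_zpowers_iff.mp hgen
          refine hπfix _ ?_
          rw [← hj]
          exact Equiv.Perm.zpow_apply_eq_self_of_apply_eq_self c.2 j
      rw [Finset.sum_congr rfl hone, Finset.sum_const, Finset.card_erase_of_mem (Finset.mem_univ _),
        Finset.card_univ, smul_eq_mul, mul_one, ← Nat.card_eq_fintype_card, hPcard]
  -- the centraliser of `U`
  let CU : Submodule k (Module.End k W) :=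
    { carrier := {f | U * f = f * U}
      add_mem' := fun {f g} (hf : U * f = f * U) (hg : U * g = g * U) => by
        show U * (f + g) = (f + g) * U
        rw [mul_add, add_mul, hf, hg]
      zero_mem' := by show U * 0 = 0 * U; rw [mul_zero, zero_mul]
      smul_mem' := fun a f (hf : U * f = f * U) => by
        show U * (a • f) = (a • f) * U
        rw [mul_smul_comm, smul_mul_assoc, hf] }
  have hprop : ∀ f ∈ CU, ∀ c : M, comp c f = 0 → comp (π c) f = 0 := by
    intro f hf c hc
    apply Subtype.ext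
    have h0 : ρ c.out * avg (ρ c.out⁻¹ * f) = 0 := by
      rw [← hcomp, hc, Submodule.coe_zero, mul_zero]
    have hUavg : ∀ g : Module.End k W, avg (U * g * U ^ (p - 1)) = U * avg g * U ^ (p - 1) := by
      intro g
      rw [havg, havg, mul_smul_comm, smul_mul_assoc, Finset.mul_sum, Finset.sum_mul]
      congr 1
      refine (Fintype.sum_equiv σ.toEquiv _ _ fun u => ?_).symm
      show U * cj u g * U ^ (p - 1) = cj (σ u) (U * g * U ^ (p - 1))
      rw [hcj, hcj, ← map_inv σ]
      calc U * (ρ u * g * ρ u⁻¹) * U ^ (p - 1)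
          = (U * ρ u) * g * (ρ u⁻¹ * U ^ (p - 1)) := by simp only [mul_assoc]
        _ = (ρ (σ u) * U) * g * (U ^ (p - 1) * ρ (σ u⁻¹)) := by
          rw [hU]
          congr 1
          calc ρ u⁻¹ * U ^ (p - 1) = (U ^ (p - 1) * U) * ρ u⁻¹ * U ^ (p - 1) := by rw [hUinv', one_mul]
            _ = U ^ (p - 1) * (ρ (σ u⁻¹) * U) * U ^ (p - 1) := by rw [mul_assoc (U ^ (p - 1)) U, hU]
            _ = U ^ (p - 1) * ρ (σ u⁻¹) := by simp only [mul_assoc]; rw [hUinv, mul_one]
        _ = _ := by simp only [mul_assoc]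
    have h1 : ρ (σ c.out) * avg (ρ (σ c.out)⁻¹ * f) = 0 := by
      have e : ρ (σ c.out)⁻¹ * f = U * (ρ c.out⁻¹ * f) * U ^ (p - 1) := by
        rw [← map_inv σ]
        calc ρ (σ c.out⁻¹) * f = ρ (σ c.out⁻¹) * f * (U * U ^ (p - 1)) := by rw [hUinv, mul_one]
          _ = ρ (σ c.out⁻¹) * (f * U) * U ^ (p - 1) := by simp only [mul_assoc]
          _ = (ρ (σ c.out⁻¹) * U) * f * U ^ (p - 1) := by rw [← (hf : U * f = f * U)]; simp only [mul_assoc]
          _ = _ := by rw [← hU]; simp only [mul_assoc]
      rw [e, hUavg]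
      calc ρ (σ c.out) * (U * avg (ρ c.out⁻¹ * f) * U ^ (p - 1))
          = (ρ (σ c.out) * U) * avg (ρ c.out⁻¹ * f) * U ^ (p - 1) := by simp only [mul_assoc]
        _ = U * (ρ c.out * avg (ρ c.out⁻¹ * f)) * U ^ (p - 1) := by rw [← hU]; simp only [mul_assoc]
        _ = 0 := by rw [h0, mul_zero, zero_mul]
    have h2 : π c = QuotientGroup.mk (σ c.out) := by rw [← hπ, QuotientGroup.out_eq']
    rw [← hterm (σ c.out) f, ← h2] at h1
    rw [hcomp, Submodule.coe_zero, ← one_mul (avg _), ← rho_cancel' ρ (π c).out, mul_assoc, h1, mul_zero]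
  let Ψ : CU →ₗ[k] (O → B) :=
    { toFun := fun f o => comp o.out f
      map_add' := fun f g => funext fun o => map_add (comp o.out) (f : Module.End k W) g
      map_smul' := fun a f => funext fun o => map_smul (comp o.out) a (f : Module.End k W) }
  have hΨ : Function.Injective Ψ := by
    rw [← LinearMap.ker_eq_bot, Submodule.eq_bot_iff]
    intro f hf
    apply Subtype.ext
    rw [hrecon (f : Module.End k W), Submodule.coe_zero]
    refine Finset.sum_eq_zero fun c _ => ?_
    have hrel : c ∈ MulAction.orbit P (Quotient.mk (MulAction.orbitRel P M) c).out := by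
      rw [← MulAction.orbitRel_apply]
      exact (MulAction.orbitRel P M).symm (Quotient.mk_out c)
    obtain ⟨a, ha⟩ := hrel
    obtain ⟨i, hi⟩ := (Submonoid.mem_powers_iff _ _).mp (mem_powers_iff_mem_zpowers.mpr a.2)
    have hall : ∀ i : ℕ, comp ((π ^ i) (Quotient.mk (MulAction.orbitRel P M) c).out) f = 0 := by
      intro i
      induction i with
      | zero => exact congrFun hf _
      | succ i ih => rw [pow_succ', Equiv.Perm.mul_apply]; exact hprop _ f.2 _ ih
    have h := hall i
    rw [hi] at h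
    change comp (a • _) f = 0 at h
    rw [show a • (Quotient.mk (MulAction.orbitRel P M) c).out = c from ha] at h
    rw [h, Submodule.coe_zero, mul_zero]
  have hup : Module.finrank k CU ≤ Nat.card O * b := by
    refine le_of_le_of_eq (LinearMap.finrank_le_finrank_of_injective hΨ) ?_
    rw [Module.finrank_pi_fintype, Finset.sum_const, Finset.card_univ, smul_eq_mul, Nat.card_eq_fintype_card]
  -- the eigenspaces of `U`
  let m : Fin p → ℕ := fun i => Module.finrank k (eigen ζ U i)
  have he0 : eigen ζ U 0 = ⊥ := by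
    rw [Submodule.eq_bot_iff]
    intro w hw
    rw [mem_eigen, pow_zero, one_smul] at hw
    have hall : ∀ i : ℕ, (U ^ i) w = w := by
      intro i
      induction i with
      | zero => rfl
      | succ i ih => rw [pow_succ', Module.End.mul_apply, ih, hw]
    have h := hsum w
    rw [Finset.sum_congr rfl fun i _ => hall i, Finset.sum_const, Finset.card_range, ← Nat.cast_smul_eq_nsmul k] at h
    exact (smul_eq_zero.mp h).resolve_left hpk
  have hpr : ∀ (i : Fin p) w, proj p ζ U i w ∈ eigen ζ U i := fun i w =>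
    mem_eigen.mpr (apply_proj hζ hpk hUp i w)
  let split : W →ₗ[k] ((i : Fin p) → eigen ζ U i) :=
    LinearMap.pi fun i => LinearMap.codRestrict _ (proj p ζ U i) (hpr i)
  have hd1 : d ≤ ∑ i, m i := by
    refine le_of_le_of_eq (LinearMap.finrank_le_finrank_of_injective (f := split) ?_) (Module.finrank_pi_fintype k)
    rw [← LinearMap.ker_eq_bot, Submodule.eq_bot_iff]
    intro w hw
    rw [eq_sum_proj (T := U) hζ hpk w, ← Fin.sum_univ_eq_sum_range (fun i => proj p ζ U i w) p]
    exact Finset.sum_eq_zero fun i _ => congrArg Subtype.val (congrFun hw i)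
  let blk : ((i : Fin p) → Module.End k (eigen ζ U i)) →ₗ[k] CU :=
    { toFun := fun g => ⟨∑ i : Fin p, (eigen ζ U i).subtype ∘ₗ (g i) ∘ₗ LinearMap.codRestrict _ (proj p ζ U i) (hpr i), by
        refine LinearMap.ext fun w => ?_
        rw [Module.End.mul_apply, Module.End.mul_apply, LinearMap.sum_apply, LinearMap.sum_apply, map_sum]
        refine Finset.sum_congr rfl fun i _ => ?_
        show U ((g i ⟨proj p ζ U i w, hpr i w⟩ : eigen ζ U i) : W) = ((g i ⟨proj p ζ U i (U w), hpr i _⟩ : eigen ζ U i) : W)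
        have h1 : (⟨proj p ζ U i (U w), hpr i _⟩ : eigen ζ U i) = ζ ^ (i : ℕ) • ⟨proj p ζ U i w, hpr i w⟩ :=
          Subtype.ext (by
            show proj p ζ U i (U w) = ζ ^ (i : ℕ) • proj p ζ U i w
            rw [← apply_proj hζ hpk hUp]
            exact (LinearMap.congr_fun (proj_commute (Commute.refl U) (i : ℕ)).eq w).symm)
        rw [h1, map_smul]
        exact mem_eigen.mp (g i ⟨proj p ζ U i w, hpr i w⟩).2⟩
      map_add' := fun g g' => Subtype.ext (LinearMap.ext fun w => by simp [Finset.sum_add_distrib])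
      map_smul' := fun a g => Subtype.ext (LinearMap.ext fun w => by simp [Finset.smul_sum]) }
  have hd2 : ∑ i, m i * m i ≤ Module.finrank k CU := by
    refine le_of_eq_of_le ?_ (LinearMap.finrank_le_finrank_of_injective (f := blk) ?_)
    · rw [Module.finrank_pi_fintype]
      exact Finset.sum_congr rfl fun i _ => (Module.finrank_linearMap k k _ _).symm
    rw [← LinearMap.ker_eq_bot, Submodule.eq_bot_iff]
    intro g hg
    refine funext fun i => LinearMap.ext fun v => Subtype.ext ?_
    have h := LinearMap.congr_fun (congrArg Subtype.val hg) (v : W)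
    change (∑ j : Fin p, _ : Module.End k W) (v : W) = 0 at h
    rw [LinearMap.sum_apply, Finset.sum_eq_single i] at h
    · have e : (LinearMap.codRestrict _ (proj p ζ U i) (hpr i)) (v : W) = v :=
        Subtype.ext (proj_apply_of_eigen hζ hpk (mem_eigen.mp v.2))
      simpa [e] using h
    · intro j _ hji
      have e : proj p ζ U j (v : W) = 0 := by
        have h1 : U (proj p ζ U j (v : W)) = ζ ^ (i : ℕ) • proj p ζ U j (v : W) := by
          rw [← map_smul, ← mem_eigen.mp v.2]
          exact LinearMap.congr_fun (proj_commute (Commute.refl U) (j : ℕ)).eq (v : W)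
        rw [apply_proj hζ hpk hUp, ← sub_eq_zero, ← sub_smul] at h1
        refine (smul_eq_zero.mp h1).resolve_left fun h2 => hji (Fin.ext ?_)
        exact hζ.pow_inj j.2 i.2 (sub_eq_zero.mp h2)
      have e' : (LinearMap.codRestrict _ (proj p ζ U j) (hpr j)) (v : W) = 0 := Subtype.ext e
      simp [e']
    · exact fun h => absurd (Finset.mem_univ i) h
  have hp' : 0 < p := hp.out.pos
  have hm0 : m ⟨0, hp'⟩ = 0 := by
    show Module.finrank k (eigen ζ U ((⟨0, hp'⟩ : Fin p) : ℕ)) = 0
    rw [he0, finrank_bot]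
  have hd3 : d * d ≤ (p - 1) * (Nat.card O * b) := by
    set s := Finset.univ.erase (⟨0, hp'⟩ : Fin p) with hs
    have h1 : ∑ i, m i = ∑ i ∈ s, m i := by
      rw [← Finset.add_sum_erase _ _ (Finset.mem_univ (⟨0, hp'⟩ : Fin p)), hm0, zero_add]
    have hscard : s.card = p - 1 := by rw [hs, Finset.card_erase_of_mem (Finset.mem_univ _), Finset.card_univ, Fintype.card_fin]
    calc d * d ≤ (∑ i ∈ s, m i) * (∑ i ∈ s, m i) := Nat.mul_le_mul (h1 ▸ hd1) (h1 ▸ hd1)
      _ = (∑ i ∈ s, m i) ^ 2 := (pow_two _).symm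
      _ ≤ s.card * ∑ i ∈ s, (m i) ^ 2 := by exact_mod_cast sq_sum_le_card_mul_sum_sq (s := s) (f := m)
      _ ≤ (p - 1) * (Nat.card O * b) := by
        rw [hscard]
        refine Nat.mul_le_mul_left _ (le_trans ?_ (hd2.trans hup))
        calc ∑ i ∈ s, (m i) ^ 2 = ∑ i ∈ s, m i * m i := Finset.sum_congr rfl fun i _ => pow_two _
          _ ≤ ∑ i, m i * m i := Finset.sum_le_sum_of_subset (Finset.subset_univ _)
  -- arithmetic
  have hdpos : 0 < d := Module.finrank_pos
  have hbpos : 0 < b := by
    rcases Nat.eq_zero_or_pos b with h | h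
    · rw [h, mul_zero] at hdim; exact absurd hdim (Nat.mul_pos hdpos hdpos).ne'
    · exact h
  obtain ⟨i, hi⟩ := exists_sq_index_center S
  have hMi : Nat.card M = i * i := by rw [← hi]; exact (Subgroup.index_eq_card _).symm
  have hle : Nat.card M ≤ (p - 1) * (p - 1) := by
    have h1 : p * (Nat.card M * b) ≤ (p - 1) * (Nat.card M + (p - 1)) * b := by
      rw [← hdim]
      refine le_trans (Nat.mul_le_mul_left p hd3) (le_of_eq ?_)
      rw [← horb]; ring
    have h2 : p * Nat.card M ≤ (p - 1) * (Nat.card M + (p - 1)) :=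
      Nat.le_of_mul_le_mul_right (by rwa [mul_assoc]) hbpos
    rw [mul_add] at h2
    have h3 : p * Nat.card M = (p - 1) * Nat.card M + Nat.card M := by
      rw [← Nat.succ_mul, Nat.succ_eq_add_one, Nat.sub_add_cancel (show 1 ≤ p from hp')]
    omega
  have hi1 : 1 < i := by
    by_contra h
    have : i ≤ 1 := by omega
    have h1 : Z.index ≤ 1 := by
      rw [hi]; exact (Nat.mul_le_mul this this).trans (le_of_eq (one_mul 1))
    have h2 : Z.index ≠ 0 := Subgroup.index_ne_zero_of_finite
    have h3 : Z.index = 1 := by omega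
    exact hna (Subgroup.index_eq_one.mp h3)
  have hile : i ≤ p - 1 := Nat.mul_self_le_mul_self_iff.mp (hMi ▸ hle)
  have hdvd : p ∣ (i - 1) * (i + 1) := by
    refine ⟨Nat.card O - 1, ?_⟩
    rw [Nat.mul_sub, horb, hMi, mul_one]
    have : 1 ≤ i := hi1.le
    obtain ⟨j, rfl⟩ : ∃ j, i = j + 1 := ⟨i - 1, by omega⟩
    have : (j + 1 - 1) * (j + 1 + 1) + 1 = (j + 1) * (j + 1) := by rw [Nat.add_sub_cancel]; ring
    omega
  rcases (Nat.Prime.dvd_mul hp.out).mp hdvd with h | h
  · exact absurd (Nat.le_of_dvd (by omega) h) (by omega)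
  · have h1 := Nat.le_of_dvd (by omega) h
    exact ⟨i, hi, hi1, by omega⟩

/-- Fixed-point-free operators act trivially outside the exceptional configuration. -/
theorem fpf_linear_exc {k : Type u} [Field k] [IsAlgClosed k] {p q : ℕ} [hp : Fact p.Prime] [hq : Fact q.Prime]
    (hpq : p ≠ q)
    (hpk : (p : k) ≠ 0) (hqk : (q : k) ≠ 0)
    {Q : Type v} [Group Q] [Finite Q] (hQ : IsPGroup q Q)
    (hexc : q = 2 → (∃ n, p = 2 ^ n + 1) → ∀ a b : Q, a * b = b * a)
    {W : Type w} [AddCommGroup W] [Module k W] [FiniteDimensional k W]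
    (ρ : Q →* Module.End k W) (σ : MulAut Q) (hσ : σ ^ p = 1) (U : Module.End k W)
    (hU : ∀ x, U * ρ x = ρ (σ x) * U) (hsum : ∀ w, ∑ i ∈ range p, (U ^ i) w = 0) :
    ∀ x, ρ (σ x) = ρ x := by
  suffices H : ∀ n, ∀ {Q : Type v} [Group Q] [Finite Q] {W : Type w} [AddCommGroup W] [Module k W]
      [FiniteDimensional k W] (ρ : Q →* Module.End k W) (σ : MulAut Q) (U : Module.End k W),
      Nat.card Q + Module.finrank k W = n → IsPGroup q Q →
      (q = 2 → (∃ n, p = 2 ^ n + 1) → ∀ a b : Q, a * b = b * a) → σ ^ p = 1 →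
      (∀ x, U * ρ x = ρ (σ x) * U) → (∀ w, ∑ i ∈ range p, (U ^ i) w = 0) →
      ∀ x, ρ (σ x) = ρ x from H _ ρ σ U rfl hQ hexc hσ hU hsum
  intro n
  induction n using Nat.strongRecOn with
  | _ n ih =>
  intro Q _ _ W _ _ _ ρ σ U hn hQ hexc hσ hU hsum
  subst hn
  classical
  rcases subsingleton_or_nontrivial W with hW | hW
  · intro x; exact Subsingleton.elim _ _
  have hUp : U ^ p = 1 := by
    have h0 : ∑ i ∈ range p, U ^ i = 0 := LinearMap.ext fun w => by
      rw [LinearMap.sum_apply]; exact hsum w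
    have := mul_geom_sum U p
    rw [h0, mul_zero] at this
    exact (sub_eq_zero.mp this.symm)
  have hUinv : U * U ^ (p - 1) = 1 := by rw [← pow_succ', Nat.sub_add_cancel hp.out.pos, hUp]
  have hσker : ∀ x, ρ x = 1 → ρ (σ x) = 1 := fun x hx => by
    have h := hU x
    rw [hx, mul_one] at h
    calc ρ (σ x) = ρ (σ x) * (U * U ^ (p - 1)) := by rw [hUinv, mul_one]
      _ = U * U ^ (p - 1) := by rw [← mul_assoc, ← h]
      _ = 1 := hUinv
  -- faithfulness
  by_cases hinj : Function.Injective ρ
  swap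
  · set K := MonoidHom.ker ρ with hK
    have hKmap : K.map σ.toMonoidHom = K := by
      refine Subgroup.eq_of_le_of_card_ge ?_ ?_
      · rintro _ ⟨x, hx, rfl⟩; exact hσker x hx
      · rw [Subgroup.card_map_of_injective σ.injective]
    have hlt : Nat.card (Q ⧸ K) < Nat.card Q := by
      have hK1 : K ≠ ⊥ := fun h => hinj ((MonoidHom.ker_eq_bot_iff ρ).mp h)
      rw [K.card_eq_card_quotient_mul_card_subgroup]
      exact lt_mul_of_one_lt_right Nat.card_pos (K.one_lt_card_iff_ne_bot.mpr hK1)
    let ρ' : Q ⧸ K →* Module.End k W := QuotientGroup.lift K ρ le_rfl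
    let σ' : MulAut (Q ⧸ K) := QuotientGroup.congr K K σ hKmap
    have hσ' : ∀ (i : ℕ) (x : Q), (σ' ^ i) (QuotientGroup.mk x) = QuotientGroup.mk ((σ ^ i) x) := by
      intro i
      induction i with
      | zero => intro x; rfl
      | succ i ih => intro x; rw [pow_succ', pow_succ', MulAut.mul_apply, ih]; rfl
    intro x
    exact ih _ (by omega) ρ' σ' U rfl (hQ.to_quotient K) (fun h1 h2 => fun c d => by
        obtain ⟨c, rfl⟩ := QuotientGroup.mk_surjective c
        obtain ⟨d, rfl⟩ := QuotientGroup.mk_surjective d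
        rw [← QuotientGroup.mk_mul, ← QuotientGroup.mk_mul, hexc h1 h2 c d])
      (MulEquiv.ext fun c => by
        obtain ⟨c, rfl⟩ := QuotientGroup.mk_surjective c
        rw [hσ', hσ]; rfl)
      (fun c => by
        obtain ⟨c, rfl⟩ := QuotientGroup.mk_surjective c
        exact hU c) hsum (QuotientGroup.mk x)
  -- invariant proper subgroups are fixed
  have hproper : ∀ H : Subgroup Q, H ≠ ⊤ → (∀ x ∈ H, σ x ∈ H) → ∀ x ∈ H, σ x = x := by
    intro H hH hHσ x hx
    have hlt : Nat.card H < Nat.card Q := lt_of_le_of_ne (Subgroup.card_le_card_group H)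
      fun h => hH (Subgroup.eq_top_of_card_eq H h)
    have hbij : Function.Bijective (fun y : H => (⟨σ y, hHσ y y.2⟩ : H)) :=
      Finite.injective_iff_bijective.mp fun a b h => Subtype.ext (σ.injective (congrArg Subtype.val h))
    let σ' : MulAut H := MulEquiv.ofBijective
      (MonoidHom.mk' (fun y : H => (⟨σ y, hHσ y y.2⟩ : H)) fun a b => Subtype.ext (map_mul σ _ _)) hbij
    have hσ' : ∀ (i : ℕ) (y : H), ((σ' ^ i) y : Q) = (σ ^ i) (y : Q) := by
      intro i
      induction i with
      | zero => intro y; rfl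
      | succ i ih => intro y; rw [pow_succ', pow_succ', MulAut.mul_apply, MulAut.mul_apply, ← ih]; rfl
    have h := ih _ (by omega) (ρ.comp H.subtype) σ' U rfl (hQ.to_subgroup H)
      (fun h1 h2 c d => Subtype.ext (hexc h1 h2 c d))
      (MulEquiv.ext fun y => Subtype.ext (by rw [hσ', hσ]; rfl)) (fun y => hU y) hsum ⟨x, hx⟩
    exact hinj h
  have hmem_inv : ∀ H : Subgroup Q, (∀ x, x⁻¹ * σ x ∈ H) → ∀ x ∈ H, σ x ∈ H := fun H hH x hx => by
    have := H.mul_mem hx (hH x); rwa [mul_inv_cancel_left] at this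
  set H₀ := Subgroup.closure {y : Q | ∃ x, y = x⁻¹ * σ x} with hH₀
  have hgen₀ : ∀ x, x⁻¹ * σ x ∈ H₀ := fun x => Subgroup.subset_closure ⟨x, rfl⟩
  by_cases hH₀top : H₀ ≠ ⊤
  · intro x
    have hfix := hproper H₀ hH₀top (hmem_inv H₀ hgen₀)
    set y := x⁻¹ * σ x with hy
    have hyfix : σ y = y := hfix y (hgen₀ x)
    have hiter : ∀ i : ℕ, (σ ^ i) x = x * y ^ i := by
      intro i
      induction i with
      | zero => simp
      | succ i ih =>
        rw [pow_succ', MulAut.mul_apply, ih, map_mul, map_pow, hyfix, pow_succ' y, hy, ← mul_assoc,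
          mul_inv_cancel_left]
    have h1 : y ^ p = 1 := by
      have h := hiter p
      rw [hσ, MulAut.one_apply] at h
      exact left_eq_mul.mp h
    have hy1 : y = 1 := orderOf_eq_one_iff.mp (by
      obtain ⟨j, hj⟩ := IsPGroup.iff_orderOf.mp hQ y
      exact Nat.eq_one_of_dvd_coprimes ((Nat.coprime_primes hp.out hq.out).mpr hpq |>.pow_right j)
        (orderOf_dvd_of_pow_eq_one h1) hj.dvd)
    rw [show σ x = x from (inv_mul_eq_one.mp hy1).symm]
  push Not at hH₀top
  have hpow1 : ∀ y : Q, y ^ p = 1 → y = 1 := fun y hy => orderOf_eq_one_iff.mp (by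
      obtain ⟨j, hj⟩ := IsPGroup.iff_orderOf.mp hQ y
      exact Nat.eq_one_of_dvd_coprimes ((Nat.coprime_primes hp.out hq.out).mpr hpq |>.pow_right j)
        (orderOf_dvd_of_pow_eq_one hy) hj.dvd)
  -- fixed elements lie in the derived subgroup
  have hfixcomm : ∀ x, σ x = x → x ∈ commutator Q := by
    intro x hx
    let φ : Q →* Abelianization Q := ∏ i ∈ range p, Abelianization.of.comp (σ ^ i).toMonoidHom
    have hφ : ∀ g, φ g = ∏ i ∈ range p, Abelianization.of ((σ ^ i) g) := fun g => by
      simp [φ, MonoidHom.finsetProd_apply]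
    have hker : H₀ ≤ φ.ker := by
      rw [hH₀, Subgroup.closure_le]
      rintro _ ⟨g, rfl⟩
      rw [SetLike.mem_coe, MonoidHom.mem_ker, map_mul, map_inv, inv_mul_eq_one, hφ, hφ]
      have hs : ∀ i, (σ ^ i) (σ g) = (σ ^ (i + 1)) g := fun i => by rw [pow_succ, MulAut.mul_apply]
      simp only [hs]
      have h1 := Finset.prod_range_succ' (fun i => Abelianization.of ((σ ^ i) g)) p
      rw [Finset.prod_range_succ, hσ, pow_zero] at h1
      exact mul_right_cancel h1
    have hfix : ∀ i : ℕ, (σ ^ i) x = x := fun i => by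
      induction i with
      | zero => rfl
      | succ i ih => rw [pow_succ, MulAut.mul_apply, hx, ih]
    have h1 : φ x = 1 := hker (hH₀top ▸ Subgroup.mem_top x)
    rw [hφ, Finset.prod_congr rfl fun i _ => congrArg Abelianization.of (hfix i), Finset.prod_const,
      Finset.card_range] at h1
    rw [← Abelianization.ker_of, MonoidHom.mem_ker]
    refine orderOf_eq_one_iff.mp ?_
    obtain ⟨j, hj⟩ := IsPGroup.iff_orderOf.mp hQ x
    exact Nat.eq_one_of_dvd_coprimes ((Nat.coprime_primes hp.out hq.out).mpr hpq |>.pow_right j)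
      (orderOf_dvd_of_pow_eq_one h1) ((orderOf_map_dvd _ x).trans hj.dvd)
  have hQk : (Nat.card Q : k) ≠ 0 := by
    obtain ⟨j, hj⟩ := hQ.exists_card_eq
    rw [hj, Nat.cast_pow]; exact pow_ne_zero _ hqk
  haveI := Fintype.ofFinite Q
  by_cases hab : ∀ a b : Q, a * b = b * a
  · -- the abelian case
    have hcomm : commutator Q = ⊥ := by
      rw [commutator_def, Subgroup.commutator_eq_bot_iff_le_centralizer]
      exact fun a _ => Subgroup.mem_centralizer_iff.mpr fun b _ => (hab a b).symm
    set S : Module.End k W := ∑ y, ρ y with hS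
    have hUρ : ∀ (i : ℕ) (x : Q), U ^ i * ρ x = ρ ((σ ^ i) x) * U ^ i := by
      intro i
      induction i with
      | zero => intro x; simp
      | succ i ih =>
        intro x
        rw [pow_succ', mul_assoc, ih, ← mul_assoc, hU, mul_assoc, pow_succ', MulAut.mul_apply]
    have hi : ∀ i ∈ (range p).erase 0, ∑ u, ρ (u * (σ ^ i) u⁻¹) = S := by
      intro i hi
      have hi0 : i ≠ 0 := (Finset.mem_erase.mp hi).1
      have hip : i < p := Finset.mem_range.mp (Finset.mem_erase.mp hi).2
      let f : Q →* Q := MonoidHom.mk' (fun u => u * (σ ^ i) u⁻¹) fun a b => by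
        rw [mul_inv_rev, map_mul, hab ((σ ^ i) b⁻¹), mul_assoc, ← mul_assoc b, hab b ((σ ^ i) a⁻¹)]
        simp only [mul_assoc]
      have hf : Function.Injective f := by
        rw [← MonoidHom.ker_eq_bot_iff, Subgroup.eq_bot_iff_forall]
        intro u hu
        have h1 : (σ ^ i) u = u := by
          have : u * ((σ ^ i) u)⁻¹ = 1 := by rw [← map_inv]; exact hu
          exact (mul_inv_eq_one.mp this).symm
        have h2 : σ u = u := by
          obtain ⟨j, hj⟩ : ∃ j : ℕ, i * j % p = 1 :=
            (Nat.exists_mul_mod_eq_one_of_coprime ((Nat.Prime.coprime_iff_not_dvd hp.out).mpr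
              (fun h => hi0 (Nat.eq_zero_of_dvd_of_lt h hip))).symm hp.out.one_lt).imp fun j hj => hj.2
          have h3 : ∀ j : ℕ, ((σ ^ i) ^ j) u = u := by
            intro j
            induction j with
            | zero => rfl
            | succ j ih => rw [pow_succ, MulAut.mul_apply, h1, ih]
          have h4 := h3 j
          rw [← pow_mul, pow_eq_pow_mod _ hσ, hj, pow_one] at h4
          exact h4
        have := hfixcomm u h2
        rwa [hcomm, Subgroup.mem_bot] at this
      exact Fintype.sum_bijective f (Finite.injective_iff_bijective.mp hf) _ _ fun u => rfl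
    have hzero : ∀ u, ∑ i ∈ range p, ρ (u * (σ ^ i) u⁻¹) * U ^ i = 0 := by
      intro u
      have h0 : ∑ i ∈ range p, U ^ i = 0 := LinearMap.ext fun w => by
        rw [LinearMap.sum_apply]; exact hsum w
      have : ρ u * (∑ i ∈ range p, U ^ i) * ρ u⁻¹ = 0 := by rw [h0, mul_zero, zero_mul]
      rw [← this, Finset.mul_sum, Finset.sum_mul]
      exact Finset.sum_congr rfl fun i _ => by rw [mul_assoc (ρ u), hUρ, ← mul_assoc, ← map_mul]
    have htot : (Nat.card Q : k) • (1 : Module.End k W) = S := by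
      have h := Finset.sum_eq_zero (s := (Finset.univ : Finset Q)) fun u _ => hzero u
      rw [Finset.sum_comm, ← Finset.add_sum_erase _ _ (Finset.mem_range.mpr hp.out.pos),
        Finset.sum_congr rfl fun i hi' => show ∑ u, ρ (u * (σ ^ i) u⁻¹) * U ^ i = S * U ^ i by
          rw [← Finset.sum_mul, hi i hi'], ← Finset.mul_sum] at h
      have h0 : ∑ i ∈ range p, U ^ i = 0 := LinearMap.ext fun w => by
        rw [LinearMap.sum_apply]; exact hsum w
      rw [← Finset.add_sum_erase _ _ (Finset.mem_range.mpr hp.out.pos), pow_zero] at h0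
      rw [eq_neg_of_add_eq_zero_right h0, mul_neg, mul_one, ← sub_eq_add_neg, sub_eq_zero] at h
      rw [← h]
      simp [Finset.sum_const, ← Nat.card_eq_fintype_card, Nat.cast_smul_eq_nsmul]
    intro x
    have hx : ∀ x, ρ x = 1 := by
      intro x
      have h : ρ x * S = S := by
        rw [hS, Finset.mul_sum]
        exact Fintype.sum_equiv (Equiv.mulLeft x) _ _ fun y => (map_mul ρ x y).symm
      rw [← htot, mul_smul_comm, mul_one] at h
      exact smul_right_injective _ hQk h
    rw [hx, hx]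
  -- the nonabelian case
  exfalso
  haveI : Group.IsNilpotent Q := hQ.isNilpotent
  have hcfix : ∀ c ∈ commutator Q, σ c = c := by
    haveI : Nontrivial Q := by
      by_contra hs
      rw [not_nontrivial_iff_subsingleton] at hs
      exact hab fun a b => Subsingleton.elim _ _
    refine hproper _ (Group.IsSolvable.commutator_lt_top_of_nontrivial Q).ne ?_
    intro c hc
    have := (Subgroup.characteristic_iff_map_le.mp (inferInstance : (commutator Q).Characteristic) σ)
      (Subgroup.mem_map_of_mem σ.toMonoidHom hc)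
    exact this
  have hclass : ∀ x y : Q, ⁅x, y⁆ ∈ Subgroup.center Q := by
    intro x y
    have hc : ∀ c ∈ commutator Q, H₀ ≤ Subgroup.centralizer ({c} : Set Q) := by
      intro c hc
      rw [hH₀, Subgroup.closure_le]
      rintro _ ⟨g, rfl⟩
      rw [SetLike.mem_coe, Subgroup.mem_centralizer_singleton_iff]
      have e : σ (g * c * g⁻¹) = g * c * g⁻¹ :=
        hcfix _ (Subgroup.Normal.conj_mem inferInstance _ hc g)
      rw [map_mul, map_mul, map_inv, hcfix c hc] at e
      calc g⁻¹ * σ g * c = g⁻¹ * (σ g * c * (σ g)⁻¹) * σ g := by group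
        _ = g⁻¹ * (g * c * g⁻¹) * σ g := by rw [e]
        _ = c * (g⁻¹ * σ g) := by group
    have hxy : ⁅x, y⁆ ∈ commutator Q := Subgroup.commutator_mem_commutator (Subgroup.mem_top x) (Subgroup.mem_top y)
    refine Subgroup.mem_center_iff.mpr fun g => ?_
    exact Subgroup.mem_centralizer_singleton_iff.mp (hc _ hxy (hH₀top ▸ Subgroup.mem_top g))
  have hna : Subgroup.center Q ≠ ⊤ := fun h => hab fun a b =>
    Subgroup.mem_center_iff.mp (h ▸ Subgroup.mem_top b) a
  have hcenσ : ∀ z ∈ Subgroup.center Q, σ z = z := by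
    refine hproper _ hna fun z hz => ?_
    exact (Subgroup.characteristic_iff_map_le.mp (inferInstance : (Subgroup.center Q).Characteristic) σ)
      (Subgroup.mem_map_of_mem σ.toMonoidHom hz)
  -- central elements act as scalars
  by_cases hscal : ∀ z ∈ Subgroup.center Q, ∃ a : k, ρ z = a • (1 : Module.End k W)
  swap
  · push Not at hscal
    obtain ⟨z, hz, hznot⟩ := hscal
    apply hab
    have hn0 : ((orderOf z : ℕ) : k) ≠ 0 := by
      obtain ⟨j, hj⟩ := IsPGroup.iff_orderOf.mp hQ z
      rw [hj, Nat.cast_pow]; exact pow_ne_zero _ hqk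
    haveI : NeZero ((orderOf z : ℕ) : k) := ⟨hn0⟩
    obtain ⟨η, hη⟩ := HasEnoughRootsOfUnity.exists_primitiveRoot k (orderOf z)
    have hT : ρ z ^ orderOf z = 1 := by rw [← map_pow, pow_orderOf_eq_one, map_one]
    have hfix : ∀ x, ρ (σ x) = ρ x := by
      intro x
      refine LinearMap.ext fun w => ?_
      conv_lhs => rw [eq_sum_proj (T := ρ z) hη hn0 w]
      conv_rhs => rw [eq_sum_proj (T := ρ z) hη hn0 w]
      rw [map_sum, map_sum]
      refine Finset.sum_congr rfl fun i _ => ?_
      set E := eigen η (ρ z) i with hE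
      have hEinv : ∀ f : Module.End k W, Commute f (ρ z) → ∀ w ∈ E, f w ∈ E := by
        intro f hf w hw
        rw [hE, mem_eigen] at hw ⊢
        rw [← Module.End.mul_apply, ← hf.eq, Module.End.mul_apply, hw, map_smul]
      have hρE : ∀ y, ∀ w ∈ E, ρ y w ∈ E := fun y => hEinv _ (by
        rw [commute_iff_eq, ← map_mul, ← map_mul, Subgroup.mem_center_iff.mp hz y])
      have hUE : ∀ w ∈ E, U w ∈ E := hEinv _ (by
        rw [commute_iff_eq, hU, hcenσ z hz])
      have hlt : Module.finrank k E < Module.finrank k W := by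
        refine Submodule.finrank_lt fun htop => hznot (η ^ i) (LinearMap.ext fun w => ?_)
        have : w ∈ E := htop ▸ Submodule.mem_top
        rw [hE, mem_eigen] at this
        rw [this]; rfl
      let ρE : Q →* Module.End k E :=
        { toFun := fun y => (ρ y).restrict (hρE y)
          map_one' := LinearMap.ext fun w => Subtype.ext (by
            show ρ 1 (w : W) = w
            rw [map_one]; rfl)
          map_mul' := fun a b => LinearMap.ext fun w => Subtype.ext (by
            show ρ (a * b) (w : W) = ρ a (ρ b w)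
            rw [map_mul]; rfl) }
      have hUEpow : ∀ (i : ℕ) (w : E), (((U.restrict hUE) ^ i) w : W) = (U ^ i) (w : W) := by
        intro i
        induction i with
        | zero => intro w; rfl
        | succ i ih =>
          intro w
          rw [pow_succ', pow_succ', Module.End.mul_apply, Module.End.mul_apply, ← ih]; rfl
      have h := ih _ (by omega) ρE σ (U.restrict hUE) rfl hQ hexc hσ
        (fun y => LinearMap.ext fun w => Subtype.ext (LinearMap.congr_fun (hU y) (w : W)))
        (fun w => Subtype.ext (by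
          rw [AddSubmonoidClass.coe_finsetSum, Finset.sum_congr rfl fun i _ => hUEpow i w, hsum]; rfl)) x
      exact congrArg Subtype.val (LinearMap.congr_fun h
        (⟨proj (orderOf z) η (ρ z) i w, mem_eigen.mpr (apply_proj hη hn0 hT i w)⟩ : E))
    intro a b
    have hH₀bot : H₀ = ⊥ := by
      rw [hH₀, Subgroup.closure_eq_bot_iff]
      rintro _ ⟨g, rfl⟩
      rw [Set.mem_singleton_iff, inv_mul_eq_one]
      exact (hinj (hfix g)).symm
    have hsub : ∀ g : Q, g = 1 := fun g => Subgroup.mem_bot.mp (hH₀bot ▸ hH₀top.symm ▸ Subgroup.mem_top g)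
    rw [hsub a, hsub b]
  choose χ hχ using hscal
  let S : ScalarCentre ρ :=
    { χ := fun z => if hz : z ∈ Subgroup.center Q then χ z hz else 0
      hχ := fun z hz => by rw [dif_pos hz]; exact hχ z hz
      hclass := hclass
      hinj := hinj }
  let Hf : Subgroup Q :=
    { carrier := {x | x⁻¹ * σ x ∈ Subgroup.center Q}
      one_mem' := by show (1 : Q)⁻¹ * σ 1 ∈ Subgroup.center Q; rw [map_one, inv_one, one_mul]; exact one_mem _
      mul_mem' := fun {a b} ha hb => by
        show (a * b)⁻¹ * σ (a * b) ∈ Subgroup.center Q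
        have e : (a * b)⁻¹ * σ (a * b) = (b⁻¹ * (a⁻¹ * σ a) * b) * (b⁻¹ * σ b) := by rw [map_mul]; group
        rw [e]
        exact Subgroup.mul_mem _ (by simpa using Subgroup.Normal.conj_mem inferInstance _ ha b⁻¹) hb
      inv_mem' := fun {a} ha => by
        show a⁻¹⁻¹ * σ a⁻¹ ∈ Subgroup.center Q
        have e : a⁻¹⁻¹ * σ a⁻¹ = a * (a⁻¹ * σ a)⁻¹ * a⁻¹ := by rw [map_inv]; group
        rw [e]
        exact Subgroup.Normal.conj_mem inferInstance _ (Subgroup.inv_mem _ ha) a }
  have hHtop : Hf ≠ ⊤ := fun h => hna (eq_top_iff.mpr (by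
    rw [← hH₀top, hH₀, Subgroup.closure_le]
    rintro _ ⟨g, rfl⟩
    exact (h ▸ Subgroup.mem_top g : g ∈ Hf)))
  have hHfix := hproper Hf hHtop fun a ha => by
    show (σ a)⁻¹ * σ (σ a) ∈ Subgroup.center Q
    rw [← map_inv, ← map_mul, hcenσ _ ha]
    exact ha
  have hσfix : ∀ x, x⁻¹ * σ x ∈ Subgroup.center Q → x ∈ Subgroup.center Q := by
    intro x hx
    have hle : commutator Q ≤ Subgroup.center Q := by
      rw [commutator_def, Subgroup.commutator_le]
      exact fun a _ b _ => hclass a b
    exact hle (hfixcomm x (hHfix x hx))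
  haveI : NeZero (p : k) := ⟨hpk⟩
  obtain ⟨ζ, hζ⟩ := HasEnoughRootsOfUnity.exists_primitiveRoot k p
  obtain ⟨i, hi, hi1, hip⟩ := center_index_of_fpf S hQk hna ζ hζ hpk σ hσ hσfix U hU hsum
  obtain ⟨j, hj⟩ := hQ.exists_card_eq
  obtain ⟨a, -, ha⟩ := (Nat.dvd_prime_pow hq.out).mp
    (((dvd_mul_right i i).trans (hi ▸ Subgroup.index_dvd_card _)).trans hj.dvd)
  have hp2 : p ≠ 2 := by omega
  have hieven : 2 ∣ i := by
    have := hp.out.eq_two_or_odd.resolve_left hp2
    omega
  rw [ha] at hieven
  have hq2 : q = 2 := ((Nat.prime_dvd_prime_iff_eq Nat.prime_two hq.out).mp (Nat.prime_two.dvd_of_dvd_pow hieven)).symm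
  exact hab (hexc hq2 ⟨a, by rw [← hip, ha, hq2]⟩)

/-- The version over the prime field. -/
theorem fpf_elementary_exc {p q ℓ : ℕ} [hp : Fact p.Prime] [hq : Fact q.Prime] [hℓ : Fact ℓ.Prime] (hpq : p ≠ q) (hpℓ : p ≠ ℓ) (hqℓ : q ≠ ℓ) {Q : Type*} [Group Q] [Finite Q] (hQ : IsPGroup q Q)
    (hexc : q = 2 → (∃ n, p = 2 ^ n + 1) → ∀ a b : Q, a * b = b * a)
    {V : Type*} [AddCommGroup V] [Module (ZMod ℓ) V] [Finite V] (ρ : Q →* Module.End (ZMod ℓ) V) (σ : MulAut Q)
    (hσ : σ ^ p = 1) (U : Module.End (ZMod ℓ) V) (hU : ∀ x, U * ρ x = ρ (σ x) * U)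
    (hsum : ∀ v, ∑ i ∈ range p, (U ^ i) v = 0) : ∀ x, ρ (σ x) = ρ x := by
  haveI : Module.Finite (ZMod ℓ) V := Module.Finite.of_finite
  let k := AlgebraicClosure (ZMod ℓ)
  haveI : CharP k ℓ := charP_of_injective_algebraMap (algebraMap (ZMod ℓ) k).injective ℓ
  have hne : ∀ r : ℕ, r.Prime → r ≠ ℓ → (r : k) ≠ 0 := fun r hr hrℓ h =>
    hrℓ ((Nat.prime_dvd_prime_iff_eq hℓ.out hr).mp ((CharP.cast_eq_zero_iff k ℓ r).mp h)).symm
  let bc : Module.End (ZMod ℓ) V →ₐ[ZMod ℓ] Module.End k (k ⊗[ZMod ℓ] V) := Module.End.baseChangeHom (ZMod ℓ) k V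
  have hbc : Function.Injective bc := by
    intro f g h
    refine LinearMap.ext fun v => ?_
    have hv : (1 : k) ⊗ₜ[ZMod ℓ] f v = (1 : k) ⊗ₜ[ZMod ℓ] g v := LinearMap.congr_fun h ((1 : k) ⊗ₜ[ZMod ℓ] v)
    exact Module.Flat.tensorProduct_mk_injective (ZMod ℓ) V k hv
  have h0 : ∑ i ∈ range p, U ^ i = 0 := LinearMap.ext fun v => by rw [LinearMap.sum_apply]; exact hsum v
  intro x
  apply hbc
  exact fpf_linear_exc (k := k) hpq (hne p hp.out hpℓ) (hne q hq.out hqℓ) hQ hexc
    ((bc : Module.End (ZMod ℓ) V →* Module.End k (k ⊗[ZMod ℓ] V)).comp ρ) σ hσ (bc U)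
    (fun y => by
      show bc U * bc (ρ y) = bc (ρ (σ y)) * bc U
      rw [← map_mul, ← map_mul, hU y])
    (fun w => by
      rw [← LinearMap.sum_apply]
      simp only [← map_pow, ← map_sum, h0, map_zero]
      rfl) x

end CfsgLib.Structure
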