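import Mathlib

/-!
`-1` is a value of `A² + qB²` at roots of unity of order dividing `q + 1`, by Gauss's formula for
the cyclotomic polynomial.
-/

set_option autoImplicit false
set_option linter.style.haveILetI false

namespace CfsgLib.GaussSplit

open Polynomial

/-- Gauss's identity `4 q Φ_q = q Y² + Z²` for a prime `q ≡ 3 (mod 4)`. -/
theorem exists_gauss_identity (q : ℕ) [Fact q.Prime] (hq : q % 4 = 3) :
    ∃ Y Z : ℚ[X], C (4 * (q : ℚ)) * cyclotomic q ℚ = C (q : ℚ) * Y ^ 2 + Z ^ 2 := by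
  classical
  have hqp : q.Prime := Fact.out
  haveI : NeZero q := ⟨hqp.ne_zero⟩
  let L := CyclotomicField q ℚ
  haveI : IsCyclotomicExtension {q} ℚ L := CyclotomicField.isCyclotomicExtension q ℚ
  haveI : CharZero L := algebraRat.charZero L
  haveI : IsGalois ℚ L := IsCyclotomicExtension.isGalois {q} ℚ L
  let ζ : L := IsCyclotomicExtension.zeta q ℚ L
  have hζ : IsPrimitiveRoot ζ q := IsCyclotomicExtension.zeta_spec q ℚ L
  let χ : MulChar (ZMod q) L := (quadraticChar (ZMod q)).ringHomComp (Int.castRingHom L)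
  let ψ : AddChar (ZMod q) L := AddChar.zmodChar q hζ.pow_eq_one
  have hψ : ψ.IsPrimitive := AddChar.zmodChar_primitive_of_primitive_root q hζ
  have h2 : ringChar (ZMod q) ≠ 2 := by rw [ZMod.ringChar_zmod_n]; omega
  have hχ : χ ≠ 1 := (MulChar.ringHomComp_ne_one_iff (Int.cast_injective)).mpr (quadraticChar_ne_one h2)
  have hχq : χ.IsQuadratic := (quadraticChar_isQuadratic (ZMod q)).comp _
  have hneg : χ (-1) = -1 := by
    have : quadraticChar (ZMod q) (-1) = -1 := by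
      rw [quadraticChar_neg_one h2, ZMod.card, ZMod.χ₄_nat_three_mod_four hq]
    simp [χ, MulChar.ringHomComp_apply, this]
  set g := gaussSum χ ψ with hg
  have hg2 : g ^ 2 = -(q : L) := by
    rw [hg, gaussSum_sq hχ hχq hψ, hneg, ZMod.card]; ring
  have hg0 : g ≠ 0 := fun e => by
    rw [e, zero_pow two_ne_zero, eq_comm, neg_eq_zero, Nat.cast_eq_zero] at hg2
    exact hqp.ne_zero hg2
  let f : L → L[X] := fun s => ∏ a ∈ Finset.univ.filter (fun a : ZMod q => χ a = s), (X - C (ψ a))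
  have hψval : ∀ a : ZMod q, ψ a = ζ ^ a.val := fun a => AddChar.zmodChar_apply hζ.pow_eq_one a
  -- the Galois action
  have hσ : ∀ σ : L ≃ₐ[ℚ] L, ∃ u : (ZMod q)ˣ, ∀ a, σ (ψ a) = ψ ((u : ZMod q) * a) := by
    intro σ
    refine ⟨hζ.autToPow ℚ σ, fun a => ?_⟩
    rw [hψval, map_pow, ← hζ.autToPow_spec ℚ σ, ← hψval, ← AddChar.map_nsmul_eq_pow, nsmul_eq_mul,
      ZMod.natCast_zmod_val, mul_comm]
  have hsign : ∀ a : ZMod q, a ≠ 0 → χ a = 1 ∨ χ a = -1 := fun a ha => by
    rcases hχq a with h | h | h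
    · exact absurd h (IsUnit.ne_zero ((Ne.isUnit ha).map χ))
    · exact Or.inl h
    · exact Or.inr h
  have hact : ∀ (σ : L ≃ₐ[ℚ] L) (u : (ZMod q)ˣ), (∀ a, σ (ψ a) = ψ ((u : ZMod q) * a)) →
      ∀ s, (f s).map σ.toAlgHom.toRingHom = f (χ u * s) := by
    intro σ u hu s
    simp only [f, Polynomial.map_prod, Polynomial.map_sub, Polynomial.map_X, Polynomial.map_C]
    have hu2 : χ (u : ZMod q) * χ u = 1 := by
      rcases hsign _ u.ne_zero with h | h <;> rw [h] <;> norm_num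
    refine Finset.prod_bij (fun a _ => (u : ZMod q) * a) ?_ ?_ ?_ ?_
    · intro a ha
      simp only [Finset.mem_filter, Finset.mem_univ, true_and] at ha ⊢
      rw [map_mul, ha]
    · intro a _ b _ h
      exact mul_left_cancel₀ u.ne_zero h
    · intro b hb
      simp only [Finset.mem_filter, Finset.mem_univ, true_and] at hb
      refine ⟨((u⁻¹ : (ZMod q)ˣ) : ZMod q) * b, ?_, by rw [← mul_assoc, Units.mul_inv, one_mul]⟩
      simp only [Finset.mem_filter, Finset.mem_univ, true_and]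
      have hinv : χ ((u⁻¹ : (ZMod q)ˣ) : ZMod q) * χ u = 1 := by
        rw [← map_mul, Units.inv_mul, map_one]
      rw [map_mul, hb]
      calc χ ((u⁻¹ : (ZMod q)ˣ) : ZMod q) * (χ u * s) = (χ ((u⁻¹ : (ZMod q)ˣ) : ZMod q) * χ u) * s := by ring
        _ = s := by rw [hinv, one_mul]
    · intro a _
      show X - C (σ (ψ a)) = _
      rw [hu]
  have hgact : ∀ (σ : L ≃ₐ[ℚ] L) (u : (ZMod q)ˣ), (∀ a, σ (ψ a) = ψ ((u : ZMod q) * a)) →
      σ g = χ u * g := by
    intro σ u hu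
    have hσχ : ∀ a, σ (χ a) = χ a := fun a => by
      rcases hχq a with h | h | h <;> rw [h] <;> simp
    have h1 : σ g = gaussSum χ (ψ.mulShift (u : ZMod q)) := by
      simp only [hg, gaussSum, map_sum, map_mul, hσχ, hu, AddChar.mulShift_apply]
    have hu2 : χ (u : ZMod q) * χ u = 1 := by
      rcases hsign _ u.ne_zero with h | h <;> rw [h] <;> norm_num
    rw [h1, hg, ← gaussSum_mulShift χ ψ u, ← mul_assoc, hu2, one_mul]
  -- the rational polynomials
  have hrat : ∀ P : L[X], (∀ σ : L ≃ₐ[ℚ] L, P.map σ.toAlgHom.toRingHom = P) →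
      ∃ Q : ℚ[X], Q.map (algebraMap ℚ L) = P := by
    intro P hP
    refine (Polynomial.mem_lifts P).mp ((Polynomial.lifts_iff_coeff_lifts P).mpr fun n => ?_)
    refine (IsGalois.mem_range_algebraMap_iff_fixed _).mpr fun σ => ?_
    conv_rhs => rw [← hP σ]
    rw [Polynomial.coeff_map]
    rfl
  obtain ⟨Y, hY⟩ := hrat (f 1 + f (-1)) fun σ => by
    obtain ⟨u, hu⟩ := hσ σ
    rw [Polynomial.map_add, hact σ u hu, hact σ u hu]
    rcases hsign _ u.ne_zero with h | h <;> rw [h]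
    · simp
    · rw [mul_one, neg_one_mul, neg_neg, add_comm]
  obtain ⟨Z, hZ⟩ := hrat ((f 1 - f (-1)) * C g) fun σ => by
    obtain ⟨u, hu⟩ := hσ σ
    rw [Polynomial.map_mul, Polynomial.map_sub, hact σ u hu, hact σ u hu, Polynomial.map_C]
    show _ * C (σ g) = _
    rw [hgact σ u hu]
    rcases hsign _ u.ne_zero with h | h <;> rw [h]
    · simp
    · rw [mul_one, neg_one_mul, neg_neg, neg_one_mul, map_neg]
      ring
  have hΦ : f 1 * f (-1) = cyclotomic q L := by
    have hdisj : Disjoint (Finset.univ.filter (fun a : ZMod q => χ a = 1))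
        (Finset.univ.filter (fun a : ZMod q => χ a = -1)) := by
      refine Finset.disjoint_filter.mpr fun a _ h1 h2' => ?_
      rw [h1] at h2'
      norm_num at h2'
    rw [cyclotomic_eq_prod_X_sub_primitiveRoots hζ]
    simp only [f]
    rw [← Finset.prod_union hdisj]
    refine Finset.prod_bij (fun a _ => ψ a) ?_ ?_ ?_ (fun a _ => rfl)
    · intro a ha
      simp only [Finset.mem_union, Finset.mem_filter, Finset.mem_univ, true_and] at ha
      have ha0 : a ≠ 0 := by
        rintro rfl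
        rw [MulChar.map_zero] at ha
        norm_num at ha
      rw [mem_primitiveRoots hqp.pos, hψval]
      exact hζ.pow_of_coprime _ ((hqp.coprime_iff_not_dvd.mpr (Nat.not_dvd_of_pos_of_lt
        (ZMod.val_pos.mpr ha0) (ZMod.val_lt a))).symm)
    · intro a _ b _ h
      rw [hψval, hψval] at h
      exact ZMod.val_injective q (hζ.pow_inj (ZMod.val_lt a) (ZMod.val_lt b) h)
    · intro b hb
      rw [mem_primitiveRoots hqp.pos] at hb
      obtain ⟨i, hi, rfl⟩ := hζ.eq_pow_of_pow_eq_one hb.pow_eq_one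
      refine ⟨(i : ZMod q), ?_, by rw [hψval, ZMod.val_natCast_of_lt hi]⟩
      simp only [Finset.mem_union, Finset.mem_filter, Finset.mem_univ, true_and]
      refine hsign _ fun h => ?_
      rw [ZMod.natCast_eq_zero_iff] at h
      rw [Nat.eq_zero_of_dvd_of_lt h hi, pow_zero] at hb
      exact hqp.one_lt.ne' (IsPrimitiveRoot.unique hb IsPrimitiveRoot.one)
  refine ⟨Y, Z, Polynomial.map_injective (algebraMap ℚ L) (algebraMap ℚ L).injective ?_⟩
  simp only [Polynomial.map_mul, Polynomial.map_add, Polynomial.map_pow, Polynomial.map_C, Polynomial.map_ofNat, Polynomial.map_natCast, map_cyclotomic,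
    hY, hZ, map_mul, map_natCast, map_ofNat, ← hΦ]
  have : C g ^ 2 = -(q : L[X]) := by rw [← C_pow, hg2, map_neg, map_natCast]
  rw [mul_pow (f 1 - f (-1)), this]
  ring

/-- For `m` of order dividing `q + 1` in a division ring, `-1 = A² + q B²` with `A`, `B` in the algebra generated by `m`. -/
theorem exists_norm_form (q p : ℕ) [Fact q.Prime] (hq : q % 4 = 3) (hp : Odd p) (hdvd : p ∣ q + 1)
    {D : Type*} [DivisionRing D] [CharZero D] (m : D) (hm : m ^ p = 1) (hm1 : m ≠ 1) :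
    ∃ A B : D, A * A + (q : D) * (B * B) = -1 ∧ (∀ x, Commute x m → Commute x A) ∧
      (∀ x, Commute x m → Commute x B) ∧ Commute A B := by
  obtain ⟨Y, Z, hYZ⟩ := exists_gauss_identity q hq
  obtain ⟨k, rfl⟩ := hp
  have hm0 : m ≠ 0 := fun e => by rw [e, zero_pow (by omega)] at hm; exact zero_ne_one hm
  have hq1 : m ^ (q + 1) = 1 := by
    obtain ⟨c, hc⟩ := hdvd
    rw [hc, pow_mul, hm, one_pow]
  have hmq : m ^ q = m⁻¹ := eq_inv_of_mul_eq_one_left (by rw [← pow_succ]; exact hq1)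
  have hΦ : aeval m (cyclotomic q ℚ) = -m⁻¹ := by
    rw [cyclotomic_prime, map_sum]
    simp only [map_pow, aeval_X]
    have h1 := geom_sum_mul m q
    apply mul_right_cancel₀ (sub_ne_zero.mpr hm1)
    rw [h1, hmq, neg_mul, mul_sub, inv_mul_cancel₀ hm0, mul_one]
    abel
  have hcomm : ∀ (P : ℚ[X]) (x : D), Commute x m → Commute x (aeval m P) := by
    intro P x hx
    induction P using Polynomial.induction_on' with
    | add a b ha hb => rw [map_add]; exact ha.add_right hb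
    | monomial n c =>
      rw [aeval_monomial]
      exact (Commute.symm (Algebra.commute_algebraMap_left c x)).mul_right (hx.pow_right n)
  set h := m ^ k with hh
  have hh0 : h ≠ 0 := pow_ne_zero _ hm0
  have hhh : h * h = m⁻¹ := eq_inv_of_mul_eq_one_left (by
    rw [hh, ← pow_add, ← pow_succ, show k + k + 1 = 2 * k + 1 by ring]; exact hm)
  have hq0 : (q : ℚ) ≠ 0 := Nat.cast_ne_zero.mpr (Fact.out : q.Prime).ne_zero
  set A := algebraMap ℚ D (1 / 2) * (aeval m Y * h⁻¹) with hA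
  set B := algebraMap ℚ D (1 / (2 * q)) * (aeval m Z * h⁻¹) with hB
  have cA : ∀ x, Commute x m → Commute x A := fun x hx => by
    rw [hA]; exact (Commute.symm (Algebra.commute_algebraMap_left _ x)).mul_right ((hcomm Y x hx).mul_right (hx.pow_right k).inv_right₀)
  have cB : ∀ x, Commute x m → Commute x B := fun x hx => by
    rw [hB]; exact (Commute.symm (Algebra.commute_algebraMap_left _ x)).mul_right ((hcomm Z x hx).mul_right (hx.pow_right k).inv_right₀)
  have mA : Commute A m := (cA m (Commute.refl m)).symm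
  refine ⟨A, B, ?_, cA, cB, cB A mA⟩
  have hE := congrArg (aeval m) hYZ
  simp only [map_mul, map_add, map_pow, aeval_C, hΦ] at hE
  have cY : Commute h⁻¹ (aeval m Y) := ((hcomm Y h ((Commute.refl m).pow_left k))).inv_left₀
  have cZ : Commute h⁻¹ (aeval m Z) := ((hcomm Z h ((Commute.refl m).pow_left k))).inv_left₀
  have sq : ∀ (c : ℚ) (P : D), Commute h⁻¹ P →
      (algebraMap ℚ D c * (P * h⁻¹)) * (algebraMap ℚ D c * (P * h⁻¹)) = algebraMap ℚ D (c * c) * (P ^ 2 * m) := by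
    intro c P hP
    have hm' : h⁻¹ * h⁻¹ = m := by rw [← mul_inv_rev, hhh, inv_inv]
    calc (algebraMap ℚ D c * (P * h⁻¹)) * (algebraMap ℚ D c * (P * h⁻¹))
        = algebraMap ℚ D c * ((P * h⁻¹) * algebraMap ℚ D c) * (P * h⁻¹) := by simp only [mul_assoc]
      _ = algebraMap ℚ D c * (algebraMap ℚ D c * (P * h⁻¹)) * (P * h⁻¹) := by
        rw [← Algebra.commutes c (P * h⁻¹)]
      _ = algebraMap ℚ D (c * c) * (P * (h⁻¹ * P) * h⁻¹) := by rw [map_mul]; simp only [mul_assoc]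
      _ = _ := by rw [hP.eq, pow_two, ← mul_assoc P P, mul_assoc (P * P), hm']
  rw [hA, hB, sq _ _ cY, sq _ _ cZ, ← map_natCast (algebraMap ℚ D) q,
    ← mul_assoc (algebraMap ℚ D (q : ℚ)), ← map_mul]
  have e1 : (1 / 2 : ℚ) * (1 / 2) = 1 / (4 * q) * q := by field_simp; norm_num
  have e2 : (q : ℚ) * (1 / (2 * q) * (1 / (2 * q))) = 1 / (4 * q) := by field_simp; norm_num
  rw [e1, e2, map_mul (algebraMap ℚ D), mul_assoc, ← mul_add, ← mul_assoc, ← add_mul, ← hE,
    ← mul_assoc, ← mul_assoc, ← map_mul, ← map_mul,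
    show (1 : ℚ) / (4 * q) * (4 * q) = 1 by field_simp, map_one, one_mul, neg_mul, inv_mul_cancel₀ hm0]

/-- `2q = X² + 5Y²` for a prime `q ≡ 3 (mod 4)`, `q ≡ 2 (mod 5)`. -/
theorem exists_five_form (q : ℕ) [hq' : Fact q.Prime] (hq : q % 4 = 3) (h5 : q % 5 = 2) :
    ∃ X Y : ℚ, X ^ 2 + 5 * Y ^ 2 = 2 * q := by
  classical
  haveI : Fact (Nat.Prime 5) := ⟨Nat.prime_five⟩
  have hqp : q.Prime := hq'.out
  have hsq : IsSquare (-5 : ZMod q) := by
    have hne : (((-5 : ℤ)) : ZMod q) ≠ 0 := by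
      rw [Ne, ZMod.intCast_zmod_eq_zero_iff_dvd, dvd_neg]
      exact fun h => by
        have h' : q ∣ 5 := by exact_mod_cast h
        have := (Nat.prime_dvd_prime_iff_eq hqp Nat.prime_five).mp h'
        omega
    have := (legendreSym.eq_one_iff q hne).mp (by
      rw [show (-5 : ℤ) = -1 * 5 by norm_num, legendreSym.mul, legendreSym.at_neg_one (by omega),
        ZMod.χ₄_nat_three_mod_four hq]
      rw [show ((5 : ℤ)) = ((5 : ℕ) : ℤ) by norm_num, legendreSym.quadratic_reciprocity_one_mod_four (p := 5) (q := q)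
        (by norm_num) (by omega), legendreSym.mod 5, show ((q : ℤ) % (5 : ℕ)) = 2 by omega]
      rfl)
    simpa using this
  obtain ⟨r, hr⟩ := hsq
  set s := Nat.sqrt q with hs
  let F : Fin (s + 1) × Fin (s + 1) → ZMod q := fun ab => (ab.1.val : ZMod q) - r * (ab.2.val : ZMod q)
  obtain ⟨a, b, hab, he⟩ := Fintype.exists_ne_map_eq_of_card_lt F (by
    rw [Fintype.card_prod, Fintype.card_fin, ZMod.card]; exact Nat.lt_succ_sqrt q)
  set x : ℤ := (a.1.val : ℤ) - b.1.val with hx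
  set y : ℤ := (a.2.val : ℤ) - b.2.val with hy
  have hbound : ∀ z : ℤ, -(s : ℤ) ≤ z → z ≤ s → z ^ 2 < q := by
    intro z h1 h2
    have hle : z ^ 2 ≤ (s : ℤ) ^ 2 := sq_le_sq' h1 h2
    have hs2 : s * s < q := lt_of_le_of_ne (Nat.sqrt_le q) fun e => by
      rcases (Nat.prime_mul_iff.mp (e.symm ▸ hqp : (s * s).Prime)) with ⟨h, h'⟩ | ⟨h, h'⟩ <;>
        rw [h'] at h <;> exact Nat.not_prime_one h
    have : ((s * s : ℕ) : ℤ) < q := by exact_mod_cast hs2
    push_cast at this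
    nlinarith
  have hxb := hbound x (by have := a.1.isLt; have := b.1.isLt; omega) (by have := a.1.isLt; have := b.1.isLt; omega)
  have hyb := hbound y (by have := a.2.isLt; have := b.2.isLt; omega) (by have := a.2.isLt; have := b.2.isLt; omega)
  have hdvd : (q : ℤ) ∣ x ^ 2 + 5 * y ^ 2 := by
    rw [← ZMod.intCast_zmod_eq_zero_iff_dvd]
    have hxy : (x : ZMod q) = r * (y : ZMod q) := by
      simp only [F] at he
      simp only [hx, hy, Int.cast_sub, Int.cast_natCast]
      linear_combination he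
    push_cast
    rw [hxy]
    linear_combination -((y : ZMod q) ^ 2) * hr
  obtain ⟨k, hk⟩ := hdvd
  have hqpos : (0 : ℤ) < q := by exact_mod_cast hqp.pos
  have hk0 : 0 < k := by
    by_contra h
    have h0 : x ^ 2 + 5 * y ^ 2 ≤ 0 := by rw [hk]; nlinarith
    have hy0 : y = 0 := by nlinarith [sq_nonneg x, sq_nonneg y]
    have hx0 : x = 0 := by nlinarith [sq_nonneg x, sq_nonneg y]
    exact hab (Prod.ext (Fin.ext (by omega)) (Fin.ext (by omega)))
  have hk6 : k < 6 := by nlinarith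
  have h54 : ∀ z : ℤ, (z ^ 2) % 5 = 0 ∨ (z ^ 2) % 5 = 1 ∨ (z ^ 2) % 5 = 4 := by
    intro z
    rw [pow_two, Int.mul_emod]
    have h1 := Int.emod_nonneg z (by norm_num : (5 : ℤ) ≠ 0)
    have h2 := Int.emod_lt_of_pos z (by norm_num : (0 : ℤ) < 5)
    interval_cases z % 5 <;> simp
  have h8 : ∀ z : ℤ, ((z ^ 2) % 8 = 1 ∧ z % 2 = 1) ∨ (((z ^ 2) % 8 = 0 ∨ (z ^ 2) % 8 = 4) ∧ z % 2 = 0) := by
    intro z
    rw [pow_two, Int.mul_emod]
    have h1 := Int.emod_nonneg z (by norm_num : (8 : ℤ) ≠ 0)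
    have h2 := Int.emod_lt_of_pos z (by norm_num : (0 : ℤ) < 8)
    have h3 : z % 2 = z % 8 % 2 := by omega
    rw [h3]
    interval_cases z % 8 <;> simp
  have hqZ : (q : ℤ) % 4 = 3 ∧ (q : ℤ) % 5 = 2 := by omega
  rcases (by omega : k = 1 ∨ k = 2 ∨ k = 3 ∨ k = 4 ∨ k = 5) with rfl | rfl | rfl | rfl | rfl
  · have := h54 x; omega
  · refine ⟨x, y, ?_⟩
    have : ((x ^ 2 + 5 * y ^ 2 : ℤ) : ℚ) = ((q * 2 : ℤ) : ℚ) := by rw [hk]
    push_cast at this
    linarith
  · refine ⟨((x : ℚ) - 5 * y) / 3, ((x : ℚ) + y) / 3, ?_⟩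
    have : ((x ^ 2 + 5 * y ^ 2 : ℤ) : ℚ) = ((q * 3 : ℤ) : ℚ) := by rw [hk]
    push_cast at this
    field_simp
    nlinarith
  · exfalso
    have hx2 := h8 x
    have hy2 := h8 y
    rcases hx2 with ⟨hx8, hxo⟩ | ⟨hx8, hxe⟩ <;> rcases hy2 with ⟨hy8, hyo⟩ | ⟨hy8, hye⟩
    · omega
    · omega
    · omega
    · obtain ⟨x', hx'⟩ := Int.dvd_of_emod_eq_zero hxe
      obtain ⟨y', hy'⟩ := Int.dvd_of_emod_eq_zero hye
      have hx4 : x ^ 2 = 4 * x' ^ 2 := by rw [hx']; ring
      have hy4 : y ^ 2 = 4 * y' ^ 2 := by rw [hy']; ring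
      have := h54 x'
      omega
  · exfalso
    have h0 : (x ^ 2) % 5 = 0 := by omega
    have hx5 : (5 : ℤ) ∣ x := by
      have hp5 : Prime (5 : ℤ) := by norm_num
      exact hp5.dvd_of_dvd_pow (Int.dvd_of_emod_eq_zero h0)
    obtain ⟨x', hx'⟩ := hx5
    have hx25 : x ^ 2 = 25 * x' ^ 2 := by rw [hx']; ring
    have := h54 y
    omega

end CfsgLib.GaussSplit
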