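import Cfsg.Agent.Lib.Techniques.KInfGlauberman
import Cfsg.Agent.Lib.PLocal.NoSLTwo

/-! Glauberman's K-infinity subgroup of any `p`-subgroup containing `O_p(G)`, in a group of
characteristic `p` without `SL(2,p)` sections: it is that of `O_p(G)`. -/

set_option autoImplicit false
set_option linter.unusedSectionVars false

namespace CfsgLib.Structure

open Cfsg Subgroup CfsgLib.Techniques CfsgLib.Techniques.KInf
open scoped commutatorElement MatrixGroups

universe u

variable {G : Type u} [Group G] [Finite G] {p : ℕ} [Fact p.Prime]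

/-- Without `SL(2,p)` sections there are no good elements. -/
theorem not_goodElement (hp2 : p ≠ 2) (hno : CfsgLib.PLocal.NoSLTwo p G)
    (hC : centralizer (pCore p G : Set G) ≤ pCore p G) {A : Subgroup G} (hd : CriticalData p (pCore p G) A)
    (g : G) : ¬ GoodElement (pCore p G) A g := by
  rintro ⟨-, -, h3⟩
  obtain ⟨U, V, hUV, hUA, hq, hne⟩ := h3 hC
  have hUn := hUV.2.1
  have hVn := hUV.2.2.1
  have hUp : IsPGroup p U := hd.pgroup.to_le (hUA.trans hd.le)
  refine hne ?_
  set π := QuotientGroup.mk' V with hπ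
  haveI hUb : (U.map π).Normal := hUn.map π (QuotientGroup.mk'_surjective V)
  have hel : Cfsg.IsElementaryAbelian p (U.map π) := by
    refine ⟨⟨⟨?_⟩⟩, ?_⟩
    · rintro ⟨_, a, ha, rfl⟩ ⟨_, b, hb, rfl⟩
      refine Subtype.ext ?_
      show π a * π b = π b * π a
      rw [← commutatorElement_eq_one_iff_mul_comm, ← map_commutatorElement]
      exact (QuotientGroup.eq_one_iff _).2
        (Fusion.chiefFactor_commutative hUV hUp (commutator_mem_commutator ha hb))
    · rintro _ ⟨a, ha, rfl⟩
      rw [← map_pow]
      exact (QuotientGroup.eq_one_iff _).2 (Fusion.chiefFactor_pow_mem hUV hUp ha)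
  have hst : Cfsg.IsPStableOn p (U.map π) := by
    by_contra hns
    obtain ⟨M, f, hf⟩ := CfsgLib.PLocal.exists_sl2_of_not_isPStableOn hp2 _ hel hns
    obtain ⟨M', f', hf'⟩ := CfsgLib.PLocal.exists_surjective_of_surjective
      ((QuotientGroup.mk' _).comp π) ((QuotientGroup.mk'_surjective _).comp (QuotientGroup.mk'_surjective _)) hf
    exact hno M' f' hf'
  have hmem := hst (π g) (by
    rw [← MonoidHom.map_zpowers, ← map_commutator, ← map_commutator, Subgroup.map_eq_bot_iff,
      QuotientGroup.ker_mk']
    exact hq)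
  set C := centralizer ((U.map π : Subgroup (G ⧸ V)) : Set (G ⧸ V)) with hCdef
  let φ : G →* _ ⧸ C := (QuotientGroup.mk' C).comp π
  have hD : ((pCore p (_ ⧸ C)).comap φ).Normal := (pCore_normal p _).comap φ
  rw [← le_sectionKernel_iff, zpowers_le]
  refine le_sectionKernel_of_coprime hUV hUp hD (fun x hx hxc => ?_) hmem
  have h5 : φ x = 1 := eq_one_of_coprime_of_mem CfsgLib.PCore.pCore_isPGroup hx
    (hxc.coprime_dvd_left (orderOf_map_dvd φ x))
  show π x ∈ C
  exact (QuotientGroup.eq_one_iff (π x)).1 h5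

/-- The lower K-infinity subgroup of a `p`-subgroup containing `O_p(G)`. -/
theorem kInfLower_eq_of_pCore_le (hp2 : p ≠ 2) (hno : CfsgLib.PLocal.NoSLTwo p G)
    (hC : centralizer (pCore p G : Set G) ≤ pCore p G) (S : Subgroup G) (hS : IsPGroup p S)
    (hTS : pCore p G ≤ S) :
    inducedFunctor (G := G) kInfLower S = inducedFunctor (G := G) kInfLower (pCore p G) := by
  obtain ⟨A, hd, -⟩ := exists_criticalData (G := G) (p := p)
  have hcon : ∀ g ∈ S, g ∉ pCore p G → ¬ GoodElement (pCore p G) A g := fun g _ _ =>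
    not_goodElement hp2 hno hC hd g
  set T := pCore p G with hTdef
  have hAS : A ≤ S := hd.le.trans hTS
  set f := S.subtype with hf
  have hinj : Function.Injective f := S.subtype_injective
  set T' := T.subgroupOf S with hT'
  set A' := A.subgroupOf S with hA'
  have mapA : A'.map f = A := map_subgroupOf_eq_of_le hAS
  have mapT : T'.map f = T := map_subgroupOf_eq_of_le hTS
  have hAn := hd.normal
  have hle : ∀ {B : Subgroup ↥S} {C : Subgroup G}, B.map f ≤ C → C ≤ S →
      B ≤ C.subgroupOf S := fun {B C} h _ => map_le_iff_le_comap.1 h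
  have hA'two : A' ∈ classTwoSubgroups ↥S := by
    rw [← mem_classTwo_map f hinj, mapA]; exact hd.abelianQuot
  have hBmap : ∀ B : Subgroup ↥S, B.map f ≤ S := fun B => map_subtype_le B
  have key : ∀ n, A' ≤ kSeqOdd ↥S n ∧ kSeqEven ↥S n ≤ T' := by
    intro n
    induction n with
    | zero =>
      refine ⟨le_top, ?_⟩
      refine sSup_le fun B hB => hle (hd.lower_le hcon hS (hBmap B) ?_ ?_ fun A₀ hA₀n hA₀A h1 h2 => ?_) hTS
      · exact ((mem_classTwo_map f hinj B).2 hB.1 : _)
      · rw [← mapA]; exact (le_normalizer_map_iff f hinj A' B).2 (le_top.trans hB.2.1)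
      · exact exists_goodElement.test_apply f hinj hA₀n ((hA₀A.trans hAS).trans (range_subtype _).ge)
          hd.abelianQuot hA₀A hB le_top h1 h2
    | succ n ih =>
      have hA'up : A' ∈ kUpperStarFamily (kSeqEven ↥S n) := by
        refine ⟨hA'two, ?_⟩
        rw [← map_le_map_iff_of_injective hinj, map_commutator, map_inf_centralizer f hinj, mapA]
        rw [commutator_comm]
        exact (commutator_mono ((map_mono ih.2).trans mapT.le) le_rfl).trans hd.commT
      have hodd : A' ≤ kSeqOdd ↥S (n + 1) := le_sSup hA'up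
      refine ⟨hodd, sSup_le fun B hB => hle
        (hd.lower_le hcon hS (hBmap B) ?_ ?_ fun A₀ hA₀n hA₀A h1 h2 => ?_) hTS⟩
      · exact ((mem_classTwo_map f hinj B).2 hB.1 : _)
      · rw [← mapA]; exact (le_normalizer_map_iff f hinj A' B).2 (hodd.trans hB.2.1)
      · refine exists_goodElement.test_apply f hinj hA₀n ((hA₀A.trans hAS).trans (range_subtype _).ge)
          hd.abelianQuot hA₀A hB ?_ h1 h2
        exact (comap_mono hA₀A).trans hodd
  have hodd : ∀ n, kSeqOdd ↥S (n + 1) ≤ T' := fun n => by
    have hA'low : A' ≤ kSeqEven ↥S n := by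
      refine le_sSup ⟨hA'two, ?_, fun A₂ _ _ hN h1 h2 => ?_⟩
      · rw [normalizer_eq_top_iff.2 (inferInstance : A'.Normal)]; exact le_top
      · rw [← map_le_map_iff_of_injective hinj, map_commutator, map_inf_centralizer f hinj, mapA]
        refine hd.test_commutator_le hcon (hBmap A₂) ?_ ?_ ?_
        · rw [← mapA]; exact (le_normalizer_map_iff f hinj A' A₂).2 hN
        · rw [← mapA, ← map_commutator, ← map_commutator, h1, Subgroup.map_bot]
        · rw [← mapA, ← map_inf_centralizer f hinj, ← map_commutator, ← map_commutator, h2,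
            Subgroup.map_bot]
    refine sSup_le fun B hB => hle (hd.upper_le hcon (hBmap B) ?_) hTS
    rw [← mapA, ← map_commutator, ← map_inf_centralizer f hinj, map_le_map_iff_of_injective hinj]
    exact (commutator_mono le_rfl hA'low).trans hB.2
  obtain ⟨hL, -⟩ := kInf_eq_of_terms_le T' fun n => ⟨(key n).2, hodd n⟩
  show (kInfLower ↥S).map f = (kInfLower ↥T).map T.subtype
  rw [← hL, ← map_kInfLower_equiv (subgroupOfEquivOfLe hTS), Subgroup.map_map, Subgroup.map_map]
  congr 1

end CfsgLib.Structure
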