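import Cfsg.Agent.Lib.Coprime.SchurZassenhaus
import Cfsg.Agent.Lib.PCore.PSolvable

/-!
`p`-complements of finite `p`-solvable groups: existence, conjugacy, dominance.
-/

set_option autoImplicit false
set_option linter.style.haveILetI false

open Subgroup
open scoped Pointwise

namespace CfsgLib.Structure

universe u

/-- `H` has order prime to `p` and index a power of `p`. -/
def IsPComplementIn {G : Type u} [Group G] (p : ℕ) (H : Subgroup G) : Prop :=
  (Nat.card H).Coprime p ∧ ∃ n : ℕ, H.index = p ^ n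

theorem pComplement_dominating_aux {p : ℕ} [Fact p.Prime] : ∀ (n : ℕ) {G : Type u} [Group G] [Finite G],
    Nat.card G ≤ n → Cfsg.IsPSolvable p G → ∃ H : Subgroup G, IsPComplementIn p H ∧
      ∀ U : Subgroup G, (Nat.card U).Coprime p → ∃ g : G, MulAut.conj g • U ≤ H := by
  intro n
  induction n with
  | zero => intro G _ _ hn; exact absurd hn (by have := Nat.card_pos (α := G); omega)
  | succ n ih =>
    intro G _ _ hn hG
    rcases subsingleton_or_nontrivial G with hs | hs
    · refine ⟨⊥, ⟨by simp, 0, ?_⟩, fun U _ => ⟨1, ?_⟩⟩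
      · rw [pow_zero, index_eq_one]; exact Subsingleton.elim _ _
      · exact le_of_eq (Subsingleton.elim _ _)
    have hlt : ∀ N : Subgroup G, N ≠ ⊥ → Nat.card (G ⧸ N) ≤ n := by
      intro N hN
      have h1 := N.one_lt_card_iff_ne_bot.mpr hN
      have h2 := Subgroup.card_eq_card_quotient_mul_card_subgroup N
      have h3 : 0 < Nat.card (G ⧸ N) := Nat.card_pos
      have : Nat.card (G ⧸ N) < Nat.card G := h2 ▸ lt_mul_of_one_lt_right h3 h1
      omega
    have hstep : ∀ N : Subgroup G, ∀ [N.Normal], N ≠ ⊥ →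
        ∃ L : Subgroup G, N ≤ L ∧ (∃ k, L.index = p ^ k) ∧
          (Nat.card (L.map (QuotientGroup.mk' N))).Coprime p ∧
          ∀ U : Subgroup G, (Nat.card U).Coprime p → ∃ g : G, MulAut.conj g • U ≤ L := by
      intro N _ hN
      obtain ⟨Hb, ⟨hc, k, hk⟩, hdom⟩ := ih (hlt N hN) (CfsgLib.PCore.isPSolvable_quotient hG N)
      set L := Hb.comap (QuotientGroup.mk' N) with hL
      have hmap : L.map (QuotientGroup.mk' N) = Hb :=
        map_comap_eq_self_of_surjective (QuotientGroup.mk'_surjective N) Hb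
      refine ⟨L, fun x hx => ?_, ⟨k, ?_⟩, by rwa [hmap], fun U hU => ?_⟩
      · rw [hL, mem_comap, QuotientGroup.mk'_apply, (QuotientGroup.eq_one_iff x).mpr hx]
        exact one_mem Hb
      · rw [hL, index_comap_of_surjective _ (QuotientGroup.mk'_surjective N), hk]
      · obtain ⟨g, hg⟩ := hdom (U.map (QuotientGroup.mk' N))
          (Nat.Coprime.coprime_dvd_left (card_map_dvd U _) hU)
        obtain ⟨x, rfl⟩ := QuotientGroup.mk'_surjective N g
        refine ⟨x, CfsgLib.Coprime.conj_smul_le.2 fun z hz => ?_⟩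
        rw [hL, mem_comap, map_mul, map_mul, map_inv]
        exact CfsgLib.Coprime.conj_smul_le.1 hg _ (mem_map_of_mem _ hz)
    have hcard : ∀ (N L : Subgroup G) [N.Normal], N ≤ L →
        Nat.card L = Nat.card (L.map (QuotientGroup.mk' N)) * Nat.card N := by
      intro N L _ hNL
      have h := CfsgLib.Coprime.card_map_mul_inf_ker (QuotientGroup.mk' N) L
      rw [QuotientGroup.ker_mk', inf_eq_left.mpr hNL] at h
      exact h.symm
    by_cases hp' : Cfsg.pPrimeCore p G = ⊥
    · have hP := CfsgLib.PCore.pCore_ne_bot hG hp'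
      set N := Cfsg.pCore p G with hN
      haveI : N.Normal := sSup_normal _ fun _ h => h.1
      obtain ⟨L, hNL, ⟨k, hk⟩, hco, hdom⟩ := hstep N hP
      have hNp : IsPGroup p N := CfsgLib.PCore.pCore_isPGroup
      obtain ⟨j, hj⟩ := IsPGroup.iff_card.mp hNp
      have hNcard : Nat.card (N.subgroupOf L) = p ^ j := by rw [CfsgLib.Coprime.card_subgroupOf hNL, hj]
      have hidx : (N.subgroupOf L).index = Nat.card (L.map (QuotientGroup.mk' N)) := by
        have h1 := (N.subgroupOf L).card_mul_index
        rw [CfsgLib.Coprime.card_subgroupOf hNL, hcard N L hNL, mul_comm (Nat.card (L.map _))] at h1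
        exact Nat.eq_of_mul_eq_mul_left Nat.card_pos h1
      have hcop : (Nat.card (N.subgroupOf L)).Coprime (N.subgroupOf L).index := by
        rw [hNcard, hidx]; exact (hco.pow_right j).symm
      obtain ⟨K, hK⟩ := Subgroup.exists_right_complement'_of_coprime hcop
      have hKcard : Nat.card K = (N.subgroupOf L).index := hK.symm.index_eq_card.symm
      have hKm : Nat.card (K.map L.subtype) = Nat.card K :=
        Subgroup.card_map_of_injective L.subtype_injective
      refine ⟨K.map L.subtype, ⟨?_, j + k, ?_⟩, fun U hU => ?_⟩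
      · rw [hKm, hKcard, hidx]; exact hco
      · have h1 := (K.map L.subtype).card_mul_index
        rw [← L.card_mul_index, hk, hKm, hKcard, hidx, hcard N L hNL, hj] at h1
        rw [mul_assoc, ← pow_add] at h1
        exact Nat.eq_of_mul_eq_mul_left Nat.card_pos h1
      · obtain ⟨g, hg⟩ := hdom U hU
        set U' := MulAut.conj g • U with hU'
        have hU'c : (Nat.card (U'.subgroupOf L)).Coprime p := by
          rwa [CfsgLib.Coprime.card_subgroupOf hg, hU', CfsgLib.Coprime.card_conj_smul]
        obtain ⟨x, -, hx⟩ := CfsgLib.Coprime.exists_conj_le_complement (N.subgroupOf L) hcop K hKcard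
          (U'.subgroupOf L) (by rw [hNcard]; exact (hU'c.pow_right j).symm)
          (Or.inl (haveI : IsPGroup p (N.subgroupOf L) := hNp.comap_subtype
                   haveI := this.isNilpotent; inferInstance))
        refine ⟨(x : G) * g, CfsgLib.Coprime.conj_smul_le.2 fun z hz => ?_⟩
        have hz' : g * z * g⁻¹ ∈ U' := CfsgLib.Coprime.conj_smul_le.1 le_rfl z hz
        refine ⟨_, CfsgLib.Coprime.conj_smul_le.1 hx ⟨_, hg hz'⟩ hz', ?_⟩
        simp [mul_assoc]
    · haveI : (Cfsg.pPrimeCore p G).Normal := sSup_normal _ fun _ h => h.1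
      obtain ⟨L, hNL, hidx, hco, hdom⟩ := hstep _ hp'
      refine ⟨L, ⟨?_, hidx⟩, hdom⟩
      rw [hcard _ L hNL]
      exact hco.mul_left CfsgLib.PCore.pPrimeCore_coprime

theorem pComplement_dominating {G : Type u} [Group G] [Finite G] {p : ℕ} [Fact p.Prime]
    (hG : Cfsg.IsPSolvable p G) : ∃ H : Subgroup G, IsPComplementIn p H ∧
      ∀ U : Subgroup G, (Nat.card U).Coprime p → ∃ g : G, MulAut.conj g • U ≤ H :=
  pComplement_dominating_aux _ le_rfl hG

theorem IsPComplementIn.card_eq {G : Type u} [Group G] [Finite G] {p : ℕ} {H K : Subgroup G}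
    (hH : IsPComplementIn p H) (hK : IsPComplementIn p K) : Nat.card H = Nat.card K := by
  obtain ⟨a, ha⟩ := hH.2
  obtain ⟨b, hb⟩ := hK.2
  refine Nat.dvd_antisymm ?_ ?_
  · refine (hH.1.pow_right b).dvd_of_dvd_mul_right ?_
    rw [← hb, K.card_mul_index]; exact H.card_subgroup_dvd_card
  · refine (hK.1.pow_right a).dvd_of_dvd_mul_right ?_
    rw [← ha, H.card_mul_index]; exact K.card_subgroup_dvd_card

theorem pComplement_conj {G : Type u} [Group G] [Finite G] {p : ℕ} [Fact p.Prime]
    (hG : Cfsg.IsPSolvable p G) {H K : Subgroup G} (hH : IsPComplementIn p H) (hK : IsPComplementIn p K) :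
    ∃ g : G, MulAut.conj g • H = K := by
  obtain ⟨B, hB, hdom⟩ := pComplement_dominating hG
  obtain ⟨g₁, h₁⟩ := hdom H hH.1
  obtain ⟨g₂, h₂⟩ := hdom K hK.1
  refine ⟨g₂⁻¹ * g₁, ?_⟩
  rw [map_mul, mul_smul, CfsgLib.Coprime.conj_smul_eq_of_le h₁ (hB.card_eq hH).le,
    ← CfsgLib.Coprime.conj_smul_eq_of_le h₂ (hB.card_eq hK).le, map_inv, inv_smul_smul]

end CfsgLib.Structure
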