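import Cfsg.Prelude.Def_HallClasses
import Cfsg.Agent.Lib.KnownSimple51.Pronormal

/-!
# Pronormality of Sylow overgroups in extensions
-/

set_option autoImplicit false

namespace CfsgLib.PronormalExt

open Subgroup

variable {G : Type*} [Group G]

theorem conjMap_mul (H : Subgroup G) (a b : G) :
    H.map (MulAut.conj (a * b)).toMonoidHom =
      (H.map (MulAut.conj b).toMonoidHom).map (MulAut.conj a).toMonoidHom := by
  rw [Subgroup.map_map]; congr 1; ext x; simp [mul_assoc]

theorem conjMap_one (H : Subgroup G) : H.map (MulAut.conj (1 : G)).toMonoidHom = H := by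
  convert H.map_id using 2; ext x; simp

theorem mem_conjMap {H : Subgroup G} {a x : G} :
    x ∈ H.map (MulAut.conj a).toMonoidHom ↔ a⁻¹ * x * a ∈ H := by
  constructor
  · rintro ⟨y, hy, rfl⟩; simpa [mul_assoc] using hy
  · exact fun h => ⟨_, h, by simp [mul_assoc]⟩

theorem conjMap_eq_iff {H : Subgroup G} {a : G} :
    H.map (MulAut.conj a).toMonoidHom = H ↔ a ∈ normalizer (H : Set G) := by
  rw [Subgroup.mem_normalizer_iff]
  constructor
  · intro h x
    constructor
    · intro hx; rw [← h]; exact ⟨x, hx, rfl⟩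
    · intro hx; rw [← h, mem_conjMap] at hx; simpa [mul_assoc] using hx
  · intro h; ext x; rw [mem_conjMap, h]; simp [mul_assoc]

theorem conjMap_hom {Q : Type*} [Group Q] (f : G →* Q) (H : Subgroup G) (a : G) :
    (H.map (MulAut.conj a).toMonoidHom).map f = (H.map f).map (MulAut.conj (f a)).toMonoidHom := by
  rw [Subgroup.map_map, Subgroup.map_map]; congr 1; ext x; simp

/-- Images of pronormal subgroups are pronormal. -/
theorem isPronormal_map {Q : Type*} [Group Q] {f : G →* Q} (hf : Function.Surjective f) {H : Subgroup G}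
    (hH : Cfsg.IsPronormal H) : Cfsg.IsPronormal (H.map f) := by
  intro q
  obtain ⟨g, rfl⟩ := hf q
  obtain ⟨x, hx, e⟩ := hH g
  refine ⟨f x, ?_, ?_⟩
  · rw [← conjMap_hom, ← Subgroup.map_sup]; exact mem_map_of_mem f hx
  · rw [← conjMap_hom, ← conjMap_hom, e]

/-- A subgroup whose image is pronormal and which contains the kernel is pronormal. -/
theorem isPronormal_comap {Q : Type*} [Group Q] {f : G →* Q} (hf : Function.Surjective f) {K : Subgroup Q}
    (hK : Cfsg.IsPronormal K) : Cfsg.IsPronormal (K.comap f) := by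
  intro g
  have key : ∀ a : G, (K.comap f).map (MulAut.conj a).toMonoidHom =
      (K.map (MulAut.conj (f a)).toMonoidHom).comap f := fun a => by
    ext x; simp only [mem_conjMap, mem_comap, map_mul, map_inv]
  obtain ⟨q, hq, e⟩ := hK (f g)
  have hq' : q ∈ (K.comap f ⊔ (K.comap f).map (MulAut.conj g).toMonoidHom).map f := by
    rwa [Subgroup.map_sup, conjMap_hom, Subgroup.map_comap_eq_self_of_surjective hf]
  obtain ⟨x, hx, rfl⟩ := hq'
  exact ⟨x, hx, by rw [key, key, e]⟩

theorem isPronormal_subgroupOf {H N : Subgroup G} (hHN : H ≤ N) (hH : Cfsg.IsPronormal H) :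
    Cfsg.IsPronormal (H.subgroupOf N) := by
  intro g
  have key : ∀ a : N, ((H.subgroupOf N).map (MulAut.conj a).toMonoidHom).map N.subtype =
      H.map (MulAut.conj (a : G)).toMonoidHom := fun a => by
    rw [conjMap_hom, map_subgroupOf_eq_of_le hHN]; rfl
  obtain ⟨x, hx, e⟩ := hH (g : G)
  rw [← key g] at hx
  have hx' : x ∈ (H.subgroupOf N ⊔ (H.subgroupOf N).map (MulAut.conj g).toMonoidHom).map N.subtype := by
    rw [Subgroup.map_sup, map_subgroupOf_eq_of_le hHN]; exact hx
  obtain ⟨y, hy, rfl⟩ := hx'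
  refine ⟨y, hy, Subgroup.map_injective N.subtype_injective ?_⟩
  rw [key, key]; exact e

variable [Finite G] {p : ℕ} [Fact p.Prime]

theorem exists_sylow_inf (A : Subgroup G) [A.Normal] (T : Subgroup G)
    (hT : ∃ P : Sylow p A, (P : Subgroup A).map A.subtype = T) :
    ∃ P₀ : Sylow p G, (P₀ : Subgroup G) ⊓ A = T ∧ (P₀ : Subgroup G) ≤ normalizer (T : Set G) := by
  obtain ⟨S, rfl⟩ := hT
  obtain ⟨P₀, hP⟩ := (S.2.map A.subtype).exists_le_sylow
  have e : (P₀ : Subgroup G).subgroupOf A = S :=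
    S.3 (P₀.2.comap_of_injective A.subtype A.subtype_injective) fun y hy => hP ⟨y, hy, rfl⟩
  have e' : (P₀ : Subgroup G) ⊓ A = (S : Subgroup A).map A.subtype := by
    rw [← e, subgroupOf_map_subtype]
  refine ⟨P₀, e', fun a ha => ?_⟩
  rw [← conjMap_eq_iff, ← e', Subgroup.map_inf _ _ _ (MulAut.conj a).injective,
    conjMap_eq_iff.mpr (le_normalizer ha), conjMap_eq_iff.mpr (le_normalizer_of_normal (Subgroup.mem_top a))]
where
  le_normalizer_of_normal {a : G} (_ : a ∈ (⊤ : Subgroup G)) : a ∈ normalizer (A : Set G) := by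
    rw [normalizer_eq_top A]; trivial

/-- The overgroup condition for `G` gives it for `N(T)/T`. -/
theorem quotient_of_group (A : Subgroup G) [A.Normal] (T : Subgroup G)
    (hT : ∃ P : Sylow p A, (P : Subgroup A).map A.subtype = T)
    [(T.subgroupOf (normalizer (T : Set G))).Normal]
    (hG : ∀ K : Subgroup G, (∃ P : Sylow p G, (P : Subgroup G) ≤ K) → Cfsg.IsPronormal K) :
    ∀ K : Subgroup (↥(normalizer (T : Set G)) ⧸ T.subgroupOf (normalizer (T : Set G))),
      (∃ P : Sylow p (↥(normalizer (T : Set G)) ⧸ T.subgroupOf (normalizer (T : Set G))),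
        (P : Subgroup (↥(normalizer (T : Set G)) ⧸ T.subgroupOf (normalizer (T : Set G)))) ≤ K) →
      Cfsg.IsPronormal K := by
  rintro K ⟨Q, hQ⟩
  obtain ⟨P₀, -, hPN⟩ := exists_sylow_inf A T hT
  set N := normalizer (T : Set G) with hN
  let f := QuotientGroup.mk' (T.subgroupOf N)
  have hf : Function.Surjective f := QuotientGroup.mk'_surjective _
  let K₀ := (K.comap f).map N.subtype
  have hi : ¬ p ∣ K₀.index := by
    rw [index_map_subtype, index_comap_of_surjective K hf]
    intro h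
    rcases (Fact.out : p.Prime).dvd_mul.mp h with h | h
    · exact Q.not_dvd_index (h.trans (index_dvd_of_le hQ))
    · exact P₀.not_dvd_index (h.trans (index_dvd_of_le hPN))
  have h1 := isPronormal_subgroupOf (map_subtype_le _)
    (hG K₀ (CfsgLib.KnownSimple51.Pronormal.exists_sylow_le_of_not_dvd_index hi))
  have h2 : K₀.subgroupOf N = K.comap f := by
    rw [subgroupOf, comap_map_eq_self_of_injective N.subtype_injective]
  rw [h2] at h1
  simpa [map_comap_eq_self_of_surjective hf] using isPronormal_map hf h1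

/-- The overgroup condition gives the normaliser condition. -/
theorem normalizer_of_group (A : Subgroup G) [A.Normal]
    (hG : ∀ K : Subgroup G, (∃ P : Sylow p G, (P : Subgroup G) ≤ K) → Cfsg.IsPronormal K)
    (K : Subgroup G) (hK : ∃ P : Sylow p G, (P : Subgroup G) ≤ K) :
    (normalizer (K : Set G)).map (QuotientGroup.mk' A) =
      normalizer ((K.map (QuotientGroup.mk' A) : Subgroup (G ⧸ A)) : Set (G ⧸ A)) := by
  set f := QuotientGroup.mk' A with hfd
  have hf : Function.Surjective f := QuotientGroup.mk'_surjective A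
  apply le_antisymm
  · rintro _ ⟨g, hg, rfl⟩
    rw [← conjMap_eq_iff, ← conjMap_hom, conjMap_eq_iff.mpr hg]
  · intro q hq
    obtain ⟨g, rfl⟩ := hf q
    rw [← conjMap_eq_iff, ← conjMap_hom] at hq
    obtain ⟨x, hx, e⟩ := hG K hK g
    have hxK : f x ∈ K.map f := by
      have := mem_map_of_mem f hx
      rwa [Subgroup.map_sup, hq, sup_idem] at this
    obtain ⟨k, hk, hkx⟩ := hxK
    have hn : k * x⁻¹ * g ∈ normalizer (K : Set G) := by
      rw [← conjMap_eq_iff, conjMap_mul, e, ← conjMap_mul, inv_mul_cancel_right,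
        conjMap_eq_iff.mpr (le_normalizer hk)]
    exact ⟨_, hn, by rw [map_mul, map_mul, hkx, map_inv, mul_inv_cancel, one_mul]⟩

/-- The converse. -/
theorem group_of_quotient (A : Subgroup G) [A.Normal] (T : Subgroup G)
    (hT : ∃ P : Sylow p A, (P : Subgroup A).map A.subtype = T)
    [(T.subgroupOf (normalizer (T : Set G))).Normal]
    (hA : ∀ K : Subgroup A, (∃ P : Sylow p A, (P : Subgroup A) ≤ K) → Cfsg.IsPronormal K)
    (hQ : ∀ K : Subgroup (G ⧸ A), (∃ P : Sylow p (G ⧸ A), (P : Subgroup (G ⧸ A)) ≤ K) → Cfsg.IsPronormal K)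
    (hi : ∀ K : Subgroup (↥(normalizer (T : Set G)) ⧸ T.subgroupOf (normalizer (T : Set G))),
      (∃ P : Sylow p (↥(normalizer (T : Set G)) ⧸ T.subgroupOf (normalizer (T : Set G))),
        (P : Subgroup (↥(normalizer (T : Set G)) ⧸ T.subgroupOf (normalizer (T : Set G)))) ≤ K) →
      Cfsg.IsPronormal K)
    (hii : ∀ K : Subgroup G, (∃ P : Sylow p G, (P : Subgroup G) ≤ K) →
      (normalizer (K : Set G)).map (QuotientGroup.mk' A) =
        normalizer ((K.map (QuotientGroup.mk' A) : Subgroup (G ⧸ A)) : Set (G ⧸ A))) :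
    ∀ K : Subgroup G, (∃ P : Sylow p G, (P : Subgroup G) ≤ K) → Cfsg.IsPronormal K := by
  obtain ⟨P₀, hPA, hPN⟩ := exists_sylow_inf A T hT
  suffices main : ∀ H : Subgroup G, (P₀ : Subgroup G) ≤ H → Cfsg.IsPronormal H by
    rintro K ⟨P, hP⟩
    obtain ⟨c, hc⟩ := MulAction.exists_smul_eq G P P₀
    have h1 : (P₀ : Subgroup G) ≤ K.map (MulAut.conj c).toMonoidHom := by
      rw [← hc]; exact Subgroup.map_mono hP
    have h2 := isPronormal_map (f := (MulAut.conj c⁻¹).toMonoidHom) (MulAut.conj c⁻¹).surjective (main _ h1)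
    rwa [← conjMap_mul, inv_mul_cancel, conjMap_one] at h2
  intro H hPH g
  set f := QuotientGroup.mk' A with hfd
  have hf : Function.Surjective f := QuotientGroup.mk'_surjective A
  have hTH : T ≤ H := hPA ▸ inf_le_left.trans hPH
  -- first reduce to the image
  obtain ⟨q, hq, eq⟩ := hQ (H.map f) ⟨P₀.mapSurjective hf, Subgroup.map_mono hPH⟩ (f g)
  rw [← conjMap_hom, ← Subgroup.map_sup] at hq
  obtain ⟨x, hx, rfl⟩ := hq
  set L := H ⊔ H.map (MulAut.conj g).toMonoidHom with hL
  have hxn : f (x⁻¹ * g) ∈ (normalizer (H : Set G)).map f := by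
    rw [hii H ⟨P₀, hPH⟩, ← conjMap_eq_iff, map_mul, conjMap_mul, eq, ← conjMap_mul, map_inv,
      inv_mul_cancel, conjMap_one]
  obtain ⟨n, hn, hfn⟩ := hxn
  set a := x⁻¹ * g * n⁻¹ with ha
  have haA : a ∈ A := by
    rw [← QuotientGroup.ker_mk' A, MonoidHom.mem_ker, ← hfd, map_mul, ← hfn, map_inv, mul_inv_cancel]
  have hg : H.map (MulAut.conj g).toMonoidHom = (H.map (MulAut.conj a).toMonoidHom).map (MulAut.conj x).toMonoidHom := by
    rw [← conjMap_mul, show x * a = g * n⁻¹ by rw [ha]; group, conjMap_mul,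
      conjMap_eq_iff.mpr (inv_mem hn)]
  have haL : H.map (MulAut.conj a).toMonoidHom ≤ L := by
    intro y hy
    have : x * y * x⁻¹ ∈ L := by
      apply le_sup_right (a := H)
      rw [hg]; exact ⟨y, hy, rfl⟩
    simpa [mul_assoc] using mul_mem (mul_mem (inv_mem hx) this) hx
  -- now inside `A`
  set HA := H ⊓ A with hHA
  have hTHA : T ≤ HA := le_inf hTH (hPA ▸ inf_le_right)
  obtain ⟨S, hS⟩ := hT
  have hAp : Cfsg.IsPronormal (HA.subgroupOf A) :=
    hA _ ⟨S, fun s hs => hTHA (hS ▸ ⟨s, hs, rfl⟩)⟩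
  obtain ⟨y, hy, ey⟩ := hAp ⟨a, haA⟩
  have key : ∀ b : A, ((HA.subgroupOf A).map (MulAut.conj b).toMonoidHom).map A.subtype =
      HA.map (MulAut.conj (b : G)).toMonoidHom := fun b => by
    rw [conjMap_hom, map_subgroupOf_eq_of_le inf_le_right]; rfl
  have hyL : (y : G) ∈ L := by
    have := mem_map_of_mem A.subtype hy
    rw [Subgroup.map_sup, key, map_subgroupOf_eq_of_le inf_le_right] at this
    exact (sup_le (inf_le_left.trans le_sup_left)
      ((Subgroup.map_mono inf_le_left).trans haL) : _ ≤ L) this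
  set b := (y : G)⁻¹ * a with hb
  have hbHA : HA.map (MulAut.conj b).toMonoidHom = HA := by
    rw [hb, conjMap_mul, ← key ⟨a, haA⟩, ey, key, ← conjMap_mul, inv_mul_cancel, conjMap_one]
  have hbA : b ∈ A := mul_mem (inv_mem y.2) haA
  have hbL : H.map (MulAut.conj b).toMonoidHom ≤ L := by
    rw [hb, conjMap_mul]
    rintro _ ⟨z, hz, rfl⟩
    exact mul_mem (mul_mem (inv_mem hyL) (haL hz)) (inv_mem (inv_mem hyL))
  -- Frattini inside `H ⊓ A`
  have hbT : T.map (MulAut.conj b).toMonoidHom ≤ HA := (Subgroup.map_mono hTHA).trans hbHA.le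
  have hP₀HA : ((P₀ : Subgroup G).subgroupOf H ⊓ A.subgroupOf H).map H.subtype = T := by
    rw [Subgroup.map_inf _ _ _ H.subtype_injective, map_subgroupOf_eq_of_le hPH, subgroupOf_map_subtype,
      ← hPA]
    exact le_antisymm (le_inf inf_le_left (inf_le_right.trans inf_le_left))
      (le_inf inf_le_left (le_inf inf_le_right (inf_le_left.trans hPH)))
  have conjT : ∀ T' : Subgroup G, T' ≤ HA → IsPGroup p T' → Nat.card T' = Nat.card T →
      ∃ h ∈ HA, T' = T.map (MulAut.conj h).toMonoidHom := by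
    intro T' hT' hp' hc'
    have hTp : IsPGroup p T := hPA ▸ P₀.2.to_le inf_le_left
    -- both are Sylow subgroups of `HA`
    have mk : ∀ U : Subgroup G, U ≤ HA → IsPGroup p U → Nat.card U = Nat.card T →
        ∃ R : Sylow p HA, (R : Subgroup HA).map HA.subtype = U := by
      intro U hU hpU hcU
      obtain ⟨R, hR⟩ := (hpU.comap_of_injective HA.subtype HA.subtype_injective).exists_le_sylow
      have hR' : U ≤ (R : Subgroup HA).map HA.subtype := fun u hu => ⟨⟨u, hU hu⟩, hR hu, rfl⟩
      refine ⟨R, (eq_of_le_of_card_ge hR' ?_).symm⟩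
      obtain ⟨W, hW⟩ := (R.2.map HA.subtype).exists_le_sylow
      obtain ⟨c, hc⟩ := MulAction.exists_smul_eq G P₀ W
      have hle : (R : Subgroup HA).map HA.subtype ≤ T.map (MulAut.conj c).toMonoidHom := by
        rw [← hPA, Subgroup.map_inf _ _ _ (MulAut.conj c).injective,
          conjMap_eq_iff.mpr (show c ∈ normalizer (A : Set G) by rw [normalizer_eq_top A]; trivial)]
        exact le_inf (hW.trans (by rw [← hc]; exact le_rfl)) ((map_subtype_le _).trans inf_le_right)
      calc Nat.card ((R : Subgroup HA).map HA.subtype) ≤ Nat.card (T.map (MulAut.conj c).toMonoidHom) :=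
            card_le_of_le hle
        _ = Nat.card U := by rw [card_map_of_injective (MulAut.conj c).injective, hcU]
    obtain ⟨R, rfl⟩ := mk T hTHA hTp rfl
    obtain ⟨R', rfl⟩ := mk T' hT' hp' hc'
    obtain ⟨h, rfl⟩ := MulAction.exists_smul_eq HA R R'
    exact ⟨h, h.2, by rw [Sylow.coe_subgroup_smul]; exact conjMap_hom HA.subtype _ h⟩
  have hTp : IsPGroup p T := hPA ▸ P₀.2.to_le inf_le_left
  obtain ⟨h, hh, eh⟩ := conjT _ hbT (hTp.map _) (card_map_of_injective (MulAut.conj b).injective)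
  set m := h⁻¹ * b with hm
  have hmT : T.map (MulAut.conj m).toMonoidHom = T := by
    rw [hm, conjMap_mul, eh, ← conjMap_mul, inv_mul_cancel, conjMap_one]
  have hmHA : HA.map (MulAut.conj m).toMonoidHom = HA := by
    rw [hm, conjMap_mul, hbHA, conjMap_eq_iff.mpr (le_normalizer (inv_mem hh))]
  have hmL : H.map (MulAut.conj m).toMonoidHom ≤ L := by
    rw [hm, conjMap_mul]
    rintro _ ⟨z, hz, rfl⟩
    exact mul_mem (mul_mem (inv_mem (le_sup_left (b := H.map _) hh.1)) (hbL hz))
      (inv_mem (inv_mem (le_sup_left (b := H.map _) hh.1)))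
  -- inside the normaliser of `T`
  set N := normalizer (T : Set G) with hN
  have hmN : m ∈ N := conjMap_eq_iff.mp hmT
  let π := QuotientGroup.mk' (T.subgroupOf N)
  have hπ : Function.Surjective π := QuotientGroup.mk'_surjective _
  have hHN : Cfsg.IsPronormal (H.subgroupOf N) := by
    have hidx : ¬ p ∣ ((H.subgroupOf N).map π).index := by
      intro hd
      have h1 := hd.trans (index_map_dvd (H.subgroupOf N) hπ)
      have h2 : (H.subgroupOf N).index ∣ (P₀ : Subgroup G).relIndex N :=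
        index_dvd_of_le (H := (P₀ : Subgroup G).subgroupOf N) fun z hz => hPH hz
      exact P₀.not_dvd_index ((h1.trans h2).trans (Dvd.intro _ (relIndex_mul_index hPN)))
    have := isPronormal_comap hπ (hi _ (CfsgLib.KnownSimple51.Pronormal.exists_sylow_le_of_not_dvd_index hidx))
    rwa [Subgroup.comap_map_eq_self (by rw [QuotientGroup.ker_mk']; exact fun z hz => hTH hz)] at this
  obtain ⟨z, hz, ez⟩ := hHN ⟨m, hmN⟩
  set HT := H ⊓ N with hHT
  have keyN : ∀ c : N, ((H.subgroupOf N).map (MulAut.conj c).toMonoidHom).map N.subtype =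
      HT.map (MulAut.conj (c : G)).toMonoidHom := fun c => by
    rw [conjMap_hom, subgroupOf_map_subtype]; rfl
  have hzmem := mem_map_of_mem N.subtype hz
  rw [Subgroup.map_sup, keyN, subgroupOf_map_subtype] at hzmem
  have hzL : (z : G) ∈ L := (sup_le (inf_le_left.trans le_sup_left)
    ((Subgroup.map_mono inf_le_left).trans hmL) : _ ≤ L) hzmem
  have hHTnorm : HT ≤ normalizer (HA : Set G) := by
    intro c hc
    rw [← conjMap_eq_iff, hHA, Subgroup.map_inf _ _ _ (MulAut.conj c).injective,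
      conjMap_eq_iff.mpr (le_normalizer hc.1),
      conjMap_eq_iff.mpr (show c ∈ normalizer (A : Set G) by rw [normalizer_eq_top A]; trivial)]
  have hmnorm : m ∈ normalizer (HA : Set G) := conjMap_eq_iff.mp hmHA
  have hznorm : (z : G) ∈ normalizer (HA : Set G) := by
    refine (sup_le hHTnorm ?_ : _ ≤ normalizer (HA : Set G)) hzmem
    rintro _ ⟨c, hc, rfl⟩
    exact mul_mem (mul_mem hmnorm (hHTnorm hc)) (inv_mem hmnorm)
  have hzHT : HT.map (MulAut.conj m).toMonoidHom = HT.map (MulAut.conj (z : G)).toMonoidHom := by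
    rw [← keyN ⟨m, hmN⟩, ez, keyN]
  have hgen : H = HA ⊔ HT := by
    refine le_antisymm (fun c hc => ?_) (sup_le inf_le_left inf_le_left)
    have h1 : T.map (MulAut.conj c).toMonoidHom ≤ HA := by
      rintro _ ⟨t, ht, rfl⟩
      exact Subgroup.mem_inf.mpr ⟨mul_mem (mul_mem hc (hTH ht)) (inv_mem hc), ‹A.Normal›.conj_mem t (hTHA ht).2 c⟩
    obtain ⟨k, hk, ek⟩ := conjT _ h1 (hTp.map _) (card_map_of_injective (MulAut.conj c).injective)
    have : k⁻¹ * c ∈ HT := by
      refine Subgroup.mem_inf.mpr ⟨mul_mem (inv_mem hk.1) hc, conjMap_eq_iff.mp ?_⟩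
      rw [conjMap_mul, ek, ← conjMap_mul, inv_mul_cancel, conjMap_one]
    have e2 : c = k * (k⁻¹ * c) := by group
    rw [e2]; exact mul_mem (mem_sup_left hk) (mem_sup_right this)
  have hzH : H.map (MulAut.conj m).toMonoidHom = H.map (MulAut.conj (z : G)).toMonoidHom := by
    rw [hgen, Subgroup.map_sup, Subgroup.map_sup, hmHA, conjMap_eq_iff.mpr hznorm, hzHT]
  refine ⟨x * ((y : G) * (h * (z : G))), mul_mem hx (mul_mem hyL (mul_mem (le_sup_left (b := H.map _) hh.1) hzL)), ?_⟩
  rw [hg, conjMap_mul H x, conjMap_mul H (y : G), conjMap_mul H h, ← hzH, ← conjMap_mul H h,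
    show h * m = b by rw [hm]; group, ← conjMap_mul H (y : G), show (y : G) * b = a by rw [hb]; group]

/-- When the Sylow subgroups of `G ⧸ A` are self-normalising the quotient conditions are automatic. -/
theorem quotient_conditions_of_self_normalizing (A : Subgroup G) [A.Normal]
    (hQ : ∀ P : Sylow p (G ⧸ A), normalizer ((P : Subgroup (G ⧸ A)) : Set (G ⧸ A)) = P) :
    (∀ K : Subgroup (G ⧸ A), (∃ P : Sylow p (G ⧸ A), (P : Subgroup (G ⧸ A)) ≤ K) → Cfsg.IsPronormal K) ∧
      ∀ K : Subgroup G, (∃ P : Sylow p G, (P : Subgroup G) ≤ K) →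
        (normalizer (K : Set G)).map (QuotientGroup.mk' A) =
          normalizer ((K.map (QuotientGroup.mk' A) : Subgroup (G ⧸ A)) : Set (G ⧸ A)) := by
  refine ⟨fun K ⟨P, hP⟩ => CfsgLib.KnownSimple51.Pronormal.isPronormal_of_normalizer_le P hP ((hQ P).le.trans hP),
    fun K ⟨P, hP⟩ => ?_⟩
  set f := QuotientGroup.mk' A with hfd
  have hf : Function.Surjective f := QuotientGroup.mk'_surjective A
  apply le_antisymm
  · rintro _ ⟨g, hg, rfl⟩
    rw [← conjMap_eq_iff, ← conjMap_hom, conjMap_eq_iff.mpr hg]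
  · refine le_trans ?_ (Subgroup.map_mono le_normalizer)
    intro q hq
    let R := P.mapSurjective hf
    have hRK : (R : Subgroup (G ⧸ A)) ≤ K.map f := Subgroup.map_mono hP
    have hqR : ((q • R : Sylow p (G ⧸ A)) : Subgroup (G ⧸ A)) ≤ K.map f := by
      rw [← conjMap_eq_iff.mpr hq]
      exact Subgroup.map_mono hRK
    obtain ⟨k, hk⟩ := MulAction.exists_smul_eq (K.map f) (R.subtype hRK) ((q • R).subtype hqR)
    have hfix : (k : G ⧸ A) • R = q • R := by
      apply Sylow.subtype_injective (N := K.map f) (hP := ?_) (hQ := hqR)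
      · rw [← hk, Sylow.smul_subtype]; rfl
    have : (k : G ⧸ A)⁻¹ * q ∈ normalizer ((R : Subgroup (G ⧸ A)) : Set (G ⧸ A)) := by
      refine Sylow.smul_eq_iff_mem_normalizer.mp ?_
      rw [mul_smul, ← hfix, inv_smul_smul]
    rw [hQ R] at this
    have e2 : q = (k : G ⧸ A) * ((k : G ⧸ A)⁻¹ * q) := by group
    rw [e2]
    exact mul_mem k.2 (hRK this)

end CfsgLib.PronormalExt
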