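import Cfsg.Agent.Lib.Structure.ClassGraph

/-!
The prime graph on class sizes of `p`-singular elements, when `p` does not divide the order of the
center.
-/

set_option autoImplicit false
set_option linter.style.haveILetI false

open scoped Pointwise

namespace CfsgLib.SingularClassGraph

open Subgroup CfsgLib.ClassGraph

variable {G : Type*} [Group G] [Finite G]

/-- Subgroups of coprime index permute to the whole group. -/
theorem exists_mul {A B : Subgroup G} (h : A.index.Coprime B.index) (g : G) :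
    ∃ a ∈ A, ∃ b ∈ B, g = a * b := by
  classical
  have h1 : (A ⊓ B).index = A.index * B.index := le_antisymm index_inf_le
    (Nat.le_of_dvd (Nat.pos_of_ne_zero index_ne_zero_of_finite)
      (h.mul_dvd_of_dvd_of_dvd (index_dvd_of_le inf_le_left) (index_dvd_of_le inf_le_right)))
  have h2 := relIndex_mul_index (inf_le_left : A ⊓ B ≤ A)
  rw [inf_relIndex_left, h1, mul_comm] at h2
  have h3 : B.relIndex A = B.index :=
    Nat.eq_of_mul_eq_mul_left (Nat.pos_of_ne_zero index_ne_zero_of_finite) h2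
  let f : A ⧸ B.subgroupOf A → G ⧸ B := fun q => ((q.out : A) : G)
  have hf : Function.Injective f := by
    intro q₁ q₂ e
    rw [← QuotientGroup.out_eq' q₁, ← QuotientGroup.out_eq' q₂]
    exact QuotientGroup.eq.2 (mem_subgroupOf.2 (QuotientGroup.eq.1 e))
  obtain ⟨q, hq⟩ := ((Nat.bijective_iff_injective_and_card f).2 ⟨hf, h3⟩).2 (g : G ⧸ B)
  exact ⟨_, (q.out).2, ((q.out : A) : G)⁻¹ * g, QuotientGroup.eq.1 hq, by group⟩

/-- The `p`-part and the `p'`-part of an element. -/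
theorem exists_split (p : ℕ) (hp : p.Prime) (g : G) : ∃ a b : G, g = a * b ∧ Commute a b ∧
    (∃ k, orderOf a = p ^ k) ∧ ¬ p ∣ orderOf b := by
  obtain ⟨k, r, hpr, hkr⟩ := Nat.exists_eq_pow_mul_and_not_dvd (orderOf_pos g).ne' p hp.ne_one
  have hr0 : r ≠ 0 := fun e => hpr (e ▸ dvd_zero p)
  have hcop : (p ^ k).Coprime r := ((hp.coprime_iff_not_dvd).mpr hpr).pow_left k
  refine ⟨(g ^ r) ^ Nat.gcdB (p ^ k) r, (g ^ (p ^ k)) ^ Nat.gcdA (p ^ k) r, ?_, ?_, ?_, ?_⟩
  · rw [← zpow_natCast g, ← zpow_natCast g, ← zpow_mul, ← zpow_mul, ← zpow_add, add_comm,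
      ← Nat.gcd_eq_gcd_ab, Nat.Coprime.gcd_eq_one hcop]
    simp
  · exact ((Commute.refl g).pow_pow _ _).zpow_zpow _ _
  · have h : orderOf ((g ^ r) ^ Nat.gcdB (p ^ k) r) ∣ p ^ k := by
      refine orderOf_dvd_of_pow_eq_one ?_
      rw [← zpow_natCast, ← zpow_mul, mul_comm, zpow_mul, zpow_natCast, ← pow_mul, mul_comm r, ← hkr,
        pow_orderOf_eq_one, one_zpow]
    obtain ⟨l, -, hl⟩ := (Nat.dvd_prime_pow hp).1 h
    exact ⟨l, hl⟩
  · intro hd
    refine hpr (hd.trans (orderOf_dvd_of_pow_eq_one ?_))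
    rw [← zpow_natCast, ← zpow_mul, mul_comm, zpow_mul, zpow_natCast, ← pow_mul, ← hkr,
      pow_orderOf_eq_one, one_zpow]

variable {p : ℕ} [hp : Fact p.Prime]

/-- Some element of order divisible by `p` has class size divisible by `r * s`. -/
def Adj (G : Type*) [Group G] (p r s : ℕ) : Prop := ∃ x : G, p ∣ orderOf x ∧ r * s ∣ idx x

omit [Finite G] hp in
theorem Adj.symm {r s : ℕ} (h : Adj G p r s) : Adj G p s r := by
  obtain ⟨x, hx, h⟩ := h
  exact ⟨x, hx, by rwa [mul_comm]⟩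

omit [Finite G] hp in
theorem adj_of_dvd {r s : ℕ} (hr : r.Prime) (hs : s.Prime) (hne : r ≠ s) {x : G} (hx : p ∣ orderOf x)
    (h1 : r ∣ idx x) (h2 : s ∣ idx x) : Adj G p r s :=
  ⟨x, hx, ((Nat.coprime_primes hr hs).mpr hne).mul_dvd_of_dvd_of_dvd h1 h2⟩

/-- Two elements whose class sizes share no prime and are not linked. -/
def Sep (p : ℕ) (z w : G) : Prop :=
  ∀ t u : ℕ, t.Prime → u.Prime → t ∣ idx z → u ∣ idx w →
    t ≠ u ∧ ∀ x : G, p ∣ orderOf x → ¬ (t ∣ idx x ∧ u ∣ idx x)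

omit [Finite G] hp in
theorem Sep.symm {z w : G} (h : Sep p z w) : Sep p w z := fun t u ht hu h1 h2 =>
  ⟨Ne.symm (h u t hu ht h2 h1).1, fun x hx h3 => (h u t hu ht h2 h1).2 x hx ⟨h3.2, h3.1⟩⟩

/-- Separation is impossible when `p` divides one of the class sizes. -/
theorem false_of_dvd (hZ : ¬ p ∣ Nat.card (center G)) {z w : G} (hz : orderOf z = p)
    (hw : orderOf w = p) (hzw : Commute z w) (hwc : w ∉ center G) (hsep : Sep p z w)
    (hpz : p ∣ idx z) : False := by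
  classical
  obtain ⟨u, hu, hud⟩ := Nat.exists_prime_and_dvd (mt idx_eq_one_iff.1 hwc)
  have hpw : ¬ p ∣ idx w := fun h => (hsep p p hp.out hp.out hpz h).1 rfl
  set H := centralizer ({w} : Set G) with hH
  have hzH : z ∈ H := mem_cent.2 hzw.eq
  -- `p'`-elements of `C(w)` centralize one of its Sylow `p`-subgroups
  have hrel : ∀ x ∈ H, ¬ p ∣ orderOf x → ¬ p ∣ (centralizer ({x} : Set G) ⊓ H).index := by
    intro x hx hxp hd
    have hcomm : Commute w x := (mem_cent.1 hx).symm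
    have hcop : (orderOf w).Coprime (orderOf x) := by
      rw [hw]; exact hp.out.coprime_iff_not_dvd.2 hxp
    have hdvd := (idx_dvd_mul hcomm hcop).1
    have hle : centralizer ({w * x} : Set G) ≤ centralizer ({x} : Set G) ⊓ H := by
      intro c hc
      have hc' : Commute c (w * x) := mem_cent.1 hc
      obtain ⟨k, hk⟩ := exists_pow_eq_self_of_coprime hcop.symm
      have hw' : (w * x) ^ (orderOf x * k) = w := by
        rw [hcomm.mul_pow, pow_mul x, pow_orderOf_eq_one, one_pow, mul_one, pow_mul]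
        exact hk
      have h1 : Commute c w := hw' ▸ hc'.pow_right _
      refine ⟨mem_cent.2 ?_, mem_cent.2 h1.eq⟩
      have h2 : Commute c (w⁻¹ * (w * x)) := h1.inv_right.mul_right hc'
      rw [inv_mul_cancel_left] at h2
      exact h2.eq
    refine (hsep p u hp.out hu hpz hud).2 (w * x) ?_ ⟨hd.trans (index_dvd_of_le hle), hud.trans hdvd⟩
    rw [hcomm.orderOf_mul_eq_mul_orderOf_of_coprime hcop, hw]
    exact dvd_mul_right p _
  -- a Sylow subgroup of `G` inside `C(w)` containing `z`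
  obtain ⟨P, hPH, hzP⟩ : ∃ P : Sylow p G, (P : Subgroup G) ≤ H ∧ z ∈ (P : Subgroup G) := by
    have hzp : IsPGroup p (zpowers (⟨z, hzH⟩ : H)) :=
      IsPGroup.of_card (n := 1) (by rw [Nat.card_zpowers, Subgroup.orderOf_mk, hz, pow_one])
    obtain ⟨R, hR⟩ := hzp.exists_le_sylow
    have hidx : ¬ p ∣ ((R : Subgroup H).map H.subtype).index := by
      rw [index_map_subtype]
      exact hp.out.not_dvd_mul R.not_dvd_index hpw
    refine ⟨IsPGroup.toSylow (R.isPGroup'.map H.subtype) hidx, ?_, ?_⟩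
    · exact map_subtype_le _
    · exact ⟨⟨z, hzH⟩, hR (mem_zpowers _), rfl⟩
  have hPw : ∀ a ∈ (P : Subgroup G), a * w = w * a := fun a ha => mem_cent.1 (hPH ha)
  -- `C(w)` normalizes `P`
  have hcent : ∀ x ∈ H, ¬ p ∣ orderOf x → ∀ a ∈ H, Commute a x → ∀ k, orderOf a = p ^ k →
      ∃ h ∈ H, ∀ y ∈ (P : Subgroup G), Commute (h * y * h⁻¹) x ∧
        h⁻¹ * a * h ∈ (P : Subgroup G) := by
    intro x hxH hxp a haH hax k hk
    set K := centralizer ({x} : Set G) ⊓ H with hK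
    have haK : a ∈ K := ⟨mem_cent.2 hax.eq, haH⟩
    obtain ⟨R, hR⟩ := (IsPGroup.of_card (n := k) (by rw [Nat.card_zpowers, Subgroup.orderOf_mk, hk]) :
      IsPGroup p (zpowers (⟨a, haK⟩ : K))).exists_le_sylow
    let R' : Sylow p G := IsPGroup.toSylow (R.isPGroup'.map K.subtype) (by
      rw [index_map_subtype]
      exact hp.out.not_dvd_mul R.not_dvd_index (hrel x hxH hxp))
    have hR'H : (R' : Subgroup G) ≤ H := (map_subtype_le _).trans inf_le_right
    obtain ⟨h, hh⟩ := MulAction.exists_smul_eq H (P.subtype hPH) (R'.subtype hR'H)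
    have hmem : ∀ b : G, b ∈ (P : Subgroup G) → (h : G) * b * (h : G)⁻¹ ∈ (R' : Subgroup G) := by
      intro b hb
      have h1 : h * ⟨b, hPH hb⟩ * h⁻¹ ∈ ((R'.subtype hR'H : Sylow p H) : Subgroup H) := by
        rw [← hh, Sylow.coe_subgroup_smul]
        exact ⟨⟨b, hPH hb⟩, hb, rfl⟩
      exact h1
    refine ⟨h, h.2, fun y hy => ⟨mem_cent.1 ((map_subtype_le _ (hmem y hy)).1), ?_⟩⟩
    have h1 : (⟨a, haH⟩ : H) ∈ ((R'.subtype hR'H : Sylow p H) : Subgroup H) :=
      ⟨⟨a, haK⟩, hR (mem_zpowers _), rfl⟩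
    rw [← hh, Sylow.coe_subgroup_smul] at h1
    obtain ⟨b, hb, hbe⟩ := h1
    have hbe' : (h : G) * b * (h : G)⁻¹ = a := congrArg Subtype.val hbe
    rw [show (h : G)⁻¹ * a * h = b by rw [← hbe']; group]
    exact hb
  have hHN : H ≤ normalizer ((P : Subgroup G) : Set G) := by
    set D := H ⊓ ((P : Subgroup G) ⊔ centralizer ((P : Subgroup G) : Set G)) with hD
    have hDN : D ≤ normalizer ((P : Subgroup G) : Set G) :=
      inf_le_right.trans (sup_le Subgroup.le_normalizer (centralizer_le_normalizer _))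
    refine le_trans ?_ hDN
    by_contra hle
    obtain ⟨g, hg, hno⟩ := CfsgLib.PrimRecog.exists_not_conj_mem hle
    obtain ⟨a, b, rfl, hab, ⟨k, hk⟩, hb⟩ := exists_split p hp.out g
    have hga : a ∈ H ∧ b ∈ H := by
      obtain ⟨l, hl⟩ := exists_pow_eq_self_of_coprime (x := a)
        (n := orderOf b) (by rw [hk]; exact ((hp.out.coprime_iff_not_dvd).2 hb).symm.pow_right k)
      have hae : (a * b) ^ (orderOf b * l) = a := by
        rw [hab.mul_pow, pow_mul b, pow_orderOf_eq_one, one_pow, mul_one, pow_mul]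
        exact hl
      have haH : a ∈ H := hae ▸ H.pow_mem hg _
      exact ⟨haH, by simpa using H.mul_mem (H.inv_mem haH) hg⟩
    obtain ⟨h, hhH, hh⟩ := hcent b hga.2 hb a hga.1 hab k hk
    refine hno h hhH ⟨H.mul_mem (H.mul_mem (H.inv_mem hhH) hg) hhH, ?_⟩
    rw [show h⁻¹ * (a * b) * h = (h⁻¹ * a * h) * (h⁻¹ * b * h) by group]
    refine mul_mem (mem_sup_left (hh 1 (one_mem _)).2) (mem_sup_right (mem_centralizer_iff.2 fun y hy => ?_))
    calc y * (h⁻¹ * b * h) = h⁻¹ * ((h * y * h⁻¹) * b) * h := by group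
      _ = h⁻¹ * (b * (h * y * h⁻¹)) * h := by rw [(hh y hy).1.eq]
      _ = _ := by group
  have hcomm' : ∀ x ∈ H, ¬ p ∣ orderOf x → ∀ y ∈ (P : Subgroup G), Commute y x := by
    intro x hx hxp y hy
    obtain ⟨h, hhH, hh⟩ := hcent x hx hxp 1 (one_mem _) (Commute.one_left x) 0 (by simp)
    have hy' := (mem_normalizer_iff.1 (inv_mem (hHN hhH)) y).1 hy
    have := (hh _ hy').1
    rwa [show h * (h⁻¹ * y * h⁻¹⁻¹) * h⁻¹ = y by group] at this
  have hord : ∀ y ∈ (P : Subgroup G), y ≠ 1 → p ∣ orderOf y := by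
    intro y hy hy1
    obtain ⟨k, hk⟩ := IsPGroup.iff_orderOf.mp P.isPGroup' ⟨y, hy⟩
    rw [Subgroup.orderOf_mk] at hk
    rw [hk]
    refine dvd_pow_self p fun e => hy1 (orderOf_eq_one_iff.1 ?_)
    rw [hk, e, pow_zero]
  -- class sizes in `P` divisible by `p` are powers of `p`
  have hpow : ∀ y ∈ (P : Subgroup G), p ∣ idx y → ∀ t : ℕ, t.Prime → t ∣ idx y → t = p := by
    intro y hy hpy t ht htd
    by_contra htp
    haveI := Fact.mk ht
    have hy1 : y ≠ 1 := fun e => by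
      rw [e, idx_eq_one_iff.2 (one_mem _)] at hpy
      exact hp.out.not_dvd_one hpy
    have htw : ¬ t ∣ idx w := fun h =>
      (hsep p t hp.out ht hpz h).2 y (hord y hy hy1) ⟨hpy, htd⟩
    obtain ⟨T, hT⟩ := CfsgLib.KnownSimple51.Pronormal.exists_sylow_le_of_not_dvd_index (H := H) htw
    have hTy : (T : Subgroup G) ≤ centralizer ({y} : Set G) := by
      intro x hx
      obtain ⟨k, hk⟩ := IsPGroup.iff_orderOf.mp T.isPGroup' ⟨x, hx⟩
      rw [Subgroup.orderOf_mk] at hk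
      refine mem_cent.2 (hcomm' x (hT hx) ?_ y hy).symm.eq
      rw [hk]
      exact fun h => htp ((Nat.prime_dvd_prime_iff_eq hp.out ht).1 (hp.out.dvd_of_dvd_pow h)).symm
    exact T.not_dvd_index (htd.trans (index_dvd_of_le hTy))
  have hfac : ∀ y ∈ (P : Subgroup G), p ∣ idx y → ∀ g : G, ∃ a ∈ (P : Subgroup G),
      ∃ c ∈ centralizer ({y} : Set G), g = a * c := by
    intro y hy hpy g
    refine exists_mul (Nat.coprime_of_dvd fun t ht h1 h2 => ?_) g
    exact P.not_dvd_index ((hpow y hy hpy t ht h2) ▸ h1)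
  set Q := (P : Subgroup G).normalCore with hQ
  have hQmem : ∀ y ∈ (P : Subgroup G), p ∣ idx y → y ∈ Q := by
    intro y hy hpy g
    obtain ⟨a, ha, c, hc, rfl⟩ := hfac y hy hpy g
    have : a * c * y * (a * c)⁻¹ = a * y * a⁻¹ := by
      rw [mul_assoc a c y, mem_cent.1 hc]
      group
    rw [this]
    exact mul_mem (mul_mem ha hy) (inv_mem ha)
  -- `P` is normal
  have hPQ : (P : Subgroup G) ≤ Q := by
    by_contra hle
    obtain ⟨d, hdP, hdQ⟩ := SetLike.not_le_iff_exists.1 hle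
    have hout : ∀ y ∈ (P : Subgroup G), y ∉ Q → Commute y z := by
      intro y hy hyQ
      obtain ⟨P', hP'⟩ := CfsgLib.KnownSimple51.Pronormal.exists_sylow_le_of_not_dvd_index
        (H := centralizer ({y} : Set G)) (fun h => hyQ (hQmem y hy h))
      obtain ⟨g, rfl⟩ := MulAction.exists_smul_eq G P P'
      have hzQ : z ∈ ((g • P : Sylow p G) : Subgroup G) := by
        rw [Sylow.coe_subgroup_smul, Subgroup.mem_pointwise_smul_iff_inv_smul_mem]
        have h := hQmem z hzP hpz g⁻¹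
        simpa using h
      exact (show Commute z y from mem_cent.1 (hP' hzQ)).symm
    have hall : (P : Subgroup G) ≤ centralizer ({z} : Set G) := by
      intro y hy
      refine mem_cent.2 (?_ : Commute y z).eq
      by_cases hyQ : y ∈ Q
      · have h1 : Commute (y * d) z := hout _ (mul_mem hy hdP) fun h =>
          hdQ ((Q.mul_mem_cancel_left hyQ).1 h)
        simpa using h1.mul_left (hout d hdP hdQ).inv_left
      · exact hout y hy hyQ
    exact P.not_dvd_index (hpz.trans (index_dvd_of_le hall))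
  haveI hPn : (P : Subgroup G).Normal := by
    rw [show (P : Subgroup G) = Q from le_antisymm hPQ (normalCore_le _)]
    infer_instance
  have hPc : ∀ y ∈ (P : Subgroup G), ¬ p ∣ idx y → ∀ a ∈ (P : Subgroup G), Commute a y := by
    intro y hy hpy a ha
    obtain ⟨P', hP'⟩ := CfsgLib.KnownSimple51.Pronormal.exists_sylow_le_of_not_dvd_index
      (H := centralizer ({y} : Set G)) hpy
    haveI := P.unique_of_normal hPn
    exact mem_cent.1 (hP' (Subsingleton.elim P P' ▸ ha))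
  haveI := Fact.mk hu
  have hup : u ≠ p := fun e => hpw (e ▸ hud)
  obtain ⟨U⟩ := (inferInstance : Nonempty (Sylow u G))
  set C := centralizer ((U : Subgroup G) : Set G) ⊓ (P : Subgroup G) with hC
  set Zp := centralizer ((P : Subgroup G) : Set G) ⊓ (P : Subgroup G) with hZp
  haveI : Zp.Normal := Subgroup.normal_inf_normal _ _
  -- a conjugate in `P` of every element is centralized by `U` modulo `Z(P)`
  have hmove : ∀ y ∈ (P : Subgroup G), p ∣ idx y → ∃ q ∈ (P : Subgroup G), q⁻¹ * y * q ∈ C := by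
    intro y hy hpy
    obtain ⟨U', hU'⟩ := CfsgLib.KnownSimple51.Pronormal.exists_sylow_le_of_not_dvd_index
      (H := centralizer ({y} : Set G)) (p := u) fun h => hup (hpow y hy hpy u hu h)
    obtain ⟨g, rfl⟩ := MulAction.exists_smul_eq G U U'
    obtain ⟨a, ha, c, hc, hge⟩ := hfac y hy hpy g⁻¹
    refine ⟨a⁻¹, inv_mem ha, mem_centralizer_iff.2 fun x hx => ?_,
      (P : Subgroup G).mul_mem ((P : Subgroup G).mul_mem ((P : Subgroup G).inv_mem ((P : Subgroup G).inv_mem ha)) hy)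
        ((P : Subgroup G).inv_mem ha)⟩
    have hx' : g * x * g⁻¹ ∈ centralizer ({y} : Set G) := by
      refine hU' ?_
      rw [Sylow.coe_subgroup_smul]
      exact ⟨x, hx, rfl⟩
    have h1 : Commute (g * x * g⁻¹) y := mem_cent.1 hx'
    have h2 : Commute (g⁻¹ * (g * x * g⁻¹) * g) (g⁻¹ * y * g) := by
      simpa using h1.map (MulAut.conj g⁻¹)
    have h3 : g⁻¹ * y * g = a⁻¹⁻¹ * y * a⁻¹ := by
      rw [show g = (g⁻¹)⁻¹ from (inv_inv g).symm, hge, inv_inv, mul_assoc a c y, mem_cent.1 hc]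
      group
    rw [h3, show g⁻¹ * (g * x * g⁻¹) * g = x by group] at h2
    exact h2.eq
  have hPD : (P : Subgroup G) ≤ C ⊔ Zp := by
    by_contra hle
    obtain ⟨y, hy, hno⟩ := CfsgLib.PrimRecog.exists_not_conj_mem hle
    by_cases hpy : p ∣ idx y
    · obtain ⟨q, hq, hqy⟩ := hmove y hy hpy
      exact hno q hq (mem_sup_left hqy)
    · refine hno 1 (one_mem _) (mem_sup_right ?_)
      rw [inv_one, one_mul, mul_one]
      refine ⟨mem_centralizer_iff.2 fun a ha => ?_, hy⟩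
      exact (hPc y hy hpy a ha).eq
  have hin : ∀ y ∈ (P : Subgroup G), p ∣ idx y → y ∈ C := by
    intro y hy hpy
    obtain ⟨q, hq, hqy⟩ := hmove y hy hpy
    obtain ⟨c, hc, ζ, hζ, he⟩ := mem_sup_of_normal_right.1 (hPD hy)
    obtain ⟨c', hc', ζ', hζ', he'⟩ := mem_sup_of_normal_right.1 (hPD hq)
    have hζc : ∀ a ∈ (P : Subgroup G), a * ζ = ζ * a := fun a ha => mem_centralizer_iff.1 hζ.1 a ha
    have hζ'c : ∀ a ∈ (P : Subgroup G), a * ζ' = ζ' * a := fun a ha => mem_centralizer_iff.1 hζ'.1 a ha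
    have hcalc : q⁻¹ * y * q = c'⁻¹ * c * c' * ζ := by
      have h1 : (c'⁻¹ * y * c') * ζ' = ζ' * (c'⁻¹ * y * c') :=
        hζ'c _ (mul_mem (mul_mem (inv_mem hc'.2) hy) hc'.2)
      calc q⁻¹ * y * q = ζ'⁻¹ * ((c'⁻¹ * y * c') * ζ') := by rw [← he']; group
        _ = c'⁻¹ * (c * ζ) * c' := by rw [h1, ← he]; group
        _ = c'⁻¹ * c * (ζ * c') := by group
        _ = c'⁻¹ * c * c' * ζ := by rw [← hζc c' hc'.2]; group
    have hζC : ζ ∈ C := by
      have h1 : (c'⁻¹ * c * c')⁻¹ * (q⁻¹ * y * q) ∈ C :=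
        mul_mem (inv_mem (mul_mem (mul_mem (inv_mem hc') hc) hc')) hqy
      rwa [hcalc, inv_mul_cancel_left] at h1
    exact he ▸ mul_mem hc hζC
  have hwP : w ∈ (P : Subgroup G) := by
    obtain ⟨R, hR⟩ := (IsPGroup.of_card (n := 1) (by rw [Nat.card_zpowers, hw, pow_one]) :
      IsPGroup p (zpowers w)).exists_le_sylow
    haveI := P.unique_of_normal hPn
    exact Subsingleton.elim R P ▸ hR (mem_zpowers w)
  have hzwP : z * w ∈ (P : Subgroup G) := mul_mem hzP hwP
  have hpzw : p ∣ idx (z * w) := by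
    by_contra h
    refine P.not_dvd_index (hpz.trans (index_dvd_of_le fun a ha => mem_cent.2 ?_))
    have h1 := (hPc _ hzwP h a ha).mul_right (show Commute a w⁻¹ from (show Commute a w from hPw a ha).inv_right)
    rw [mul_inv_cancel_right] at h1
    exact h1.eq
  have hwC : w ∈ C := by
    simpa using mul_mem (inv_mem (hin z hzP hpz)) (hin _ hzwP hpzw)
  exact U.not_dvd_index (hud.trans (index_dvd_of_le fun x hx =>
    mem_cent.2 (mem_centralizer_iff.1 hwC.1 x hx)))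


/-- If the class size of the product has no new primes, `p` divides the class size of the factor. -/
theorem dvd_of_mul {z w : G} (hw : orderOf w = p) (hzw : Commute z w) (hwc : w ∉ center G)
    (hco : (idx z).Coprime (idx w)) (hco' : (idx (z * w)).Coprime (idx w)) : p ∣ idx z := by
  classical
  have hle : centralizer ({z} : Set G) ⊓ centralizer ({w} : Set G) =
      centralizer ({z * w} : Set G) ⊓ centralizer ({w} : Set G) := by
    refine le_antisymm (le_inf (fun c hc => mem_cent_mul hc.1 hc.2) inf_le_right) (le_inf ?_ inf_le_right)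
    intro c hc
    have h1 : Commute c (z * w) := mem_cent.1 hc.1
    have h2 := h1.mul_right (show Commute c w from mem_cent.1 hc.2).inv_right
    rw [mul_inv_cancel_right] at h2
    exact mem_cent.2 h2.eq
  have hidx : ∀ (A B : Subgroup G), A.index.Coprime B.index → (A ⊓ B).index = A.index * B.index :=
    fun A B h => le_antisymm index_inf_le (Nat.le_of_dvd (Nat.pos_of_ne_zero index_ne_zero_of_finite)
      (h.mul_dvd_of_dvd_of_dvd (index_dvd_of_le inf_le_left) (index_dvd_of_le inf_le_right)))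
  have heq : idx (z * w) = idx z := by
    have h1 := hidx _ _ hco
    rw [hle, hidx _ _ hco'] at h1
    exact Nat.eq_of_mul_eq_mul_right (Nat.pos_of_ne_zero (idx_ne_zero w)) h1
  -- commuting with all conjugates
  have hpair : ∀ x : G, (idx x).Coprime (idx w) → ∀ g h : G, ∃ k : G,
      k * x * k⁻¹ = g * x * g⁻¹ ∧ k * w * k⁻¹ = h * w * h⁻¹ := by
    intro x hx g h
    obtain ⟨a, ha, b, hb, he⟩ := exists_mul hx (g⁻¹ * h)
    refine ⟨g * a, ?_, ?_⟩
    · calc g * a * x * (g * a)⁻¹ = g * (a * x) * a⁻¹ * g⁻¹ := by group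
        _ = g * x * g⁻¹ := by rw [mem_cent.1 ha]; group
    · have e : h = g * a * b := by rw [mul_assoc, ← he]; group
      calc g * a * w * (g * a)⁻¹ = g * a * (w * b) * b⁻¹ * (g * a)⁻¹ := by group
        _ = h * w * h⁻¹ := by rw [← mem_cent.1 hb, e]; group
  have hcomm : ∀ x : G, (idx x).Coprime (idx w) → Commute x w → ∀ g h : G,
      Commute (g * x * g⁻¹) (h * w * h⁻¹) := by
    intro x hx hxw g h
    obtain ⟨k, h1, h2⟩ := hpair x hx g h
    rw [← h1, ← h2]
    exact hxw.map (MulAut.conj k)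
  have hww : ∀ g h : G, Commute (g * w * g⁻¹) (h * w * h⁻¹) := by
    intro g h
    have h1 := (hcomm z hco hzw g h).inv_left.mul_left
      (hcomm (z * w) hco' (hzw.mul_left (Commute.refl w)) g h)
    rwa [show (g * z * g⁻¹)⁻¹ * (g * (z * w) * g⁻¹) = g * w * g⁻¹ by group] at h1
  have hcard : ∀ x : G, Nat.card {b : G | ∃ g, g * x * g⁻¹ = b} = idx x := by
    intro x
    let f : G ⧸ centralizer ({x} : Set G) → {b : G | ∃ g, g * x * g⁻¹ = b} :=
      fun q => ⟨q.out * x * q.out⁻¹, q.out, rfl⟩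
    refine (Nat.card_eq_of_bijective f ⟨fun q₁ q₂ e => ?_, ?_⟩).symm
    · rw [← QuotientGroup.out_eq' q₁, ← QuotientGroup.out_eq' q₂]
      have e' : q₁.out * x * q₁.out⁻¹ = q₂.out * x * q₂.out⁻¹ := congrArg Subtype.val e
      refine QuotientGroup.eq.2 (mem_cent.2 ?_)
      calc q₁.out⁻¹ * q₂.out * x = q₁.out⁻¹ * (q₂.out * x * q₂.out⁻¹) * q₂.out := by group
        _ = x * (q₁.out⁻¹ * q₂.out) := by rw [← e']; group
    · rintro ⟨_, g, rfl⟩
      obtain ⟨c, hc⟩ := QuotientGroup.mk_out_eq_mul (centralizer ({x} : Set G)) g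
      refine ⟨(g : G ⧸ centralizer ({x} : Set G)), Subtype.ext ?_⟩
      show (g : G ⧸ centralizer ({x} : Set G)).out * x * _ = _
      rw [hc, mul_assoc g, mem_cent.1 c.2]
      group
  set A := {b : G | ∃ g, g * z * g⁻¹ = b} with hA
  set B := {b : G | ∃ g, g * (z * w) * g⁻¹ = b} with hB
  -- multiplication by a conjugate of `w` identifies the two classes
  have hbij : ∀ h : G, Function.Bijective
      (fun a : A => (⟨(a : G) * (h * w * h⁻¹), by
        obtain ⟨g, hg⟩ := a.2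
        obtain ⟨k, h1, h2⟩ := hpair z hco g h
        exact ⟨k, by rw [← hg, ← h1, ← h2]; group⟩⟩ : B)) := by
    intro h
    refine (Nat.bijective_iff_injective_and_card _).2 ⟨fun a b e => ?_, ?_⟩
    · exact Subtype.ext (mul_right_cancel (congrArg Subtype.val e))
    · rw [hcard, hcard, heq]
  obtain ⟨g, hg⟩ : ∃ g : G, g * w * g⁻¹ ≠ w := by
    by_contra! h
    exact hwc (mem_center_iff.2 fun g => mul_inv_eq_iff_eq_mul.1 (h g))
  set m := g * w * g⁻¹ * w⁻¹ with hm
  have hwg : Commute (g * w * g⁻¹) w := by simpa using hww g 1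
  have hmp : orderOf m = p := by
    refine orderOf_eq_prime ?_ fun e => hg (mul_inv_eq_one.1 e)
    rw [hm, hwg.inv_right.mul_pow, inv_pow, conj_pow, ← hw, pow_orderOf_eq_one]
    group
  have hstep : ∀ a ∈ A, a * m ∈ A := by
    intro a ha
    obtain ⟨a', ha'⟩ := (hbij 1).2 ⟨a * (g * w * g⁻¹), ((fun a : A => (⟨(a : G) * (g * w * g⁻¹), by
      obtain ⟨c, hc⟩ := a.2
      obtain ⟨k, h1, h2⟩ := hpair z hco c g
      exact ⟨k, by rw [← hc, ← h1, ← h2]; group⟩⟩ : B)) ⟨a, ha⟩).2⟩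
    have e : (a' : G) * (1 * w * 1⁻¹) = a * (g * w * g⁻¹) := congrArg Subtype.val ha'
    have : a * m = (a' : G) := by
      rw [hm, ← mul_assoc, ← e]
      group
    exact this ▸ a'.2
  have hinv : ∀ a ∈ A, ∀ c ∈ zpowers m, a * c ∈ A := by
    intro a ha c hc
    rw [← (isOfFinOrder_of_finite m).mem_powers_iff_mem_zpowers] at hc
    obtain ⟨n, rfl⟩ := hc
    induction n with
    | zero => simpa using ha
    | succ n ih =>
      show a * m ^ (n + 1) ∈ A
      rw [pow_succ, ← mul_assoc]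
      exact hstep _ ih
  have hpre : (QuotientGroup.mk : G → G ⧸ zpowers m) ⁻¹' (QuotientGroup.mk '' A) = A := by
    refine Set.Subset.antisymm ?_ (Set.subset_preimage_image _ _)
    rintro x ⟨a, ha, hax⟩
    have h1 := hinv a ha _ (QuotientGroup.eq.1 hax)
    rwa [mul_inv_cancel_left] at h1
  have h1 := Nat.card_congr (QuotientGroup.preimageMkEquivSubgroupProdSet (zpowers m)
    (QuotientGroup.mk '' A))
  rw [hpre, hcard, Nat.card_prod, Nat.card_zpowers, hmp] at h1
  exact h1 ▸ dvd_mul_right p _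

/-- Two commuting elements of order `p` are never separated. -/
theorem not_sep (hZ : ¬ p ∣ Nat.card (center G)) {z w : G} (hz : orderOf z = p)
    (hw : orderOf w = p) (hzw : Commute z w) : ¬ Sep p z w := by
  intro hsep
  have hnc : ∀ x : G, orderOf x = p → x ∉ center G := fun x hx hxc => hZ (by
    have h := orderOf_dvd_natCard (⟨x, hxc⟩ : center G)
    rwa [Subgroup.orderOf_mk, hx] at h)
  by_cases hzp : p ∣ idx z
  · exact false_of_dvd hZ hz hw hzw (hnc w hw) hsep hzp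
  by_cases hwp : p ∣ idx w
  · exact false_of_dvd hZ hw hz hzw.symm (hnc z hz) hsep.symm hwp
  have hco : (idx z).Coprime (idx w) :=
    Nat.coprime_of_dvd fun t ht h1 h2 => (hsep t t ht ht h1 h2).1 rfl
  rcases eq_or_ne (z * w) 1 with h1 | h1
  · obtain ⟨u, hu, hud⟩ := Nat.exists_prime_and_dvd (mt idx_eq_one_iff.1 (hnc w hw))
    refine (hsep u u hu hu ?_ hud).1 rfl
    rw [show z = w⁻¹ from eq_inv_of_mul_eq_one_left h1]
    refine hud.trans (index_dvd_of_le fun c hc => ?_)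
    rw [mem_cent] at hc ⊢
    exact (inv_inv w ▸ (show Commute c w⁻¹ from hc).inv_right : Commute c w).eq
  have hop : p ∣ orderOf (z * w) := by
    refine (orderOf_eq_prime ?_ h1).symm.dvd
    rw [hzw.mul_pow]
    conv_lhs => arg 1; rw [← hz, pow_orderOf_eq_one]
    rw [one_mul, ← hw, pow_orderOf_eq_one]
  have hdvd : idx (z * w) ∣ idx z * idx w := by
    refine (index_dvd_of_le fun c hc => mem_cent_mul hc.1 hc.2 :
      idx (z * w) ∣ (centralizer ({z} : Set G) ⊓ centralizer ({w} : Set G)).index).trans ?_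
    exact (le_antisymm index_inf_le (Nat.le_of_dvd (Nat.pos_of_ne_zero index_ne_zero_of_finite)
      (hco.mul_dvd_of_dvd_of_dvd (index_dvd_of_le inf_le_left) (index_dvd_of_le inf_le_right)))).dvd
  by_cases hb : (idx (z * w)).Coprime (idx w)
  · exact hzp (dvd_of_mul hw hzw (hnc w hw) hco hb)
  · obtain ⟨u, hu, hu1, hu2⟩ := Nat.Prime.not_coprime_iff_dvd.1 hb
    refine hwp (dvd_of_mul hz hzw.symm (hnc z hz) hco.symm ?_)
    rw [← hzw.eq]
    exact Nat.coprime_of_dvd fun t ht h2 h3 => (hsep t u ht hu h3 hu2).2 _ hop ⟨h2, hu1⟩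

/-- Any two vertices have distance at most three. -/
theorem distance_le_three (hZ : ¬ p ∣ Nat.card (center G)) {r s : ℕ}
    (hr : r.Prime ∧ ∃ x : G, p ∣ orderOf x ∧ r ∣ idx x)
    (hs : s.Prime ∧ ∃ x : G, p ∣ orderOf x ∧ s ∣ idx x) (hrs : r ≠ s) :
    Adj G p r s ∨
      (∃ t : ℕ, (t.Prime ∧ ∃ x : G, p ∣ orderOf x ∧ t ∣ idx x) ∧ t ≠ r ∧ t ≠ s ∧
        Adj G p r t ∧ Adj G p t s) ∨
      (∃ t u : ℕ, (t.Prime ∧ ∃ x : G, p ∣ orderOf x ∧ t ∣ idx x) ∧
        (u.Prime ∧ ∃ x : G, p ∣ orderOf x ∧ u ∣ idx x) ∧ t ≠ r ∧ u ≠ s ∧ t ≠ u ∧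
        Adj G p r t ∧ Adj G p t u ∧ Adj G p u s) := by
  classical
  obtain ⟨hrp, g₁, hg₁, hr1⟩ := hr
  obtain ⟨hsp, g₂, hg₂, hs2⟩ := hs
  have hpow : ∀ g : G, p ∣ orderOf g → ∃ x : G, orderOf x = p ∧ idx x ∣ idx g := by
    intro g hg
    obtain ⟨k, hk⟩ := hg
    have hk0 : k ≠ 0 := fun e => (orderOf_pos g).ne' (by rw [hk, e, mul_zero])
    exact ⟨g ^ k, by
      rw [orderOf_pow' g hk0, hk, Nat.gcd_eq_right (dvd_mul_left k p),
        Nat.mul_div_cancel p (Nat.pos_of_ne_zero hk0)], idx_pow_dvd g k⟩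
  obtain ⟨z₁, hz₁, hd₁⟩ := hpow g₁ hg₁
  obtain ⟨z₂, hz₂, hd₂⟩ := hpow g₂ hg₂
  have hrel : ∃ t u : ℕ, t.Prime ∧ u.Prime ∧ t ∣ idx z₁ ∧ u ∣ idx z₂ ∧ (t = u ∨ Adj G p t u) := by
    have hnot : ∀ z w : G, ¬ Sep p z w →
        ∃ t u : ℕ, t.Prime ∧ u.Prime ∧ t ∣ idx z ∧ u ∣ idx w ∧ (t = u ∨ Adj G p t u) := by
      intro z w h
      simp only [Sep, not_forall] at h
      obtain ⟨t, u, ht, hu, h1, h2, h⟩ := h
      refine ⟨t, u, ht, hu, h1, h2, ?_⟩
      by_cases e : t = u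
      · exact Or.inl e
      · rw [not_and] at h
        simp only [not_forall, not_not] at h
        obtain ⟨x, hx, hxt, hxu⟩ := h e
        exact Or.inr (adj_of_dvd ht hu e hx hxt hxu)
    have hconj : ∀ a b : G, orderOf a = p → orderOf b = p → ¬ p ∣ idx b →
        ∃ h : G, Commute a (h * b * h⁻¹) := by
      intro a b ha hb hpb
      obtain ⟨P, hP⟩ := CfsgLib.KnownSimple51.Pronormal.exists_sylow_le_of_not_dvd_index
        (H := centralizer ({b} : Set G)) hpb
      obtain ⟨R, hR⟩ := (IsPGroup.of_card (n := 1) (by rw [Nat.card_zpowers, ha, pow_one]) :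
        IsPGroup p (zpowers a)).exists_le_sylow
      obtain ⟨h, rfl⟩ := MulAction.exists_smul_eq G P R
      have h1 := hR (mem_zpowers a)
      rw [Sylow.coe_subgroup_smul] at h1
      obtain ⟨c, hc, rfl⟩ := h1
      exact ⟨h, (show Commute c b from mem_cent.1 (hP hc)).map (MulAut.conj h)⟩
    by_cases h2 : p ∣ idx z₂
    · by_cases h1 : p ∣ idx z₁
      · exact ⟨p, p, hp.out, hp.out, h1, h2, Or.inl rfl⟩
      · obtain ⟨h, hh⟩ := hconj z₂ z₁ hz₂ hz₁ h1
        obtain ⟨t, u, ht, hu, ht1, hu2, he⟩ := hnot _ z₂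
          (not_sep hZ (by rw [← hz₁]; exact (MulAut.conj h).orderOf_eq z₁) hz₂ hh.symm)
        exact ⟨t, u, ht, hu, idx_conj h z₁ ▸ ht1, hu2, he⟩
    · obtain ⟨h, hh⟩ := hconj z₁ z₂ hz₁ hz₂ h2
      obtain ⟨t, u, ht, hu, ht1, hu2, he⟩ := hnot z₁ _
        (not_sep hZ hz₁ (by rw [← hz₂]; exact (MulAut.conj h).orderOf_eq z₂) hh)
      exact ⟨t, u, ht, hu, ht1, idx_conj h z₂ ▸ hu2, he⟩
  obtain ⟨t, u, ht, hu, ht1, hu2, he⟩ := hrel
  have hvt : t.Prime ∧ ∃ x : G, p ∣ orderOf x ∧ t ∣ idx x := ⟨ht, g₁, hg₁, ht1.trans hd₁⟩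
  have hvu : u.Prime ∧ ∃ x : G, p ∣ orderOf x ∧ u ∣ idx x := ⟨hu, g₂, hg₂, hu2.trans hd₂⟩
  have e1 : t ≠ r → Adj G p r t := fun h => adj_of_dvd hrp ht (Ne.symm h) hg₁ hr1 (ht1.trans hd₁)
  have e2 : u ≠ s → Adj G p u s := fun h => adj_of_dvd hu hsp h hg₂ (hu2.trans hd₂) hs2
  by_cases hts : t = s
  · exact Or.inl (hts ▸ e1 (hts ▸ Ne.symm hrs))
  by_cases hur : u = r
  · exact Or.inl (hur ▸ e2 (hur ▸ hrs))
  by_cases htr : t = r
  · have hru : Adj G p r u := htr ▸ he.resolve_left (fun e => hur (e ▸ htr))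
    by_cases hus : u = s
    · exact Or.inl (hus ▸ hru)
    · exact Or.inr (Or.inl ⟨u, hvu, hur, hus, hru, e2 hus⟩)
  by_cases htu : t = u
  · exact Or.inr (Or.inl ⟨t, hvt, htr, hts, e1 htr, htu ▸ e2 (htu ▸ hts)⟩)
  have hadj := he.resolve_left htu
  by_cases hus : u = s
  · exact Or.inr (Or.inl ⟨t, hvt, htr, hts, e1 htr, hus ▸ hadj⟩)
  · exact Or.inr (Or.inr ⟨t, u, hvt, hvu, htr, hus, htu, e1 htr, hadj, e2 hus⟩)

end CfsgLib.SingularClassGraph
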