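import Mathlib
import Cfsg.Prelude.Def_Local
import Cfsg.Prelude.Def_Balance
import Cfsg.Agent.Lib.Tech46.CoprimeGen

/-!
If the signalizer functor `a ↦ C_K(a)` has a solvable completion then `K` is solvable.
-/

set_option autoImplicit false
set_option linter.style.haveILetI false

namespace CfsgLib.Structure

open Subgroup

variable {X : Type*} [Group X] [Finite X] {p : ℕ} [Fact p.Prime]

/-- The map `a ↦ C_K(a)` is a solvable signalizer functor. -/
theorem fixedPoints_isSolvableSignalizerFunctor (A K : Subgroup X) (hA : IsMulCommutative A)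
    (hK : (Nat.card K).Coprime p) (hAK : A ≤ Subgroup.normalizer (K : Set X))
    (hC : ∀ a ∈ A, a ≠ 1 → Group.IsSolvable ((K ⊓ Subgroup.centralizer ({a} : Set X) : Subgroup X))) :
    Cfsg.IsSolvableSignalizerFunctor p A (fun a => K ⊓ Subgroup.centralizer {a}) := by
  refine ⟨⟨fun a _ _ => inf_le_right, fun a _ _ hd => ?_, fun a ha _ b hb x hx => ⟨?_, ?_⟩,
    fun a _ _ b _ _ => le_inf (inf_le_left.trans inf_le_left) inf_le_right⟩, hC⟩
  · have hd' : p ∣ Nat.card K := hd.trans (Subgroup.card_dvd_of_le inf_le_left)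
    exact (Fact.out : p.Prime).ne_one (Nat.eq_one_of_dvd_coprimes hK hd' dvd_rfl)
  · exact ((Subgroup.mem_normalizer_iff.1 (hAK hb)) x).1 hx.1
  · haveI := hA
    have hab : a * b = b * a := congrArg Subtype.val (mul_comm' (⟨a, ha⟩ : A) ⟨b, hb⟩)
    have hxa : x * a = a * x := Subgroup.mem_centralizer_singleton_iff.1 hx.2
    refine Subgroup.mem_centralizer_singleton_iff.2 ?_
    have hbia : b⁻¹ * a = a * b⁻¹ := ((show Commute a b from hab).inv_right).eq.symm
    calc b * x * b⁻¹ * a = b * x * (b⁻¹ * a) := by group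
      _ = b * (x * a) * b⁻¹ := by rw [hbia]; group
      _ = b * a * (x * b⁻¹) := by rw [hxa]; group
      _ = a * b * (x * b⁻¹) := by rw [hab]
      _ = a * (b * x * b⁻¹) := by group

/-- A solvable completion of `a ↦ C_K(a)` contains `K`, so `K` is solvable. -/
theorem solvable_of_fixedPoints_completion (A K W : Subgroup X) (hA : Cfsg.IsElementaryAbelian p A)
    (hA2 : p ^ 2 ≤ Nat.card A)
    (hK : (Nat.card K).Coprime p) (hAK : A ≤ Subgroup.normalizer (K : Set X))
    (hW : Group.IsSolvable W)
    (hcomp : ∀ a ∈ A, a ≠ 1 → K ⊓ Subgroup.centralizer ({a} : Set X) ≤ W) :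
    Group.IsSolvable K := by
  have hp : p.Prime := Fact.out
  have hKp : ¬ p ∣ Nat.card K := fun h => hp.ne_one (Nat.eq_one_of_dvd_coprimes hK h dvd_rfl)
  have hle : K ≤ W := by
    refine CfsgLib.Tech46.le_of_centralizers_corank_one hA K W hKp hAK ?_
    intro B' hB' hcard
    have hne : B' ≠ ⊥ := by
      rintro rfl
      rw [Subgroup.card_bot, mul_one] at hcard
      have := hp.two_le
      nlinarith [hA2, hcard]
    obtain ⟨a, ha, ha1⟩ := B'.bot_or_exists_ne_one.resolve_left hne
    refine le_trans (inf_le_inf_left _ (Subgroup.centralizer_le ?_)) (hcomp a (hB' ha) ha1)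
    simpa using ha
  haveI := hW
  exact solvable_of_solvable_injective (Subgroup.inclusion_injective hle)

end CfsgLib.Structure
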