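import Mathlib

/-!
Groups generated by few transpositions leave small sets invariant; a nontrivial normal subgroup
of a symmetric group is transitive.
-/

set_option autoImplicit false
set_option linter.style.haveILetI false

namespace CfsgLib.SwapGenerated

variable {α : Type*} [Fintype α] [DecidableEq α]

/-- Every point lies in an invariant set of at most `m + 1` points, for `m` transpositions. -/
theorem exists_invariant_finset {m : ℕ} (t : Fin m → Equiv.Perm α) (ht : ∀ i, (t i).IsSwap) (a : α) :
    ∃ A : Finset α, a ∈ A ∧ A.card ≤ m + 1 ∧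
      ∀ g ∈ Subgroup.closure (Set.range t), ∀ x, g x ∈ A ↔ x ∈ A := by
  classical
  let S : Set (Finset α) :=
    {A | a ∈ A ∧ A.card ≤ (Finset.univ.filter fun i => (t i).support ⊆ A).card + 1}
  obtain ⟨A, hA⟩ := Set.Finite.exists_maximal (Set.toFinite S)
    ⟨{a}, Finset.mem_singleton_self a, by simp⟩
  obtain ⟨haA, hAcard⟩ := hA.1
  refine ⟨A, haA, hAcard.trans (Nat.add_le_add_right ((Finset.card_filter_le _ _).trans (by simp)) 1), ?_⟩
  have hgen : ∀ i x, t i x ∈ A ↔ x ∈ A := by
    intro i
    obtain ⟨u, v, huv, hti⟩ := ht i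
    have hiff : u ∈ A ↔ v ∈ A := by
      have key : ∀ u v : α, u ≠ v → t i = Equiv.swap u v → u ∈ A → v ∈ A := by
        intro u v huv hti hu
        by_contra hv
        have hsupp : (t i).support = {u, v} := by rw [hti, Equiv.Perm.support_swap huv]
        have hins : insert v A ∈ S := by
          refine ⟨Finset.mem_insert_of_mem haA, ?_⟩
          rw [Finset.card_insert_of_notMem hv]
          refine Nat.add_le_add_right (hAcard.trans (Nat.succ_le_of_lt (Finset.card_lt_card ?_))) 1
          rw [Finset.ssubset_iff_of_subset]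
          · refine ⟨i, Finset.mem_filter.2 ⟨Finset.mem_univ i, ?_⟩, fun hi => hv ?_⟩
            · rw [hsupp]
              intro x hx
              rcases Finset.mem_insert.1 hx with rfl | hx
              · exact Finset.mem_insert_of_mem hu
              · rw [Finset.mem_singleton] at hx; subst hx; exact Finset.mem_insert_self _ _
            · exact (Finset.mem_filter.1 hi).2 (by rw [hsupp]; simp)
          · intro j hj
            rw [Finset.mem_filter] at hj ⊢
            exact ⟨hj.1, hj.2.trans (Finset.subset_insert _ _)⟩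
        exact hv (hA.2 hins (Finset.subset_insert _ _) (Finset.mem_insert_self _ _))
      exact ⟨key u v huv hti, key v u huv.symm (by rw [hti, Equiv.swap_comm])⟩
    intro x
    rw [hti]
    by_cases h1 : x = u
    · subst h1; simpa using hiff.symm
    by_cases h2 : x = v
    · subst h2; simpa using hiff
    rw [Equiv.swap_apply_of_ne_of_ne h1 h2]
  intro g hg
  induction hg using Subgroup.closure_induction with
  | mem y hy => obtain ⟨i, rfl⟩ := hy; exact hgen i
  | one => intro x; simp
  | mul y z _ _ hy hz => intro x; rw [Equiv.Perm.mul_apply, hy, hz]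
  | inv y _ hy => intro x; rw [← hy (y⁻¹ x), Equiv.Perm.coe_inv, Equiv.apply_symm_apply]

/-- A nontrivial normal subgroup of a symmetric group is transitive. -/
theorem exists_apply_eq (N : Subgroup (Equiv.Perm α)) [hN : N.Normal] (hne : N ≠ ⊥) (c d : α) :
    ∃ g ∈ N, g c = d := by
  obtain ⟨⟨n, hn⟩, hne1⟩ := Subgroup.ne_bot_iff_exists_ne_one.1 hne
  have hn1 : n ≠ 1 := fun h => hne1 (Subtype.ext h)
  obtain ⟨a, ha⟩ := not_forall.1 fun h => hn1 (Equiv.ext h)
  by_cases hcd : c = d
  · exact ⟨1, one_mem N, by simp [hcd]⟩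
  obtain ⟨σ, hσa, hσb⟩ : ∃ σ : Equiv.Perm α, σ a = c ∧ σ (n a) = d := by
    refine ⟨Equiv.swap (Equiv.swap a c (n a)) d * Equiv.swap a c, ?_, by simp⟩
    have h1 : Equiv.swap a c (n a) ≠ c := by
      intro h
      exact ha ((Equiv.swap a c).injective (h.trans (Equiv.swap_apply_left a c).symm))
    rw [Equiv.Perm.mul_apply, Equiv.swap_apply_left, Equiv.swap_apply_of_ne_of_ne h1.symm hcd]
  refine ⟨σ * n * σ⁻¹, hN.conj_mem n hn σ, ?_⟩
  rw [Equiv.Perm.mul_apply, Equiv.Perm.mul_apply, ← hσa, Equiv.Perm.inv_eq_iff_eq.2 rfl, hσb]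

theorem card_dvd_card (N : Subgroup (Equiv.Perm α)) [N.Normal] (hne : N ≠ ⊥) [Nonempty α] :
    Fintype.card α ∣ Nat.card N := by
  obtain ⟨a⟩ := ‹Nonempty α›
  haveI : MulAction.IsPretransitive N α :=
    ⟨fun c d => by obtain ⟨g, hg, h⟩ := exists_apply_eq N hne c d; exact ⟨⟨g, hg⟩, h⟩⟩
  have h := Nat.card_congr (MulAction.orbitEquivQuotientStabilizer N a)
  rw [← Subgroup.index_eq_card, MulAction.orbit_eq_univ, Nat.card_coe_set_eq, Set.ncard_univ,
    Nat.card_eq_fintype_card] at h
  rw [h]
  exact Subgroup.index_dvd_card _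

end CfsgLib.SwapGenerated
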