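import Mathlib
import Cfsg.Prelude.Def_CaseTheorems
import Cfsg.Agent.Lib.Coprime.Commutator
import Cfsg.Agent.Lib.PGroup.Class2
import Cfsg.Agent.Lib.PGroup.Critical
import Cfsg.Agent.Lib.Structure.Subnormal
import Cfsg.Agent.Lib.Structure.TwoGroupSquares

/-! Odd-order automorphisms of 2-groups of rank two: critical subgroup, elements of order at most four. -/

set_option autoImplicit false

namespace CfsgLib.Structure

open Subgroup CfsgLib.Coprime CfsgLib.PGroup
open scoped commutatorElement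

variable {X : Type*} [Group X] [Finite X]

/-- A critical subgroup of a `p`-subgroup, inside the ambient group. -/
theorem exists_critical_in {p : ℕ} [Fact p.Prime] (P : Subgroup X) (hP : IsPGroup p P) :
    ∃ H : Subgroup X, H ≤ P ∧ Subgroup.normalizer (P : Set X) ≤ Subgroup.normalizer (H : Set X) ∧
      (∀ x ∈ H, ∀ y ∈ H, ⁅x, y⁆ ∈ H ⊓ Subgroup.centralizer (H : Set X)) ∧
      (∀ x ∈ H, x ^ p ∈ H ⊓ Subgroup.centralizer (H : Set X)) ∧
      (∀ Q : Subgroup X, Q ≤ Subgroup.normalizer (P : Set X) → (Nat.card Q).Coprime p →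
        Q ≤ Subgroup.centralizer (H : Set X) → Q ≤ Subgroup.centralizer (P : Set X)) := by
  obtain ⟨H, hHc, hHC, hHcomm, hHpow⟩ := exists_critical hP
  haveI := hHc
  have hzmem : ∀ z ∈ H ⊓ Subgroup.centralizer (H : Set P),
      (z : X) ∈ H.map P.subtype ⊓ Subgroup.centralizer ((H.map P.subtype : Subgroup X) : Set X) := by
    rintro z ⟨hz, hzc⟩
    refine ⟨⟨z, hz, rfl⟩, Subgroup.mem_centralizer_iff.mpr ?_⟩
    rintro _ ⟨y, hy, rfl⟩
    exact congrArg Subtype.val (Subgroup.mem_centralizer_iff.mp hzc y hy)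
  refine ⟨H.map P.subtype, Subgroup.map_subtype_le H, normalizer_le_normalizer_map_subtype P H, ?_, ?_, ?_⟩
  · rintro _ ⟨x, hx, rfl⟩ _ ⟨y, hy, rfl⟩
    have := hzmem _ (hHcomm x y hy)
    simpa [commutatorElement_def] using this
  · rintro _ ⟨x, hx, rfl⟩
    simpa using hzmem _ (hHpow x hx)
  · intro Q hQP hQ hQH
    haveI : Group.IsSolvable P := by
      haveI := hP.isNilpotent
      infer_instance
    set K := H.map P.subtype with hK
    have hcop : (Nat.card Q).Coprime (Nat.card P) := by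
      obtain ⟨n, hn⟩ := hP.exists_card_eq
      rw [hn]; exact hQ.pow_right _
    have hGK : ⁅K, P⁆ ≤ K := by
      refine Subgroup.commutator_le.mpr fun x hx g hg => ?_
      obtain ⟨h, hh, rfl⟩ := hx
      have := (hHcomm ⟨g, hg⟩ h hh).1
      rw [← commutatorElement_inv]
      exact Subgroup.inv_mem _ ⟨_, this, rfl⟩
    have h1 : ⁅⁅K, P⁆, Q⁆ = ⊥ := Subgroup.commutator_eq_bot_iff_le_centralizer.mpr
      (hGK.trans (Subgroup.le_centralizer_iff.mp hQH))
    have h2 : ⁅⁅Q, K⁆, P⁆ = ⊥ := by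
      rw [Subgroup.commutator_eq_bot_iff_le_centralizer.mpr hQH, Subgroup.commutator_bot_left]
    have h3 : ⁅⁅P, Q⁆, K⁆ = ⊥ := Subgroup.commutator_commutator_eq_bot_of_rotate h2 h1
    have h4 : ⁅P, Q⁆ ≤ K := by
      intro x hx
      have hxP : x ∈ P := commutator_le_of_normalizes hQP hx
      refine ⟨⟨x, hxP⟩, hHC ?_, rfl⟩
      rw [Subgroup.mem_centralizer_iff]
      intro z hz
      exact Subtype.ext (Subgroup.mem_centralizer_iff.mp
        (Subgroup.commutator_eq_bot_iff_le_centralizer.mp h3 hx) _ ⟨z, hz, rfl⟩)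
    have h5 : ⁅⁅P, Q⁆, Q⁆ = ⊥ := Subgroup.commutator_eq_bot_iff_le_centralizer.mpr
      (h4.trans (Subgroup.le_centralizer_iff.mp hQH))
    have h6 := commutator_eq_bot_of_commutator_commutator_eq_bot Q P hQP hcop (Or.inr inferInstance) h5
    exact Subgroup.le_centralizer_iff.mp (Subgroup.commutator_eq_bot_iff_le_centralizer.mp h6)

/-- In a 2-group of class two with central squares, an element of odd order fixing all elements of
order at most four fixes everything. -/
theorem centralizes_of_fixes_four (H : Subgroup X) (hH : IsPGroup 2 H)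
    (hcomm : ∀ x ∈ H, ∀ y ∈ H, ⁅x, y⁆ ∈ H ⊓ Subgroup.centralizer (H : Set X))
    (hsq : ∀ x ∈ H, x ^ 2 ∈ H ⊓ Subgroup.centralizer (H : Set X))
    (x : X) (hx : x ∈ Subgroup.normalizer (H : Set X)) (hodd : Odd (orderOf x))
    (hfix : ∀ h ∈ H, h ^ 4 = 1 → x * h * x⁻¹ = h) : ∀ h ∈ H, x * h * x⁻¹ = h := by
  suffices ∀ k, ∀ h ∈ H, h ^ 2 ^ k = 1 → x * h * x⁻¹ = h by
    intro h hh
    obtain ⟨k, hk⟩ := hH ⟨h, hh⟩
    exact this k h hh (congrArg Subtype.val hk)
  intro k
  induction k with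
  | zero =>
    intro h _ h1
    rw [pow_zero, pow_one] at h1
    rw [h1]; group
  | succ k ih =>
    intro h hh hk
    set u := h⁻¹ * (x * h * x⁻¹) with hu
    have hxh : x * h * x⁻¹ ∈ H := (Subgroup.mem_normalizer_iff.mp hx h).mp hh
    have huH : u ∈ H := H.mul_mem (H.inv_mem hh) hxh
    have h2fix : x * h ^ 2 * x⁻¹ = h ^ 2 :=
      ih _ (H.pow_mem hh 2) (by rw [← pow_mul, ← pow_succ']; exact hk)
    have hcu : ∀ y ∈ H, Commute ⁅u, h⁆ y := fun y hy =>
      (Subgroup.mem_centralizer_iff.mp (hcomm u huH h hh).2 y hy).symm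
    have hc2 : ⁅u, h⁆ ^ 2 = 1 := by
      have e1 : Commute u (h ^ 2) := (Subgroup.mem_centralizer_iff.mp (hsq h hh).2 u huH)
      have e2 : ⁅u, h ^ 2⁆ = ⁅u, h⁆ * (h * ⁅u, h⁆ * h⁻¹) := by simp only [commutatorElement_def, sq]; group
      rw [commutatorElement_eq_one_iff_mul_comm.mpr e1, ← (hcu h hh).eq, mul_inv_cancel_right, ← sq] at e2
      exact e2.symm
    have h4 : u ^ 4 = 1 := by
      have e1 : (h * u) ^ 2 = h ^ 2 := by
        rw [hu, mul_inv_cancel_left, conj_pow, h2fix]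
      have e2 : (h * u) ^ 2 = h ^ 2 * (h⁻¹ * ⁅u, h⁆ * h) * u ^ 2 := by
        simp only [commutatorElement_def, sq]; group
      rw [mul_assoc h⁻¹, (hcu h hh).eq, inv_mul_cancel_left, e1] at e2
      have e3 : u ^ 2 = ⁅u, h⁆⁻¹ := by
        rw [eq_inv_iff_mul_eq_one]
        have : ⁅u, h⁆ * u ^ 2 = 1 := by
          apply mul_left_cancel (a := h ^ 2)
          rw [mul_one, ← mul_assoc]; exact e2.symm
        rw [← this]; exact ((hcu (u ^ 2) (H.pow_mem huH 2)).eq).symm
      rw [show (4 : ℕ) = 2 * 2 by rfl, pow_mul, e3, inv_pow, hc2, inv_one]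
    have hufix := hfix u huH h4
    have hiter : ∀ n : ℕ, x ^ n * h * (x ^ n)⁻¹ = h * u ^ n := by
      intro n
      induction n with
      | zero => simp
      | succ n ihn =>
        have e : x ^ (n + 1) * h * (x ^ (n + 1))⁻¹ = x * (x ^ n * h * (x ^ n)⁻¹) * x⁻¹ := by
          rw [pow_succ']; group
        rw [e, ihn, show x * (h * u ^ n) * x⁻¹ = (x * h * x⁻¹) * (x * u * x⁻¹) ^ n by rw [conj_pow]; group,
          hufix, pow_succ', ← mul_assoc, hu, mul_inv_cancel_left]
    have h1 := hiter (orderOf x)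
    rw [pow_orderOf_eq_one, one_mul, inv_one, mul_one, eq_comm, mul_eq_left] at h1
    have h2 : orderOf u ∣ Nat.gcd (orderOf x) (2 ^ 2) :=
      Nat.dvd_gcd (orderOf_dvd_of_pow_eq_one h1) (orderOf_dvd_of_pow_eq_one (by rw [show (2 : ℕ) ^ 2 = 4 by rfl]; exact h4))
    rw [(Nat.coprime_two_right.mpr hodd).pow_right 2, Nat.dvd_one, orderOf_eq_one_iff] at h2
    rw [hu] at h2
    exact (inv_mul_eq_one.mp h2).symm

/-- A 3-group acting without fixed points on a set whose size is not divisible by nine has an orbit of size three. -/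
theorem exists_orbit_three {D α : Type*} [Group D] [Finite D] [MulAction D α] [Finite α] (hD : IsPGroup 3 D)
    (h9 : ¬ 9 ∣ Nat.card α) : ∃ a : α, Nat.card (MulAction.orbit D a) ∣ 3 := by
  classical
  haveI : Fact (Nat.Prime 3) := ⟨Nat.prime_three⟩
  by_contra hcon
  push Not at hcon
  refine h9 ?_
  haveI := Fintype.ofFinite α
  haveI := Fintype.ofFinite (MulAction.orbitRel.Quotient D α)
  rw [Nat.card_congr (MulAction.selfEquivSigmaOrbits D α), Nat.card_sigma]
  refine Finset.dvd_sum fun ω _ => ?_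
  obtain ⟨n, hn⟩ := hD.card_orbit ω.out
  have hndvd := hcon ω.out
  rw [hn] at hndvd ⊢
  rcases n with _ | _ | n
  · exact absurd (one_dvd 3) hndvd
  · exact absurd (by norm_num) hndvd
  · rw [show 3 ^ (n + 2) = 3 ^ n * 9 by ring]; exact dvd_mul_left 9 _

/-- The elements of order at most four in a class-two 2-group whose involutions lie in a central
subgroup of order at most four: at most 64 of them, forming a subgroup. -/
theorem exists_four_subgroup (H W : Subgroup X)
    (hcomm : ∀ x ∈ H, ∀ y ∈ H, ⁅x, y⁆ ∈ H ⊓ Subgroup.centralizer (H : Set X))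
    (hsq : ∀ x ∈ H, x ^ 2 ∈ H ⊓ Subgroup.centralizer (H : Set X))
    (hW : ∀ h ∈ H, h ^ 2 = 1 → h ∈ W) (hW2 : ∀ w ∈ W, w ^ 2 = 1)
    (hWc : ∀ w ∈ W, ∀ h ∈ H, h * w = w * h) (hWcard : Nat.card W ≤ 4) :
    ∃ K : Subgroup X, (∀ h, h ∈ K ↔ h ∈ H ∧ h ^ 4 = 1) ∧ Nat.card K ≤ 64 := by
  have hc2 : ∀ x ∈ H, ∀ y ∈ H, ⁅x, y⁆ ^ 2 = 1 := by
    intro x hx y hy
    have e2 : ⁅x, y ^ 2⁆ = ⁅x, y⁆ * (y * ⁅x, y⁆ * y⁻¹) := by simp only [commutatorElement_def, sq]; group
    rw [commutatorElement_eq_one_iff_mul_comm.mpr (Subgroup.mem_centralizer_iff.mp (hsq y hy).2 x hx),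
      Subgroup.mem_centralizer_iff.mp (hcomm x hx y hy).2 y hy, mul_inv_cancel_right, ← sq] at e2
    exact e2.symm
  let K : Subgroup X :=
    { carrier := {h | h ∈ H ∧ h ^ 4 = 1}
      one_mem' := ⟨H.one_mem, one_pow 4⟩
      mul_mem' := fun {a b} hab hbb => by
        obtain ⟨ha1, ha4⟩ := hab
        obtain ⟨hb1, hb4⟩ := hbb
        refine ⟨H.mul_mem ha1 hb1, ?_⟩
        have hmem : (⁅(⟨b, hb1⟩ : H), ⟨a, ha1⟩⁆ : H) ∈ Subgroup.center H := by
          rw [Subgroup.mem_center_iff]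
          intro g
          exact Subtype.ext (Subgroup.mem_centralizer_iff.mp (hcomm b hb1 a ha1).2 g g.2)
        have h := congrArg Subtype.val (mul_pow_of_central hmem 4)
        simp only [SubmonoidClass.coe_pow, Subgroup.coe_mul] at h
        rw [h, ha4, hb4, one_mul, one_mul]
        show ⁅b, a⁆ ^ Nat.choose 4 2 = 1
        rw [show Nat.choose 4 2 = 2 * 3 by decide, pow_mul, hc2 b hb1 a ha1, one_pow]
      inv_mem' := fun {a} ha => ⟨H.inv_mem ha.1, by rw [inv_pow, ha.2, inv_one]⟩ }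
  refine ⟨K, fun h => Iff.rfl, ?_⟩
  have hKW : ∀ k : K, (k : X) ^ 2 ∈ W := fun k => hW _ (H.pow_mem k.2.1 2) (by rw [← pow_mul]; exact k.2.2)
  have hmem : ∀ k : K, k ∈ W.subgroupOf K ↔ k ^ 2 = 1 := fun k => by
    refine ⟨fun hk => Subtype.ext (hW2 _ hk), fun hk => hW _ k.2.1 ?_⟩
    exact congrArg Subtype.val hk
  have hb := card_le_of_squares (W.subgroupOf K) (W.subgroupOf K)
    (fun w hw => Subgroup.mem_center_iff.mpr fun g => Subtype.ext (hWc w hw g g.2.1))
    (fun w hw => (hmem w).mp hw) hKW hmem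
  have hle : Nat.card (W.subgroupOf K) ≤ 4 :=
    (Nat.card_le_card_of_injective (fun w : W.subgroupOf K => (⟨(w : K), w.2⟩ : W))
      fun a b h => Subtype.ext (Subtype.ext (congrArg (fun z : W => (z : X)) h))).trans hWcard
  calc Nat.card K ≤ Nat.card (W.subgroupOf K) * Nat.card (W.subgroupOf K) ^ 2 := hb
    _ ≤ 4 * 4 ^ 2 := Nat.mul_le_mul hle (Nat.pow_le_pow_left hle 2)
    _ = 64 := by norm_num

/-- `2^b (2^(a-b) - 1)` is not divisible by nine for `b ≥ 1`, `b < a ≤ 6`. -/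
theorem not_nine_dvd_sub {a b : ℕ} (hb : 1 ≤ b) (hab : b < a) (ha : a ≤ 6) : ¬ 9 ∣ 2 ^ a - 2 ^ b := by
  interval_cases a <;> interval_cases b <;> norm_num

end CfsgLib.Structure

namespace CfsgLib.Structure

open Subgroup CfsgLib.Coprime

variable {X : Type*} [Group X] [Finite X]

/-- An elementary abelian 2-group and a commuting involution generate an elementary abelian 2-group. -/
theorem exists_elemAb_sup (W : Subgroup X) (hW : ∀ a ∈ W, ∀ b ∈ W, a * b = b * a) (hW2 : ∀ a ∈ W, a ^ 2 = 1)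
    {t : X} (ht : t ^ 2 = 1) (htW : ∀ a ∈ W, a * t = t * a) :
    ∃ V : Subgroup X, (∀ a ∈ V, ∀ b ∈ V, a * b = b * a) ∧ (∀ a ∈ V, a ^ 2 = 1) ∧ W ≤ V ∧ t ∈ V ∧
      ∀ S : Subgroup X, W ≤ S → t ∈ S → V ≤ S := by
  set S₀ : Set X := (W : Set X) ∪ {t} with hS₀
  have hpair : ∀ a ∈ S₀, ∀ b ∈ S₀, a * b = b * a := by
    intro a ha b hb
    rcases ha with ha | rfl <;> rcases hb with hb | rfl
    · exact hW a ha b hb
    · exact htW a ha
    · exact (htW b hb).symm
    · rfl
  have hle : Subgroup.closure S₀ ≤ Subgroup.centralizer (Subgroup.closure S₀ : Set X) := by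
    rw [Subgroup.centralizer_closure, Subgroup.closure_le]
    intro a ha
    simp only [SetLike.mem_coe, Subgroup.mem_centralizer_iff]
    exact fun b hb => hpair b hb a ha
  have hcomm : ∀ a ∈ Subgroup.closure S₀, ∀ b ∈ Subgroup.closure S₀, a * b = b * a := fun a ha b hb =>
    Subgroup.mem_centralizer_iff.mp (hle hb) a ha
  refine ⟨Subgroup.closure S₀, hcomm, fun a ha => ?_, fun w hw => Subgroup.subset_closure (Or.inl hw),
    Subgroup.subset_closure (Or.inr rfl), fun S hS htS => (Subgroup.closure_le _).mpr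
      (Set.union_subset hS (Set.singleton_subset_iff.mpr htS))⟩
  induction ha using Subgroup.closure_induction with
  | mem x hx =>
    rcases hx with hx | rfl
    · exact hW2 x hx
    · exact ht
  | one => exact one_pow 2
  | mul x y hx hy hx2 hy2 =>
    rw [(show Commute x y from hcomm x hx y hy).mul_pow, hx2, hy2, one_mul]
  | inv x _ hx2 => rw [inv_pow, hx2, inv_one]

/-- A 2-subgroup `W` with at most four elements on which a 3-element acts fixed-point-freely is
either trivial or of order four. -/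
theorem card_eq_four {d : X} (hd : IsPGroup 3 (Subgroup.zpowers d)) (W : Subgroup X) (hW : IsPGroup 2 W)
    (hdW : d ∈ Subgroup.normalizer (W : Set X)) (hfix : ∀ w ∈ W, d * w * d⁻¹ = w → w = 1)
    (hne : W ≠ ⊥) (hle : Nat.card W ≤ 4) : Nat.card W = 4 := by
  classical
  haveI : Fact (Nat.Prime 3) := ⟨Nat.prime_three⟩
  letI : MulAction (Subgroup.zpowers d) W :=
    MulAction.compHom W ((Subgroup.normalizerMonoidHom W).comp
      (Subgroup.inclusion (Subgroup.zpowers_le.mpr hdW)))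
  have hfp : MulAction.fixedPoints (Subgroup.zpowers d) W = {1} := by
    ext w
    rw [MulAction.mem_fixedPoints, Set.mem_singleton_iff]
    refine ⟨fun h => Subtype.ext (hfix w w.2 (congrArg Subtype.val (h ⟨d, Subgroup.mem_zpowers d⟩))), ?_⟩
    rintro rfl g
    exact Subtype.ext (by show (g : X) * 1 * (g : X)⁻¹ = 1; group)
  have h3 := hd.card_modEq_card_fixedPoints (α := W)
  rw [hfp, show Nat.card ↥({1} : Set W) = 1 by simp] at h3
  obtain ⟨k, hk⟩ := hW.exists_card_eq
  have hk2 : k ≤ 2 := (Nat.pow_le_pow_iff_right one_lt_two).mp (hk ▸ hle)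
  interval_cases k
  · exact absurd (Subgroup.card_eq_one.mp hk) hne
  · rw [hk] at h3; exact absurd h3 (by decide)
  · exact hk

/-- The part of `K` moved by `x` has size not divisible by nine. -/
theorem not_nine_dvd_moved (K : Subgroup X) (hK : IsPGroup 2 K) (hKcard : Nat.card K ≤ 64) (x : X)
    (hinv : ∀ h ∈ K, h ^ 2 = 1 → x * h * x⁻¹ = h) (hne : ∃ h ∈ K, x * h * x⁻¹ ≠ h) :
    ¬ 9 ∣ Nat.card {h : X // h ∈ K ∧ x * h * x⁻¹ ≠ h} := by
  classical
  haveI := Fintype.ofFinite X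
  set F := K ⊓ Subgroup.centralizer ({x} : Set X) with hF
  have hmemF : ∀ h, h ∈ F ↔ h ∈ K ∧ x * h * x⁻¹ = h := by
    intro h
    rw [hF, Subgroup.mem_inf, Subgroup.mem_centralizer_singleton_iff, mul_inv_eq_iff_eq_mul, eq_comm (a := x * h)]
  obtain ⟨a, ha⟩ := hK.exists_card_eq
  obtain ⟨b, hb⟩ := (hK.to_le (inf_le_left : F ≤ K)).exists_card_eq
  have hsum : Nat.card {h : X // h ∈ K ∧ x * h * x⁻¹ ≠ h} + Nat.card F = Nat.card K := by
    rw [Nat.card_eq_fintype_card, Nat.card_eq_fintype_card, Nat.card_eq_fintype_card, Fintype.card_subtype,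
      Fintype.card_subtype, Fintype.card_subtype]
    rw [← Finset.card_union_of_disjoint (Finset.disjoint_filter.mpr fun h _ h1 h2 => h1.2 ((hmemF h).mp h2).2)]
    congr 1
    ext h
    simp only [Finset.mem_union, Finset.mem_filter, Finset.mem_univ, true_and, hmemF]
    tauto
  obtain ⟨h, hh, hxh⟩ := hne
  have hb1 : 1 ≤ b := by
    rcases Nat.eq_zero_or_pos b with rfl | h'
    · exfalso
      haveI : Nontrivial K := ⟨⟨⟨h, hh⟩, 1, fun e => hxh (by rw [show h = 1 from congrArg Subtype.val e]; group)⟩⟩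
      obtain ⟨t, ht⟩ := exists_prime_orderOf_dvd_card' 2 (hK.card_eq_or_dvd.resolve_left (Finite.one_lt_card (α := K)).ne')
      have ht2 : (t : X) ^ 2 = 1 := by rw [← SubmonoidClass.coe_pow, ← ht, pow_orderOf_eq_one]; rfl
      have h1 : (t : X) = 1 := Subgroup.mem_bot.mp ((Subgroup.card_eq_one.mp (by rw [hb, pow_zero])).le
        ((hmemF t).mpr ⟨t.2, hinv t t.2 ht2⟩))
      rw [orderOf_eq_one_iff.mpr (Subtype.ext h1)] at ht
      exact absurd ht (by norm_num)
    · exact h'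
  have hlt : b < a := by
    have : Nat.card F < Nat.card K :=
      lt_of_le_of_ne (card_le_of_le inf_le_left) fun e =>
        hxh ((hmemF h).mp ((eq_of_le_of_card_ge inf_le_left e.ge).ge hh)).2
    rwa [ha, hb, Nat.pow_lt_pow_iff_right one_lt_two] at this
  have ha6 : a ≤ 6 := (Nat.pow_le_pow_iff_right one_lt_two).mp (by rw [← ha]; exact hKcard)
  rw [show Nat.card {h : X // h ∈ K ∧ x * h * x⁻¹ ≠ h} = 2 ^ a - 2 ^ b by rw [ha, hb] at hsum; omega]
  exact not_nine_dvd_sub hb1 hlt ha6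

end CfsgLib.Structure
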