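import Mathlib

/-!
Automorphisms of odd order of a doubly transitive group: if the image of a point stabilizer has an
orbit of length `k` coprime to the degree `n`, then `k = 1` or `k = n - 1`.

The proof uses the twisted incidence matrix `M` of the symmetric design: `M * Mᵀ = (k-l) 1 + l J`
and `M ^ m` commutes with the group, `m` the order of the automorphism.
-/

set_option autoImplicit false
set_option linter.style.haveILetI false

namespace CfsgLib.TwoTransAut

open Matrix

variable {G Ω : Type*} [Group G] [MulAction G Ω]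

/-- The all-ones matrix. -/
def onesMat (Ω : Type*) : Matrix Ω Ω ℤ := Matrix.of fun _ _ => 1

@[simp] theorem onesMat_apply (i j : Ω) : onesMat Ω i j = 1 := rfl

/-- Twisted incidence matrix of a set `B` relative to an automorphism and a transversal. -/
noncomputable def inc (t : Ω → G) (a : MulAut G) (B : Set Ω) : Matrix Ω Ω ℤ :=
  Matrix.of fun w j => B.indicator 1 ((a (t j))⁻¹ • w)

theorem inc_smul {o : Ω} {t : Ω → G} (ht : ∀ j, t j • o = j) {a : MulAut G} {B : Set Ω}
    (hB : ∀ h : G, h • o = o → ∀ w, a h • w ∈ B ↔ w ∈ B) (x : G) (w j : Ω) :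
    inc t a B (a x • w) (x • j) = inc t a B w j := by
  classical
  have hy : ((t (x • j))⁻¹ * x * t j) • o = o := by
    rw [mul_smul, mul_smul, ht, inv_smul_eq_iff, ht]
  have h : (a (t (x • j)))⁻¹ • a x • w
      = a ((t (x • j))⁻¹ * x * t j) • (a (t j))⁻¹ • w := by
    rw [map_mul, map_mul, map_inv, mul_smul, mul_smul, smul_inv_smul]
  simp only [inc, Matrix.of_apply, Set.indicator_apply, h, hB _ hy, Pi.one_apply]

theorem exists_eq_smul_one_add_smul_ones [Fintype Ω] [DecidableEq Ω]
    (h2 : MulAction.IsMultiplyPretransitive G Ω 2) (S : Matrix Ω Ω ℤ)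
    (hS : ∀ (g : G) (a b : Ω), S (g • a) (g • b) = S a b) :
    ∃ d l : ℤ, S = d • 1 + l • onesMat Ω := by
  by_cases hne : ∃ a b : Ω, a ≠ b
  · obtain ⟨a, b, hab⟩ := hne
    haveI := h2
    haveI : MulAction.IsPretransitive G Ω := MulAction.isPretransitive_of_is_two_pretransitive
    refine ⟨S a a - S a b, S a b, ?_⟩
    ext c d
    by_cases hcd : c = d
    · subst hcd
      obtain ⟨g, rfl⟩ := MulAction.exists_smul_eq G a c
      simp only [Matrix.add_apply, Matrix.smul_apply, Matrix.one_apply, onesMat_apply, smul_eq_mul, if_true, if_false, mul_one, mul_zero, zero_add, add_zero, sub_add_cancel, hS]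
    · obtain ⟨g, rfl, rfl⟩ := MulAction.is_two_pretransitive_iff.mp h2 hab hcd
      simp only [Matrix.add_apply, Matrix.smul_apply, Matrix.one_apply, onesMat_apply, smul_eq_mul, if_true, if_false, mul_one, mul_zero, zero_add, add_zero, sub_add_cancel, hS, hcd]
  · push Not at hne
    by_cases h : Nonempty Ω
    · obtain ⟨a⟩ := h
      refine ⟨S a a, 0, ?_⟩
      ext c d
      rw [hne c a, hne d a]
      simp only [Matrix.add_apply, Matrix.smul_apply, Matrix.one_apply, onesMat_apply, smul_eq_mul, if_true, if_false, mul_one, mul_zero, zero_add, add_zero, sub_add_cancel]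
    · exact ⟨0, 0, Matrix.ext fun c _ => absurd ⟨c⟩ h⟩

theorem onesMat_mul_self [Fintype Ω] :
    onesMat Ω * onesMat Ω = (Fintype.card Ω : ℤ) • onesMat Ω := by
  ext i j
  simp [Matrix.mul_apply]

theorem coeff_eq [Fintype Ω] [DecidableEq Ω] {a₁ b₁ a₂ b₂ : ℤ} {u v : Ω} (huv : u ≠ v)
    (h : a₁ • (1 : Matrix Ω Ω ℤ) + b₁ • onesMat Ω = a₂ • 1 + b₂ • onesMat Ω) :
    a₁ = a₂ ∧ b₁ = b₂ := by
  have h1 := congrFun (congrFun h u) v
  have h2 := congrFun (congrFun h u) u
  simp only [Matrix.add_apply, Matrix.smul_apply, Matrix.one_apply, onesMat_apply, smul_eq_mul, if_true, if_false, mul_one, mul_zero, zero_add, add_zero, sub_add_cancel, huv] at h1 h2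
  exact ⟨by linarith, h1⟩

/-- The arithmetic part. -/
theorem arith {n k l a b : ℤ} {m : ℕ} (hn : 1 < n) (hk0 : 1 ≤ k) (hkn : k < n)
    (hcop : IsCoprime k n) (hl : 0 ≤ l) (hlk : l ≤ k) (hm : Odd m)
    (hkl : k + (n - 1) * l = k * k) (ha : a * a = (k - l) ^ m) (hab : a + b * n = k ^ m) :
    k = 1 ∨ k = n - 1 := by
  obtain ⟨e, rfl⟩ := hm
  -- `k - l` is a square
  obtain ⟨s, hs0, hs⟩ : ∃ s : ℤ, 0 ≤ s ∧ k - l = s * s := by
    rcases eq_or_ne (k - l) 0 with h | h
    · exact ⟨0, le_rfl, by simpa using h⟩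
    have h1 : ((k - l) ^ e) ^ 2 ∣ a ^ 2 := by
      rw [← pow_mul, sq a, ha]
      exact pow_dvd_pow _ (by omega)
    obtain ⟨c, rfl⟩ := (Int.pow_dvd_pow_iff two_ne_zero).mp h1
    refine ⟨|c|, abs_nonneg c, ?_⟩
    rw [abs_mul_abs_self]
    have h2 : (k - l) ^ e ≠ 0 := pow_ne_zero _ h
    have h3 : ((k - l) ^ e * (k - l) ^ e) * (c * c) = ((k - l) ^ e * (k - l) ^ e) * (k - l) := by
      calc ((k - l) ^ e * (k - l) ^ e) * (c * c) = (k - l) ^ e * c * ((k - l) ^ e * c) := by ring
        _ = _ := ha
        _ = _ := by ring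
    exact (mul_left_cancel₀ (mul_ne_zero h2 h2) h3).symm
  have hcs : n ∣ k * k - s * s := ⟨l, by linarith⟩
  have hkun : IsCoprime (k * k) n := hcop.mul_left hcop
  have hsn : IsCoprime (s * s) n := by
    obtain ⟨u, hu⟩ := hcs
    have : s * s = k * k + n * (-u) := by linarith
    rw [this]
    exact hkun.add_mul_left_left (-u)
  have hae : a = s ^ (2 * e + 1) ∨ a = -s ^ (2 * e + 1) := by
    have h : a * a = s ^ (2 * e + 1) * s ^ (2 * e + 1) := by rw [ha, hs, mul_pow]
    exact mul_self_eq_mul_self_iff.mp h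
  have hpow : n ∣ (k * k) ^ e - (s * s) ^ e := hcs.trans (sub_dvd_pow_sub_pow _ _ e)
  have hkey : n ∣ k - s ∨ n ∣ k + s := by
    have hd : n ∣ k ^ (2 * e + 1) - a := ⟨b, by linarith⟩
    rcases hae with rfl | rfl
    · left
      have h1 : n ∣ (s * s) ^ e * (k - s) := by
        have := dvd_sub hd (hpow.mul_left k)
        have e1 : (s * s) ^ e * (k - s)
            = k ^ (2 * e + 1) - s ^ (2 * e + 1) - k * ((k * k) ^ e - (s * s) ^ e) := by
          simp only [pow_succ, pow_mul, pow_zero, one_mul]
          ring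
        rwa [e1]
      exact (hsn.pow_left.symm).dvd_of_dvd_mul_left h1
    · right
      have h1 : n ∣ (s * s) ^ e * (k + s) := by
        have := dvd_sub hd (hpow.mul_left k)
        have e1 : (s * s) ^ e * (k + s)
            = k ^ (2 * e + 1) - -s ^ (2 * e + 1) - k * ((k * k) ^ e - (s * s) ^ e) := by
          simp only [pow_succ, pow_mul, pow_zero, one_mul]
          ring
        rwa [e1]
      exact (hsn.pow_left.symm).dvd_of_dvd_mul_left h1
  have hsk : s ≤ k := by nlinarith
  rcases hkey with h | h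
  · left
    have : k - s = 0 := by
      obtain ⟨c, hc⟩ := h
      have hc0 : c = 0 := by nlinarith
      rw [hc, hc0, mul_zero]
    have hsk' : s = k := by linarith
    subst hsk'
    nlinarith
  · right
    have : k + s = n := by
      obtain ⟨c, hc⟩ := h
      have hc1 : c = 1 := by nlinarith
      rw [hc, hc1, mul_one]
    have hl' : l = k - s * s := by linarith
    subst hl'
    have hk' : k = n - s := by linarith
    subst hk'
    have h4 : n * (s * (s - 1)) = 0 := by nlinarith
    rcases mul_eq_zero.mp h4 with h5 | h5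
    · omega
    rcases mul_eq_zero.mp h5 with h6 | h6
    · omega
    · omega

/-- The orbit length of the image of a point stabilizer under an odd order automorphism. -/
theorem card_eq_one_or_pred [Fintype Ω] (h2 : MulAction.IsMultiplyPretransitive G Ω 2) (o : Ω)
    (α : MulAut G) (hα : Odd (orderOf α)) (B : Set Ω) (hBne : B.Nonempty)
    (hB : ∀ h : G, h • o = o → ∀ w, α h • w ∈ B ↔ w ∈ B)
    (hcop : (Nat.card B).Coprime (Fintype.card Ω)) :
    Nat.card B = 1 ∨ Nat.card B = Fintype.card Ω - 1 := by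
  classical
  haveI := h2
  haveI : MulAction.IsPretransitive G Ω := MulAction.isPretransitive_of_is_two_pretransitive
  have hk0 : 0 < Nat.card B := Nat.card_pos_iff.mpr ⟨hBne.to_subtype, inferInstance⟩
  have hkle : Nat.card B ≤ Fintype.card Ω := by
    rw [← Nat.card_eq_fintype_card]
    exact Nat.card_le_card_of_injective Subtype.val Subtype.val_injective
  rcases eq_or_lt_of_le hkle with heq | hlt
  · left
    rw [heq, Nat.coprime_self] at hcop
    omega
  choose t ht using fun j : Ω => MulAction.exists_smul_eq G o j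
  set M := inc t α B with hMdef
  have hMsmul : ∀ (x : G) (w j : Ω), M (α x • w) (x • j) = M w j := inc_smul ht hB
  -- column sums
  have hcol : ∀ j, ∑ w, M w j = (Nat.card B : ℤ) := by
    intro j
    rw [← Equiv.sum_comp (MulAction.toPerm (α (t j)))]
    simp [M, inc, Set.indicator_apply, Finset.sum_boole, Nat.card_eq_fintype_card,
      Fintype.card_subtype]
  -- row sums
  have hrowconst : ∀ w w', ∑ j, M w' j = ∑ j, M w j := by
    intro w w'
    obtain ⟨g, rfl⟩ := MulAction.exists_smul_eq G w w'
    rw [← Equiv.sum_comp (MulAction.toPerm (α.symm g))]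
    refine Finset.sum_congr rfl fun j _ => ?_
    have := hMsmul (α.symm g) w j
    rwa [MulEquiv.apply_symm_apply] at this
  have hrow : ∀ w, ∑ j, M w j = (Nat.card B : ℤ) := by
    intro w
    have h : ∑ w', ∑ j, M w' j = ∑ j, ∑ w', M w' j := Finset.sum_comm
    rw [Finset.sum_congr rfl fun w' _ => hrowconst w w', Finset.sum_congr rfl fun j _ => hcol j]
      at h
    simp only [Finset.sum_const, Finset.card_univ, nsmul_eq_mul] at h
    exact mul_left_cancel₀ (by
      exact_mod_cast (show Fintype.card Ω ≠ 0 by omega)) h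
  have hMnn : ∀ w j, M w j = 0 ∨ M w j = 1 := by
    intro w j
    simp only [M, inc, Matrix.of_apply, Set.indicator_apply, Pi.one_apply]
    split <;> simp
  -- `M * Mᵀ`
  obtain ⟨d, l, hMM⟩ := exists_eq_smul_one_add_smul_ones h2 (M * Mᵀ) (by
    intro g a b
    rw [Matrix.mul_apply, Matrix.mul_apply, ← Equiv.sum_comp (MulAction.toPerm (α.symm g))]
    refine Finset.sum_congr rfl fun j _ => ?_
    have h1 := hMsmul (α.symm g) a j
    have h2 := hMsmul (α.symm g) b j
    rw [MulEquiv.apply_symm_apply] at h1 h2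
    simp only [Matrix.transpose_apply, MulAction.toPerm_apply]
    rw [h1, h2])
  obtain ⟨u, v, huv⟩ : ∃ u v : Ω, u ≠ v := Fintype.one_lt_card_iff.mp (by omega)
  have hdiag : d + l = (Nat.card B : ℤ) := by
    have h := congrFun (congrFun hMM u) u
    simp only [Matrix.mul_apply, Matrix.transpose_apply, Matrix.add_apply, Matrix.smul_apply,
      Matrix.one_apply_eq, onesMat_apply, smul_eq_mul, mul_one] at h
    rw [← h, ← hrow u]
    exact Finset.sum_congr rfl fun j _ => by rcases hMnn u j with h | h <;> simp [h]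
  have hl : 0 ≤ l ∧ l ≤ (Nat.card B : ℤ) := by
    have h := congrFun (congrFun hMM u) v
    simp only [Matrix.mul_apply, Matrix.transpose_apply, Matrix.add_apply, Matrix.smul_apply,
      Matrix.one_apply_ne huv, onesMat_apply, smul_eq_mul, mul_one, mul_zero, zero_add] at h
    rw [← h, ← hrow u]
    exact ⟨Finset.sum_nonneg fun j _ => by
        rcases hMnn u j with h | h <;> rcases hMnn v j with h' | h' <;> simp [h, h'],
      Finset.sum_le_sum fun j _ => by
        rcases hMnn u j with h | h <;> rcases hMnn v j with h' | h' <;> simp [h, h']⟩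
  have hMJ : M * onesMat Ω = (Nat.card B : ℤ) • onesMat Ω := by
    ext i j
    simp [Matrix.mul_apply, hrow]
  have hMJ' : ∀ e, M ^ e * onesMat Ω = (Nat.card B : ℤ) ^ e • onesMat Ω := by
    intro e
    induction e with
    | zero => simp
    | succ e ih => rw [pow_succ, mul_assoc, hMJ, mul_smul_comm, ih, smul_smul, pow_succ']
  have hJt : (onesMat Ω)ᵀ = onesMat Ω := rfl
  have hkl : (Nat.card B : ℤ) + ((Fintype.card Ω : ℤ) - 1) * l
      = (Nat.card B : ℤ) * Nat.card B := by
    have hMt : Mᵀ * onesMat Ω = (Nat.card B : ℤ) • onesMat Ω := by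
      ext i j
      simp [Matrix.mul_apply, hcol]
    have h := congrArg (fun X => X * onesMat Ω) hMM
    simp only [mul_assoc, hMt, mul_smul_comm, hMJ, smul_smul, add_mul, smul_mul_assoc, one_mul,
      onesMat_mul_self, ← add_smul] at h
    have h' := congrFun (congrFun h u) u
    simp only [Matrix.smul_apply, Matrix.add_apply, onesMat_apply, smul_eq_mul, mul_one] at h'
    linear_combination (-1 : ℤ) * h' + (-1 : ℤ) * hdiag
  -- powers
  have hMe : ∀ (e : ℕ) (x : G) (a b : Ω), (M ^ e) ((α ^ e) x • a) (x • b) = (M ^ e) a b := by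
    intro e
    induction e with
    | zero => intro x a b; simp [Matrix.one_apply]
    | succ e ih =>
      intro x a b
      rw [pow_succ, Matrix.mul_apply, Matrix.mul_apply, ← Equiv.sum_comp (MulAction.toPerm (α x))]
      refine Finset.sum_congr rfl fun c _ => ?_
      simp only [MulAction.toPerm_apply, hMsmul]
      rw [pow_succ, MulAut.mul_apply, ih]
  have hMeT : ∀ e : ℕ, ∃ c : ℤ, M ^ e * (M ^ e)ᵀ = d ^ e • 1 + c • onesMat Ω := by
    intro e
    induction e with
    | zero => exact ⟨0, by simp⟩
    | succ e ih =>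
      obtain ⟨c, hc⟩ := ih
      refine ⟨d * c + l * ((Nat.card B : ℤ) ^ e * (Nat.card B : ℤ) ^ e), ?_⟩
      have hJM : onesMat Ω * (M ^ e)ᵀ = (Nat.card B : ℤ) ^ e • onesMat Ω := by
        rw [← hJt, ← Matrix.transpose_mul, hMJ', Matrix.transpose_smul]
      have hJJ : M ^ e * (onesMat Ω * (M ^ e)ᵀ)
          = ((Nat.card B : ℤ) ^ e * (Nat.card B : ℤ) ^ e) • onesMat Ω := by
        rw [hJM, mul_smul_comm, hMJ', smul_smul]
      rw [pow_succ M, Matrix.transpose_mul, mul_assoc, ← mul_assoc M, hMM, add_mul, mul_add,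
        smul_mul_assoc, one_mul, mul_smul_comm, hc, smul_mul_assoc, mul_smul_comm, hJJ, smul_add,
        smul_smul, smul_smul, smul_smul, pow_succ' d, add_assoc, ← add_smul]
  obtain ⟨a, b, hN⟩ := exists_eq_smul_one_add_smul_ones h2 (M ^ orderOf α) (by
    intro g x y
    have := hMe (orderOf α) g x y
    rwa [pow_orderOf_eq_one, MulAut.one_apply] at this)
  obtain ⟨c, hc⟩ := hMeT (orderOf α)
  have ha : a * a = d ^ orderOf α := by
    rw [hN, Matrix.transpose_add, Matrix.transpose_smul, Matrix.transpose_smul,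
      Matrix.transpose_one, hJt] at hc
    simp only [mul_add, add_mul, smul_mul_assoc, mul_smul_comm, one_mul, mul_one, smul_add,
      smul_smul, onesMat_mul_self, add_assoc, ← add_smul] at hc
    exact (coeff_eq huv hc).1
  have hab : a + b * (Fintype.card Ω : ℤ) = (Nat.card B : ℤ) ^ orderOf α := by
    have h := congrFun (congrFun (hMJ' (orderOf α)) u) u
    rw [hN] at h
    simp only [add_mul, smul_mul_assoc, one_mul, onesMat_mul_self, smul_smul, Matrix.add_apply,
      Matrix.smul_apply, onesMat_apply, smul_eq_mul, mul_one] at h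
    linarith
  have := arith (n := Fintype.card Ω) (k := Nat.card B) (by omega) (by omega) (by omega)
    (Int.isCoprime_iff_gcd_eq_one.mpr (by simpa using hcop)) hl.1 hl.2 hα hkl
    (by rw [ha]; congr 1; linarith) hab
  rcases this with h | h
  · left; omega
  · right; omega

end CfsgLib.TwoTransAut
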