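import Cfsg.Agent.Lib.Structure.TypeOneMNBasic
import Cfsg.Agent.Lib.Transfer.NormalComplement

/-!
# Groups all of whose nontrivial elements have the same fixed points on an abelian `t`-group
-/

set_option autoImplicit false
set_option linter.style.haveILetI false

namespace CfsgLib.TypeMN

open Subgroup

section Action

variable {D : Type*} [Group D] [Finite D] {A : Type*} [CommGroup A] [Finite A]
  {t : ℕ} (φ : D →* MulAut A) (F : Subgroup A)

omit [Finite D] [Finite A] in
theorem map_fix_eq (hF : ∀ d, ∀ a ∈ F, φ d a = a) (d : D) :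
    F.map (φ d).toMonoidHom = F := by
  ext a
  constructor
  · rintro ⟨b, hb, rfl⟩
    show φ d b ∈ F
    rw [hF d b hb]
    exact hb
  · exact fun ha => ⟨a, ha, hF d a ha⟩

/-- The induced action on the quotient by the fixed points. -/
def quotAct (hF : ∀ d, ∀ a ∈ F, φ d a = a) : D →* MulAut (A ⧸ F) where
  toFun d := QuotientGroup.congr F F (φ d) (map_fix_eq φ F hF d)
  map_one' := by
    ext w
    induction w using QuotientGroup.induction_on with
    | H a =>
      show ((φ 1 a : A) : A ⧸ F) = (a : A ⧸ F)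
      rw [map_one, MulAut.one_apply]
  map_mul' d e := by
    ext w
    induction w using QuotientGroup.induction_on with
    | H a =>
      show ((φ (d * e) a : A) : A ⧸ F) = ((φ d (φ e a) : A) : A ⧸ F)
      rw [map_mul, MulAut.mul_apply]

omit [Finite D] [Finite A] in
theorem quotAct_mk (hF : ∀ d, ∀ a ∈ F, φ d a = a) (d : D) (a : A) :
    quotAct φ F hF d (a : A ⧸ F) = ((φ d a : A) : A ⧸ F) := rfl

omit [Finite D] [Finite A] in
theorem quotAct_fixed (hA : ∀ a : A, PElt t a) (hF : ∀ d, ∀ a ∈ F, φ d a = a)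
    (hfix : ∀ d, d ≠ 1 → ∀ a, φ d a = a → a ∈ F) {q : ℕ} (hq : t.Coprime q) {e : D}
    (he : e ≠ 1) (heq : e ^ q = 1) {w : A ⧸ F} (hw : quotAct φ F hF e w = w) : w = 1 := by
  induction w using QuotientGroup.induction_on with
  | H a =>
    rw [quotAct_mk] at hw
    set b := a⁻¹ * φ e a with hb
    have hbF : b ∈ F := QuotientGroup.eq.1 hw.symm
    have key : ∀ i : ℕ, φ (e ^ i) a = a * b ^ i := by
      intro i
      induction i with
      | zero => simp
      | succ i ih =>
        rw [pow_succ', map_mul, MulAut.mul_apply, ih, map_mul, map_pow, hF e b hbF, pow_succ',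
          ← mul_assoc]
        congr 1
        rw [hb, mul_inv_cancel_left]
    have h1 := key q
    rw [heq, map_one, MulAut.one_apply, left_eq_mul] at h1
    have h2 : b = 1 := (hA b).eq_one_of_pow hq h1
    rw [QuotientGroup.eq_one_iff]
    exact hfix e he a (inv_mul_eq_one.1 (hb.symm.trans h2)).symm

omit [Finite D] in
theorem exists_fixed_coset (ht : t.Prime) (hA : ∀ a : A, PElt t a)
    (hF : ∀ d, ∀ a ∈ F, φ d a = a) (hFne : F ≠ ⊤) {d : D} (hd : d ^ t = 1) :
    ∃ w : A ⧸ F, w ≠ 1 ∧ quotAct φ F hF d w = w := by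
  haveI := Fact.mk ht
  have hW : IsPGroup t (A ⧸ F) := by
    intro w
    obtain ⟨a, rfl⟩ := QuotientGroup.mk_surjective w
    obtain ⟨k, hk⟩ := hA a
    exact ⟨k, by rw [← QuotientGroup.mk_pow, hk, QuotientGroup.mk_one]⟩
  haveI : Nontrivial (A ⧸ F) := QuotientGroup.nontrivial_iff.2 hFne
  obtain ⟨k, hk, hcard⟩ := hW.nontrivial_iff_card.1 inferInstance
  letI : MulAction (zpowers d) (A ⧸ F) :=
    MulAction.compHom _ ((quotAct φ F hF).comp (zpowers d).subtype)
  have hP : IsPGroup t (zpowers d) := PElt.isPGroup ht ⟨1, by rw [pow_one, hd]⟩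
  have h1 : (1 : A ⧸ F) ∈ MulAction.fixedPoints (zpowers d) (A ⧸ F) := fun g =>
    map_one (quotAct φ F hF (g : D))
  obtain ⟨w, hw, hne⟩ := hP.exists_fixed_point_of_prime_dvd_card_of_fixed_point (A ⧸ F)
    (by rw [hcard]; exact dvd_pow_self t hk.ne') h1
  exact ⟨w, Ne.symm hne, hw ⟨d, mem_zpowers d⟩⟩

omit [Finite D] in
theorem not_commute_of_fix (ht : t.Prime) (hA : ∀ a : A, PElt t a)
    (hF : ∀ d, ∀ a ∈ F, φ d a = a) (hfix : ∀ d, d ≠ 1 → ∀ a, φ d a = a → a ∈ F) (hFne : F ≠ ⊤)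
    {q : ℕ} (hq : t.Coprime q) {d e : D} (hd : d ≠ 1) (hdt : d ^ t = 1) (he : e ≠ 1)
    (heq : e ^ q = 1) : ¬ Commute d e := by
  intro hc
  obtain ⟨w, hw1, hw⟩ := exists_fixed_coset φ F ht hA hF hFne hdt
  apply hw1
  induction w using QuotientGroup.induction_on with
  | H a =>
    rw [quotAct_mk] at hw
    refine quotAct_fixed φ F hA hF hfix hq he heq ?_
    rw [quotAct_mk]
    refine (QuotientGroup.eq.2 (hfix d hd _ ?_)).symm
    have hz := QuotientGroup.eq.1 hw.symm
    have hde : φ d (φ e a) = φ e (φ d a) := by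
      rw [← MulAut.mul_apply, ← map_mul, hc.eq, map_mul, MulAut.mul_apply]
    have h2 : φ e (φ d a) = φ e a * (a⁻¹ * φ d a) := by
      conv_lhs => rw [← mul_inv_cancel_left a (φ d a)]
      rw [map_mul, hF e _ hz]
    rw [map_mul, map_inv, hde, h2]
    rw [inv_mul_eq_iff_eq_mul]
    ac_rfl

theorem not_normalize_of_fix (ht : t.Prime) (hA : ∀ a : A, PElt t a)
    (hF : ∀ d, ∀ a ∈ F, φ d a = a) (hfix : ∀ d, d ≠ 1 → ∀ a, φ d a = a → a ∈ F) (hFne : F ≠ ⊤)
    {q : ℕ} (hq : q.Prime) (htq : t ≠ q) (E : Subgroup D) (hEc : ∀ a ∈ E, ∀ b ∈ E, Commute a b)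
    (hEq : ∀ a ∈ E, a ^ q = 1) (hE : E ≠ ⊥) {y : D} (hy : y ≠ 1) (hyt : y ^ t = 1)
    (hn : y ∈ normalizer (E : Set D)) : False := by
  classical
  haveI := Fintype.ofFinite E
  have hcop : t.Coprime q := (Nat.coprime_primes ht hq).2 htq
  obtain ⟨e0, he0, he01⟩ := (ne_bot_iff_exists_ne_one.1 hE :).elim
    fun e he => (⟨(e : D), e.2, fun hh => he (Subtype.ext hh)⟩ : ∃ e0 : D, e0 ∈ E ∧ e0 ≠ 1)
  set ψ := quotAct φ F hF with hψ
  -- products over conjugates of `⟨y⟩` vanish modulo `F`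
  have horb : ∀ u : D, u ≠ 1 → u ^ t = 1 → ∀ w : A ⧸ F,
      ∏ j ∈ Finset.range t, ψ (u ^ j) w = 1 := by
    intro u hu hut w
    induction w using QuotientGroup.induction_on with
    | H a =>
      have h0 : φ u (∏ j ∈ Finset.range t, φ (u ^ j) a) = ∏ j ∈ Finset.range t, φ (u ^ j) a := by
        have h : φ u (∏ j ∈ Finset.range t, φ (u ^ j) a) =
            ∏ j ∈ Finset.range t, φ (u ^ (j + 1)) a := by
          simp [pow_succ', map_mul, MulAut.mul_apply]
        have h2 := Finset.prod_range_succ (fun j => φ (u ^ j) a) t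
        rw [Finset.prod_range_succ', hut, pow_zero] at h2
        rw [h]
        exact mul_right_cancel h2
      have h1 := hfix u hu _ h0
      rw [← QuotientGroup.eq_one_iff] at h1
      rw [← h1]
      exact (map_prod (QuotientGroup.mk' F) _ _).symm
  have hNorm : ∀ v : A ⧸ F, ∏ e : E, ψ (e : D) v = 1 := by
    intro v
    refine quotAct_fixed φ F hA hF hfix hcop he01 (hEq e0 he0) ?_
    rw [map_prod]
    refine Fintype.prod_equiv (Equiv.mulLeft (⟨e0, he0⟩ : E)) _ _ fun e => ?_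
    show ψ e0 (ψ (e : D) v) = ψ (e0 * (e : D)) v
    rw [map_mul, MulAut.mul_apply]
  have hall : ∀ w : A ⧸ F, w = 1 := by
    intro w
    have h1 : ∏ e : E, ∏ j ∈ Finset.range t, ψ ((e : D) * y ^ j * (e : D)⁻¹) w = 1 := by
      refine Finset.prod_eq_one fun e _ => ?_
      have := horb ((e : D) * y * (e : D)⁻¹) (fun h => hy (conj_eq_one_iff.1 h))
        (by rw [conj_pow, hyt, mul_one, mul_inv_cancel]) w
      refine Eq.trans (Finset.prod_congr rfl fun j _ => ?_) this
      rw [conj_pow]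
    rw [Finset.prod_comm, Finset.prod_eq_single 0] at h1
    · simp only [pow_zero, mul_one, mul_inv_cancel, map_one, MulAut.one_apply, Finset.prod_const,
        Finset.card_univ] at h1
      obtain ⟨a, rfl⟩ := QuotientGroup.mk_surjective w
      have hwt : PElt t (a : A ⧸ F) := (hA a).map (QuotientGroup.mk' F)
      obtain ⟨k, hk⟩ := hwt
      haveI := Fact.mk hq
      have hEp : IsPGroup q E := fun e => ⟨1, Subtype.ext (by simpa using hEq e e.2)⟩
      obtain ⟨i, hi⟩ := IsPGroup.iff_card.1 hEp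
      refine PElt.eq_one_of_pow (p := t) (j := Fintype.card E) ?_ ⟨k, hk⟩ h1
      rw [← Nat.card_eq_fintype_card, hi]
      exact Nat.Coprime.pow_right i hcop
    · intro j hj hj0
      have hjt : ¬ t ∣ j := fun h => hj0 (Nat.eq_zero_of_dvd_of_lt h (Finset.mem_range.1 hj))
      have hmem : ∀ e : E, (e : D) * (y ^ j * (e : D)⁻¹ * (y ^ j)⁻¹) ∈ E := fun e =>
        mul_mem e.2 ((mem_normalizer_iff.1 (pow_mem hn j) _).1 (inv_mem e.2))
      let f : E → E := fun e => ⟨_, hmem e⟩
      have hf : Function.Bijective f := by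
        refine Finite.injective_iff_bijective.1 fun e e' hee => ?_
        have he : (e : D) * (y ^ j * (e : D)⁻¹ * (y ^ j)⁻¹) =
            (e' : D) * (y ^ j * (e' : D)⁻¹ * (y ^ j)⁻¹) := congrArg Subtype.val hee
        by_contra hne
        set g : D := (e' : D)⁻¹ * e with hg
        have hgE : g ∈ E := mul_mem (inv_mem e'.2) e.2
        have hg1 : g ≠ 1 := fun h => hne (Subtype.ext (inv_mul_eq_one.1 h).symm)
        refine not_commute_of_fix φ F ht hA hF hfix hFne hcop (d := y ^ j) ?_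
          (by rw [← pow_mul, mul_comm, pow_mul, hyt, one_pow]) hg1 (hEq g hgE) ?_
        · intro h
          refine hjt ?_
          haveI := Fact.mk ht
          rw [← orderOf_eq_prime hyt hy]
          exact orderOf_dvd_of_pow_eq_one h
        · have hcc := (hEc _ e.2 _ (inv_mem e'.2)).eq
          show y ^ j * g = g * y ^ j
          calc y ^ j * g = (y ^ j * (e' : D)⁻¹ * (y ^ j)⁻¹) * (y ^ j * (e : D)) := by
                rw [hg]; group
            _ = (e' : D)⁻¹ * ((e' : D) * (y ^ j * (e' : D)⁻¹ * (y ^ j)⁻¹)) * (y ^ j * e) := by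
                group
            _ = (e' : D)⁻¹ * ((e : D) * (y ^ j * (e : D)⁻¹ * (y ^ j)⁻¹)) * (y ^ j * e) := by
                rw [he]
            _ = g * y ^ j := by rw [hg]; group
      rw [← hNorm (ψ (y ^ j) w)]
      refine Fintype.prod_bijective f hf _ _ fun e => ?_
      show ψ ((e : D) * y ^ j * (e : D)⁻¹) w =
        ψ ((e : D) * (y ^ j * (e : D)⁻¹ * (y ^ j)⁻¹)) (ψ (y ^ j) w)
      rw [← MulAut.mul_apply, ← map_mul]
      congr 2
      group
    · intro h
      exact absurd (Finset.mem_range.2 ht.pos) h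
  exact hFne (eq_top_iff.2 fun a _ => (QuotientGroup.eq_one_iff a).1 (hall a))

end Action

/-- No element of order `t` normalizes a nontrivial subgroup of prime power order prime to `t`. -/
def NoNorm (D : Type*) [Group D] (t : ℕ) : Prop :=
  ∀ q : ℕ, q.Prime → q ≠ t → ∀ Q : Subgroup D, IsPGroup q Q → Q ≠ ⊥ →
    ∀ y : D, orderOf y = t → y ∉ normalizer (Q : Set D)

theorem noNorm_of_fix {D : Type*} [Group D] [Finite D] {A : Type*} [CommGroup A] [Finite A]
    {t : ℕ} (φ : D →* MulAut A) (F : Subgroup A) (ht : t.Prime) (hA : ∀ a : A, PElt t a)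
    (hF : ∀ d, ∀ a ∈ F, φ d a = a) (hfix : ∀ d, d ≠ 1 → ∀ a, φ d a = a → a ∈ F) (hFne : F ≠ ⊤) :
    NoNorm D t := by
  intro q hq hqt Q hQ hQne y hy hn
  haveI := Fact.mk hq
  haveI : Nontrivial Q := (nontrivial_iff_ne_bot _).2 hQne
  haveI := hQ.center_nontrivial
  let E : Subgroup D :=
    { carrier := {x | x ∈ Q ∧ x ^ q = 1 ∧ ∀ z ∈ Q, Commute x z}
      one_mem' := ⟨one_mem Q, one_pow q, fun z _ => Commute.one_left z⟩
      mul_mem' := fun {a b} ha hb => ⟨mul_mem ha.1 hb.1,
        by rw [(ha.2.2 b hb.1).mul_pow, ha.2.1, hb.2.1, one_mul],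
        fun z hz => (ha.2.2 z hz).mul_left (hb.2.2 z hz)⟩
      inv_mem' := fun {a} ha => ⟨inv_mem ha.1, by rw [inv_pow, ha.2.1, inv_one],
        fun z hz => (ha.2.2 z hz).inv_left⟩ }
  refine not_normalize_of_fix φ F ht hA hF hfix hFne hq hqt.symm E
    (fun a ha b hb => ha.2.2 b hb.1) (fun a ha => ha.2.1) ?_
    (fun h => ht.ne_one (by rw [← hy, h, orderOf_one])) (hy ▸ pow_orderOf_eq_one y) ?_
  · obtain ⟨k, hk, hcard⟩ := (hQ.to_subgroup (center Q)).nontrivial_iff_card.1 inferInstance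
    obtain ⟨z, hz⟩ := exists_prime_orderOf_dvd_card' (G := center Q) q
      (hcard.symm ▸ dvd_pow_self q hk.ne')
    intro hE
    have hzq : ((z : Q) : D) ^ q = 1 := by
      have h1 := congrArg (fun c : center Q => ((c : Q) : D)) (hz ▸ pow_orderOf_eq_one z : z ^ q = 1)
      simpa using h1
    have hmem : ((z : Q) : D) ∈ E := ⟨(z : Q).2, hzq,
      fun w hw => (congrArg Subtype.val (mem_center_iff.1 z.2 ⟨w, hw⟩)).symm⟩
    rw [hE, mem_bot] at hmem
    have : z = 1 := Subtype.ext (Subtype.ext hmem)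
    rw [this, orderOf_one] at hz
    exact hq.ne_one hz.symm
  · have key : ∀ g ∈ normalizer (Q : Set D), ∀ x ∈ E, g * x * g⁻¹ ∈ E := by
      intro g hg x hx
      refine ⟨(mem_normalizer_iff.1 hg x).1 hx.1, by rw [conj_pow, hx.2.1, mul_one, mul_inv_cancel],
        fun z hz => ?_⟩
      have hz' : g⁻¹ * z * g ∈ Q :=
        (mem_normalizer_iff.1 hg _).2 (by simpa [mul_assoc] using hz)
      show g * x * g⁻¹ * z = z * (g * x * g⁻¹)
      calc g * x * g⁻¹ * z = g * (x * (g⁻¹ * z * g)) * g⁻¹ := by group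
        _ = g * (g⁻¹ * z * g * x) * g⁻¹ := by rw [(hx.2.2 _ hz').eq]
        _ = z * (g * x * g⁻¹) := by group
    refine mem_normalizer_iff.2 fun x => ⟨fun hx => key y hn x hx, fun hx => ?_⟩
    have h1 := key y⁻¹ (inv_mem hn) _ hx
    simpa [mul_assoc] using h1

section Primes

variable {D : Type*} [Group D] [Finite D] {π : ℕ → Prop}

/-- An element of the normalizer of a `t`-subgroup, of order prime to `t` and `r`, centralizes it. -/
theorem mem_centralizer_of_noNorm (hN : ∀ q, q.Prime → π q → NoNorm D q) {t : ℕ} (ht : t.Prime)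
    {Q : Subgroup D} (hQ : IsPGroup t Q) {g : D} (hg : g ∈ normalizer (Q : Set D))
    (hgt : (orderOf g).Coprime t) (hπ : ∀ q, q.Prime → q ∣ orderOf g → π q) :
    g ∈ centralizer (Q : Set D) := by
  rcases eq_or_ne g 1 with h | h
  · rw [h]; exact one_mem _
  by_cases hQ1 : Q = ⊥
  · rw [hQ1, mem_centralizer_iff]
    intro x hx
    rw [show x = 1 from hx, one_mul, mul_one]
  obtain ⟨q, hq, hqg⟩ := exists_prime_dvd_orderOf h
  have hqt : t ≠ q := fun e => ht.ne_one (Nat.eq_one_of_dvd_coprimes hgt (e ▸ hqg) dvd_rfl)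
  obtain ⟨c, hc⟩ := hqg
  have hc0 : c ≠ 0 := fun e => (orderOf_pos g).ne' (by rw [hc, e, mul_zero])
  have hy : orderOf (g ^ c) = q := by
    rw [orderOf_pow_of_dvd hc0 ⟨q, by rw [hc, mul_comm]⟩, hc,
      Nat.mul_div_cancel _ (Nat.pos_of_ne_zero hc0)]
  exact absurd (pow_mem hg c) (hN q hq (hπ q hq ⟨c, hc⟩) t ht hqt Q hQ hQ1 _ hy)

theorem no_two_primes (hN : ∀ q, q.Prime → π q → NoNorm D q) {r : ℕ} (hr : r.Prime) (hπr : ¬ π r)
    (hD : ∀ q, q.Prime → q ∣ Nat.card D → π q ∨ q = r) {s t : ℕ} (hs : s.Prime) (ht : t.Prime)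
    (hst : s ≠ t) (hπs : π s) (hπt : π t) (hsD : s ∣ Nat.card D) (htD : t ∣ Nat.card D) :
    False := by
  haveI := Fact.mk hr
  haveI := Fact.mk hs
  haveI := Fact.mk ht
  obtain ⟨R, N, hNn, hNR⟩ := CfsgLib.Transfer.hasNormalPComplement_of_frobeniusCond (p := r)
    (G := D) fun Q hQ g hg hgr => mem_centralizer_of_noNorm hN hr hQ hg hgr fun q hq hqg =>
      (hD q hq (hqg.trans (orderOf_dvd_natCard g))).resolve_right fun e =>
        hr.ne_one (Nat.eq_one_of_dvd_coprimes hgr (e ▸ hqg) dvd_rfl)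
  obtain ⟨i, hi⟩ := IsPGroup.iff_card.1 R.isPGroup'
  have hidx : N.index = r ^ i := by rw [hNR.symm.index_eq_card]; exact hi
  have hNcard : ∀ q, q.Prime → q ≠ r → q ∣ Nat.card D → q ∣ Nat.card N := by
    intro q hq hqr hqD
    rw [← N.card_mul_index, hidx] at hqD
    exact (hq.dvd_mul.1 hqD).resolve_right fun h =>
      hqr ((Nat.prime_dvd_prime_iff_eq hq hr).1 (hq.dvd_of_dvd_pow h))
  have hNr : ¬ r ∣ Nat.card N := by
    rw [← hNR.index_eq_card]
    exact R.not_dvd_index
  have hπN : ∀ q, q.Prime → q ∣ Nat.card N → π q := fun q hq hqN =>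
    (hD q hq (hqN.trans (card_subgroup_dvd_card N))).resolve_right fun e => hNr (e ▸ hqN)
  -- the `r`-complement has a normal `t`-complement
  obtain ⟨T, L, hLn, hLT⟩ := CfsgLib.Transfer.hasNormalPComplement_of_frobeniusCond (p := t)
    (G := N) fun Q hQ g hg hgt => by
      have hn : (g : D) ∈ normalizer (Q.map N.subtype : Set D) :=
        le_normalizer_map N.subtype ⟨g, hg, rfl⟩
      have h1 := mem_centralizer_of_noNorm hN ht (hQ.map N.subtype) hn
        (by rw [orderOf_coe]; exact hgt)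
        (fun q hq hqg => hπN q hq (hqg.trans (by rw [orderOf_coe]; exact orderOf_dvd_natCard g)))
      rw [mem_centralizer_iff] at h1 ⊢
      exact fun x hx => Subtype.ext (h1 _ ⟨x, hx, rfl⟩)
  obtain ⟨j, hj⟩ := IsPGroup.iff_card.1 T.isPGroup'
  have hLidx : L.index = t ^ j := by rw [hLT.symm.index_eq_card]; exact hj
  have hsL : s ∣ Nat.card L := by
    have h1 := hNcard s hs (fun e => hπr (e ▸ hπs)) hsD
    rw [← L.card_mul_index, hLidx] at h1
    exact (hs.dvd_mul.1 h1).resolve_right fun h =>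
      hst ((Nat.prime_dvd_prime_iff_eq hs ht).1 (hs.dvd_of_dvd_pow h))
  have htL : t ∣ L.index := by
    have h1 := hNcard t ht (fun e => hπr (e ▸ hπt)) htD
    rw [← L.card_mul_index] at h1
    refine (ht.dvd_mul.1 h1).resolve_left ?_
    rw [← hLT.index_eq_card]
    exact T.not_dvd_index
  let S : Sylow s L := default
  haveI := hLn
  have hsup := Sylow.normalizer_sup_eq_top (N := L) S
  have hS : (S : Subgroup L) ≠ ⊥ := S.ne_bot_of_dvd_card hsL
  set M := normalizer ((S : Subgroup L).map L.subtype : Set N) with hM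
  have htM : t ∣ Nat.card M := by
    refine htL.trans ?_
    rw [← relIndex_top_right L, ← hsup, relIndex_sup_right]
    exact relIndex_dvd_card _ _
  obtain ⟨y, hy⟩ := exists_prime_orderOf_dvd_card' (G := M) t htM
  refine hN t ht hπt s hs hst (((S : Subgroup L).map L.subtype).map N.subtype)
    ((S.isPGroup'.map _).map _) ?_ ((y : N) : D) (by rw [orderOf_coe, orderOf_coe, hy])
    (le_normalizer_map N.subtype ⟨y, y.2, rfl⟩)
  rw [Ne, map_eq_bot_iff_of_injective _ N.subtype_injective,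
    map_eq_bot_iff_of_injective _ L.subtype_injective]
  exact hS

end Primes

end CfsgLib.TypeMN
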