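import Cfsg.Agent.Lib.Structure81.CoprimeClassBasic
import Cfsg.Agent.Lib.Structure81.ConjCover
import Cfsg.Agent.S4035

/-!
# Class sizes `1, m, m * n` with coprime `m` and `n`: first properties
-/

set_option autoImplicit false
set_option linter.style.haveILetI false

namespace CfsgLib.TypeMN

open Subgroup CfsgLib.Structure81.CoprimeClass

variable {G : Type*} [Group G]

/-- An element whose order is a power of `p`. -/
def PElt (p : ℕ) (x : G) : Prop := ∃ k : ℕ, x ^ p ^ k = 1

theorem pelt_one (p : ℕ) : PElt p (1 : G) := ⟨0, one_pow _⟩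

theorem PElt.pow {p : ℕ} {x : G} (h : PElt p x) (j : ℕ) : PElt p (x ^ j) := by
  obtain ⟨k, hk⟩ := h
  exact ⟨k, by rw [← pow_mul, mul_comm, pow_mul, hk, one_pow]⟩

theorem PElt.map {p : ℕ} {H : Type*} [Group H] {x : G} (h : PElt p x) (f : G →* H) :
    PElt p (f x) := by
  obtain ⟨k, hk⟩ := h
  exact ⟨k, by rw [← map_pow, hk, map_one]⟩

theorem PElt.conj {p : ℕ} {x : G} (h : PElt p x) (g : G) : PElt p (g * x * g⁻¹) :=
  h.map (MulAut.conj g).toMonoidHom

theorem PElt.mul {p : ℕ} {x y : G} (hx : PElt p x) (hy : PElt p y) (hc : Commute x y) :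
    PElt p (x * y) := by
  obtain ⟨i, hi⟩ := hx
  obtain ⟨j, hj⟩ := hy
  refine ⟨i + j, ?_⟩
  rw [hc.mul_pow, pow_add, pow_mul, hi, one_pow, one_mul, mul_comm, pow_mul, hj, one_pow]

theorem PElt.inv {p : ℕ} {x : G} (h : PElt p x) : PElt p x⁻¹ := by
  obtain ⟨k, hk⟩ := h
  exact ⟨k, by rw [inv_pow, hk, inv_one]⟩

theorem pelt_of_mem {p : ℕ} {P : Subgroup G} (hP : IsPGroup p P) {x : G} (hx : x ∈ P) :
    PElt p x := by
  obtain ⟨k, hk⟩ := hP ⟨x, hx⟩
  exact ⟨k, by simpa using congrArg Subtype.val hk⟩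

theorem pelt_subtype {p : ℕ} {H : Subgroup G} {x : H} : PElt p (x : G) ↔ PElt p x :=
  ⟨fun ⟨k, hk⟩ => ⟨k, Subtype.ext (by simpa using hk)⟩,
    fun h => h.map H.subtype⟩

theorem PElt.isPGroup {p : ℕ} {x : G} (hp : p.Prime) (h : PElt p x) :
    IsPGroup p (zpowers x) := by
  haveI := Fact.mk hp
  obtain ⟨k, hk⟩ := h
  obtain ⟨i, -, hi⟩ := (Nat.dvd_prime_pow hp).1 (orderOf_dvd_of_pow_eq_one hk)
  exact IsPGroup.of_card (n := i) (by rw [Nat.card_zpowers, hi])

theorem PElt.coprime {p : ℕ} {x : G} (h : PElt p x) {k : ℕ} (hk : p.Coprime k) :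
    (orderOf x).Coprime k := by
  obtain ⟨i, hi⟩ := h
  exact Nat.Coprime.coprime_dvd_left (orderOf_dvd_of_pow_eq_one hi) (Nat.Coprime.pow_left i hk)

theorem PElt.coprime_of_ne {p q : ℕ} (hp : p.Prime) (hq : q.Prime) (hpq : p ≠ q) {x : G}
    (h : PElt p x) : (orderOf x).Coprime q :=
  h.coprime ((Nat.coprime_primes hp hq).2 hpq)

theorem PElt.coprime_orderOf {p : ℕ} {x y : G} (h : PElt p x) (hy : (orderOf y).Coprime p) :
    (orderOf x).Coprime (orderOf y) :=
  h.coprime hy.symm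

theorem PElt.eq_one {p : ℕ} {x : G} (h : PElt p x) (hx : (orderOf x).Coprime p) : x = 1 := by
  rw [← orderOf_eq_one_iff]
  have := h.coprime_orderOf hx
  rwa [Nat.coprime_self] at this

theorem PElt.eq_one_of_pow {p j : ℕ} (hj : p.Coprime j) {x : G} (h : PElt p x) (hx : x ^ j = 1) :
    x = 1 := by
  rw [← orderOf_eq_one_iff]
  exact Nat.eq_one_of_dvd_coprimes (h.coprime hj) dvd_rfl (orderOf_dvd_of_pow_eq_one hx)

variable [Finite G]

/-- Splitting into the `p`-part and the part of order prime to `p`. -/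
theorem exists_parts {p : ℕ} (hp : p.Prime) (g : G) :
    ∃ u v : G, u * v = g ∧ Commute u v ∧ u ∈ zpowers g ∧ v ∈ zpowers g ∧ PElt p u ∧
      (orderOf v).Coprime p := by
  obtain ⟨k, j, hj, ho⟩ := Nat.exists_eq_pow_mul_and_not_dvd (orderOf_pos g).ne' p hp.ne_one
  have hc : Nat.Coprime (p ^ k) j := Nat.Coprime.pow_left k (hp.coprime_iff_not_dvd.2 hj)
  have hbez := Nat.gcd_eq_gcd_ab (p ^ k) j
  rw [hc.gcd_eq_one, Nat.cast_one] at hbez
  set A := Nat.gcdA (p ^ k) j
  set B := Nat.gcdB (p ^ k) j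
  refine ⟨g ^ ((j : ℤ) * B), g ^ (((p ^ k : ℕ) : ℤ) * A), ?_, ?_, ⟨_, rfl⟩, ⟨_, rfl⟩, ⟨k, ?_⟩, ?_⟩
  · rw [← zpow_add, show (j : ℤ) * B + ((p ^ k : ℕ) : ℤ) * A = 1 by linarith, zpow_one]
  · exact ((Commute.refl g).zpow_zpow _ _)
  · rw [← zpow_natCast, ← zpow_mul, show (j : ℤ) * B * ((p ^ k : ℕ) : ℤ) =
      ((p ^ k * j : ℕ) : ℤ) * B by push_cast; ring, ← ho, zpow_mul, zpow_natCast,
      pow_orderOf_eq_one, one_zpow]
  · refine Nat.Coprime.coprime_dvd_left (m := orderOf (g ^ (((p ^ k : ℕ) : ℤ) * A)))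
      (k := j) (orderOf_dvd_of_pow_eq_one ?_) (hp.coprime_iff_not_dvd.2 hj).symm
    rw [← zpow_natCast, ← zpow_mul, show ((p ^ k : ℕ) : ℤ) * A * (j : ℤ) =
      ((p ^ k * j : ℕ) : ℤ) * A by push_cast; ring, ← ho, zpow_mul, zpow_natCast,
      pow_orderOf_eq_one, one_zpow]

omit [Finite G] in
theorem exists_prime_dvd_orderOf {g : G} (hg : g ≠ 1) :
    ∃ q : ℕ, q.Prime ∧ q ∣ orderOf g :=
  Nat.exists_prime_and_dvd fun h => hg (orderOf_eq_one_iff.1 h)

/-- A noncentral element has a noncentral power of prime power order. -/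
theorem exists_noncentral_part {g : G} (hg : g ∉ center G) :
    ∃ (e p : ℕ), p.Prime ∧ PElt p (g ^ e) ∧ g ^ e ∉ center G := by
  by_contra! hcon
  exact hg (mem_of_parts fun e p k hp ho => hcon e p hp ⟨k, ho ▸ pow_orderOf_eq_one _⟩)

theorem exists_sylow_le {t : ℕ} [Fact t.Prime] {H : Subgroup G} (h : ¬ t ∣ H.index) :
    ∃ S : Sylow t G, (S : Subgroup G) ≤ H := by
  let R : Sylow t H := default
  have hR : ¬ t ∣ ((R : Subgroup H).map H.subtype).index := by
    rw [index_map_subtype]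
    intro hd
    rcases (Fact.out : t.Prime).dvd_mul.1 hd with h' | h'
    · exact R.not_dvd_index h'
    · exact h h'
  exact ⟨(R.isPGroup'.map H.subtype).toSylow hR, map_subtype_le _⟩

omit [Finite G] in
theorem exists_mem_sylow {t : ℕ} (ht : t.Prime) {x : G} (hx : PElt t x) :
    ∃ S : Sylow t G, x ∈ (S : Subgroup G) := by
  obtain ⟨S, hS⟩ := (hx.isPGroup ht).exists_le_sylow
  exact ⟨S, hS (mem_zpowers x)⟩

/-- If no class size is divisible by `t`, every `t`-element is central. -/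
theorem mem_center_of_free {t : ℕ} (ht : t.Prime) (h : ∀ x : G, ¬ t ∣ idx x) {u : G}
    (hu : PElt t u) : u ∈ center G := by
  haveI := Fact.mk ht
  obtain ⟨U, hU⟩ := exists_mem_sylow ht hu
  have hC : centralizer (U : Set G) = ⊤ := by
    refine CfsgLib.ConjCover.eq_top_of_conj_cover _ fun x => ?_
    obtain ⟨S, hS⟩ := exists_sylow_le (h x)
    obtain ⟨g, hg⟩ := MulAction.exists_smul_eq G U S
    refine ⟨g⁻¹, mem_centralizer_iff.2 fun y hy => ?_⟩
    have hy' : g * y * g⁻¹ ∈ (S : Subgroup G) := by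
      rw [← hg, Sylow.smul_def]
      exact ⟨y, hy, by simp⟩
    have h1 := (mem_cen.1 (hS hy')).eq
    calc y * (g⁻¹ * x * g⁻¹⁻¹) = g⁻¹ * (g * y * g⁻¹ * x) * g := by group
      _ = g⁻¹ * (x * (g * y * g⁻¹)) * g := by rw [h1]
      _ = g⁻¹ * x * g⁻¹⁻¹ * y := by group
  refine mem_center_iff.2 fun x => ?_
  exact (mem_centralizer_iff.1 (hC ▸ mem_top x) u hU).symm

omit [Finite G] in
theorem carrier_ncard (x : G) : (ConjClasses.mk x).carrier.ncard = idx x := by
  rw [← ConjAct.orbit_eq_carrier_conjClasses, ← MulAction.index_stabilizer (ConjAct G) (x : G),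
    ConjAct.stabilizer_eq_centralizer]
  rfl

omit [Finite G] in
/-- Class sizes inside a subgroup. -/
theorem idx_subtype_mul (H : Subgroup G) (x : H) :
    idx x * H.index = (H ⊓ cen (x : G)).index := by
  have h1 : cen x = (H ⊓ cen (x : G)).subgroupOf H := by
    ext y
    rw [mem_subgroupOf, mem_inf, mem_cen, mem_cen]
    exact ⟨fun h => ⟨y.2, congrArg Subtype.val h.eq⟩, fun h => Subtype.ext h.2⟩
  rw [idx, h1]
  exact relIndex_mul_index inf_le_left

/-- Class sizes in the centralizer of `a` of elements of order prime to that of `a`. -/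
theorem idx_cen_mul {a : G} (x : cen a) (hcop : (orderOf a).Coprime (orderOf (x : G))) :
    idx x * idx a = idx (a * (x : G)) := by
  rw [idx_subtype_mul, ← cen_mul (mem_cen.1 x.2).symm hcop]

/-- The hypothesis: the class sizes are `1`, `m` and `m * n`, where `m` and `n` are coprime. -/
structure Hyp (G : Type*) [Group G] (m n : ℕ) : Prop where
  one_lt_m : 1 < m
  one_lt_n : 1 < n
  cop : m.Coprime n
  sizes : ∀ x : G, idx x = 1 ∨ idx x = m ∨ idx x = m * n
  exists_m : ∃ x : G, idx x = m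
  exists_mn : ∃ x : G, idx x = m * n

namespace Hyp

variable {m n : ℕ}

omit [Finite G] in
theorem noncentral (h : Hyp G m n) {g : G} (hg : g ∉ center G) : idx g = m ∨ idx g = m * n :=
  (h.sizes g).resolve_left fun h1 => hg (idx_eq_one_iff.1 h1)

omit [Finite G] in
theorem not_dvd_n (h : Hyp G m n) {s : ℕ} (hs : s.Prime) (hsm : s ∣ m) : ¬ s ∣ n := fun hn =>
  hs.ne_one (Nat.eq_one_of_dvd_coprimes h.cop hsm hn)

omit [Finite G] in
theorem factorization_idx (h : Hyp G m n) {s : ℕ} (hs : s.Prime) (hsm : s ∣ m) {g : G}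
    (hg : g ∉ center G) : (idx g).factorization s = m.factorization s := by
  have hm := h.one_lt_m
  have hn := h.one_lt_n
  rcases h.noncentral hg with e | e
  · rw [e]
  · rw [e, Nat.factorization_mul (by omega) (by omega), Finsupp.add_apply,
      Nat.factorization_eq_zero_of_not_dvd (h.not_dvd_n hs hsm), add_zero]

omit [Finite G] in
theorem dvd_idx (h : Hyp G m n) {g : G} (hg : g ∉ center G) : m ∣ idx g := by
  rcases h.noncentral hg with e | e <;> rw [e]
  exact dvd_mul_right m n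

theorem mul_notMem_center (_h : Hyp G m n) {a x : G} (ha : a ∉ center G) (hc : Commute a x)
    (hcop : (orderOf a).Coprime (orderOf x)) : a * x ∉ center G := by
  intro hz
  obtain ⟨k, hk⟩ := exists_pow_eq_of_coprime hc hcop
  exact ha (hk ▸ pow_mem hz k)

/-- In `C(a)`, classes of elements of order prime to that of `a` have size prime to `s`. -/
theorem not_dvd_idx_cen (h : Hyp G m n) {s : ℕ} (hs : s.Prime) (hsm : s ∣ m) {a : G}
    (ha : a ∉ center G) (x : cen a) (hcop : (orderOf a).Coprime (orderOf (x : G))) :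
    ¬ s ∣ idx x := by
  intro hd
  have e := idx_cen_mul x hcop
  have h1 := h.factorization_idx hs hsm ha
  have h2 := h.factorization_idx hs hsm
    (h.mul_notMem_center ha (mem_cen.1 x.2).symm hcop)
  have hx0 : idx x ≠ 0 := index_ne_zero_of_finite
  rw [← e, Nat.factorization_mul hx0 index_ne_zero_of_finite, Finsupp.add_apply, h1] at h2
  have := hs.factorization_pos_of_dvd hx0 hd
  omega

/-- The centralizer of a noncentral `s`-element splits off its Sylow `s`-subgroup. -/
theorem cen_split (h : Hyp G m n) {s : ℕ} (hs : s.Prime) (hsm : s ∣ m) {a : G}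
    (ha : a ∉ center G) (has : PElt s a) :
    ∃ S : Subgroup G, IsPGroup s S ∧ S ≤ cen a ∧ cen a ≤ normalizer (S : Set G) ∧
      (∀ u ∈ cen a, PElt s u → u ∈ S) ∧
      ∀ u ∈ S, ∀ v ∈ cen a, (orderOf v).Coprime s → Commute u v := by
  haveI := Fact.mk hs
  let P : Sylow s (cen a) := default
  obtain ⟨hPn, H, hHn, hH, hPH, hPH'⟩ := Cfsg.Agent.S4035.result (p := s) (fun x hx => by
    rw [carrier_ncard]
    rw [← orderOf_coe] at hx
    exact h.not_dvd_idx_cen hs hsm ha x (has.coprime_orderOf hx)) P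
  have hmem : ∀ u ∈ cen a, PElt s u → u ∈ (P : Subgroup (cen a)).map (cen a).subtype := by
    intro u hu hus
    obtain ⟨Q, hQ⟩ := exists_mem_sylow hs ((pelt_subtype (x := (⟨u, hu⟩ : cen a))).1 hus)
    haveI := Sylow.unique_of_normal P hPn
    rw [Subsingleton.elim Q P] at hQ
    exact ⟨_, hQ, rfl⟩
  refine ⟨(P : Subgroup (cen a)).map (cen a).subtype, P.isPGroup'.map _, map_subtype_le _, ?_,
    hmem, ?_⟩
  · intro g hg
    rw [mem_normalizer_iff]
    intro x
    constructor
    · rintro ⟨y, hy, rfl⟩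
      exact ⟨⟨g, hg⟩ * y * ⟨g, hg⟩⁻¹, hPn.conj_mem y hy _, rfl⟩
    · rintro ⟨y, hy, e⟩
      refine ⟨⟨g, hg⟩⁻¹ * y * ⟨g, hg⟩, ?_, ?_⟩
      · have h1 := hPn.conj_mem y hy (⟨g, hg⟩⁻¹ : cen a)
        rwa [inv_inv] at h1
      have e' : (y : G) = g * x * g⁻¹ := e
      show g⁻¹ * (y : G) * g = x
      rw [e']
      group
  · rintro _ ⟨u, hu, rfl⟩ v hv hvs
    have hvH : (⟨v, hv⟩ : cen a) ∈ H := by
      haveI := hHn
      have hidx : H.index = Nat.card (P : Subgroup (cen a)) := by
        have hc : IsComplement' (P : Subgroup (cen a)) H :=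
          isComplement'_of_disjoint_and_mul_eq_univ (disjoint_iff.2 hPH)
            (by rw [← mul_normal, hPH', coe_top])
        exact hc.index_eq_card
      have h1 : (⟨v, hv⟩ : cen a) ^ H.index ∈ H := pow_index_mem _ _
      obtain ⟨i, hi⟩ := IsPGroup.iff_card.1 P.isPGroup'
      have hc : (orderOf (⟨v, hv⟩ : cen a)).Coprime H.index := by
        rw [orderOf_mk, hidx, hi]
        exact hvs.pow_right i
      obtain ⟨j, hj⟩ := exists_pow_eq_self_of_coprime hc.symm
      rw [← hj]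
      exact pow_mem h1 j
    exact congrArg Subtype.val
      (commute_of_normal_of_disjoint _ _ hPn hHn (disjoint_iff.2 hPH) u _ hu hvH).eq

theorem commute_of_pelt (h : Hyp G m n) {s : ℕ} (hs : s.Prime) (hsm : s ∣ m) {a : G}
    (ha : a ∉ center G) (has : PElt s a) {u v : G} (hu : u ∈ cen a) (hus : PElt s u)
    (hv : v ∈ cen a) (hvs : (orderOf v).Coprime s) : Commute u v := by
  obtain ⟨S, -, -, -, hS, hS'⟩ := h.cen_split hs hsm ha has
  exact hS' u (hS u hu hus) v hv hvs

theorem exists_noncentral_pelt (h : Hyp G m n) {s : ℕ} (hs : s.Prime) (hsm : s ∣ m) :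
    ∃ a : G, PElt s a ∧ a ∉ center G := by
  haveI := Fact.mk hs
  by_contra! hcon
  obtain ⟨x, hx⟩ := h.exists_m
  let S : Sylow s G := default
  have hle : (S : Subgroup G) ≤ cen x := fun y hy =>
    mem_cen.2 ((mem_center_iff.1 (hcon y (pelt_of_mem S.isPGroup' hy)) x).symm)
  have : s ∣ idx x := hx.symm ▸ hsm
  exact S.not_dvd_index (this.trans (index_dvd_of_le hle))

omit [Finite G] in
theorem mem_center_of_le_cen {g : G} (h : cen g = ⊤) : g ∈ center G := cen_eq_top_iff.1 h

/-- Every centralizer contains noncentral `s`-elements. -/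
theorem exists_pelt_cen (h : Hyp G m n) {s : ℕ} (hs : s.Prime) (hsm : s ∣ m) (g : G) :
    ∃ u : G, PElt s u ∧ u ∈ cen g ∧ u ∉ center G := by
  haveI := Fact.mk hs
  obtain ⟨a, has, ha⟩ := h.exists_noncentral_pelt hs hsm
  by_cases hg : g ∈ center G
  · exact ⟨a, has, by rw [cen_eq_top_iff.2 hg]; exact mem_top a, ha⟩
  by_contra! hcon
  let S : Sylow s (cen g) := default
  set S' := (S : Subgroup (cen g)).map (cen g).subtype with hS'
  have hS'p : IsPGroup s S' := S.isPGroup'.map _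
  have hS'Z : S' ≤ center G := fun y hy =>
    hcon y (pelt_of_mem hS'p hy) (map_subtype_le _ hy)
  have hnorm : zpowers a ≤ normalizer (S' : Set G) :=
    le_trans (fun y _ => mem_centralizer_iff.2 fun z hz => (mem_center_iff.1 (hS'Z hz) y).symm)
      (centralizer_le_normalizer _)
  have hT : IsPGroup s ↥(S' ⊔ zpowers a) := hS'p.to_sup_of_normal_left' (has.isPGroup hs) hnorm
  have hle : S' ⊔ zpowers a ≤ cen a := by
    refine sup_le (fun y hy => mem_cen.2 ((mem_center_iff.1 (hS'Z hy) a).symm)) ?_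
    rw [zpowers_le]
    exact mem_cen.2 (Commute.refl a)
  obtain ⟨i, hi⟩ := IsPGroup.iff_card.1 hT
  have h1 : i ≤ (Nat.card (cen a)).factorization s :=
    (hs.pow_dvd_iff_le_factorization Nat.card_pos.ne').1 (hi ▸ card_dvd_of_le hle)
  have hfac : (Nat.card (cen a)).factorization s = (Nat.card (cen g)).factorization s := by
    have e1 := congrArg (fun k => Nat.factorization k s) (cen a).card_mul_index
    have e2 := congrArg (fun k => Nat.factorization k s) (cen g).card_mul_index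
    simp only [Nat.factorization_mul Nat.card_pos.ne' index_ne_zero_of_finite,
      Finsupp.add_apply] at e1 e2
    have e3 := h.factorization_idx hs hsm ha
    have e4 := h.factorization_idx hs hsm hg
    simp only [idx] at e3 e4
    omega
  have h2 : Nat.card S' = s ^ (Nat.card (cen g)).factorization s := by
    rw [hS', card_map_of_injective (cen g).subtype_injective]
    exact S.card_eq_multiplicity
  have h3 : S' ⊔ zpowers a = S' :=
    (eq_of_le_of_card_ge le_sup_left (by
      rw [hi, h2]; exact Nat.pow_le_pow_right hs.pos (hfac ▸ h1))).symm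
  exact ha (hS'Z (h3 ▸ mem_sup_right (mem_zpowers a)))

end Hyp

end CfsgLib.TypeMN
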