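import Cfsg.Agent.Lib.Structure.TypeOneMNPrimePower
import Cfsg.Agent.S4127
import Cfsg.Agent.H79Basic
import Cfsg.Agent.Lib.InvChar.SolvableTwo
import Cfsg.Agent.Lib.PCore.Basic
import Cfsg.Agent.Lib.Components.Local
import Cfsg.Agent.Lib.Characters.Burnside

/-!
# Class sizes `1, m, m * n`: the normal `p`-complement
-/

set_option autoImplicit false
set_option linter.style.haveILetI false

namespace CfsgLib.TypeMN

open Subgroup CfsgLib.Structure81.CoprimeClass

variable {G : Type*} [Group G] [Finite G] {m n : ℕ}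

/-- Commuting `p`-elements of a quotient by a normal `p'`-subgroup lift to commuting `p`-elements. -/
theorem exists_commuting_lift {p : ℕ} (hp : p.Prime) (N : Subgroup G) [N.Normal]
    (hN : ¬ p ∣ Nat.card N) {t : G} (ht : PElt p t) {c : G ⧸ N} (hc : PElt p c)
    (hct : Commute c (t : G ⧸ N)) : ∃ w : G, (w : G ⧸ N) = c ∧ PElt p w ∧ Commute w t := by
  haveI := Fact.mk hp
  have hsurj : Function.Surjective (QuotientGroup.mk' N) := QuotientGroup.mk'_surjective N
  have htq : PElt p (t : G ⧸ N) := ht.map (QuotientGroup.mk' N)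
  have hnorm : zpowers c ≤ normalizer (zpowers (t : G ⧸ N) : Set (G ⧸ N)) := by
    refine le_trans ?_ (centralizer_le_normalizer _)
    rw [zpowers_le, mem_centralizer_iff]
    rintro x ⟨i, rfl⟩
    exact (hct.zpow_right i).symm.eq
  obtain ⟨R, hR⟩ := ((htq.isPGroup hp).to_sup_of_normal_left' (hc.isPGroup hp) hnorm).exists_le_sylow
  let P : Sylow p G := default
  obtain ⟨gq, hgq⟩ := MulAction.exists_smul_eq (G ⧸ N) (P.mapSurjective hsurj) R
  obtain ⟨g, rfl⟩ := hsurj gq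
  have hlift : ∀ x ∈ (R : Subgroup (G ⧸ N)), ∃ y ∈ (P : Subgroup G),
      QuotientGroup.mk' N (g * y * g⁻¹) = x := by
    intro x hx
    rw [← hgq, Sylow.smul_def] at hx
    obtain ⟨z, hz, rfl⟩ := hx
    obtain ⟨y, hy, rfl⟩ := hz
    exact ⟨y, hy, by simp⟩
  obtain ⟨w0, hw0, hw0e⟩ := hlift c (hR (mem_sup_right (mem_zpowers c)))
  obtain ⟨t0, ht0, ht0e⟩ := hlift (t : G ⧸ N) (hR (mem_sup_left (mem_zpowers _)))
  have hcomm : w0 * t0 * w0⁻¹ * t0⁻¹ = 1 := by
    have hP : PElt p (w0 * t0 * w0⁻¹ * t0⁻¹) := pelt_of_mem P.isPGroup'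
      (mul_mem (mul_mem (mul_mem hw0 ht0) (inv_mem hw0)) (inv_mem ht0))
    refine hP.eq_one (CfsgLib.Transfer.coprime_orderOf_of_not_dvd hN ?_)
    have hmem : g * (w0 * t0 * w0⁻¹ * t0⁻¹) * g⁻¹ ∈ N := by
      rw [← QuotientGroup.eq_one_iff, ← QuotientGroup.mk'_apply]
      have e : g * (w0 * t0 * w0⁻¹ * t0⁻¹) * g⁻¹ =
          (g * w0 * g⁻¹) * (g * t0 * g⁻¹) * (g * w0 * g⁻¹)⁻¹ * (g * t0 * g⁻¹)⁻¹ := by group
      rw [e, map_mul, map_mul, map_mul, map_inv, map_inv, hw0e, ht0e, hct.eq]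
      group
    simpa [mul_assoc] using (inferInstance : N.Normal).conj_mem _ hmem g⁻¹
  have ht' : PElt p (g * t0 * g⁻¹) := (pelt_of_mem P.isPGroup' ht0).conj g
  obtain ⟨k1, hk1⟩ := ht
  obtain ⟨k2, hk2⟩ := ht'
  obtain ⟨u, hu, hue⟩ := H79.exists_conj_of_quotient_eq N (k := k1 + k2) hp hN t (g * t0 * g⁻¹)
    ((orderOf_dvd_of_pow_eq_one hk1).trans (pow_dvd_pow p (Nat.le_add_right _ _)))
    ((orderOf_dvd_of_pow_eq_one hk2).trans (pow_dvd_pow p (Nat.le_add_left _ _)))
    (by exact ht0e)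
  refine ⟨u * (g * w0 * g⁻¹) * u⁻¹, ?_, ((pelt_of_mem P.isPGroup' hw0).conj g).conj u, ?_⟩
  · rw [← QuotientGroup.mk'_apply, map_mul, map_mul, map_inv, hw0e,
      QuotientGroup.mk'_apply, (QuotientGroup.eq_one_iff u).2 hu, one_mul, inv_one, mul_one]
  · rw [← hue]
    show u * (g * w0 * g⁻¹) * u⁻¹ * (u * (g * t0 * g⁻¹) * u⁻¹) =
      u * (g * t0 * g⁻¹) * u⁻¹ * (u * (g * w0 * g⁻¹) * u⁻¹)
    have e : w0 * t0 = t0 * w0 := by
      have h1 : w0 * t0 * w0⁻¹ = t0 := mul_inv_eq_one.1 hcomm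
      calc w0 * t0 = w0 * t0 * w0⁻¹ * w0 := by group
        _ = t0 * w0 := by rw [h1]
    calc u * (g * w0 * g⁻¹) * u⁻¹ * (u * (g * t0 * g⁻¹) * u⁻¹) = u * g * (w0 * t0) * g⁻¹ * u⁻¹ := by
          group
      _ = u * g * (t0 * w0) * g⁻¹ * u⁻¹ := by rw [e]
      _ = u * (g * t0 * g⁻¹) * u⁻¹ * (u * (g * w0 * g⁻¹) * u⁻¹) := by group

namespace Hyp

theorem hasNormalPComplement_of_solvable (h : Hyp G m n) {p : ℕ} (hp : p.Prime) (hpm : p ∣ m)
    (hsol : Group.IsSolvable G) : Cfsg.HasNormalPComplement p G := by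
  haveI := Fact.mk hp
  haveI := hsol
  set O := Cfsg.pPrimeCore p G with hO
  have hOc : ¬ p ∣ Nat.card O := CfsgLib.PCore.not_dvd_card_pPrimeCore
  haveI : O.Normal := inferInstance
  haveI : Group.IsSolvable (G ⧸ O) := inferInstance
  set Q := Cfsg.pCore p (G ⧸ O) with hQ
  have hQn : normalizer (Q : Set (G ⧸ O)) = ⊤ := normalizer_eq_top_iff.2 inferInstance
  have hQp : IsPGroup p Q := CfsgLib.PCore.pCore_isPGroup
  have hall : ∀ y : G, (orderOf y).Coprime p → y ∈ O := by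
    intro y hy
    by_cases hyc : y ∈ center G
    · refine CfsgLib.PCore.le_pPrimeCore (N := zpowers y) ⟨fun x hx g => ?_⟩ ?_ (mem_zpowers y)
      · rw [mem_center_iff.1 (zpowers_le.2 hyc hx) g, mul_inv_cancel_right]
        exact hx
      · rw [Nat.card_zpowers]; exact hy
    obtain ⟨t, ht, hty, htc⟩ := h.exists_pelt_cen hp hpm y
    have hyt : y ∈ cen t := mem_cen.2 (mem_cen.1 hty).symm
    have key : (y : G ⧸ O) ∈ centralizer (Q : Set (G ⧸ O)) := by
      refine CfsgLib.Components.mem_centralizer_of_AxB (P := zpowers (t : G ⧸ O)) hQp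
        ((ht.map (QuotientGroup.mk' O)).isPGroup hp) (by rw [hQn]; exact le_top)
        (by rw [hQn]; exact mem_top _) ?_
        (Nat.Coprime.coprime_dvd_left (orderOf_map_dvd (QuotientGroup.mk' O) y) hy) ?_
      · rw [mem_centralizer_iff]
        rintro _ ⟨i, rfl⟩
        exact ((((mem_cen.1 hty).map (QuotientGroup.mk' O))).zpow_left i).eq
      · intro c hc hct
        obtain ⟨w, rfl, hw, hwt⟩ := exists_commuting_lift hp O hOc ht (pelt_of_mem hQp hc)
          (mem_centralizer_iff.1 hct _ (mem_zpowers _)).symm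
        rw [← QuotientGroup.mk_mul, ← QuotientGroup.mk_mul,
          (h.commute_of_pelt hp hpm htc ht (mem_cen.2 hwt) hw hyt hy).eq]
    have h1 := CfsgLib.InvChar.centralizer_pCore_le
      (CfsgLib.PCore.pPrimeCore_quotient_pPrimeCore (p := p) (G := G)) key
    exact (QuotientGroup.eq_one_iff y).1 ((pelt_of_mem hQp h1).eq_one
      (Nat.Coprime.coprime_dvd_left (orderOf_map_dvd (QuotientGroup.mk' O) y) hy))
  refine CfsgLib.Transfer.hasNormalPComplement_of_coprime O hOc fun x => ?_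
  obtain ⟨g, rfl⟩ := QuotientGroup.mk_surjective x
  obtain ⟨u, v, hmul, -, -, -, hu, hv⟩ := exists_parts hp g
  obtain ⟨k, hk⟩ := hu.map (QuotientGroup.mk' O)
  refine ⟨k, ?_⟩
  rw [← hmul, QuotientGroup.mk_mul, (QuotientGroup.eq_one_iff v).2 (hall v hv), mul_one]
  exact hk

/-- `G` has a normal `p`-complement. -/
theorem hasNormalPComplement (h : Hyp G m n) {p b : ℕ} (hp : p.Prime) (hb : 0 < b)
    (hmb : m = p ^ b) : Cfsg.HasNormalPComplement p G := by
  haveI := Fact.mk hp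
  have hm := h.one_lt_m
  have hn := h.one_lt_n
  have hpm : p ∣ m := hmb ▸ dvd_pow_self p hb.ne'
  have hpn := h.not_dvd_n hp hpm
  by_cases hex : ∃ x : G, PElt p x ∧ idx x = m
  · obtain ⟨x, ⟨k, hk⟩, hx⟩ := hex
    refine Cfsg.Agent.S4127.result p b ?_ ?_
    · intro y hd
      change p ^ (b + 1) ∣ idx y at hd
      rcases h.sizes y with e | e | e <;> rw [e] at hd
      · have := Nat.le_of_dvd one_pos hd
        have : 1 < p ^ (b + 1) := Nat.one_lt_pow (Nat.succ_ne_zero b) hp.one_lt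
        omega
      · rw [hmb, Nat.pow_dvd_pow_iff_le_right hp.one_lt] at hd
        omega
      · rw [hmb, pow_succ] at hd
        exact hpn (Nat.dvd_of_mul_dvd_mul_left (pow_pos hp.pos b) hd)
    · obtain ⟨i, -, hi⟩ := (Nat.dvd_prime_pow hp).1 (orderOf_dvd_of_pow_eq_one hk)
      exact ⟨x, ⟨i, hi⟩, hx.trans hmb⟩
  push Not at hex
  refine h.hasNormalPComplement_of_solvable hp hpm ?_
  obtain ⟨k, r, hr, hk, hkc, hkm⟩ := h.exists_part_m
  have hrp : r ≠ p := fun e => hex k (e ▸ hk) hkm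
  have hrm : ¬ r ∣ m := fun hd =>
    hrp ((Nat.prime_dvd_prime_iff_eq hr hp).1 (hr.dvd_of_dvd_pow (hmb ▸ hd)))
  obtain ⟨a, ha⟩ := h.n_eq_pow hr hp hpm hrm hk hkc hkm
    fun x hx hxc => (h.noncentral hxc).resolve_left (hex x hx)
  have hprimes : ∀ q, q.Prime → q ∣ (center G).index → q = p ∨ q = r := by
    intro q hq hqd
    by_contra! hne
    haveI := Fact.mk hq
    have hfree : ∀ x : G, ¬ q ∣ idx x := by
      intro x hd
      have hqp : ¬ q ∣ m := fun e =>
        hne.1 ((Nat.prime_dvd_prime_iff_eq hq hp).1 (hq.dvd_of_dvd_pow (hmb ▸ e)))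
      rcases h.sizes x with e | e | e <;> rw [e] at hd
      · exact hq.not_dvd_one hd
      · exact hqp hd
      · rcases hq.dvd_mul.1 hd with h1 | h1
        · exact hqp h1
        · exact hne.2 ((Nat.prime_dvd_prime_iff_eq hq hr).1 (hq.dvd_of_dvd_pow (ha ▸ h1)))
    let S : Sylow q G := default
    exact S.not_dvd_index (hqd.trans (index_dvd_of_le fun x hx =>
      mem_center_of_free hq hfree (pelt_of_mem S.isPGroup' hx)))
  obtain ⟨i, c, hc, hic⟩ := Nat.exists_eq_pow_mul_and_not_dvd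
    (index_ne_zero_of_finite (H := center G)) p hp.ne_one
  have hc0 : c ≠ 0 := fun e => hc (e ▸ dvd_zero p)
  have hcr : c = r ^ c.primeFactorsList.length := Nat.eq_prime_pow_of_unique_prime_dvd hc0
    fun {d} hd hdc => (hprimes d hd (hdc.trans (Dvd.intro_left _ hic.symm))).resolve_left
      fun e => hc (e ▸ hdc)
  haveI : Group.IsSolvable (G ⧸ center G) :=
    CfsgLib.Burnside.isSolvable_of_card_eq hp hr i c.primeFactorsList.length
      (by rw [← index_eq_card, hic, ← hcr])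
  haveI : Group.IsSolvable (center G) := Group.isSolvable_of_comm fun x y => Subtype.ext
    (mem_center_iff.1 y.2 x)
  exact Group.isSolvable_of_ker_le_range (center G).subtype (QuotientGroup.mk' (center G))
    (by rw [QuotientGroup.ker_mk', range_subtype])

end Hyp

end CfsgLib.TypeMN
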