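import Cfsg.Agent.Lib.Structure.TypeOneMNAction
import Cfsg.Agent.S4033
import Cfsg.Agent.S4034
import Cfsg.Agent.Lib.Structure81.CoprimeTopClasses

/-!
# Class sizes `1, m, m * n`: the number `m` is a prime power
-/

set_option autoImplicit false
set_option linter.style.haveILetI false

namespace CfsgLib.TypeMN

open Subgroup CfsgLib.Structure81.CoprimeClass

variable {G : Type*} [Group G] [Finite G] {m n : ℕ}

namespace Hyp

theorem exists_part_m (h : Hyp G m n) :
    ∃ (k : G) (r : ℕ), r.Prime ∧ PElt r k ∧ k ∉ center G ∧ idx k = m := by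
  obtain ⟨x, hx⟩ := h.exists_m
  have hxc : x ∉ center G := fun hc => by
    have := idx_eq_one_iff.2 hc
    have := h.one_lt_m
    omega
  obtain ⟨e, r, hr, hk, hkc⟩ := exists_noncentral_part hxc
  exact ⟨x ^ e, r, hr, hk, hkc,
    Nat.dvd_antisymm (hx ▸ idx_pow_dvd x e) (h.dvd_idx hkc)⟩

/-- If an `r`-element with `r ∤ m` has class size `m` and the noncentral `t`-elements, `t ∣ m`,
have class size `m * n`, then `n` is a power of `r`. -/
theorem n_eq_pow (h : Hyp G m n) {r t : ℕ} (hr : r.Prime) (ht : t.Prime) (htm : t ∣ m)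
    (hrm : ¬ r ∣ m) {k : G} (hk : PElt r k) (hkc : k ∉ center G) (hkm : idx k = m)
    (hmn : ∀ b : G, PElt t b → b ∉ center G → idx b = m * n) : ∃ i, n = r ^ i := by
  haveI := Fact.mk hr
  haveI := Fact.mk ht
  have hm := h.one_lt_m
  have hn := h.one_lt_n
  have hrt : r ≠ t := fun e => hrm (e ▸ htm)
  have hcl : ∀ x : cen k, (orderOf x).Coprime r → idx x = 1 ∨ idx x = n := by
    intro x hx
    rw [← orderOf_coe] at hx
    have e := idx_cen_mul x (hk.coprime_orderOf hx)
    rw [hkm] at e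
    rcases h.noncentral (h.mul_notMem_center hkc (mem_cen.1 x.2).symm (hk.coprime_orderOf hx))
      with e' | e' <;> rw [e'] at e
    · exact Or.inl (Nat.eq_of_mul_eq_mul_right (by omega : 0 < m) (e.trans (one_mul m).symm))
    · exact Or.inr (Nat.eq_of_mul_eq_mul_right (by omega : 0 < m) (e.trans (mul_comm m n)))
  obtain ⟨b, hb, hbk, hbc⟩ := h.exists_pelt_cen ht htm k
  have hbr : (orderOf b).Coprime r := hb.coprime_of_ne ht hr hrt.symm
  have hidxb : idx (⟨b, hbk⟩ : cen k) = n := by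
    have e := idx_cen_mul (⟨b, hbk⟩ : cen k) (hk.coprime_orderOf hbr)
    have hc : Commute k b := (mem_cen.1 hbk).symm
    have h1 : idx b ∣ idx (k * b) := by
      rw [idx, idx, cen_mul hc (hk.coprime_orderOf hbr)]
      exact index_dvd_of_le inf_le_right
    have h2 := h.noncentral (h.mul_notMem_center hkc hc (hk.coprime_orderOf hbr))
    rw [hmn b hb hbc] at h1
    have h3 : idx (k * b) = m * n := h2.resolve_left fun h2 => by
      have := Nat.le_of_dvd (by omega) (h2 ▸ h1)
      nlinarith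
    rw [hkm, h3] at e
    exact Nat.eq_of_mul_eq_mul_right (by omega : 0 < m) (e.trans (mul_comm m n))
  have h2 : Set.ncard (Set.range fun x : {x : cen k // (orderOf x).Coprime r} =>
      (ConjClasses.mk (x : cen k)).carrier.ncard) = 2 := by
    have hset : (Set.range fun x : {x : cen k // (orderOf x).Coprime r} =>
        (ConjClasses.mk (x : cen k)).carrier.ncard) = {1, n} := by
      refine Set.Subset.antisymm ?_ ?_
      · rintro _ ⟨x, rfl⟩
        show (ConjClasses.mk (x : cen k)).carrier.ncard ∈ ({1, n} : Set ℕ)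
        rw [carrier_ncard]
        exact hcl x x.2
      · rintro v (rfl | rfl)
        · refine ⟨⟨1, by simp⟩, ?_⟩
          show (ConjClasses.mk (1 : cen k)).carrier.ncard = 1
          rw [carrier_ncard]
          exact idx_eq_one_iff.2 (one_mem _)
        · exact ⟨⟨⟨b, hbk⟩, by rw [orderOf_mk]; exact hbr⟩, by
            show (ConjClasses.mk (⟨b, hbk⟩ : cen k)).carrier.ncard = _
            rw [carrier_ncard, hidxb]⟩
    rw [hset, Set.ncard_pair (by omega)]
  rcases Cfsg.Agent.S4033.result hr h2 with hab | ⟨q, hq, P, Q, A, hqr, hA, hPQ, hn', hinf, hsup⟩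
  · obtain ⟨i, hi⟩ := (Cfsg.Agent.S4034.result hr).2 hab ⟨b, hbk⟩ (by rw [orderOf_mk]; exact hbr)
    rw [carrier_ncard, hidxb] at hi
    exact ⟨i, hi⟩
  haveI := hn'
  have hAidx : A.index = Nat.card P * Nat.card Q := by
    rw [← hPQ]
    exact (isComplement'_of_disjoint_and_mul_eq_univ (disjoint_iff.2 hinf)
      (by rw [← normal_mul, hsup, coe_top])).index_eq_card
  obtain ⟨i, hi⟩ := IsPGroup.iff_card.1 P.isPGroup'
  obtain ⟨j, hj⟩ := IsPGroup.iff_card.1 Q.isPGroup'
  have hAn : A.Normal :=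
    ⟨fun x hx g => by rw [mem_center_iff.1 (hA hx) g, mul_inv_cancel_right]; exact hx⟩
  have hndvd : n ∣ r ^ i * q ^ j := by
    rw [← hi, ← hj, ← hAidx, ← hidxb]
    exact index_dvd_of_le (hA.trans fun x hx => mem_cen.2 ((mem_center_iff.1 hx _).symm))
  have hqt : q = t := by
    by_contra hqt
    have hbt : PElt t (⟨b, hbk⟩ : cen k) := pelt_subtype.1 hb
    have hc : (orderOf (⟨b, hbk⟩ : cen k)).Coprime A.index := by
      rw [hAidx, hi, hj]
      exact Nat.Coprime.mul_right ((hbt.coprime_of_ne ht hr hrt.symm).pow_right i)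
        ((hbt.coprime_of_ne ht hq.out (Ne.symm hqt)).pow_right j)
    haveI := hAn
    obtain ⟨l, hl⟩ := exists_pow_eq_self_of_coprime hc.symm
    have hbA : (⟨b, hbk⟩ : cen k) ∈ A := hl ▸ pow_mem (pow_index_mem _ _) l
    rw [idx_eq_one_iff.2 (hA hbA)] at hidxb
    omega
  have hcop : n.Coprime (q ^ j) :=
    Nat.Coprime.pow_right j (hq.out.coprime_iff_not_dvd.2 (hqt ▸ h.not_dvd_n ht htm)).symm
  obtain ⟨i', -, hi'⟩ := (Nat.dvd_prime_pow hr).1 (hcop.dvd_of_dvd_mul_right hndvd)
  exact ⟨i', hi'⟩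

/-- In `C(a)`, `a` a noncentral `s`-element, the `t`-elements are central for `t ∣ m`, `t ≠ s`. -/
theorem commute_cen_of_ne (h : Hyp G m n) {s t : ℕ} (hs : s.Prime) (hsm : s ∣ m) (ht : t.Prime)
    (htm : t ∣ m) (hst : s ≠ t) {a : G} (ha : a ∉ center G) (has : PElt s a) {u : G}
    (hu : u ∈ cen a) (hut : PElt t u) {x : G} (hx : x ∈ cen a) : Commute u x := by
  haveI := Fact.mk ht
  have hfree : ∀ y : cen a, ¬ t ∣ idx y := by
    intro y
    obtain ⟨us, v, hmul, hc, -, -, hus, hv⟩ := exists_parts hs y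
    have hvG : (orderOf (v : G)).Coprime s := by rwa [orderOf_coe]
    have hvt : ¬ t ∣ idx v := by
      intro hd
      have e := idx_cen_mul v (has.coprime_orderOf hvG)
      have h1 := h.factorization_idx ht htm ha
      have h2 := h.factorization_idx ht htm
        (h.mul_notMem_center ha (mem_cen.1 v.2).symm (has.coprime_orderOf hvG))
      have hv0 : idx v ≠ 0 := index_ne_zero_of_finite
      rw [← e, Nat.factorization_mul hv0 index_ne_zero_of_finite, Finsupp.add_apply, h1] at h2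
      have := ht.factorization_pos_of_dvd hv0 hd
      omega
    obtain ⟨T, hT⟩ := exists_sylow_le hvt
    have hTle : (T : Subgroup (cen a)) ≤ cen y := by
      intro w hw
      rw [← hmul, cen_mul hc (hus.coprime_orderOf hv)]
      refine ⟨mem_cen.2 ?_, hT hw⟩
      have hcw := h.commute_of_pelt hs hsm ha has us.2 (pelt_subtype.2 hus) w.2
        (by rw [orderOf_coe]; exact (pelt_of_mem T.isPGroup' hw).coprime_of_ne ht hs hst.symm)
      exact (Subtype.ext hcw.eq : us * w = w * us).symm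
    exact fun hd => T.not_dvd_index (hd.trans (index_dvd_of_le hTle))
  have h1 := mem_center_of_free ht hfree (pelt_subtype.1 hut : PElt t (⟨u, hu⟩ : cen a))
  exact (congrArg Subtype.val (mem_center_iff.1 h1 ⟨x, hx⟩)).symm

omit [Finite G] in
theorem exists_norm_elt_aux {t : ℕ} [Fact t.Prime] {T P : Subgroup G} (hP : IsPGroup t P)
    [Finite P] (hlt : T < P) : ∃ g ∈ P, g ∈ normalizer (T : Set G) ∧ g ∉ T := by
  haveI := hP.isNilpotent
  have hlt' : T.subgroupOf P < ⊤ :=
    lt_top_iff_ne_top.2 fun e => hlt.not_ge (subgroupOf_eq_top.1 e)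
  obtain ⟨g, hg, hgT⟩ :=
    SetLike.exists_of_lt ((Group.normalizerCondition_of_isNilpotent : NormalizerCondition P) _ hlt')
  rw [← subgroupOf_normalizer_eq hlt.le, mem_subgroupOf] at hg
  exact ⟨g, g.2, hg, hgT⟩

/-- A maximal `t`-subgroup of a subgroup of index divisible by `t` is normalized from outside. -/
theorem exists_norm_elt {t : ℕ} (ht : t.Prime) {T K : Subgroup G} (hT : IsPGroup t T) (hTK : T ≤ K)
    (hmax : ∀ g ∈ K, g ∈ normalizer (T : Set G) → PElt t g → g ∈ T) (hK : t ∣ K.index) :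
    ∃ g : G, PElt t g ∧ g ∈ normalizer (T : Set G) ∧ g ∉ K := by
  haveI := Fact.mk ht
  obtain ⟨P, hP⟩ := hT.exists_le_sylow
  have hlt : T < P := lt_of_le_of_ne hP fun e =>
    P.not_dvd_index (e ▸ hK.trans (index_dvd_of_le hTK))
  obtain ⟨g, hgP, hgN, hgT⟩ := exists_norm_elt_aux P.isPGroup' hlt
  exact ⟨g, pelt_of_mem P.isPGroup' hgP, hgN,
    fun hgK => hgT (hmax g hgK hgN (pelt_of_mem P.isPGroup' hgP))⟩

omit [Finite G] in
theorem mem_sylow_sub {t : ℕ} [Fact t.Prime] {H : Subgroup G} (T : Sylow t H) {g : G} (hg : g ∈ H)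
    (hgn : g ∈ normalizer ((T : Subgroup H).map H.subtype : Set G)) (hgt : PElt t g) :
    g ∈ (T : Subgroup H).map H.subtype := by
  have hp : IsPGroup t ↥((T : Subgroup H).map H.subtype ⊔ zpowers g) :=
    (T.isPGroup'.map _).to_sup_of_normal_left' (hgt.isPGroup Fact.out) (by rwa [zpowers_le])
  have hle : (T : Subgroup H).map H.subtype ⊔ zpowers g ≤ H :=
    sup_le (map_subtype_le _) (by rwa [zpowers_le])
  have h1 : ((T : Subgroup H).map H.subtype ⊔ zpowers g).subgroupOf H = T :=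
    T.is_maximal' (hp.comap_of_injective _ H.subtype_injective) fun x hx =>
      mem_subgroupOf.2 (mem_sup_left ⟨x, hx, rfl⟩)
  exact ⟨⟨g, hg⟩, h1 ▸ mem_subgroupOf.2 (mem_sup_right (mem_zpowers g)), rfl⟩

/-- `m` is a power of a prime. -/
theorem isPrimePow_m (h : Hyp G m n) : ∃ p b : ℕ, p.Prime ∧ 0 < b ∧ m = p ^ b := by
  classical
  have hm := h.one_lt_m
  have hn := h.one_lt_n
  by_contra hnp
  let Good : G → Prop := fun x => x ∉ center G ∧ ∃ t : ℕ, t.Prime ∧ t ∣ m ∧ PElt t x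
  obtain ⟨p0, hp0, hp0m⟩ := Nat.exists_prime_and_dvd hm.ne'
  obtain ⟨a0, ha0, ha0c⟩ := h.exists_noncentral_pelt hp0 hp0m
  have hex : ∃ v : ℕ, ∃ x : G, Good x ∧ idx x = v := ⟨_, a0, ⟨ha0c, p0, hp0, hp0m, ha0⟩, rfl⟩
  obtain ⟨a, ⟨ha, s, hs, hsm, has⟩, hav⟩ := Nat.find_spec hex
  have hmin : ∀ x, Good x → idx a ≤ idx x := fun x hx => hav ▸ Nat.find_min' hex ⟨x, hx, rfl⟩
  obtain ⟨t, ht, htm, hts⟩ : ∃ t : ℕ, t.Prime ∧ t ∣ m ∧ t ≠ s := by
    by_contra! hcon
    refine hnp ⟨s, _, hs, ?_, (Nat.eq_prime_pow_of_unique_prime_dvd (by omega)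
      fun {d} hd hdm => hcon d hd hdm)⟩
    exact List.length_pos_of_mem ((Nat.mem_primeFactorsList (by omega)).2 ⟨hs, hsm⟩)
  set K := cen a with hKdef
  have hcenK : ∀ (q : ℕ) (x : G), q.Prime → q ∣ m → PElt q x → x ∉ center G →
      (∀ y ∈ K, Commute x y) → cen x = K := by
    intro q x hq hqm hx hxc hxK
    exact (eq_of_le_of_index_le (fun y hy => mem_cen.2 (hxK y hy).symm)
      (hmin x ⟨hxc, q, hq, hqm, hx⟩)).symm
  have hZK : ∀ q : ℕ, q.Prime → q ∣ m → ∃ x : G,
      PElt q x ∧ x ∉ center G ∧ x ∈ K ∧ ∀ y ∈ K, Commute x y := by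
    intro q hq hqm
    rcases eq_or_ne q s with rfl | hqs
    · exact ⟨a, has, ha, mem_cen.2 (Commute.refl a), fun y hy => (mem_cen.1 hy).symm⟩
    · obtain ⟨u, hu, huK, huc⟩ := h.exists_pelt_cen hq hqm a
      exact ⟨u, hu, huc, huK,
        fun y hy => h.commute_cen_of_ne hs hsm hq hqm hqs.symm ha has huK hu hy⟩
  set N := normalizer (K : Set G) with hN
  let D := N ⧸ K.subgroupOf N
  have hNoNorm : ∀ q, q.Prime → q ∣ m → NoNorm D q := by
    intro q hq hqm
    let A : Subgroup G :=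
      { carrier := {x | x ∈ K ∧ (∀ y ∈ K, Commute x y) ∧ PElt q x}
        one_mem' := ⟨one_mem K, fun y _ => Commute.one_left y, pelt_one q⟩
        mul_mem' := fun {x y} hx hy => ⟨mul_mem hx.1 hy.1,
          fun z hz => (hx.2.1 z hz).mul_left (hy.2.1 z hz), hx.2.2.mul hy.2.2 (hx.2.1 y hy.1)⟩
        inv_mem' := fun {x} hx => ⟨inv_mem hx.1, fun z hz => (hx.2.1 z hz).inv_left, hx.2.2.inv⟩ }
    letI : CommGroup A :=
      { (inferInstance : Group A) with
        mul_comm := fun x y => Subtype.ext (x.2.2.1 y y.2.1).eq }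
    have hA : ∀ g ∈ N, ∀ x ∈ A, g * x * g⁻¹ ∈ A := fun g hg x hx =>
      ⟨(mem_normalizer_iff.1 hg x).1 hx.1, fun y hy => by
        have hy' : g⁻¹ * y * g ∈ K := (mem_normalizer_iff.1 hg _).2 (by simpa [mul_assoc] using hy)
        show g * x * g⁻¹ * y = y * (g * x * g⁻¹)
        calc g * x * g⁻¹ * y = g * (x * (g⁻¹ * y * g)) * g⁻¹ := by group
          _ = g * (g⁻¹ * y * g * x) * g⁻¹ := by rw [(hx.2.1 _ hy').eq]
          _ = y * (g * x * g⁻¹) := by group, hx.2.2.conj g⟩
    have hNA : N ≤ normalizer (A : Set G) := fun g hg => mem_normalizer_iff.2 fun x =>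
      ⟨hA g hg x, fun hx => by simpa [mul_assoc] using hA g⁻¹ (inv_mem hg) _ hx⟩
    let φ0 : N →* MulAut A := (normalizerMonoidHom A).comp (inclusion hNA)
    have hφ0 : ∀ (g : N) (x : A), ((φ0 g x : A) : G) = g * x * (g : G)⁻¹ := fun g x => rfl
    have hker : K.subgroupOf N ≤ φ0.ker := by
      intro g hg
      refine MonoidHom.mem_ker.2 (MulEquiv.ext fun x => Subtype.ext ?_)
      rw [hφ0, MulAut.one_apply, ← (x.2.2.1 g hg).eq, mul_inv_cancel_right]
    let φ : D →* MulAut A := QuotientGroup.lift _ φ0 hker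
    refine noNorm_of_fix φ ((center G).subgroupOf A) hq
      (fun x => pelt_subtype.1 x.2.2.2) ?_ ?_ ?_
    · intro d x hx
      obtain ⟨g, rfl⟩ := QuotientGroup.mk_surjective d
      refine Subtype.ext ?_
      show ((φ0 g x : A) : G) = x
      rw [hφ0, mem_center_iff.1 (mem_subgroupOf.1 hx) g, mul_inv_cancel_right]
    · intro d hd x hx
      obtain ⟨g, rfl⟩ := QuotientGroup.mk_surjective d
      by_contra hxc
      refine hd ((QuotientGroup.eq_one_iff g).2 (mem_subgroupOf.2 ?_))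
      rw [← hcenK q x hq hqm x.2.2.2 hxc x.2.2.1]
      have e : ((φ0 g x : A) : G) = x := congrArg Subtype.val hx
      rw [hφ0, mul_inv_eq_iff_eq_mul] at e
      exact mem_cen.2 e
    · obtain ⟨x, hx, hxc, hxK, hxK'⟩ := hZK q hq hqm
      exact fun e => hxc (mem_subgroupOf.1 (e ▸ mem_top (⟨x, hxK, hxK', hx⟩ : A)))
  have hcard : Nat.card D ∣ idx a := by
    show (K.subgroupOf N).index ∣ _
    exact Dvd.intro _ (relIndex_mul_index (H := K) (K := N) le_normalizer)
  -- every prime divisor of `m` divides the order of `D`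
  have hdvd : ∀ q, q.Prime → q ∣ m → q ∣ Nat.card D := by
    intro q hq hqm
    haveI := Fact.mk hq
    have hqK : q ∣ K.index := hqm.trans (h.dvd_idx ha)
    obtain ⟨g, hg, hgN, hgK⟩ : ∃ g : G, PElt q g ∧ g ∈ N ∧ g ∉ K := by
      rcases eq_or_ne q s with rfl | hqs
      · obtain ⟨S, hS, hSK, -, hSall, hScomm⟩ := h.cen_split hs hsm ha has
        obtain ⟨g, hg, hgS, hgK⟩ := exists_norm_elt hs hS hSK
          (fun x hx _ hxs => hSall x hx hxs) hqK
        refine ⟨g, hg, ?_, hgK⟩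
        have haS : a ∈ S := hSall a (mem_cen.2 (Commute.refl a)) has
        have hwS : g * a * g⁻¹ ∈ S := (mem_normalizer_iff.1 hgS a).1 haS
        have hcomm : ∀ y ∈ K, Commute (g * a * g⁻¹) y := by
          intro y hy
          obtain ⟨us, v, hmul, -, hu', hv', hus, hv⟩ := exists_parts hs y
          have husK : us ∈ K := zpowers_le.2 hy hu'
          have hvK : v ∈ K := zpowers_le.2 hy hv'
          rw [← hmul]
          refine Commute.mul_right ?_ (hScomm _ hwS v hvK hv)
          have hu2 : g⁻¹ * us * g ∈ S :=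
            (mem_normalizer_iff.1 hgS _).2 (by simpa [mul_assoc] using hSall us husK hus)
          have e := (mem_cen.1 (hSK hu2)).eq
          show g * a * g⁻¹ * us = us * (g * a * g⁻¹)
          calc g * a * g⁻¹ * us = g * (a * (g⁻¹ * us * g)) * g⁻¹ := by group
            _ = g * (g⁻¹ * us * g * a) * g⁻¹ := by rw [e]
            _ = us * (g * a * g⁻¹) := by group
        have hconj := hcenK q _ hs hsm (has.conj g)
          (fun hc => ha (by simpa [mul_assoc] using
            (inferInstance : (center G).Normal).conj_mem _ hc g⁻¹)) hcomm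
        rw [cen_conj] at hconj
        exact mem_normalizer_iff_map_conj_eq.2 hconj
      · obtain ⟨T⟩ : Nonempty (Sylow q K) := inferInstance
        obtain ⟨g, hg, hgT, hgK⟩ := exists_norm_elt hq (T.isPGroup'.map K.subtype)
          (map_subtype_le _) (fun x hx hxn hxq => mem_sylow_sub T hx hxn hxq) hqK
        refine ⟨g, hg, ?_, hgK⟩
        obtain ⟨u, hu, huc, huK, huK'⟩ := hZK q hq hqm
        have huT : u ∈ (T : Subgroup K).map K.subtype := mem_sylow_sub T huK
          (centralizer_le_normalizer _ (mem_centralizer_iff.2 fun y hy =>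
            (huK' y (map_subtype_le _ hy)).symm.eq)) hu
        have hwK : g * u * g⁻¹ ∈ K :=
          map_subtype_le _ ((mem_normalizer_iff.1 hgT u).1 huT)
        have hconj := hcenK q _ hq hqm (hu.conj g)
          (fun hc => huc (by simpa [mul_assoc] using
            (inferInstance : (center G).Normal).conj_mem _ hc g⁻¹))
          (fun y hy => h.commute_cen_of_ne hs hsm hq hqm hqs.symm ha has hwK (hu.conj g) hy)
        rw [cen_conj, hcenK q u hq hqm hu huc huK'] at hconj
        exact mem_normalizer_iff_map_conj_eq.2 hconj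
    have hgD : ((⟨g, hgN⟩ : N) : D) ≠ 1 := fun e =>
      hgK (mem_subgroupOf.1 ((QuotientGroup.eq_one_iff _).1 e))
    obtain ⟨i, hi⟩ := (pelt_subtype.1 hg : PElt q (⟨g, hgN⟩ : N)).map
      (QuotientGroup.mk' (K.subgroupOf N))
    obtain ⟨j, -, hj⟩ := (Nat.dvd_prime_pow hq).1 (orderOf_dvd_of_pow_eq_one hi)
    refine dvd_trans ?_ (orderOf_dvd_natCard ((⟨g, hgN⟩ : N) : D))
    rw [show orderOf ((⟨g, hgN⟩ : N) : D) = q ^ j from hj]
    refine dvd_pow_self q fun j0 => hgD (orderOf_eq_one_iff.1 ?_)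
    rw [show orderOf ((⟨g, hgN⟩ : N) : D) = q ^ j from hj, j0, pow_zero]
  obtain ⟨r, hr, hrm, hD⟩ : ∃ r : ℕ, r.Prime ∧ ¬ r ∣ m ∧
      ∀ q, q.Prime → q ∣ Nat.card D → q ∣ m ∨ q = r := by
    rcases h.noncentral ha with e | e
    · obtain ⟨r, hr, hrn⟩ := Nat.exists_prime_and_dvd hn.ne'
      exact ⟨r, hr, fun hrm => h.not_dvd_n hr hrm hrn,
        fun q _ hqD => Or.inl (e ▸ hqD.trans hcard)⟩
    · obtain ⟨k, r, hr, hk, hkc, hkm⟩ := h.exists_part_m
      have hlt : m < m * n := by nlinarith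
      have hrm : ¬ r ∣ m := fun hrm => by
        have := hmin k ⟨hkc, r, hr, hrm, hk⟩
        omega
      have hbig : ∀ b : G, PElt t b → b ∉ center G → idx b = m * n := fun b hb hbc =>
        (h.noncentral hbc).resolve_left fun hb' => by
          have := hmin b ⟨hbc, t, ht, htm, hb⟩
          omega
      obtain ⟨i, hi⟩ := h.n_eq_pow hr ht htm hrm hk hkc hkm hbig
      refine ⟨r, hr, hrm, fun q hq hqD => ?_⟩
      rcases hq.dvd_mul.1 (e ▸ hqD.trans hcard) with h1 | h1
      · exact Or.inl h1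
      · exact Or.inr ((Nat.prime_dvd_prime_iff_eq hq hr).1 (hq.dvd_of_dvd_pow (hi ▸ h1)))
  exact no_two_primes (π := fun q => q ∣ m) hNoNorm hr hrm hD hs ht hts.symm hsm htm
    (hdvd s hs hsm) (hdvd t ht htm)

end Hyp

end CfsgLib.TypeMN
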