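import Cfsg.Agent.Lib.Structure.TypeOneMNBasic

/-!
# Small tools: coprime action of two commuting automorphisms, covering by fixed subgroups,
commutators of small `p`-groups
-/

set_option autoImplicit false
set_option linter.style.haveILetI false

namespace CfsgLib.TypeMN

open Subgroup

/-- If `f` and `g` commute, have order dividing `p`, and `g` and all `f * g ^ i` have their fixed
points in `F`, then `p`-th powers lie in `F`. -/
theorem pow_mem_of_fix {A : Type*} [CommGroup A] {p : ℕ} (hp : p.Prime) (f g : MulAut A)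
    (hfg : Commute f g) (hf : f ^ p = 1) (hg : g ^ p = 1) (F : Subgroup A)
    (hF : ∀ a ∈ F, f a = a) (hgfix : ∀ a, g a = a → a ∈ F)
    (hfix : ∀ i : ℕ, ∀ a, (f * g ^ i) a = a → a ∈ F) (a : A) : a ^ p ∈ F := by
  classical
  have hshift : ∀ (w : MulAut A), w ^ p = 1 →
      w (∏ j ∈ Finset.range p, (w ^ j) a) = ∏ j ∈ Finset.range p, (w ^ j) a := by
    intro w hw
    have h : w (∏ j ∈ Finset.range p, (w ^ j) a) = ∏ j ∈ Finset.range p, (w ^ (j + 1)) a := by
      simp [pow_succ', map_prod, MulAut.mul_apply]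
    have h2 := Finset.prod_range_succ (fun j => (w ^ j) a) p
    rw [Finset.prod_range_succ', hw, pow_zero] at h2
    rw [h]
    exact mul_right_cancel h2
  have hpow : ∀ (j : ℕ) (x : A), x ∈ F → (f ^ j) x = x := by
    intro j x hx
    induction j with
    | zero => rfl
    | succ j ih => rw [pow_succ, MulAut.mul_apply, hF x hx, ih]
  -- the sum over the powers of a fixed nontrivial power of `g` is fixed by `g`
  have hgsum : ∀ j : ℕ, ¬ p ∣ j → ∏ i ∈ Finset.range p, (g ^ (i * j)) a ∈ F := by
    intro j hj
    set x := ∏ i ∈ Finset.range p, (g ^ (i * j)) a with hx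
    have h1 : (g ^ j) x = x := by
      have := hshift (g ^ j) (by rw [← pow_mul, mul_comm, pow_mul, hg, one_pow])
      have e : ∀ i, (g ^ j) ^ i = g ^ (i * j) := fun i => by rw [← pow_mul, mul_comm]
      simp only [e] at this
      exact this
    obtain ⟨l, -, hl⟩ := Nat.exists_mul_mod_eq_one_of_coprime
      (hp.coprime_iff_not_dvd.2 hj).symm hp.one_lt
    refine hgfix x ?_
    have h2 : ∀ i : ℕ, ((g ^ j) ^ i) x = x := by
      intro i
      induction i with
      | zero => rfl
      | succ i ih => rw [pow_succ, MulAut.mul_apply, h1, ih]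
    have h3 : g = (g ^ j) ^ l := by
      rw [← pow_mul]
      conv_lhs => rw [← pow_one g, ← hl]
      exact (pow_eq_pow_mod (j * l) hg).symm
    rw [h3]
    exact h2 l
  have hP : ∏ i ∈ Finset.range p, ∏ j ∈ Finset.range p, ((f * g ^ i) ^ j) a ∈ F := by
    refine Subgroup.prod_mem F fun i _ => hfix i _ (hshift _ ?_)
    rw [(hfg.pow_right i).mul_pow, hf, ← pow_mul, mul_comm i p, pow_mul, hg, one_pow, one_mul]
  rw [Finset.prod_comm, ← Finset.mul_prod_erase _ _ (Finset.mem_range.2 hp.pos)] at hP
  simp only [pow_zero, MulAut.one_apply, Finset.prod_const, Finset.card_range] at hP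
  refine (F.mul_mem_cancel_right (Subgroup.prod_mem F fun j hj => ?_)).1 hP
  obtain ⟨hj0, hj⟩ := Finset.mem_erase.1 hj
  have hjp : ¬ p ∣ j := fun h => hj0 (Nat.eq_zero_of_dvd_of_lt h (Finset.mem_range.1 hj))
  have e : ∀ i, ((f * g ^ i) ^ j) a = (f ^ j) ((g ^ (i * j)) a) := fun i => by
    rw [(hfg.pow_right i).mul_pow, MulAut.mul_apply, ← pow_mul]
  simp only [e]
  rw [← map_prod, hpow j _ (hgsum j hjp)]
  exact hgsum j hjp

variable {H : Type*} [Group H]

/-- If every element of the abelian group `V` is centralized by one of the subgroups `U i` of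
`P`, any two of which are equal or generate `P`, then one `U i` centralizes `V`. -/
theorem exists_centralizes_of_cover {ι : Type*} [Nonempty ι] {p : ℕ} (V P : Subgroup H)
    (U : ι → Subgroup H) (hU : ∀ i, U i ≤ P) (hUn : ∀ i, P ≤ normalizer (U i : Set H))
    (hpair : ∀ i j, U i = U j ∨ U i ⊔ U j = P) (hPV : P ≤ normalizer (V : Set H))
    (hpow : ∀ a ∈ P, ∀ v ∈ V, Commute (a ^ p) v) (hcop : ∀ v ∈ V, (orderOf v).Coprime p)
    (hcov : ∀ v ∈ V, ∃ i, v ∈ centralizer (U i : Set H)) :
    ∃ i, V ≤ centralizer (U i : Set H) := by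
  by_cases hall : V ≤ centralizer (P : Set H)
  · exact ⟨Classical.arbitrary ι,
      hall.trans (centralizer_le (SetLike.coe_subset_coe.2 (hU _)))⟩
  obtain ⟨v1, hv1V, hv1P⟩ := SetLike.not_le_iff_exists.1 hall
  obtain ⟨i, hi⟩ := hcov v1 hv1V
  have hboth : ∀ j k (x : H), U j ⊔ U k = P → x ∈ centralizer (U j : Set H) →
      x ∈ centralizer (U k : Set H) → x ∈ centralizer (P : Set H) := by
    intro j k x hjk hj hk
    have hle : U j ⊔ U k ≤ centralizer ({x} : Set H) :=
      sup_le (fun y hy => mem_centralizer_singleton_iff.2 (mem_centralizer_iff.1 hj y hy))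
        (fun y hy => mem_centralizer_singleton_iff.2 (mem_centralizer_iff.1 hk y hy))
    rw [mem_centralizer_iff]
    intro y hy
    exact mem_centralizer_singleton_iff.1 (hle (hjk ▸ hy))
  have hconj : ∀ j, ∀ a ∈ P, ∀ x ∈ centralizer (U j : Set H),
      a * x * a⁻¹ ∈ centralizer (U j : Set H) := by
    intro j a ha x hx
    rw [mem_centralizer_iff] at hx ⊢
    intro u hu
    have h1 := hx _ ((mem_normalizer_iff.1 (inv_mem (hUn j ha)) u).1 hu)
    calc u * (a * x * a⁻¹) = a * ((a⁻¹ * u * a⁻¹⁻¹) * x) * a⁻¹ := by group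
      _ = a * (x * (a⁻¹ * u * a⁻¹⁻¹)) * a⁻¹ := by rw [h1]
      _ = a * x * a⁻¹ * u := by group
  refine ⟨i, fun v2 hv2 => ?_⟩
  obtain ⟨k, hk⟩ := hcov v2 hv2
  rcases hpair i k with e | e
  · rwa [e]
  obtain ⟨j, hj⟩ := hcov (v1 * v2) (mul_mem hv1V hv2)
  rcases hpair j k with e' | e'
  · refine absurd (hboth i k v1 e hi ?_) hv1P
    have hv := mul_mem (e' ▸ hj : v1 * v2 ∈ centralizer (U k : Set H)) (inv_mem hk)
    simpa using hv
  rw [mem_centralizer_iff]
  intro a ha
  have haP := hU i ha
  have hav1 : a * v1 * a⁻¹ = v1 := by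
    rw [mem_centralizer_iff.1 hi a ha, mul_inv_cancel_right]
  set c := v2⁻¹ * (a * v2 * a⁻¹) with hc
  have hcV : c ∈ V := mul_mem (inv_mem hv2) ((mem_normalizer_iff.1 (hPV haP) v2).1 hv2)
  have hck : c ∈ centralizer (U k : Set H) := mul_mem (inv_mem hk) (hconj k a haP v2 hk)
  have hcj : c ∈ centralizer (U j : Set H) := by
    have h1 := mul_mem (inv_mem hj) (hconj j a haP _ hj)
    have e2 : (v1 * v2)⁻¹ * (a * (v1 * v2) * a⁻¹) =
        v2⁻¹ * v1⁻¹ * (a * v1 * a⁻¹) * (a * v2 * a⁻¹) := by group
    rw [e2, hav1, inv_mul_cancel_right] at h1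
    exact h1
  have hca : a * c = c * a := mem_centralizer_iff.1 (hboth j k c e' hcj hck) a haP
  have key : ∀ l : ℕ, a ^ l * v2 * (a ^ l)⁻¹ = v2 * c ^ l := by
    intro l
    induction l with
    | zero => simp
    | succ l ih =>
      calc a ^ (l + 1) * v2 * (a ^ (l + 1))⁻¹ = a ^ l * (a * v2 * a⁻¹) * (a ^ l)⁻¹ := by
            rw [pow_succ]; group
        _ = (a ^ l * v2 * (a ^ l)⁻¹) * (a ^ l * c * (a ^ l)⁻¹) := by rw [hc]; group
        _ = v2 * c ^ l * c := by
            rw [ih, ((show Commute a c from hca).pow_left l).eq, mul_inv_cancel_right]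
        _ = v2 * c ^ (l + 1) := by rw [mul_assoc, ← pow_succ]
  have h1 := key p
  rw [(hpow a haP v2 hv2).eq, mul_inv_cancel_right, left_eq_mul] at h1
  have hc1 : c = 1 := orderOf_eq_one_iff.1
    (Nat.eq_one_of_dvd_coprimes (hcop c hcV) dvd_rfl (orderOf_dvd_of_pow_eq_one h1))
  rw [hc1] at hc
  exact mul_inv_eq_iff_eq_mul.1 (inv_mul_eq_one.1 hc.symm).symm

/-- In a finite nilpotent group only the whole group supplements the commutator subgroup. -/
theorem eq_top_of_commutator_sup [Finite H] (hH : Group.IsNilpotent H) {W : Subgroup H}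
    (h : commutator H ⊔ W = ⊤) : W = ⊤ := by
  haveI := hH
  by_contra hW
  obtain ⟨M, hM, hWM⟩ := (eq_top_or_exists_le_coatom W).resolve_left hW
  haveI : M.Normal :=
    (Group.normalizerCondition_of_isNilpotent : NormalizerCondition H).normal_of_coatom M hM
  obtain ⟨g, hg⟩ : ∃ g, g ∉ M := by
    by_contra! hcon
    exact hM.1 (eq_top_iff.2 fun x _ => hcon x)
  have htop : M ⊔ zpowers g = ⊤ := hM.2 _ (lt_of_le_of_ne le_sup_left fun e =>
    hg (e ▸ mem_sup_right (mem_zpowers g)))
  have hcyc : ∀ x : H ⧸ M, x ∈ zpowers (g : H ⧸ M) := by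
    intro x
    obtain ⟨y, rfl⟩ := QuotientGroup.mk_surjective x
    obtain ⟨m, hm, z, ⟨i, rfl⟩, rfl⟩ := mem_sup_of_normal_left.1 (htop ▸ mem_top y)
    exact ⟨i, by rw [QuotientGroup.mk_mul, (QuotientGroup.eq_one_iff m).2 hm, one_mul,
      QuotientGroup.mk_zpow]⟩
  have hcomm : commutator H ≤ M := by
    rw [_root_.commutator_def, commutator_le]
    intro a _ b _
    obtain ⟨i, hi⟩ := hcyc a
    obtain ⟨j, hj⟩ := hcyc b
    rw [← QuotientGroup.eq_one_iff, ← QuotientGroup.mk'_apply, map_commutatorElement,
      commutatorElement_eq_one_iff_commute, QuotientGroup.mk'_apply, QuotientGroup.mk'_apply,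
      ← hi, ← hj]
    exact (Commute.refl _).zpow_zpow i j
  exact hM.1 (eq_top_iff.2 (h ▸ sup_le hcomm hWM))

open scoped commutatorElement in
/-- The commutator subgroup of a nonabelian `p`-group with centre of index dividing `p ^ 2`. -/
theorem card_commutator_of_center_index [Finite H] {p : ℕ} (hp : p.Prime)
    (hidx : (center H).index ≤ p ^ 2) (hH : IsPGroup p H) (hna : center H ≠ ⊤) :
    Nat.card (commutator H) = p := by
  haveI := Fact.mk hp
  obtain ⟨x, hx⟩ : ∃ x, x ∉ center H := by
    by_contra! hcon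
    exact hna (eq_top_iff.2 fun x _ => hcon x)
  set C := centralizer ({x} : Set H) with hC
  have hCne : C.index ≠ 1 := fun e => hx (mem_center_iff.2 fun y =>
    mem_centralizer_singleton_iff.1 (show y ∈ C by rw [index_eq_one.1 e]; exact mem_top y))
  have hZC : center H ≤ C := fun z hz =>
    mem_centralizer_singleton_iff.2 (mem_center_iff.1 hz x).symm
  have hZne : (center H).relIndex C ≠ 1 := fun e =>
    hx (relIndex_eq_one.1 e (mem_centralizer_singleton_iff.2 rfl))
  have hmul : (center H).relIndex C * C.index = (center H).index := relIndex_mul_index hZC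
  obtain ⟨i, hi⟩ := hH.index C
  obtain ⟨j, hj⟩ := hH.index (center H)
  obtain ⟨l, -, hl⟩ := (Nat.dvd_prime_pow hp).1 (Dvd.intro _ (hmul.trans hj))
  rw [hj, Nat.pow_le_pow_iff_right hp.one_lt] at hidx
  rw [hj, hi, hl, ← pow_add] at hmul
  have hij : l + i = j := Nat.pow_right_injective hp.two_le hmul
  have hl0 : l ≠ 0 := fun e => hZne (by rw [hl, e, pow_zero])
  have hi1 : i = 1 := by
    have : i ≠ 0 := fun e => hCne (by rw [hi, e, pow_zero])
    omega
  have hl1 : l = 1 := by omega
  obtain ⟨y, hy⟩ : ∃ y, y ∉ C := by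
    by_contra! hcon
    exact hCne (index_eq_one.2 (eq_top_iff.2 fun z _ => hcon z))
  -- the group is generated by `x`, `y` and its centre
  set D := center H ⊔ zpowers x ⊔ zpowers y with hD
  have hDtop : D = ⊤ := by
    have hsub : center H ⊔ zpowers x ≤ C :=
      sup_le hZC (by rw [zpowers_le]; exact mem_centralizer_singleton_iff.2 rfl)
    have hsub' : center H ⊔ zpowers x = C := by
      refine le_antisymm hsub ?_
      rw [← relIndex_eq_one]
      have h1 : (center H).relIndex (center H ⊔ zpowers x) *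
          (center H ⊔ zpowers x).relIndex C = (center H).relIndex C :=
        relIndex_mul_relIndex _ _ _ le_sup_left hsub
      have hne : (center H).relIndex (center H ⊔ zpowers x) ≠ 1 := fun e =>
        hx (relIndex_eq_one.1 e (mem_sup_right (mem_zpowers x)))
      rw [hl, hl1, pow_one] at h1
      rcases (Nat.dvd_prime hp).1 (Dvd.intro _ h1) with e | e
      · exact absurd e hne
      · rw [e] at h1
        exact (Nat.mul_eq_left hp.ne_zero).1 h1
    rw [← index_eq_one]
    have h1 : C.relIndex D * D.index = C.index :=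
      relIndex_mul_index (hsub' ▸ le_sup_left)
    rw [hi, hi1, pow_one] at h1
    rcases (Nat.dvd_prime hp).1 (Dvd.intro_left _ h1) with e | e
    · exact e
    · exfalso
      rw [e] at h1
      exact hy (relIndex_eq_one.1 ((Nat.mul_eq_right hp.ne_zero).1 h1)
        (mem_sup_right (mem_zpowers y)))
  set c := ⁅y, x⁆ with hc
  have hcomm_le : commutator H ≤ center H := by
    have hq : ∀ a b : H ⧸ center H, Commute a b := by
      intro a b
      have h2 : Nat.card (H ⧸ center H) = p ^ 2 := by
        rw [← index_eq_card, hj]; congr 1; omega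
      exact (IsPGroup.isMulCommutative_of_card_eq_prime_sq h2).is_comm.comm a b
    rw [_root_.commutator_def, commutator_le]
    intro a _ b _
    rw [← QuotientGroup.eq_one_iff, ← QuotientGroup.mk'_apply, map_commutatorElement,
      commutatorElement_eq_one_iff_commute]
    exact hq _ _
  have hcZ : c ∈ center H :=
    hcomm_le (commutator_mem_commutator (mem_top y) (mem_top x))
  have hcne : c ≠ 1 := fun e =>
    hy (mem_centralizer_singleton_iff.2 (commutatorElement_eq_one_iff_commute.1 e))
  haveI : (zpowers c).Normal :=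
    ⟨fun z hz g => by
      rw [mem_center_iff.1 (zpowers_le.2 hcZ hz) g, mul_inv_cancel_right]
      exact hz⟩
  have heq : commutator H = zpowers c := by
    refine le_antisymm ?_ (zpowers_le.2 (commutator_mem_commutator (mem_top y) (mem_top x)))
    let f := QuotientGroup.mk' (zpowers c)
    have hxy : Commute (f y) (f x) := by
      rw [← commutatorElement_eq_one_iff_commute, ← map_commutatorElement]
      exact (QuotientGroup.eq_one_iff c).2 (mem_zpowers c)
    have h1 : ∀ a b : H, Commute (f a) (f b) := by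
      intro a b
      have hle : ∀ z : H, (∀ w ∈ ({x, y} : Set H), Commute (f z) (f w)) →
          ∀ w, Commute (f z) (f w) := by
        intro z hz w
        have : D ≤ (centralizer ({f z} : Set (H ⧸ zpowers c))).comap f := by
          refine sup_le (sup_le (fun v hv => ?_) ?_) ?_
          · rw [mem_comap, mem_centralizer_singleton_iff, ← map_mul, ← map_mul,
              mem_center_iff.1 hv z]
          · rw [zpowers_le, mem_comap, mem_centralizer_singleton_iff]
            exact (hz x (Or.inl rfl)).eq.symm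
          · rw [zpowers_le, mem_comap, mem_centralizer_singleton_iff]
            exact (hz y (Or.inr rfl)).eq.symm
        exact (mem_centralizer_singleton_iff.1 (this (hDtop ▸ mem_top w))).symm
      have hx' : ∀ w, Commute (f x) (f w) := hle x fun w hw => by
        rcases hw with rfl | rfl
        exacts [Commute.refl _, hxy.symm]
      have hy' : ∀ w, Commute (f y) (f w) := hle y fun w hw => by
        rcases hw with rfl | rfl
        exacts [hxy, Commute.refl _]
      refine hle a (fun w hw => ?_) b
      rcases hw with rfl | rfl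
      exacts [(hx' a).symm, (hy' a).symm]
    rw [_root_.commutator_def, commutator_le]
    intro a _ b _
    rw [← QuotientGroup.eq_one_iff, ← QuotientGroup.mk'_apply, map_commutatorElement,
      commutatorElement_eq_one_iff_commute]
    exact h1 a b
  have hxp : y ^ p ∈ C := by
    have hCn : C.Normal := normal_of_index_eq_minFac_card (by
      obtain ⟨d, hd⟩ := IsPGroup.iff_card.1 hH
      rw [hi, hi1, pow_one, hd, Nat.pow_minFac (by
        rintro rfl
        rw [pow_zero] at hd
        exact hx (((Nat.card_eq_one_iff_unique.1 hd).1.elim x 1).symm ▸ one_mem _)), hp.minFac_eq])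
    have := pow_index_mem C y
    rwa [hi, hi1, pow_one] at this
  have hcp : c ^ p = 1 := by
    have hk : ∀ k : ℕ, ⁅y ^ k, x⁆ = c ^ k := by
      intro k
      induction k with
      | zero => simp
      | succ k ih =>
        have e : ⁅y ^ (k + 1), x⁆ = y * ⁅y ^ k, x⁆ * y⁻¹ * ⁅y, x⁆ := by
          rw [pow_succ', commutatorElement_def, commutatorElement_def, commutatorElement_def]
          group
        rw [e, ih, mem_center_iff.1 (pow_mem hcZ k) y, mul_inv_cancel_right, ← hc, pow_succ]
    rw [← hk p, commutatorElement_eq_one_iff_commute]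
    exact mem_centralizer_singleton_iff.1 hxp
  rw [heq, Nat.card_zpowers, orderOf_eq_prime hcp hcne]

end CfsgLib.TypeMN
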