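import Cfsg.Agent.Lib.Structure.TypeOneMNComplement
import Cfsg.Agent.Lib.Structure.TypeOneMNTools
import Cfsg.Agent.Lib.Coprime.Action
import Cfsg.Agent.S4365
import Cfsg.Agent.S4135

/-!
# Class sizes `1, m, m * n`: the structure of the group
-/

set_option autoImplicit false
set_option linter.style.haveILetI false

namespace CfsgLib.TypeMN

open Subgroup CfsgLib.Structure81.CoprimeClass
open scoped commutatorElement

variable {G : Type*} [Group G] [Finite G] {m n : ℕ}

omit [Finite G] in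
theorem cen_subgroupOf {H : Subgroup G} (x : H) :
    cen x = (cen (x : G)).subgroupOf H := by
  ext y
  rw [mem_subgroupOf, mem_cen, mem_cen]
  exact ⟨fun h => congrArg Subtype.val h.eq, fun h => Subtype.ext h.eq⟩

omit [Finite G] in
theorem commute_of_mem_center_sub {H : Subgroup G} {c : H} (hc : c ∈ center H) {v : G}
    (hv : v ∈ H) : Commute v (c : G) :=
  congrArg Subtype.val (mem_center_iff.1 hc ⟨v, hv⟩)

/-- The group as a semidirect product of a normal `p'`-subgroup and a Sylow `p`-subgroup. -/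
structure Split (G : Type*) [Group G] (m n p b : ℕ) (Ps : Sylow p G) (Kn : Subgroup G) : Prop where
  hyp : Hyp G m n
  prime : p.Prime
  pos : 0 < b
  m_eq : m = p ^ b
  normal : Kn.Normal
  compl : Kn.IsComplement' (Ps : Subgroup G)

namespace Split

variable {p b : ℕ} {Ps : Sylow p G} {Kn : Subgroup G} (S : Split G m n p b Ps Kn)
include S

theorem dvd_m : p ∣ m := S.m_eq ▸ dvd_pow_self p S.pos.ne'

theorem not_dvd_n : ¬ p ∣ n := S.hyp.not_dvd_n S.prime S.dvd_m

theorem not_dvd_K : ¬ p ∣ Nat.card Kn := by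
  haveI := Fact.mk S.prime
  rw [← S.compl.index_eq_card]
  exact Ps.not_dvd_index

theorem coprime_K {k : G} (hk : k ∈ Kn) : (orderOf k).Coprime p := by
  haveI := Fact.mk S.prime
  exact CfsgLib.Transfer.coprime_orderOf_of_not_dvd S.not_dvd_K hk

theorem pelt_P {x : G} (hx : x ∈ (Ps : Subgroup G)) : PElt p x := pelt_of_mem Ps.isPGroup' hx

theorem exists_eq_mul (g : G) : ∃ k ∈ Kn, ∃ x ∈ (Ps : Subgroup G), g = k * x := by
  obtain ⟨⟨k, x⟩, e⟩ := S.compl.2 g
  exact ⟨k, k.2, x, x.2, e.symm⟩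

omit [Finite G] in
theorem eq_of_mul_eq {k k' x x' : G} (hk : k ∈ Kn) (hk' : k' ∈ Kn)
    (hx : x ∈ (Ps : Subgroup G)) (hx' : x' ∈ (Ps : Subgroup G)) (e : k * x = k' * x') :
    k = k' ∧ x = x' := by
  have := S.compl.1 (a₁ := (⟨k, hk⟩, ⟨x, hx⟩)) (a₂ := (⟨k', hk'⟩, ⟨x', hx'⟩)) e
  simp only [Prod.mk.injEq, Subtype.mk.injEq] at this
  exact this

theorem conj_mem_K {k : G} (hk : k ∈ Kn) (g : G) : g * k * g⁻¹ ∈ Kn := S.normal.conj_mem k hk g

/-- The centralizer of an element of `P` splits. -/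
theorem cen_split {y k x : G} (hy : y ∈ (Ps : Subgroup G)) (hk : k ∈ Kn)
    (hx : x ∈ (Ps : Subgroup G)) (hc : k * x ∈ cen y) : k ∈ cen y ∧ x ∈ cen y := by
  have e := (mem_cen.1 hc).eq
  have h1 : (y * k * y⁻¹) * (y * x) = k * (x * y) := by
    calc (y * k * y⁻¹) * (y * x) = y * (k * x) := by group
      _ = k * x * y := e.symm
      _ = k * (x * y) := by group
  obtain ⟨h2, h3⟩ := S.eq_of_mul_eq (S.conj_mem_K hk y) hk (mul_mem hy hx) (mul_mem hx hy) h1
  exact ⟨mem_cen.2 (mul_inv_eq_iff_eq_mul.1 h2).symm, mem_cen.2 h3.symm⟩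

theorem card_G : Nat.card Kn * Nat.card (Ps : Subgroup G) = Nat.card G := S.compl.card_mul_card

theorem card_cen {y : G} (hy : y ∈ (Ps : Subgroup G)) :
    Nat.card (Kn ⊓ cen y : Subgroup G) * Nat.card ((Ps : Subgroup G) ⊓ cen y : Subgroup G) =
      Nat.card (cen y) := by
  rw [← Nat.card_prod]
  refine Nat.card_eq_of_bijective
    (fun q => (⟨(q.1 : G) * q.2, mul_mem q.1.2.2 q.2.2.2⟩ : cen y)) ⟨?_, ?_⟩
  · intro q q' e
    obtain ⟨h1, h2⟩ := S.eq_of_mul_eq q.1.2.1 q'.1.2.1 q.2.2.1 q'.2.2.1 (congrArg Subtype.val e)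
    exact Prod.ext (Subtype.ext h1) (Subtype.ext h2)
  · intro g
    obtain ⟨k, hk, x, hx, e⟩ := S.exists_eq_mul g
    obtain ⟨h1, h2⟩ := S.cen_split hy hk hx (e ▸ g.2)
    exact ⟨(⟨k, hk, h1⟩, ⟨x, hx, h2⟩), Subtype.ext e.symm⟩

omit S in
theorem card_inf_mul_relIndex (H L : Subgroup G) :
    Nat.card (H ⊓ L : Subgroup G) * L.relIndex H = Nat.card H := by
  rw [← inf_relIndex_left H L, relIndex,
    ← (Subgroup.subgroupOfEquivOfLe (inf_le_left : H ⊓ L ≤ H)).toEquiv.symm.bijective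
      |> Nat.card_eq_of_bijective _ |>.symm]
  exact card_mul_index _

theorem idx_eq {y : G} (hy : y ∈ (Ps : Subgroup G)) :
    idx y = (cen y).relIndex Kn * (cen y).relIndex (Ps : Subgroup G) := by
  refine Nat.eq_of_mul_eq_mul_left (Nat.card_pos (α := cen y)) ?_
  rw [idx, card_mul_index, ← S.card_G, ← S.card_cen hy, ← card_inf_mul_relIndex Kn (cen y),
    ← card_inf_mul_relIndex (Ps : Subgroup G) (cen y)]
  ring

theorem mem_center_of_both {y : G} (hy : y ∈ (Ps : Subgroup G)) (hK : Kn ≤ cen y)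
    (hP : (Ps : Subgroup G) ≤ cen y) : y ∈ center G := by
  rw [← idx_eq_one_iff, S.idx_eq hy, relIndex_eq_one.2 hK, relIndex_eq_one.2 hP]

/-- Class sizes inside `P` and the `p'`-part, for elements of `P`. -/
theorem relIndex_P {y : G} (hy : y ∈ (Ps : Subgroup G)) (hyc : y ∉ center G) :
    (cen y).relIndex (Ps : Subgroup G) = m ∧
      ((cen y).relIndex Kn = 1 ∧ idx y = m ∨ (cen y).relIndex Kn = n ∧ idx y = m * n) := by
  haveI := Fact.mk S.prime
  have hm := S.hyp.one_lt_m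
  have hn := S.hyp.one_lt_n
  have e := S.idx_eq hy
  obtain ⟨i, hi⟩ := IsPGroup.iff_card.1 Ps.isPGroup'
  obtain ⟨j, -, hj⟩ := (Nat.dvd_prime_pow S.prime).1 (hi ▸ relIndex_dvd_card (cen y) (Ps : Subgroup G))
  have hcopB : (m).Coprime ((cen y).relIndex Kn) := by
    rw [S.m_eq]
    exact Nat.Coprime.pow_left b (S.prime.coprime_iff_not_dvd.2 fun hd =>
      S.not_dvd_K (hd.trans (relIndex_dvd_card _ _)))
  have hd1 : m ∣ (cen y).relIndex (Ps : Subgroup G) :=
    hcopB.dvd_of_dvd_mul_left (e ▸ S.hyp.dvd_idx hyc)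
  have hd2 : (cen y).relIndex (Ps : Subgroup G) ∣ m := by
    have h1 : (cen y).relIndex (Ps : Subgroup G) ∣ m * n := by
      refine (Dvd.intro_left _ e.symm).trans ?_
      rcases S.hyp.noncentral hyc with e' | e' <;> rw [e']
      exact dvd_mul_right m n
    rw [hj] at h1 ⊢
    exact (Nat.Coprime.pow_left j (S.prime.coprime_iff_not_dvd.2 S.not_dvd_n)).dvd_of_dvd_mul_right h1
  have hB := Nat.dvd_antisymm hd2 hd1
  refine ⟨hB, ?_⟩
  rw [hB] at e
  rcases S.hyp.noncentral hyc with e' | e'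
  · exact Or.inl ⟨(Nat.mul_eq_right (by omega)).1 (e.symm.trans e'), e'⟩
  · exact Or.inr ⟨Nat.eq_of_mul_eq_mul_right (by omega : 0 < m)
      ((e.symm.trans e').trans (mul_comm m n)), e'⟩

theorem card_P_cen {y : G} (hy : y ∈ (Ps : Subgroup G)) (hyc : y ∉ center G) :
    Nat.card ((Ps : Subgroup G) ⊓ cen y : Subgroup G) * m = Nat.card (Ps : Subgroup G) := by
  rw [← (S.relIndex_P hy hyc).1]
  exact card_inf_mul_relIndex _ _

theorem relIndex_K {k : G} (hk : k ∈ Kn) :
    (cen k).relIndex Kn = 1 ∨ (cen k).relIndex Kn = n := by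
  haveI := Fact.mk S.prime
  haveI := S.normal
  by_cases hkc : k ∈ center G
  · left
    rw [relIndex_eq_one, cen_eq_top_iff.2 hkc]
    exact le_top
  obtain ⟨i, hi⟩ := IsPGroup.iff_card.1 Ps.isPGroup'
  have hKidx : Kn.index = p ^ i := by rw [S.compl.symm.index_eq_card]; exact hi
  have hcopA : ((cen k).relIndex Kn).Coprime p :=
    (S.prime.coprime_iff_not_dvd.2 fun hd => S.not_dvd_K (hd.trans (relIndex_dvd_card _ _))).symm
  obtain ⟨j, -, hj⟩ := (Nat.dvd_prime_pow S.prime).1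
    (hKidx ▸ relIndex_dvd_index_of_normal Kn (cen k))
  have e : (cen k).relIndex Kn * Kn.index = Kn.relIndex (cen k) * idx k := by
    rw [← inf_relIndex_left, relIndex_mul_index inf_le_left, idx, ← inf_relIndex_right,
      relIndex_mul_index inf_le_right]
  rw [hKidx, hj] at e
  rcases S.hyp.noncentral hkc with e' | e' <;> rw [e', S.m_eq] at e
  · left
    refine Nat.eq_one_of_dvd_coprimes (Nat.Coprime.pow_right (j + b) hcopA) dvd_rfl ?_
    rw [pow_add]
    exact Dvd.intro _ e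
  · right
    rw [← mul_assoc, ← pow_add] at e
    refine Nat.dvd_antisymm ?_ ?_
    · exact (Nat.Coprime.pow_right (j + b) hcopA).dvd_of_dvd_mul_left (Dvd.intro _ e)
    · have hnp : n.Coprime (p ^ i) :=
        (Nat.Coprime.pow_right i (S.prime.coprime_iff_not_dvd.2 S.not_dvd_n).symm)
      exact hnp.dvd_of_dvd_mul_right (Dvd.intro_left _ e.symm)

theorem commute_cen {y u v : G} (hy : y ∈ (Ps : Subgroup G)) (hyc : y ∉ center G)
    (hu : u ∈ (Ps : Subgroup G)) (huy : u ∈ cen y) (hv : v ∈ Kn) (hvy : v ∈ cen y) :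
    Commute u v :=
  S.hyp.commute_of_pelt S.prime S.dvd_m hyc (S.pelt_P hy) huy (S.pelt_P hu) hvy (S.coprime_K hv)

/-- A `p`-subgroup centralizing a noncentral element of `K` is small. -/
theorem card_mul_le {u : G} (hu : u ∈ Kn) (huc : u ∉ center G) {R : Subgroup G}
    (hR : IsPGroup p R) (hRu : R ≤ cen u) :
    Nat.card R * m ≤ Nat.card (Ps : Subgroup G) := by
  haveI := Fact.mk S.prime
  obtain ⟨i, hi⟩ := IsPGroup.iff_card.1 hR
  have h1 : Nat.card R * m ∣ Nat.card Kn * Nat.card (Ps : Subgroup G) := by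
    rw [S.card_G, ← (cen u).card_mul_index]
    exact mul_dvd_mul (card_dvd_of_le hRu) (S.hyp.dvd_idx huc)
  refine Nat.le_of_dvd Nat.card_pos (Nat.Coprime.dvd_of_dvd_mul_left ?_ h1)
  rw [hi, S.m_eq, ← pow_add]
  exact Nat.Coprime.pow_left _ (S.prime.coprime_iff_not_dvd.2 S.not_dvd_K)

theorem exists_noncentral_K : ∃ u ∈ Kn, u ∉ center G := by
  by_contra! hcon
  have hm := S.hyp.one_lt_m
  have hn := S.hyp.one_lt_n
  obtain ⟨g, hg⟩ := S.hyp.exists_mn
  obtain ⟨k, hk, x, hx, rfl⟩ := S.exists_eq_mul g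
  have hcen : cen (k * x) = cen x := by
    ext w
    have hw : Commute w k := (mem_center_iff.1 (hcon k hk) w : _)
    rw [mem_cen, mem_cen]
    refine ⟨fun h => ?_, fun h => hw.mul_right h⟩
    have := (hw.inv_right).mul_right h
    rwa [inv_mul_cancel_left] at this
  have hidx : idx x = m * n := by rw [idx, ← hcen]; exact hg
  have hxc : x ∉ center G := fun h => by
    rw [idx_eq_one_iff.2 h] at hidx
    nlinarith
  rcases (S.relIndex_P hx hxc).2 with ⟨-, e⟩ | ⟨e, -⟩
  · rw [e] at hidx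
    nlinarith
  · have h1 : (cen x).relIndex Kn = 1 := relIndex_eq_one.2 fun v hv =>
      mem_cen.2 ((mem_center_iff.1 (hcon v hv) x).symm)
    omega

/-- Every element of `K` is, up to conjugation in `K`, centralized by a noncentral element
of `P`. -/
theorem exists_stab {u : G} (hu : u ∈ Kn) :
    ∃ k ∈ Kn, ∃ y ∈ (Ps : Subgroup G), y ∉ center G ∧ k * u * k⁻¹ ∈ cen y := by
  haveI := Fact.mk S.prime
  obtain ⟨t, ht, htu, htc⟩ := S.hyp.exists_pelt_cen S.prime S.dvd_m u
  obtain ⟨Q, hQ⟩ := exists_mem_sylow S.prime ht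
  obtain ⟨g, hg⟩ := MulAction.exists_smul_eq G Ps Q
  have hy0 : g⁻¹ * t * g ∈ (Ps : Subgroup G) := by
    rw [← hg, Sylow.smul_def] at hQ
    obtain ⟨y, hy, e⟩ := hQ
    have e1 : g * y * g⁻¹ = t := e
    have e' : g⁻¹ * (g * y * g⁻¹) * g = y := by group
    rw [← e1, e']
    exact hy
  obtain ⟨k, hk, x, hx, rfl⟩ := S.exists_eq_mul g
  refine ⟨k⁻¹, inv_mem hk, k⁻¹ * t * k, ?_, fun hc => htc ?_, ?_⟩
  · have e : k⁻¹ * t * k = x * ((k * x)⁻¹ * t * (k * x)) * x⁻¹ := by group
    rw [e]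
    exact mul_mem (mul_mem hx hy0) (inv_mem hx)
  · simpa [mul_assoc] using (inferInstance : (center G).Normal).conj_mem _ hc k
  · have e := (mem_cen.1 htu).eq
    refine mem_cen.2 ?_
    show k⁻¹ * u * k⁻¹⁻¹ * (k⁻¹ * t * k) = k⁻¹ * t * k * (k⁻¹ * u * k⁻¹⁻¹)
    calc k⁻¹ * u * k⁻¹⁻¹ * (k⁻¹ * t * k) = k⁻¹ * (u * t) * k := by group
      _ = k⁻¹ * (t * u) * k := by rw [e]
      _ = k⁻¹ * t * k * (k⁻¹ * u * k⁻¹⁻¹) := by group

theorem pow_mem_center {x : G} (hx : x ∈ (Ps : Subgroup G)) : x ^ p ∈ center G := by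
  haveI := Fact.mk S.prime
  have hm := S.hyp.one_lt_m
  have hidx : ∀ y : (Ps : Subgroup G), idx y = (cen (y : G)).relIndex (Ps : Subgroup G) :=
    fun y => congrArg Subgroup.index (cen_subgroupOf y)
  have hcs : {k : ℕ | ∃ y : (Ps : Subgroup G),
      (centralizer ({y} : Set (Ps : Subgroup G))).index = k} = {1, p ^ b} := by
    ext v
    constructor
    · rintro ⟨y, rfl⟩
      show idx y = 1 ∨ idx y = p ^ b
      rw [hidx]
      by_cases hyc : (y : G) ∈ center G
      · left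
        rw [relIndex_eq_one, cen_eq_top_iff.2 hyc]
        exact le_top
      · exact Or.inr ((S.relIndex_P y.2 hyc).1.trans S.m_eq)
    · rintro (rfl | rfl)
      · exact ⟨1, idx_eq_one_iff.2 (one_mem _)⟩
      · obtain ⟨u, hu, -⟩ := S.exists_noncentral_K
        obtain ⟨k, -, y, hy, hyc, -⟩ := S.exists_stab hu
        exact ⟨⟨y, hy⟩, (hidx ⟨y, hy⟩).trans ((S.relIndex_P hy hyc).1.trans S.m_eq)⟩
  have h1 := Cfsg.Agent.S4365.result p Ps.isPGroup' b S.pos hcs ⟨x, hx⟩
  by_contra hxc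
  have h2 := (S.relIndex_P (pow_mem hx p) hxc).1
  rw [relIndex_eq_one.2] at h2
  · omega
  · intro w hw
    exact mem_cen.2 (congrArg Subtype.val (mem_center_iff.1 h1 ⟨w, hw⟩))

/-- The fixed point free factor has order `p`. -/
theorem relIndex_eq_prime {U W : Subgroup G} (_hUP : U ≤ (Ps : Subgroup G))
    (hUn : (Ps : Subgroup G) ≤ normalizer (U : Set G)) (hWK : W ≤ Kn)
    (hWab : ∀ a ∈ W, ∀ c ∈ W, Commute a c) (hPW : (Ps : Subgroup G) ≤ normalizer (W : Set G))
    (hUW : ∀ u ∈ U, ∀ w ∈ W, Commute u w) (hWne : ¬ W ≤ center G)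
    (hfix : ∀ x ∈ (Ps : Subgroup G), x ∉ U → ∀ w ∈ W, Commute x w → w ∈ center G)
    (hpow : ∀ x ∈ (Ps : Subgroup G), x ^ p ∈ U) (hne : ¬ (Ps : Subgroup G) ≤ U) :
    U.relIndex (Ps : Subgroup G) = p := by
  haveI := Fact.mk S.prime
  set U' := U.subgroupOf (Ps : Subgroup G) with hU'
  haveI : U'.Normal := normal_subgroupOf_of_le_normalizer hUn
  have hne1 : U.relIndex (Ps : Subgroup G) ≠ 1 := fun e => hne (relIndex_eq_one.1 e)
  refine ((Nat.dvd_prime S.prime).1 ?_).resolve_left hne1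
  have hQ : IsPGroup p ((Ps : Subgroup G) ⧸ U') := Ps.isPGroup'.to_quotient U'
  haveI : Nontrivial ((Ps : Subgroup G) ⧸ U') :=
    QuotientGroup.nontrivial_iff.2 fun e => hne (subgroupOf_eq_top.1 e)
  haveI := hQ.center_nontrivial
  obtain ⟨zq, hzq⟩ := exists_ne (1 : center ((Ps : Subgroup G) ⧸ U'))
  obtain ⟨z, hz⟩ := QuotientGroup.mk_surjective (zq : (Ps : Subgroup G) ⧸ U')
  have hzU : (z : G) ∉ U := fun h => hzq (Subtype.ext (hz.symm.trans
    ((QuotientGroup.eq_one_iff z).2 (mem_subgroupOf.2 h))))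
  have hzp : (z : (Ps : Subgroup G) ⧸ U') ^ p = 1 := by
    rw [← QuotientGroup.mk_pow, QuotientGroup.eq_one_iff, mem_subgroupOf]
    exact hpow z z.2
  show Nat.card ((Ps : Subgroup G) ⧸ U') ∣ p
  by_cases hall : ∀ q : (Ps : Subgroup G) ⧸ U', q ∈ zpowers (z : (Ps : Subgroup G) ⧸ U')
  · rw [← Nat.card_congr (Equiv.subtypeUnivEquiv hall)]
    exact (Nat.card_zpowers (z : (Ps : Subgroup G) ⧸ U')).symm ▸ orderOf_dvd_of_pow_eq_one hzp
  push Not at hall
  obtain ⟨xq, hxq⟩ := hall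
  obtain ⟨x, rfl⟩ := QuotientGroup.mk_surjective xq
  exfalso
  apply hWne
  letI : CommGroup W :=
    { (inferInstance : Group W) with mul_comm := fun a c => Subtype.ext (hWab a a.2 c c.2).eq }
  let φ : (Ps : Subgroup G) →* MulAut W := (normalizerMonoidHom W).comp (inclusion hPW)
  have hφ : ∀ (g : (Ps : Subgroup G)) (w : W), ((φ g w : W) : G) = g * w * (g : G)⁻¹ :=
    fun g w => rfl
  have hker : ∀ g : (Ps : Subgroup G), (g : G) ∈ U → φ g = 1 := by
    intro g hg
    refine MulEquiv.ext fun w => Subtype.ext ?_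
    rw [hφ, MulAut.one_apply, (hUW g hg w w.2).eq, mul_inv_cancel_right]
  have hfix' : ∀ g : (Ps : Subgroup G), (g : G) ∉ U → ∀ w : W, φ g w = w →
      w ∈ (center G).subgroupOf W := by
    intro g hg w hw
    have e : ((φ g w : W) : G) = w := congrArg Subtype.val hw
    rw [hφ, mul_inv_eq_iff_eq_mul] at e
    exact mem_subgroupOf.2 (hfix g g.2 hg w w.2 e)
  have hxz : Commute (φ x) (φ z) := by
    have hc : ((z : (Ps : Subgroup G) ⧸ U')) * (x : (Ps : Subgroup G) ⧸ U') =
        (x : (Ps : Subgroup G) ⧸ U') * (z : (Ps : Subgroup G) ⧸ U') := by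
      rw [hz]; exact (mem_center_iff.1 zq.2 _).symm
    rw [← QuotientGroup.mk_mul, ← QuotientGroup.mk_mul, QuotientGroup.eq, mem_subgroupOf] at hc
    have h1 := hker _ hc
    rw [map_mul, map_inv, map_mul, map_mul, inv_mul_eq_one] at h1
    exact h1.symm
  intro w hw
  have h1 := pow_mem_of_fix S.prime (φ x) (φ z) hxz
    (by rw [← map_pow]; exact hker _ (hpow x x.2))
    (by rw [← map_pow]; exact hker _ (hpow z z.2)) ((center G).subgroupOf W)
    (fun a ha => Subtype.ext (by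
      rw [hφ, mem_center_iff.1 (mem_subgroupOf.1 ha) x, mul_inv_cancel_right]))
    (hfix' z hzU) (fun i a ha => by
      refine hfix' (x * z ^ i) (fun hU => hxq ?_) a (by rw [map_mul, map_pow]; exact ha)
      refine ⟨-(i : ℤ), ?_⟩
      have h2 : ((x * z ^ i : (Ps : Subgroup G)) : (Ps : Subgroup G) ⧸ U') = 1 :=
        (QuotientGroup.eq_one_iff _).2 (mem_subgroupOf.2 hU)
      rw [QuotientGroup.mk_mul, QuotientGroup.mk_pow, mul_eq_one_iff_eq_inv] at h2
      rw [h2]
      simp) ⟨w, hw⟩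
  obtain ⟨l, hl⟩ := exists_pow_eq_self_of_coprime (S.coprime_K (hWK hw)).symm
  rw [← hl]
  exact pow_mem (mem_subgroupOf.1 h1) l

/-- Some noncentral element of `P` centralizes `K`. -/
theorem exists_centralizing :
    ∃ y ∈ (Ps : Subgroup G), y ∉ center G ∧ Kn ≤ cen y := by
  haveI := Fact.mk S.prime
  haveI := S.normal
  have hm := S.hyp.one_lt_m
  have hn := S.hyp.one_lt_n
  by_contra! hbad
  set P : Subgroup G := (Ps : Subgroup G) with hP
  have hA : ∀ y ∈ P, y ∉ center G → (cen y).relIndex Kn = n ∧ idx y = m * n := fun y hy hyc =>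
    ((S.relIndex_P hy hyc).2).resolve_left fun h => hbad y hy hyc (relIndex_eq_one.1 h.1)
  have hWcard : ∀ y ∈ P, y ∉ center G →
      Nat.card (Kn ⊓ cen y : Subgroup G) * n = Nat.card Kn := fun y hy hyc =>
    (hA y hy hyc).1 ▸ card_inf_mul_relIndex _ _
  have hWne : ∀ y ∈ P, y ∉ center G → ¬ Kn ⊓ cen y ≤ center G := by
    intro y hy hyc hle
    obtain ⟨u, hu, huc⟩ := S.exists_noncentral_K
    obtain ⟨k, hk, w, hw, hwc, hku⟩ := S.exists_stab hu
    have h1 : Kn ⊓ cen y ≤ Kn ⊓ cen w :=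
      le_inf inf_le_left fun v hv => mem_cen.2 ((mem_center_iff.1 (hle hv) w).symm)
    have h2 := eq_of_le_of_card_ge h1 (le_of_eq (Nat.eq_of_mul_eq_mul_right (by omega : 0 < n)
      ((hWcard w hw hwc).trans (hWcard y hy hyc).symm)))
    have h3 : k * u * k⁻¹ ∈ center G := hle (h2 ▸ ⟨S.conj_mem_K hu k, hku⟩)
    exact huc (by simpa [mul_assoc] using
      (inferInstance : (center G).Normal).conj_mem _ h3 k⁻¹)
  have hWab : ∀ y ∈ P, y ∉ center G →
      ∀ a ∈ Kn ⊓ cen y, ∀ c ∈ Kn ⊓ cen y, Commute a c := by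
    intro y hy hyc a ha c hc
    have hcop := (S.pelt_P hy).coprime_orderOf (S.coprime_K ha.1)
    have hya : Commute y a := (mem_cen.1 ha.2).symm
    have hcen := cen_mul hya hcop
    have h1 : (cen (y * a)).index ≤ (cen y).index := by
      show idx (y * a) ≤ idx y
      rw [(hA y hy hyc).2]
      rcases S.hyp.sizes (y * a) with e | e | e <;> rw [e] <;> nlinarith
    have h2 : cen y ≤ cen a := by
      rw [← eq_of_le_of_index_le (hcen ▸ inf_le_left) (le_antisymm h1
        (Nat.le_of_dvd (Nat.pos_of_ne_zero index_ne_zero_of_finite)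
          (index_dvd_of_le (hcen ▸ inf_le_left)))).le]
      exact hcen ▸ inf_le_right
    exact (mem_cen.1 (h2 hc.2)).symm
  -- the stabilizer of a noncentral element fixed by `y`
  have hstab : ∀ y ∈ P, y ∉ center G → ∀ u ∈ Kn ⊓ cen y, u ∉ center G →
      P ⊓ cen u = P ⊓ cen y := by
    intro y hy hyc u hu huc
    refine (eq_of_le_of_card_ge (le_inf inf_le_left fun v hv => ?_) ?_).symm
    · exact mem_cen.2 (S.commute_cen hy hyc hv.1 hv.2 hu.1 hu.2)
    · refine Nat.le_of_mul_le_mul_right ?_ (by omega : 0 < m)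
      rw [S.card_P_cen hy hyc]
      exact S.card_mul_le hu.1 huc (Ps.isPGroup'.to_le inf_le_left) inf_le_right
  -- an element of the second centre
  obtain ⟨y0, hy0, hy0c, hy0z⟩ : ∃ y ∈ P, y ∉ center G ∧
      ∀ x ∈ P, x * y * x⁻¹ * y⁻¹ ∈ center G := by
    obtain ⟨u, hu, -⟩ := S.exists_noncentral_K
    obtain ⟨k, -, w, hw, hwc, -⟩ := S.exists_stab hu
    have hQ : IsPGroup p (P ⧸ center P) := Ps.isPGroup'.to_quotient _
    haveI : Nontrivial (P ⧸ center P) := QuotientGroup.nontrivial_iff.2 fun e => by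
      have h1 := (S.relIndex_P hw hwc).1
      rw [relIndex_eq_one.2] at h1
      · omega
      · intro v hv
        exact mem_cen.2 (commute_of_mem_center_sub (e ▸ mem_top (⟨w, hw⟩ : P)) hv)
    haveI := hQ.center_nontrivial
    obtain ⟨zq, hzq⟩ := exists_ne (1 : center (P ⧸ center P))
    obtain ⟨z, hz⟩ := QuotientGroup.mk_surjective (zq : P ⧸ center P)
    have hcenter : ∀ c : P, c ∈ center P → (c : G) ∈ center G := by
      intro c hc
      by_contra hcc
      have h1 := (S.relIndex_P c.2 hcc).1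
      rw [relIndex_eq_one.2] at h1
      · omega
      · intro v hv
        exact mem_cen.2 (congrArg Subtype.val (mem_center_iff.1 hc ⟨v, hv⟩))
    refine ⟨z, z.2, fun hzc => hzq (Subtype.ext (hz.symm.trans
      ((QuotientGroup.eq_one_iff z).2 (mem_center_iff.2 fun v => Subtype.ext
        (mem_center_iff.1 hzc v))))), fun x hx => hcenter (⟨x, hx⟩ * z * ⟨x, hx⟩⁻¹ * z⁻¹) ?_⟩
    rw [← QuotientGroup.eq_one_iff, QuotientGroup.mk_mul, QuotientGroup.mk_mul,
      QuotientGroup.mk_mul, QuotientGroup.mk_inv, QuotientGroup.mk_inv, hz,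
      mem_center_iff.1 zq.2 _, mul_inv_cancel_right, mul_inv_cancel]
  have hconj : ∀ x ∈ P, ∀ v ∈ cen y0, x * v * x⁻¹ ∈ cen y0 := by
    intro x hx v hv
    obtain ⟨c, hc, hc'⟩ : ∃ c ∈ center G, x * y0 * x⁻¹ = c * y0 :=
      ⟨_, hy0z x hx, by group⟩
    have h1 : cen (x * y0 * x⁻¹) = cen y0 := by
      rw [hc']
      ext w
      rw [mem_cen, mem_cen]
      have hw : Commute w c := (mem_center_iff.1 hc w : _)
      refine ⟨fun h => ?_, fun h => hw.mul_right h⟩
      have := (hw.inv_right).mul_right h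
      rwa [inv_mul_cancel_left] at this
    rw [← h1, cen_conj]
    exact ⟨v, hv, rfl⟩
  have hnorm : ∀ H : Subgroup G, (∀ x ∈ P, ∀ v ∈ H, x * v * x⁻¹ ∈ H) →
      P ≤ normalizer (H : Set G) := fun H h x hx => mem_normalizer_iff.2 fun v =>
    ⟨h x hx v, fun hv => by simpa [mul_assoc] using h x⁻¹ (inv_mem hx) _ hv⟩
  have hUn := hnorm (P ⊓ cen y0) fun x hx v hv =>
    mem_inf.2 ⟨mul_mem (mul_mem hx (mem_inf.1 hv).1) (inv_mem hx), hconj x hx v hv.2⟩
  have hWn := hnorm (Kn ⊓ cen y0) fun x hx v hv =>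
    ⟨S.conj_mem_K hv.1 x, hconj x hx v hv.2⟩
  have hp : m = p := by
    rw [← S.relIndex_eq_prime inf_le_left hUn inf_le_left (hWab y0 hy0 hy0c) hWn
      (fun u hu w hw => S.commute_cen hy0 hy0c hu.1 hu.2 hw.1 hw.2) (hWne y0 hy0 hy0c)
      (fun x hx hxU w hw hxw => by
        by_contra hwc
        exact hxU (hstab y0 hy0 hy0c w hw hwc ▸ ⟨hx, mem_cen.2 hxw⟩))
      (fun x hx => ⟨pow_mem hx p, mem_cen.2 ((mem_center_iff.1 (S.pow_mem_center hx) y0).symm)⟩)
      (fun hle => by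
        have h1 := (S.relIndex_P hy0 hy0c).1
        rw [relIndex_eq_one.2 fun v hv => (hle hv).2] at h1
        omega), inf_relIndex_left, (S.relIndex_P hy0 hy0c).1]
  -- all centralizers in `P` have index `p`, so they are normal, and any two generate `P`
  let ι := {y : G // y ∈ P ∧ y ∉ center G}
  haveI : Nonempty ι := ⟨⟨y0, hy0, hy0c⟩⟩
  have hindex : ∀ i : ι, ((P ⊓ cen (i : G)).subgroupOf P).index = p := fun i => by
    show (P ⊓ cen (i : G)).relIndex P = p
    rw [inf_relIndex_left, (S.relIndex_P i.2.1 i.2.2).1, hp]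
  have hPi : ∀ i : ι, P ≤ normalizer ((P ⊓ cen (i : G) : Subgroup G) : Set G) := fun i => by
    refine (normal_subgroupOf_iff_le_normalizer inf_le_left).1 ?_
    refine normal_of_index_eq_minFac_card ?_
    obtain ⟨d, hd⟩ := IsPGroup.iff_card.1 Ps.isPGroup'
    rw [hindex i, hd, Nat.pow_minFac, S.prime.minFac_eq]
    rintro rfl
    have h1 := hindex i
    have h2 := ((P ⊓ cen (i : G)).subgroupOf P).card_mul_index
    rw [h1, hd, pow_zero, mul_eq_one] at h2
    exact S.prime.ne_one h2.2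
  have hpair : ∀ i j : ι, P ⊓ cen (i : G) = P ⊓ cen (j : G) ∨
      (P ⊓ cen (i : G)) ⊔ (P ⊓ cen (j : G)) = P := by
    intro i j
    have hle : (P ⊓ cen (i : G)) ⊔ (P ⊓ cen (j : G)) ≤ P := sup_le inf_le_left inf_le_left
    have h1 : (P ⊓ cen (i : G)).relIndex ((P ⊓ cen (i : G)) ⊔ (P ⊓ cen (j : G))) *
        ((P ⊓ cen (i : G)) ⊔ (P ⊓ cen (j : G))).relIndex P = p :=
      (relIndex_mul_relIndex _ _ _ le_sup_left hle).trans (hindex i)
    rcases (Nat.dvd_prime S.prime).1 (Dvd.intro _ h1) with e | e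
    · left
      refine (eq_of_le_of_card_ge (le_sup_right.trans (relIndex_eq_one.1 e)) (le_of_eq ?_)).symm
      refine Nat.eq_of_mul_eq_mul_right (by omega : 0 < m) ?_
      rw [S.card_P_cen i.2.1 i.2.2, S.card_P_cen j.2.1 j.2.2]
    · right
      rw [e] at h1
      exact le_antisymm hle (relIndex_eq_one.1 ((Nat.mul_eq_left S.prime.ne_zero).1 h1))
  -- pass to the largest abelian quotient of `K`
  set L : Subgroup G := ⁅Kn, Kn⁆ with hL
  haveI : L.Normal := commutator_normal Kn Kn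
  have hLK : L ≤ Kn := commutator_le_self Kn
  let f := QuotientGroup.mk' L
  obtain ⟨i, hi⟩ := exists_centralizes_of_cover (p := p) (Kn.map f) (P.map f)
    (fun i : ι => (P ⊓ cen (i : G)).map f) (fun i => map_mono inf_le_left)
    (fun i => (map_mono (hPi i)).trans (le_normalizer_map f))
    (fun i j => (hpair i j).imp (fun e => by rw [e]) fun e => by rw [← Subgroup.map_sup, e])
    ((map_mono (le_normalizer_of_normal (H := Kn))).trans (le_normalizer_map f))
    (by
      rintro _ ⟨a, ha, rfl⟩ _ ⟨v, -, rfl⟩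
      rw [← map_pow]
      exact (show Commute (a ^ p) v from
        ((mem_center_iff.1 (S.pow_mem_center ha) v).symm : _)).map f)
    (by
      rintro _ ⟨v, hv, rfl⟩
      exact Nat.Coprime.coprime_dvd_left (orderOf_map_dvd f v) (S.coprime_K hv))
    (by
      rintro _ ⟨v, hv, rfl⟩
      obtain ⟨k, hk, y, hy, hyc, hkv⟩ := S.exists_stab hv
      refine ⟨⟨y, hy, hyc⟩, mem_centralizer_iff.2 ?_⟩
      rintro _ ⟨u, hu, rfl⟩
      have e : f (k * v * k⁻¹) = f v := by
        show ((k * v * k⁻¹ : G) : G ⧸ L) = (v : G ⧸ L)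
        rw [QuotientGroup.eq]
        have h1 : ⁅k, v⁆ ∈ L := commutator_mem_commutator hk hv
        have := inv_mem ((inferInstance : L.Normal).conj_mem _ h1 v⁻¹)
        rw [commutatorElement_def] at this
        convert this using 1
        group
      have h2 := (S.commute_cen hy hyc hu.1 hu.2 (S.conj_mem_K hv k) hkv).map f
      rw [e] at h2
      exact h2.eq)
  set U := P ⊓ cen (i : G) with hU
  have hcover : ∀ v ∈ Kn, ∃ c ∈ Kn ⊓ centralizer (U : Set G), v⁻¹ * c ∈ L := by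
    intro v hv
    refine CfsgLib.Coprime.exists_centralizing_rep U Kn le_normalizer_of_normal ?_ ?_ L hLK
      le_normalizer_of_normal hv fun u hu => ?_
    · obtain ⟨j, hj⟩ := IsPGroup.iff_card.1 (Ps.isPGroup'.to_le (inf_le_left : U ≤ P))
      rw [hj]
      exact Nat.Coprime.pow_left j (S.prime.coprime_iff_not_dvd.2 S.not_dvd_K)
    · haveI := (Ps.isPGroup'.to_le (inf_le_left : U ≤ P)).isNilpotent
      exact Or.inl inferInstance
    · have h1 := mem_centralizer_iff.1 (hi ⟨v, hv, rfl⟩) (f u) ⟨u, hu, rfl⟩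
      rw [← QuotientGroup.eq_one_iff]
      show f (v⁻¹ * (u * v * u⁻¹)) = 1
      rw [map_mul, map_mul, map_mul, map_inv, map_inv, h1, mul_inv_cancel_right, inv_mul_cancel]
  have hnil : Group.IsNilpotent Kn := by
    have hidx : ∀ v : Kn, idx v = (cen (v : G)).relIndex Kn := fun v =>
      congrArg Subgroup.index (cen_subgroupOf v)
    by_cases hab : ∀ v : Kn, v ∈ center Kn
    · letI : CommGroup Kn :=
        { (inferInstance : Group Kn) with mul_comm := fun a c => (mem_center_iff.1 (hab c) a) }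
      infer_instance
    push Not at hab
    obtain ⟨v, hv⟩ := hab
    have hvn : idx v = n := by
      rw [hidx]
      exact (S.relIndex_K v.2).resolve_left fun e => hv (idx_eq_one_iff.1 ((hidx v).trans e))
    obtain ⟨r, hr, hrn⟩ := Nat.exists_prime_and_dvd hn.ne'
    haveI := Fact.mk hr
    let R : Sylow r Kn := default
    have hR : ¬ (R : Subgroup Kn) ≤ center Kn := fun hle =>
      R.not_dvd_index (hrn.trans (hvn ▸ index_dvd_of_le (hle.trans fun z hz =>
        mem_cen.2 ((mem_center_iff.1 hz v).symm))))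
    have h4 := Cfsg.Agent.S4135.result r R hR ⊤ le_top n fun w _ => by
      show idx w = 1 ∨ idx w = n
      rw [hidx]
      exact S.relIndex_K w.2
    haveI := h4
    exact Group.nilpotent_of_surjective (⊤ : Subgroup Kn).subtype
      fun w => ⟨⟨w, mem_top w⟩, rfl⟩
  have hK : (Kn ⊓ centralizer (U : Set G)).subgroupOf Kn = ⊤ := by
    refine eq_top_of_commutator_sup hnil (eq_top_iff.2 fun v _ => ?_)
    obtain ⟨c, hc, hcv⟩ := hcover v v.2
    have e : (v : Kn) = ⟨c, hc.1⟩ * (⟨(c : G)⁻¹ * v, mul_mem (inv_mem hc.1) v.2⟩ : Kn) := by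
      apply Subtype.ext; simp
    rw [e]
    refine mul_mem (mem_sup_right (mem_subgroupOf.2 hc)) (mem_sup_left ?_)
    have h1 : (c : G)⁻¹ * v ∈ L := by simpa using inv_mem hcv
    rw [hL, ← Kn.map_subtype_commutator] at h1
    obtain ⟨d, hd, hde⟩ := h1
    rw [show (⟨(c : G)⁻¹ * v, mul_mem (inv_mem hc.1) v.2⟩ : Kn) = d from Subtype.ext hde.symm]
    exact hd
  refine hbad i i.2.1 i.2.2 fun v hv => ?_
  have h1 := (subgroupOf_eq_top.1 hK hv).2
  exact mem_cen.2 (mem_centralizer_iff.1 h1 i ⟨i.2.1, mem_cen.2 (Commute.refl _)⟩).symm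

/-- The structure theorem. -/
theorem main :
    m.Prime ∧ m ∣ n - 1 ∧
      (∃ M : Subgroup G, M.Normal ∧ (M : Set G) = {x : G | idx x = 1 ∨ idx x = m} ∧
        M.index = m ∧ IsMulCommutative M) ∧
      Nat.card (commutator (Ps : Subgroup G)) = m := by
  haveI := Fact.mk S.prime
  haveI := S.normal
  have hm := S.hyp.one_lt_m
  have hn := S.hyp.one_lt_n
  set P : Subgroup G := (Ps : Subgroup G) with hP
  obtain ⟨y, hy, hyc, hyK⟩ := S.exists_centralizing
  set U := P ⊓ centralizer (Kn : Set G) with hU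
  have hyU : y ∈ U := ⟨hy, mem_centralizer_iff.2 fun v hv => (mem_cen.1 (hyK hv)).eq⟩
  obtain ⟨u0, hu0, hu0c⟩ := S.exists_noncentral_K
  have hUcomm : ∀ u ∈ U, ∀ v ∈ Kn, Commute u v := fun u hu v hv =>
    (mem_centralizer_iff.1 hu.2 v hv).symm
  -- `U` is the centralizer in `P` of each of its noncentral elements
  have hcenU : ∀ w ∈ U, w ∉ center G → P ⊓ cen w = U := by
    intro w hw hwc
    have hle : P ⊓ cen w ≤ U := fun v hv => ⟨hv.1, mem_centralizer_iff.2 fun k hk =>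
      (S.commute_cen hw.1 hwc hv.1 hv.2 hk (mem_cen.2 (hUcomm w hw k hk).symm)).eq.symm⟩
    refine eq_of_le_of_card_ge hle ?_
    refine Nat.le_of_mul_le_mul_right ?_ (by omega : 0 < m)
    rw [S.card_P_cen hw.1 hwc]
    exact S.card_mul_le hu0 hu0c (Ps.isPGroup'.to_le inf_le_left)
      fun v hv => mem_cen.2 (hUcomm v hv u0 hu0)
  have hUy := hcenU y hyU hyc
  have hUab : ∀ a ∈ U, ∀ c ∈ U, Commute a c := by
    intro a ha c hc
    by_cases hcc : c ∈ center G
    · exact (mem_center_iff.1 hcc a : _)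
    · exact mem_cen.1 ((hcenU c hc hcc ▸ ha : a ∈ P ⊓ cen c).2)
  have hUidx : U.relIndex P = m := by
    rw [← hUy, inf_relIndex_left]
    exact (S.relIndex_P hy hyc).1
  have hZU : ∀ z ∈ P, z ∈ center G → z ∈ U := fun z hz hzc =>
    ⟨hz, mem_centralizer_iff.2 fun v _ => mem_center_iff.1 hzc v⟩
  have hUn : P ≤ normalizer (U : Set G) := by
    have h : ∀ x ∈ P, ∀ u ∈ U, x * u * x⁻¹ ∈ U := by
      intro x hx u hu
      refine mem_inf.2 ⟨mul_mem (mul_mem hx (mem_inf.1 hu).1) (inv_mem hx),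
        mem_centralizer_iff.2 fun v hv => ?_⟩
      have e := (hUcomm u hu _ (S.conj_mem_K hv x⁻¹)).eq
      calc v * (x * u * x⁻¹) = x * ((x⁻¹ * v * x⁻¹⁻¹) * u) * x⁻¹ := by group
        _ = x * (u * (x⁻¹ * v * x⁻¹⁻¹)) * x⁻¹ := by rw [e]
        _ = x * u * x⁻¹ * v := by group
    exact fun x hx => mem_normalizer_iff.2 fun v =>
      ⟨h x hx v, fun hv => by simpa [mul_assoc] using h x⁻¹ (inv_mem hx) _ hv⟩
  -- elements of `P` outside `U` fix only central elements of `K`
  have hfix : ∀ x ∈ P, x ∉ U → ∀ u ∈ Kn, Commute x u → u ∈ center G := by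
    intro x hx hxU u hu hxu
    by_contra huc
    have hle : U ≤ P ⊓ cen u := le_inf inf_le_left fun v hv => mem_cen.2 (hUcomm v hv u hu)
    have h1 := S.card_mul_le hu huc (Ps.isPGroup'.to_le (inf_le_left : P ⊓ cen u ≤ P))
      inf_le_right
    have h2 : Nat.card U * m = Nat.card P := by rw [← hUy]; exact S.card_P_cen hy hyc
    have h3 := eq_of_le_of_card_ge hle
      (Nat.le_of_mul_le_mul_right (h2.symm ▸ h1) (by omega : 0 < m))
    exact hxU (h3 ▸ ⟨hx, mem_cen.2 hxu⟩)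
  obtain ⟨x, hx, hxU⟩ : ∃ x ∈ P, x ∉ U := by
    by_contra! hcon
    have := relIndex_eq_one.2 hcon
    omega
  have hxc : x ∉ center G := fun h => hxU (hZU x hx h)
  -- `|K : K ∩ Z| = n` and `K` is abelian
  have hKZ : Nat.card (Kn ⊓ center G : Subgroup G) * n = Nat.card Kn := by
    have e : Kn ⊓ cen x = Kn ⊓ center G := le_antisymm
      (fun v hv => ⟨hv.1, hfix x hx hxU v hv.1 (mem_cen.1 hv.2).symm⟩)
      (fun v hv => ⟨hv.1, mem_cen.2 (mem_center_iff.1 hv.2 x).symm⟩)
    rcases (S.relIndex_P hx hxc).2 with ⟨h1, -⟩ | ⟨h1, -⟩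
    · exact absurd (hfix x hx hxU u0 hu0 (mem_cen.1 (relIndex_eq_one.1 h1 hu0)).symm) hu0c
    · rw [← e, ← h1]
      exact card_inf_mul_relIndex _ _
  have hKab : ∀ a ∈ Kn, ∀ c ∈ Kn, Commute a c := by
    intro a ha c hc
    by_cases hac : a ∈ center G
    · exact (mem_center_iff.1 hac c : _).symm
    rcases S.relIndex_K ha with e | e
    · exact (mem_cen.1 (relIndex_eq_one.1 e hc)).symm
    exfalso
    have h1 := card_inf_mul_relIndex Kn (cen a)
    rw [e] at h1
    have h2 := eq_of_le_of_card_ge (H := Kn ⊓ center G) (K := Kn ⊓ cen a)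
      (fun v hv => ⟨hv.1, mem_cen.2 ((mem_center_iff.1 hv.2 a).symm)⟩)
      (le_of_eq (Nat.eq_of_mul_eq_mul_right (by omega : 0 < n) (h1.trans hKZ.symm)))
    exact hac ((h2.symm ▸ (⟨ha, mem_cen.2 (Commute.refl a)⟩ : a ∈ Kn ⊓ cen a) :
      a ∈ Kn ⊓ center G).2)
  have hKne : ¬ Kn ≤ center G := fun h => hu0c (h hu0)
  have hp : m = p := by
    rw [← hUidx]
    exact S.relIndex_eq_prime inf_le_left hUn le_rfl hKab le_normalizer_of_normal hUcomm hKne
      hfix (fun v hv => hZU _ (pow_mem hv p) (S.pow_mem_center hv)) (fun hle => hxU (hle hx))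
  -- the abelian normal subgroup of index `p`
  set M := U ⊔ Kn with hM
  have hMmem : ∀ g, g ∈ M ↔ ∃ u ∈ U, ∃ k ∈ Kn, g = u * k := by
    intro g
    rw [hM, mem_sup_of_normal_right]
    exact ⟨fun ⟨a, ha, c, hc, e⟩ => ⟨a, ha, c, hc, e.symm⟩,
      fun ⟨a, ha, c, hc, e⟩ => ⟨a, ha, c, hc, e.symm⟩⟩
  have hMab : ∀ a ∈ M, ∀ c ∈ M, Commute a c := by
    intro a ha c hc
    obtain ⟨u, hu, k, hk, rfl⟩ := (hMmem a).1 ha
    obtain ⟨u', hu', k', hk', rfl⟩ := (hMmem c).1 hc
    exact Commute.mul_left ((hUab u hu u' hu').mul_right (hUcomm u hu k' hk'))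
      (((hUcomm u' hu' k hk).symm).mul_right (hKab k hk k' hk'))
  have hMK : Kn ≤ M := le_sup_right
  haveI hMn : M.Normal := by
    rw [← normalizer_eq_top_iff, eq_top_iff]
    intro g _
    obtain ⟨k, hk, x', hx', rfl⟩ := S.exists_eq_mul g
    refine mul_mem (le_normalizer (hMK hk)) ?_
    exact CfsgLib.Structure.le_normalizer_sup_of_le hUn le_normalizer_of_normal hx'
  have hMP : M ⊓ P = U := by
    refine le_antisymm (fun v hv => ?_) (le_inf le_sup_left inf_le_left)
    obtain ⟨u, hu, k, hk, rfl⟩ := (hMmem v).1 hv.1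
    have hkP : k ∈ P := by simpa using mul_mem (inv_mem (mem_inf.1 hu).1) (mem_inf.1 hv).2
    rw [(S.pelt_P hkP).eq_one (S.coprime_K hk), mul_one]
    exact hu
  have hPM : P ⊔ M = ⊤ := by
    rw [eq_top_iff]
    intro g _
    obtain ⟨k, hk, x', hx', rfl⟩ := S.exists_eq_mul g
    exact mul_mem (mem_sup_right (hMK hk)) (mem_sup_left hx')
  have hMidx : M.index = p := by
    rw [← relIndex_top_right, ← hPM, relIndex_sup_right, ← inf_relIndex_right M P, hMP, hUidx, hp]
  have hZM : center G ≤ M := by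
    intro z hz
    obtain ⟨k, hk, x', hx', rfl⟩ := S.exists_eq_mul z
    refine mul_mem (hMK hk) (mem_sup_left (hZU x' hx' ?_))
    by_contra hc
    have h1 := (S.relIndex_P hx' hc).1
    rw [relIndex_eq_one.2] at h1
    · omega
    · intro v hv
      exact mem_cen.2 (mem_cen.1 (S.cen_split hv hk hx'
        (mem_cen.2 ((mem_center_iff.1 hz v).symm))).2).symm
  have houter : ∀ g ∉ M, M ⊓ cen g = center G := by
    intro g hg
    refine le_antisymm ?_ (le_inf hZM fun z hz => mem_cen.2 ((mem_center_iff.1 hz g).symm))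
    intro w hw
    obtain ⟨k, hk, x', hx', rfl⟩ := S.exists_eq_mul g
    have hx'U : x' ∉ U := fun h => hg (mul_mem (hMK hk) (mem_sup_left h))
    have hwx : Commute w x' := by
      have := (hMab w hw.1 k (hMK hk)).inv_right.mul_right (mem_cen.1 hw.2)
      rwa [inv_mul_cancel_left] at this
    obtain ⟨u, hu, c, hc, rfl⟩ := (hMmem w).1 hw.1
    have e : u * c = c * u := (hUcomm u hu c hc).eq
    obtain ⟨h1, h2⟩ := S.cen_split hx' hc hu.1 (e ▸ mem_cen.2 hwx)
    refine mul_mem ?_ (hfix x' hx' hx'U c hc (mem_cen.1 h1).symm)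
    by_contra huc
    exact hx'U (hcenU u hu huc ▸ ⟨hx', mem_cen.2 (mem_cen.1 h2).symm⟩)
  have hinner : ∀ g ∈ M, idx g ∣ p := fun g hg => hMidx ▸ index_dvd_of_le
    fun v hv => mem_cen.2 (hMab v hv g hg)
  have hidx : ∀ g ∉ M, idx g = (center G).relIndex M := by
    intro g hg
    have h1 : M.relIndex (cen g) = p :=
      ((Nat.dvd_prime S.prime).1 (hMidx ▸ relIndex_dvd_index_of_normal M (cen g))).resolve_left
        fun e => hg (relIndex_eq_one.1 e (mem_cen.2 (Commute.refl g)))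
    have h2 : (center G).relIndex M * M.index = (center G).index := relIndex_mul_index hZM
    have h3 : (M ⊓ cen g).relIndex (cen g) * (cen g).index = (M ⊓ cen g).index :=
      relIndex_mul_index inf_le_right
    rw [inf_relIndex_right, h1, houter g hg, ← h2, hMidx] at h3
    exact Nat.eq_of_mul_eq_mul_left S.prime.pos (h3.trans (mul_comm _ _))
  have hq : (center G).relIndex M = p * n := by
    obtain ⟨g, hg⟩ := S.hyp.exists_mn
    change idx g = m * n at hg
    rw [← hidx g fun hgM => by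
      have := Nat.le_of_dvd S.prime.pos (hinner g hgM)
      rw [hg, hp] at this
      have := S.prime.two_le
      nlinarith, hg, hp]
  -- `p` divides `n - 1`
  have hdiv : p ∣ n - 1 := by
    let φ : P →* MulAut Kn :=
      (normalizerMonoidHom Kn).comp (inclusion le_normalizer_of_normal)
    letI : MulAction P Kn := MulAction.compHom _ φ
    have hmod := Ps.isPGroup'.card_modEq_card_fixedPoints Kn
    have hfp : Nat.card (MulAction.fixedPoints P Kn) = Nat.card (Kn ⊓ center G : Subgroup G) := by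
      refine Nat.card_eq_of_bijective (fun v => ⟨((v : Kn) : G), (v : Kn).2, ?_⟩) ⟨?_, ?_⟩
      · have e : ((φ ⟨x, hx⟩ (v : Kn) : Kn) : G) = ((v : Kn) : G) :=
          congrArg Subtype.val (v.2 ⟨x, hx⟩)
        change x * ((v : Kn) : G) * x⁻¹ = _ at e
        rw [mul_inv_eq_iff_eq_mul] at e
        exact hfix x hx hxU _ (v : Kn).2 e
      · intro v w e
        have := congrArg Subtype.val e
        exact Subtype.ext (Subtype.ext this)
      · intro v
        refine ⟨⟨⟨v, v.2.1⟩, fun w => Subtype.ext ?_⟩, rfl⟩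
        show (w : G) * v * (w : G)⁻¹ = v
        rw [mem_center_iff.1 v.2.2 w, mul_inv_cancel_right]
    rw [hfp, ← hKZ] at hmod
    have h1 : n ≡ 1 [MOD p] := by
      refine Nat.ModEq.cancel_left_of_coprime (c := Nat.card (Kn ⊓ center G : Subgroup G)) ?_
        (by rw [mul_one]; exact hmod)
      exact S.prime.coprime_iff_not_dvd.2 fun hd =>
        S.not_dvd_K (hd.trans (card_dvd_of_le inf_le_left))
    exact (Nat.modEq_iff_dvd' hn.le).1 h1.symm
  -- the derived subgroup of `P`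
  have hcomm : Nat.card (commutator P) = p := by
    refine card_commutator_of_center_index S.prime ?_ Ps.isPGroup' fun e => ?_
    · have hle : ((P ⊓ cen x).subgroupOf P ⊓ U.subgroupOf P) ≤ center P := by
        intro v hv
        have hv1 : (v : G) ∈ cen x := (mem_subgroupOf.1 hv.1).2
        have hv2 : (v : G) ∈ U := mem_subgroupOf.1 hv.2
        have hvc : (v : G) ∈ center G := by
          by_contra hvc
          exact hxU (hcenU v hv2 hvc ▸ ⟨hx, mem_cen.2 (mem_cen.1 hv1).symm⟩)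
        exact mem_center_iff.2 fun w => Subtype.ext (mem_center_iff.1 hvc w)
      refine (Nat.le_of_dvd (Nat.pos_of_ne_zero index_ne_zero_of_finite)
        (index_dvd_of_le hle)).trans (index_inf_le.trans (le_of_eq ?_))
      show (P ⊓ cen x).relIndex P * U.relIndex P = p ^ 2
      rw [inf_relIndex_left, (S.relIndex_P hx hxc).1, hUidx, hp, sq]
    · have h1 := (S.relIndex_P hx hxc).1
      rw [relIndex_eq_one.2] at h1
      · omega
      · intro v hv
        exact mem_cen.2 (commute_of_mem_center_sub (e ▸ mem_top (⟨x, hx⟩ : P)) hv)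
  rw [hp]
  refine ⟨S.prime, hdiv, ⟨M, hMn, ?_, hMidx, ⟨⟨fun a c => Subtype.ext (hMab a a.2 c c.2).eq⟩⟩⟩,
    hcomm⟩
  ext g
  show g ∈ M ↔ idx g = 1 ∨ idx g = p
  refine ⟨fun hg => (Nat.dvd_prime S.prime).1 (hinner g hg), fun hg => ?_⟩
  by_contra hgM
  rw [hidx g hgM, hq] at hg
  have := S.prime.two_le
  rcases hg with hg | hg <;> nlinarith

end Split

end CfsgLib.TypeMN
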